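import Cfsg.Agent.Lib.Thompson3Prime33.SzLocal
import Cfsg.Agent.Lib.LieTwisted.SuzukiOut
import Cfsg.Agent.Lib.SzTori.Normalizer
import Cfsg.Agent.Lib.SzSylow.Field

/-!
The local data `SzLocal` of every Suzuki group.
-/

set_option autoImplicit false
set_option linter.unusedSectionVars false
set_option linter.style.haveILetI false

namespace Cfsg.Agent.Lib.Thompson3Prime33

open Cfsg.Agent.Lib.LieTwisted.Suzuki Cfsg.Agent.Lib.SzElements.Basic

universe u v

namespace SzFactsProof

section Base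

variable {F : Type*} [Field F] [Fintype F] {m : ℕ} (h : IsSzField F m) (hm : 1 ≤ m)
include h hm

/-- The scalar by which a torus element acts on the centre of the root group. -/
theorem center_act (e : Fˣ) (b : F) :
    dS h e * uS h 0 b * (dS h e)⁻¹ = uS h 0 (sg m (e : F) * (e : F) ^ 2 * b) := by
  have := conj_center h 0 0 e b
  rwa [h.uS_zero, one_mul] at this

theorem mem_normalizer_iff' {g : Cfsg.Sz F m} :
    g ∈ Subgroup.normalizer (unip h : Set (Cfsg.Sz F m)) ↔ ∃ a b e, g = uS h a b * dS h e := by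
  rw [h.normalizer_unip hm, ← opt_none (m := m), MulAction.mem_stabilizer_iff]
  refine ⟨h.eq_of_fix_none hm, ?_⟩
  rintro ⟨a, b, e, rfl⟩
  rw [mul_smul, h.dS_smul_none, h.uS_smul_none]

theorem invol_mem_center {g : Cfsg.Sz F m}
    (hg : g ∈ Subgroup.normalizer (unip h : Set (Cfsg.Sz F m))) (h2 : g * g = 1) :
    g ∈ unipCenter h := by
  classical
  obtain ⟨a, b, e, rfl⟩ := (mem_normalizer_iff' h hm).1 hg
  have key : uS h (a + sg m (e : F) * a) (b + sg m (e : F) * (e : F) ^ 2 * b + sg m a * (sg m (e : F) * a)) *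
      dS h (e * e) = uS h 0 0 * dS h 1 := by
    rw [h.uS_zero, map_one, one_mul]
    calc uS h (a + sg m (e : F) * a) _ * dS h (e * e)
        = uS h a b * (uS h (sg m (e : F) * a) (sg m (e : F) * (e : F) ^ 2 * b) * dS h e) * dS h e := by
          rw [← h.uS_mul, map_mul]; group
      _ = uS h a b * dS h e * (uS h a b * dS h e) := by rw [← h.dS_mul_uS]; group
      _ = 1 := h2
  obtain ⟨-, -, he2⟩ := h.borel_coords_inj key
  have he : e = 1 := Units.ext <| by
    haveI := h.charTwo
    refine CharTwo.sq_injective (R := F) ?_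
    simpa [sq] using congrArg Units.val he2
  subst he
  rw [map_one, mul_one] at h2 ⊢
  have ha := eq_zero_of_sq h (a := a) (b := b) (by rw [sq]; exact h2)
  exact ⟨b, by rw [ha]⟩

theorem normalizer_center :
    Subgroup.normalizer (unipCenter h : Set (Cfsg.Sz F m)) =
      Subgroup.normalizer (unip h : Set (Cfsg.Sz F m)) := by
  ext g
  constructor
  · intro hg
    obtain ⟨b', hb'⟩ := (Subgroup.mem_normalizer_iff.1 hg (uS h 0 1)).1 ⟨1, rfl⟩
    refine SzTori.ti_unip h hm g (uS h 0 1) (h.uS_mem 0 1) (fun z => ?_)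
      (by rw [hb']; exact h.uS_mem 0 b')
    exact one_ne_zero (h.uS_coords_inj (z.trans h.uS_zero.symm)).2
  · intro hg
    obtain ⟨a, b, e, rfl⟩ := (mem_normalizer_iff' h hm).1 hg
    rw [Subgroup.mem_normalizer_iff]
    intro x
    refine ⟨?_, fun hx => ?_⟩
    · rintro ⟨c, rfl⟩
      exact ⟨_, conj_center h a b e c⟩
    · obtain ⟨c, hc⟩ := hx
      have hμ : sg m (e : F) * (e : F) ^ 2 ≠ 0 :=
        mul_ne_zero (mt sg_eq_zero.1 e.ne_zero) (pow_ne_zero _ e.ne_zero)
      refine ⟨(sg m (e : F) * (e : F) ^ 2)⁻¹ * c, ?_⟩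
      refine (MulAut.conj (uS h a b * dS h e)).injective ?_
      rw [MulAut.conj_apply, MulAut.conj_apply, hc, conj_center, mul_inv_cancel_left₀ hμ]

/-- An automorphism stabilising the root group. -/
theorem decomp_of_map {φ : MulAut (Cfsg.Sz F m)} (hφ : (unip h).map φ.toMonoidHom = unip h) :
    ∃ a b e ρ, φ = MulAut.conj (uS h a b * dS h e) * h.fieldHom hm ρ := by
  obtain ⟨g, hg⟩ := h.exists_adapted hm φ
  have hgN : g ∈ Subgroup.normalizer (unip h : Set (Cfsg.Sz F m)) := by
    rw [Subgroup.mem_normalizer_iff]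
    intro x
    have h1 := hg.1 (φ.symm x)
    rw [MulAut.mul_apply, MulEquiv.apply_symm_apply, MulAut.conj_apply] at h1
    have h2 : φ.symm x ∈ unip h ↔ x ∈ unip h := by
      conv_rhs => rw [← hφ]
      rw [Subgroup.mem_map_equiv]
    exact (h1.trans h2).symm
  obtain ⟨e, ρ, hd⟩ := hg.decomp h hm
  have hN : g⁻¹ * dS h e ∈ Subgroup.normalizer (unip h : Set (Cfsg.Sz F m)) :=
    mul_mem (inv_mem hgN) ((mem_normalizer_iff' h hm).2 ⟨0, 0, e, by rw [h.uS_zero, one_mul]⟩)
  obtain ⟨a, b, f, hf⟩ := (mem_normalizer_iff' h hm).1 hN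
  refine ⟨a, b, f, ρ, ?_⟩
  rw [← hf, map_mul, mul_assoc, ← hd, ← mul_assoc, ← map_mul, inv_mul_cancel, map_one, one_mul]

/-- The data for the matrix group. -/
theorem base (e₀ : Fˣ) (he₀ : ∀ e : Fˣ, e ∈ Subgroup.zpowers e₀) :
    SzLocal (Cfsg.Sz F m) (Fintype.card F) (unip h) (unipCenter h) (dS h e₀) := by
  classical
  haveI : Fact (Nat.Prime 2) := ⟨Nat.prime_two⟩
  haveI := h.charTwo
  have hq2 : 2 < Fintype.card F := h.two_lt_card hm
  have hord : orderOf e₀ = Fintype.card F - 1 := by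
    rw [orderOf_eq_card_of_forall_mem_zpowers he₀, Nat.card_units, Nat.card_eq_fintype_card]
  have hpw : ∀ e : Fˣ, ∃ n : ℕ, dS h e = dS h e₀ ^ n := fun e => by
    obtain ⟨n, hn⟩ := mem_powers_iff_mem_zpowers.2 (he₀ e)
    exact ⟨n, by rw [← hn, map_pow]⟩
  have hone : ∀ {b : F}, uS h 0 b = 1 ↔ b = 0 := fun {b} =>
    ⟨fun z => (h.uS_coords_inj (z.trans h.uS_zero.symm)).2, fun z => by rw [z, h.uS_zero]⟩
  have hZP : unipCenter h ≤ unip h := by rintro _ ⟨b, rfl⟩; exact h.uS_mem 0 b
  have hsq : ∀ a b, uS h a b * uS h a b = uS h 0 (sg m a * a) := fun a b => by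
    rw [← sq, h.uS_sq]
  have hsqiff : ∀ x ∈ unip h, (x * x = 1 ↔ x ∈ unipCenter h) := by
    rintro _ ⟨a, b, rfl⟩
    rw [hsq, hone]
    constructor
    · intro z
      refine ⟨b, ?_⟩
      rcases mul_eq_zero.1 z with z | z
      · rw [sg_eq_zero.1 z]
      · rw [z]
    · rintro ⟨b', hb'⟩
      rw [(h.uS_coords_inj hb').1, mul_zero]
  have hZ1 : ∀ z ∈ unipCenter h, z ≠ 1 →
      Subgroup.centralizer ({z} : Set (Cfsg.Sz F m)) = unip h := by
    rintro _ ⟨b, rfl⟩ hz
    refine le_antisymm (SzTori.centralizer_unip_le h hm (h.uS_mem 0 b) hz) ?_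
    rintro _ ⟨a, d, rfl⟩
    exact Subgroup.mem_centralizer_singleton_iff.2 (h.uS_center_comm b a d).symm
  have hinv : ∀ t : Cfsg.Sz F m, orderOf t = 2 → ∃ g, g * t * g⁻¹ ∈ unipCenter h := by
    intro t ht
    obtain ⟨S, hS⟩ := (IsPGroup.of_card (p := 2) (G := Subgroup.zpowers t) (n := 1)
      (by rw [Nat.card_zpowers, ht, pow_one])).exists_le_sylow
    obtain ⟨k, hk⟩ := h.conj_sylow hm S
    refine ⟨k⁻¹, ?_⟩
    obtain ⟨u, hu, hut⟩ : t ∈ (unip h).map (MulAut.conj k).toMonoidHom :=
      hk ▸ hS (Subgroup.mem_zpowers t)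
    have hut' : k * u * k⁻¹ = t := hut
    rw [show k⁻¹ * t * k⁻¹⁻¹ = u by rw [← hut']; group]
    refine (hsqiff u hu).1 ?_
    have h2 : t * t = 1 := by rw [← sq, ← ht, pow_orderOf_eq_one]
    rw [← hut', show k * u * k⁻¹ * (k * u * k⁻¹) = k * (u * u) * k⁻¹ by group] at h2
    exact conj_eq_one_iff.1 h2
  have hfuse : ∀ g : Cfsg.Sz F m, ∀ z ∈ unipCenter h, z ≠ 1 → g * z * g⁻¹ ∈ unipCenter h →
      g ∈ Subgroup.normalizer (unip h : Set (Cfsg.Sz F m)) :=
    fun g z hz hz1 hg => SzTori.ti_unip h hm g z (hZP hz) hz1 (hZP hg)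
  have hN : Nat.card (Subgroup.normalizer (unip h : Set (Cfsg.Sz F m))) =
      Fintype.card F ^ 2 * (Fintype.card F - 1) := by
    rw [h.normalizer_unip hm, h.card_stabilizer hm]
  have hcardZ : Nat.card (unipCenter h) = Fintype.card F := by
    rw [← Nat.card_eq_fintype_card]
    refine (Nat.card_eq_of_bijective (fun b => (⟨uS h 0 b, b, rfl⟩ : unipCenter h)) ⟨?_, ?_⟩).symm
    · intro b b' hb
      exact (h.uS_coords_inj (congrArg Subtype.val hb)).2
    · rintro ⟨_, b, rfl⟩
      exact ⟨b, rfl⟩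
  have hord2 : ∀ g : Cfsg.Sz F m, orderOf g = 2 ↔ g * g = 1 ∧ g ≠ 1 := fun g => by
    rw [orderOf_eq_prime_iff, sq]
  exact
  { q_eq := ⟨m, hm, h.card⟩
    card := h.card_group hm
    simple := h.isSimple hm
    card_P := h.card_unip
    card_Z := hcardZ
    Z_le := hZP
    sq_iff := hsqiff
    sq_mem := by
      rintro _ ⟨a, b, rfl⟩
      exact ⟨_, hsq a b⟩
    sq_surj := by
      rintro _ ⟨c, rfl⟩
      obtain ⟨a, rfl⟩ := h.sg_mul_self_surj c
      exact ⟨_, h.uS_mem a 0, hsq a 0⟩
    sq_inj := by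
      rintro _ ⟨a, b, rfl⟩ _ ⟨c, d, rfl⟩ hac
      rw [hsq, hsq] at hac
      obtain rfl := h.sg_mul_self_inj (h.uS_coords_inj hac).2
      exact ⟨b + sg m a * a + d + sg m a * a, by rw [h.uS_inv, h.uS_mul, h.add_self]⟩
    central := by
      rintro _ ⟨b, rfl⟩ _ ⟨a, d, rfl⟩
      exact h.uS_center_comm b a d
    cent := by
      rintro _ ⟨a, b, rfl⟩ hx _ ⟨c, d, rfl⟩ hxy
      have ha : a ≠ 0 := by rintro rfl; exact hx ⟨b, rfl⟩
      have h0 : sg m a * c + sg m c * a = 0 := by
        have h1 := h.uS_comm a b c d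
        rw [hxy] at h1
        exact hone.1 (right_eq_mul.1 h1)
      by_cases hc : c = 0
      · exact Or.inl ⟨d, by rw [hc]⟩
      right
      have h3 : sg m (c / a) = c / a := by
        rw [div_eq_mul_inv, sg_mul, sg_inv, ← div_eq_mul_inv, ← div_eq_mul_inv,
          div_eq_div_iff (mt sg_eq_zero.1 ha) ha]
        linear_combination h0 - (sg m a * c) * h.two0
      have h4 : c / a = 1 := by
        by_contra h1
        exact h.sg_ne_self (div_ne_zero hc ha) h1 h3
      obtain rfl : c = a := (div_eq_one_iff_eq ha).1 h4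
      exact ⟨b + sg m c * c + d + sg m c * c, by rw [h.uS_inv, h.uS_mul, h.add_self]⟩
    centralizer_eq := hZ1
    invol_conj := hinv
    pair_odd := by
      intro t s ht hs hts
      by_contra hodd
      obtain ⟨n, hn⟩ := Nat.not_odd_iff_even.1 hodd
      have hpos : 0 < orderOf (t * s) := orderOf_pos _
      obtain ⟨z, hzdef⟩ : ∃ z, z = (t * s) ^ n := ⟨_, rfl⟩
      have hz1 : z ≠ 1 := hzdef ▸ pow_ne_one_of_lt_orderOf (by omega) (by omega)
      have hz2 : z * z = 1 := by rw [hzdef, ← pow_add, ← hn, pow_orderOf_eq_one]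
      have ht2 := ((hord2 t).1 ht).1
      have hs2 := ((hord2 s).1 hs).1
      have hti : t⁻¹ = t := inv_eq_of_mul_eq_one_right ht2
      have hsi : s⁻¹ = s := inv_eq_of_mul_eq_one_right hs2
      have hzt : t * z * t⁻¹ = z := by
        rw [hzdef, ← conj_pow]
        calc (t * (t * s) * t⁻¹) ^ n = ((t * s)⁻¹) ^ n := by
              rw [mul_inv_rev, hti, hsi, ← mul_assoc, ht2, one_mul]
          _ = (t * s) ^ n := by
              rw [inv_pow]
              exact inv_eq_of_mul_eq_one_right (by rw [← pow_add, ← hn, pow_orderOf_eq_one])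
      obtain ⟨g, hg⟩ := hinv z ((hord2 z).2 ⟨hz2, hz1⟩)
      have hgz : g * z * g⁻¹ ≠ 1 := fun e => hz1 (conj_eq_one_iff.1 e)
      have hct : Commute z t := (mul_inv_eq_iff_eq_mul.1 hzt).symm
      have hcs : Commute z s := by
        have : Commute z (t * (t * s)) := hct.mul_right (hzdef ▸ Commute.pow_self (t * s) n)
        rwa [← mul_assoc, ht2, one_mul] at this
      have hmem : ∀ x : Cfsg.Sz F m, Commute z x → x * x = 1 → g * x * g⁻¹ ∈ unipCenter h := by
        intro x hx hx2
        refine (hsqiff _ ?_).1 ?_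
        · rw [← hZ1 _ hg hgz, Subgroup.mem_centralizer_singleton_iff]
          rw [show g * x * g⁻¹ * (g * z * g⁻¹) = g * (x * z) * g⁻¹ by group,
            show g * z * g⁻¹ * (g * x * g⁻¹) = g * (z * x) * g⁻¹ by group, hx.eq]
        · rw [show g * x * g⁻¹ * (g * x * g⁻¹) = g * (x * x) * g⁻¹ by group, hx2]
          group
      obtain ⟨b, hb⟩ := hmem s hcs hs2
      obtain ⟨c, hc⟩ := hmem t hct ht2
      apply hts
      refine (MulAut.conj g).injective ?_
      simp only [map_mul, MulAut.conj_apply, hb, hc]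
      exact h.uS_center_comm c 0 b
    τ_order := by rw [orderOf_injective (dS h) h.dS_injective, hord]
    τ_P := (mem_normalizer_iff' h hm).2 ⟨0, 0, e₀, by rw [h.uS_zero, one_mul]⟩
    τ_fpf := by
      rintro n hn _ ⟨a, b, rfl⟩ hfix
      have he : e₀ ^ n ≠ 1 := fun z => hn (hord ▸ orderOf_dvd_of_pow_eq_one z)
      rw [← map_pow, ← MulAut.conj_apply, h.conj_dS_uS] at hfix
      obtain ⟨h1, h2⟩ := h.uS_coords_inj hfix
      obtain rfl : a = 0 := by
        by_contra ha
        exact SzTori.sg_ne_one h hm he (mul_right_cancel₀ ha (h1.trans (one_mul a).symm))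
      obtain rfl : b = 0 := by
        by_contra hb
        exact SzTori.mu_ne_one h hm he (mul_right_cancel₀ hb (h2.trans (one_mul b).symm))
      exact h.uS_zero
    τ_trans := by
      rintro _ ⟨b, rfl⟩ _ ⟨c, rfl⟩ hb hc
      have hb' : b ≠ 0 := fun z => hb (hone.2 z)
      have hc' : c ≠ 0 := fun z => hc (hone.2 z)
      obtain ⟨e, he⟩ := scalar_surjective h (div_ne_zero hc' hb')
      obtain ⟨n, hn⟩ := hpw e
      exact ⟨n, by rw [← hn, center_act h hm, he, div_mul_cancel₀ c hb']⟩
    τ_transP := by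
      rintro _ ⟨a, b, rfl⟩ _ ⟨c, d, rfl⟩ hx hy
      have ha : a ≠ 0 := by rintro rfl; exact hx ⟨b, rfl⟩
      have hc : c ≠ 0 := by rintro rfl; exact hy ⟨d, rfl⟩
      obtain ⟨e, he⟩ := h.sg_surjective (c / a)
      have he0 : e ≠ 0 := by
        rintro rfl
        exact div_ne_zero hc ha (he.symm.trans sg_zero)
      obtain ⟨n, hn⟩ := hpw (Units.mk0 e he0)
      refine ⟨n, ?_⟩
      rw [← hn, ← MulAut.conj_apply, h.conj_dS_uS, Units.val_mk0, he, div_mul_cancel₀ c ha,
        h.uS_inv, h.uS_mul, h.add_self]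
      exact ⟨_, rfl⟩
    borel := by
      intro g
      rw [mem_normalizer_iff' h hm]
      constructor
      · rintro ⟨a, b, e, rfl⟩
        obtain ⟨n, hn⟩ := hpw e
        exact ⟨_, h.uS_mem a b, n, by rw [hn]⟩
      · rintro ⟨_, ⟨a, b, rfl⟩, n, rfl⟩
        exact ⟨a, b, e₀ ^ n, by rw [map_pow]⟩
    borel_of_fuse := hfuse
    borel_max := by
      intro H hH
      by_cases hle : H ≤ Subgroup.normalizer (unip h : Set (Cfsg.Sz F m))
      · exact Or.inl (le_antisymm hle hH)
      · obtain ⟨g, hgH, hgN⟩ := SetLike.not_le_iff_exists.1 hle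
        refine Or.inr (h.eq_top_of_unip_le hm (Subgroup.le_normalizer.trans hH) hgH fun z => hgN ?_)
        rwa [h.normalizer_unip hm, ← opt_none (m := m), MulAction.mem_stabilizer_iff]
    borel_index := h.index_normalizer hm
    borel_inter := by
      intro g hg
      by_contra hodd
      obtain ⟨⟨z, hzN, hzg⟩, hz⟩ :=
        exists_prime_orderOf_dvd_card' 2 (even_iff_two_dvd.1 (Nat.not_odd_iff_even.1 hodd))
      rw [← Subgroup.orderOf_coe] at hz
      obtain ⟨w, hw, hwz⟩ := hzg
      have hwz' : g * w * g⁻¹ = z := hwz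
      obtain ⟨hz2, hz1⟩ : z * z = 1 ∧ z ≠ 1 := (hord2 _).1 hz
      have hw2 : w * w = 1 := by
        rw [← hwz', show g * w * g⁻¹ * (g * w * g⁻¹) = g * (w * w) * g⁻¹ by group] at hz2
        exact conj_eq_one_iff.1 hz2
      have hw1 : w ≠ 1 := fun e => hz1 (by rw [← hwz', e]; group)
      exact hg (hfuse g w (invol_mem_center h hm hw hw2) hw1
        (by rw [hwz']; exact invol_mem_center h hm hzN hz2))
    count_outside := by
      have hTI : ∀ g c, c ∈ unipCenter h → c ≠ 1 → g * c * g⁻¹ ∈ unipCenter h →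
          g ∈ Subgroup.normalizer (unipCenter h : Set (Cfsg.Sz F m)) := fun g c hc hc1 hg => by
        rw [normalizer_center h hm]; exact hfuse g c hc hc1 hg
      have h1 := SzTori.card_conjSet (unipCenter h) hTI
      rw [normalizer_center h hm, hN, hcardZ, h.card_group hm] at h1
      have hA : SzTori.conjSet (unipCenter h) = {t : Cfsg.Sz F m | orderOf t = 2} := by
        ext t
        constructor
        · rintro ⟨g, c, hc, hc1, rfl⟩
          rw [Set.mem_setOf_eq, hord2, show g * c * g⁻¹ * (g * c * g⁻¹) = g * (c * c) * g⁻¹ by group,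
            (hsqiff c (hZP hc)).2 hc]
          exact ⟨by group, fun e => hc1 (conj_eq_one_iff.1 e)⟩
        · intro ht
          obtain ⟨g, hg⟩ := hinv t ht
          exact ⟨g⁻¹, _, hg, fun e => ((hord2 t).1 ht).2 (conj_eq_one_iff.1 e), by group⟩
      have h2 : Nat.card (SzTori.conjSet (unipCenter h)) =
          (Fintype.card F ^ 2 + 1) * (Fintype.card F - 1) := by
        refine Nat.eq_of_mul_eq_mul_right
          (show 0 < Fintype.card F ^ 2 * (Fintype.card F - 1) by
            exact Nat.mul_pos (by positivity) (by omega)) (h1.trans ?_)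
        ring
      rw [hA] at h2
      let N : Set (Cfsg.Sz F m) := (Subgroup.normalizer (unip h : Set (Cfsg.Sz F m)) : Set (Cfsg.Sz F m))
      have hin : ({t : Cfsg.Sz F m | orderOf t = 2} ∩ N : Set (Cfsg.Sz F m)) =
          (unipCenter h : Set (Cfsg.Sz F m)) \ {1} := by
        ext t
        constructor
        · rintro ⟨ht, htN⟩
          obtain ⟨ht2, ht1⟩ := (hord2 t).1 ht
          exact ⟨invol_mem_center h hm htN ht2, ht1⟩
        · rintro ⟨ht, ht1⟩
          exact ⟨(hord2 t).2 ⟨(hsqiff t (hZP ht)).2 ht, ht1⟩, Subgroup.le_normalizer (hZP ht)⟩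
      have h3 := Set.ncard_inter_add_ncard_sdiff_eq_ncard {t : Cfsg.Sz F m | orderOf t = 2} N
        (Set.toFinite _)
      rw [hin, Set.ncard_sdiff_singleton_of_mem (one_mem (unipCenter h)),
        ← Nat.card_coe_set_eq (unipCenter h : Set (Cfsg.Sz F m)), SetLike.coe_sort_coe, hcardZ,
        ← Nat.card_coe_set_eq {t : Cfsg.Sz F m | orderOf t = 2}, h2,
        ← Nat.card_coe_set_eq ({t : Cfsg.Sz F m | orderOf t = 2} \ N), add_mul, one_mul] at h3
      change Nat.card ↥({t : Cfsg.Sz F m | orderOf t = 2} \ N) = _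
      omega
    aut_two := by
      rintro φ ⟨i, hi⟩
      have hout : Nat.card (Cfsg.Out (Cfsg.Sz F m)) = 2 * m + 1 := h.card_out hm
      haveI : Finite (Cfsg.Out (Cfsg.Sz F m)) := Nat.finite_of_card_ne_zero (by omega)
      have h1 : orderOf (QuotientGroup.mk φ : Cfsg.Out (Cfsg.Sz F m)) ∣ 2 ^ i :=
        orderOf_dvd_of_pow_eq_one (by rw [← QuotientGroup.mk_pow, hi, QuotientGroup.mk_one])
      have h2 : orderOf (QuotientGroup.mk φ : Cfsg.Out (Cfsg.Sz F m)) ∣ 2 * m + 1 :=
        hout ▸ orderOf_dvd_natCard _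
      obtain ⟨x, hx⟩ := (QuotientGroup.eq_one_iff φ).1 (orderOf_eq_one_iff.1
        (Nat.eq_one_of_dvd_coprimes (Nat.Coprime.pow_left i (by simp)) h1 h2))
      exact ⟨x, hx.symm⟩
    aut_fix := by
      intro φ hfix
      have hz : uS h 0 1 ≠ 1 := fun z => one_ne_zero (hone.1 z)
      have hmap : (unip h).map φ.toMonoidHom = unip h := by
        ext x
        rw [Subgroup.mem_map_equiv, ← hZ1 _ ⟨1, rfl⟩ hz, Subgroup.mem_centralizer_singleton_iff,
          Subgroup.mem_centralizer_singleton_iff]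
        conv_lhs => rw [← φ.injective.eq_iff, map_mul, map_mul, φ.apply_symm_apply,
          hfix _ ⟨1, rfl⟩]
      obtain ⟨a, b, e, ρ, rfl⟩ := decomp_of_map h hm hmap
      have hact : ∀ c, sg m (e : F) * (e : F) ^ 2 * ρ c = c := by
        intro c
        have h1 := hfix (uS h 0 c) ⟨c, rfl⟩
        rw [MulAut.mul_apply, h.fieldHom_uS, map_zero, MulAut.conj_apply, conj_center] at h1
        exact (h.uS_coords_inj h1).2
      have he : e = 1 := by
        by_contra he
        exact SzTori.mu_ne_one h hm he (by simpa using hact 1)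
      subst he
      have hρ : ρ = 1 := RingEquiv.ext fun c => by
        have := hact c
        rwa [Units.val_one, sg_one, one_pow, one_mul, one_mul] at this
      exact ⟨_, h.uS_mem a b, by rw [hρ, map_one, map_one, mul_one, mul_one]⟩
    aut_semi := by
      intro φ hφ
      obtain ⟨a, b, e, ρ, rfl⟩ := decomp_of_map h hm hφ
      obtain ⟨i, -, hi⟩ := SzSylow.aut_eq_frobenius h ρ
      refine ⟨i, ?_⟩
      rintro _ ⟨c, rfl⟩
      simp only [← map_pow, center_act h hm, MulAut.mul_apply, h.fieldHom_uS, map_zero,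
        MulAut.conj_apply, conj_center, Units.val_pow_eq_pow_val]
      congr 1
      rw [map_mul, hi (sg m (e₀ : F) * (e₀ : F) ^ 2), mul_pow, sg_pow, ← pow_mul, ← pow_mul,
        mul_comm 2 (2 ^ i)]
      ring }

end Base

/-! ### Transport -/

section Transport

variable {A : Type v} [Group A] {B : Type u} [Group B] (f : A ≃* B)

theorem mem_normalizer_map {P : Subgroup A} {P' : Subgroup B} (hP : ∀ x, f x ∈ P' ↔ x ∈ P) (x : A) :
    f x ∈ Subgroup.normalizer (P' : Set B) ↔ x ∈ Subgroup.normalizer (P : Set A) := by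
  rw [Subgroup.mem_normalizer_iff, Subgroup.mem_normalizer_iff, f.surjective.forall]
  simp only [← map_inv, ← map_mul, hP]

theorem card_map {P : Subgroup A} {P' : Subgroup B} (hP : ∀ x, f x ∈ P' ↔ x ∈ P) :
    Nat.card P' = Nat.card P :=
  (Nat.card_congr (f.toEquiv.subtypeEquiv fun x => (hP x).symm)).symm

theorem transport {q : ℕ} {P Z : Subgroup A} {τ : A} (hL : SzLocal A q P Z τ) {P' Z' : Subgroup B}
    (hP : ∀ x, f x ∈ P' ↔ x ∈ P) (hZ : ∀ x, f x ∈ Z' ↔ x ∈ Z) :
    SzLocal B q P' Z' (f τ) := by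
  have hN := mem_normalizer_map f hP
  have hne : ∀ {x : A}, f x ≠ 1 → x ≠ 1 := fun {x} hx e => hx (by rw [e, map_one])
  have hinj : ∀ {x y : A}, f x = f y ↔ x = y := f.injective.eq_iff
  have hψ : ∀ φ : MulAut B, ∀ n : ℕ, ∀ x : A,
      f (((f.trans φ).trans f.symm : MulAut A) ^ n |> fun ψ => ψ x) = (φ ^ n) (f x) := by
    intro φ n
    induction n with
    | zero => intro x; simp
    | succ n ih =>
      intro x
      simp only [pow_succ', MulAut.mul_apply] at ih ⊢
      rw [← ih x]
      exact f.apply_symm_apply _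
  exact
  { q_eq := hL.q_eq
    card := by rw [← Nat.card_congr f.toEquiv, hL.card]
    simple := haveI := hL.simple; f.symm.isSimpleGroup
    card_P := by rw [card_map f hP, hL.card_P]
    card_Z := by rw [card_map f hZ, hL.card_Z]
    Z_le := fun y hy => by
      obtain ⟨x, rfl⟩ := f.surjective y
      exact (hP x).2 (hL.Z_le ((hZ x).1 hy))
    sq_iff := fun y hy => by
      obtain ⟨x, rfl⟩ := f.surjective y
      rw [← map_mul, hZ, ← hL.sq_iff x ((hP x).1 hy), ← f.map_one, hinj]
    sq_mem := fun y hy => by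
      obtain ⟨x, rfl⟩ := f.surjective y
      rw [← map_mul, hZ]
      exact hL.sq_mem x ((hP x).1 hy)
    sq_surj := fun y hy => by
      obtain ⟨x, rfl⟩ := f.surjective y
      obtain ⟨w, hw, hw2⟩ := hL.sq_surj x ((hZ x).1 hy)
      exact ⟨f w, (hP w).2 hw, by rw [← map_mul, hw2]⟩
    sq_inj := fun y hy y' hy' he => by
      obtain ⟨x, rfl⟩ := f.surjective y
      obtain ⟨x', rfl⟩ := f.surjective y'
      rw [← map_inv, ← map_mul, hZ]
      rw [← map_mul, ← map_mul, hinj] at he
      exact hL.sq_inj x ((hP x).1 hy) x' ((hP x').1 hy') he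
    central := fun y hy y' hy' => by
      obtain ⟨x, rfl⟩ := f.surjective y
      obtain ⟨x', rfl⟩ := f.surjective y'
      rw [← map_mul, ← map_mul, hL.central x ((hZ x).1 hy) x' ((hP x').1 hy')]
    cent := fun y hy hyZ y' hy' he => by
      obtain ⟨x, rfl⟩ := f.surjective y
      obtain ⟨x', rfl⟩ := f.surjective y'
      rw [← map_mul, ← map_mul, hinj] at he
      rw [← map_inv, ← map_mul, hZ, hZ]
      exact hL.cent x ((hP x).1 hy) (fun e => hyZ ((hZ x).2 e)) x' ((hP x').1 hy') he
    centralizer_eq := fun y hy hy1 => by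
      obtain ⟨x, rfl⟩ := f.surjective y
      ext y'
      obtain ⟨x', rfl⟩ := f.surjective y'
      rw [Subgroup.mem_centralizer_singleton_iff, ← map_mul, ← map_mul, hinj, hP,
        ← hL.centralizer_eq x ((hZ x).1 hy) (hne hy1), Subgroup.mem_centralizer_singleton_iff]
    invol_conj := fun y hy => by
      obtain ⟨x, rfl⟩ := f.surjective y
      rw [f.orderOf_eq] at hy
      obtain ⟨g, hg⟩ := hL.invol_conj x hy
      exact ⟨f g, by rw [← map_inv, ← map_mul, ← map_mul, hZ]; exact hg⟩
    pair_odd := fun y y' hy hy' he => by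
      obtain ⟨x, rfl⟩ := f.surjective y
      obtain ⟨x', rfl⟩ := f.surjective y'
      rw [f.orderOf_eq] at hy hy'
      rw [← map_mul, ← map_mul, Ne, hinj] at he
      rw [← map_mul, f.orderOf_eq]
      exact hL.pair_odd x x' hy hy' he
    τ_order := by rw [f.orderOf_eq, hL.τ_order]
    τ_P := (hN τ).2 hL.τ_P
    τ_fpf := fun n hn y hy he => by
      obtain ⟨x, rfl⟩ := f.surjective y
      rw [← map_pow, ← map_inv, ← map_mul, ← map_mul, hinj] at he
      rw [hL.τ_fpf n hn x ((hP x).1 hy) he, map_one]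
    τ_trans := fun y hy y' hy' h1 h2 => by
      obtain ⟨x, rfl⟩ := f.surjective y
      obtain ⟨x', rfl⟩ := f.surjective y'
      obtain ⟨n, hn⟩ := hL.τ_trans x ((hZ x).1 hy) x' ((hZ x').1 hy') (hne h1) (hne h2)
      exact ⟨n, by rw [← map_pow, ← map_inv, ← map_mul, ← map_mul, hn]⟩
    τ_transP := fun y hy y' hy' h1 h2 => by
      obtain ⟨x, rfl⟩ := f.surjective y
      obtain ⟨x', rfl⟩ := f.surjective y'
      obtain ⟨n, hn⟩ := hL.τ_transP x ((hP x).1 hy) x' ((hP x').1 hy')
        (fun e => h1 ((hZ x).2 e)) (fun e => h2 ((hZ x').2 e))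
      refine ⟨n, ?_⟩
      simp only [← map_pow, ← map_inv, ← map_mul, hZ]
      exact hn
    borel := fun y => by
      obtain ⟨x, rfl⟩ := f.surjective y
      rw [hN, hL.borel]
      constructor
      · rintro ⟨w, hw, n, rfl⟩
        exact ⟨f w, (hP w).2 hw, n, by rw [map_mul, map_pow]⟩
      · rintro ⟨y', hy', n, he⟩
        obtain ⟨w, rfl⟩ := f.surjective y'
        rw [← map_pow, ← map_mul, hinj] at he
        exact ⟨w, (hP w).1 hy', n, he⟩
    borel_of_fuse := fun y z hz hz1 he => by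
      obtain ⟨x, rfl⟩ := f.surjective y
      obtain ⟨w, rfl⟩ := f.surjective z
      rw [← map_inv, ← map_mul, ← map_mul, hZ] at he
      exact (hN x).2 (hL.borel_of_fuse x w ((hZ w).1 hz) (hne hz1) he)
    borel_max := fun H hH => by
      have h1 : Subgroup.normalizer (P : Set A) ≤ H.comap f.toMonoidHom :=
        fun x hx => hH ((hN x).2 hx)
      rcases hL.borel_max _ h1 with h2 | h2
      · refine Or.inl ?_
        ext y
        obtain ⟨x, rfl⟩ := f.surjective y
        rw [hN, ← h2]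
        rfl
      · refine Or.inr ((Subgroup.eq_top_iff' H).2 fun y => ?_)
        obtain ⟨x, rfl⟩ := f.surjective y
        exact (h2 ▸ Subgroup.mem_top x : x ∈ H.comap f.toMonoidHom)
    borel_index := by
      have he : (Subgroup.normalizer (P' : Set B)).comap f.toMonoidHom =
          Subgroup.normalizer (P : Set A) := SetLike.ext hN
      rw [← Subgroup.index_comap_of_surjective _ (f := f.toMonoidHom) f.surjective, he, hL.borel_index]
    borel_inter := fun y hy => by
      obtain ⟨g, rfl⟩ := f.surjective y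
      have h1 := hL.borel_inter g (fun e => hy ((hN g).2 e))
      refine (congrArg Odd (card_map f (fun x => ?_))).mpr h1
      simp only [Subgroup.mem_inf, hN, Subgroup.mem_map_equiv, MulAut.conj_symm_apply, ← map_inv,
        ← map_mul]
    count_outside := by
      rw [← hL.count_outside]
      refine (Nat.card_congr (f.toEquiv.subtypeEquiv fun x => ?_)).symm
      simp only [MulEquiv.toEquiv_eq_coe, EquivLike.coe_coe, f.orderOf_eq, hN]
    aut_two := by
      rintro φ ⟨i, hi⟩
      obtain ⟨x, hx⟩ := hL.aut_two ((f.trans φ).trans f.symm) ⟨i, MulEquiv.ext fun w => hinj.1 (by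
        rw [hψ φ, hi]; rfl)⟩
      refine ⟨f x, MulEquiv.ext fun y => ?_⟩
      obtain ⟨w, rfl⟩ := f.surjective y
      have := congrArg f (DFunLike.congr_fun hx w)
      simpa [MulAut.conj_apply] using this
    aut_fix := fun φ hfix => by
      obtain ⟨x, hx, he⟩ := hL.aut_fix ((f.trans φ).trans f.symm) (fun z hz => by
        show f.symm (φ (f z)) = z
        rw [hfix _ ((hZ z).2 hz), f.symm_apply_apply])
      refine ⟨f x, (hP x).2 hx, MulEquiv.ext fun y => ?_⟩
      obtain ⟨w, rfl⟩ := f.surjective y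
      have := congrArg f (DFunLike.congr_fun he w)
      simpa [MulAut.conj_apply] using this
    aut_semi := fun φ hφ => by
      have hmap : P.map ((f.trans φ).trans f.symm : MulAut A).toMonoidHom = P := by
        ext x
        rw [Subgroup.mem_map_equiv, ← hP, ← hP]
        conv_rhs => rw [← hφ, Subgroup.mem_map_equiv]
        simp
      obtain ⟨i, hi⟩ := hL.aut_semi _ hmap
      refine ⟨i, fun y hy => ?_⟩
      obtain ⟨z, rfl⟩ := f.surjective y
      have := congrArg f (hi z ((hZ z).1 hy))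
      simpa using this }

end Transport

end SzFactsProof

open SzFactsProof in
/-- Every Suzuki group satisfies `SzLocal` at each of its Sylow `2`-subgroups. -/
theorem szFacts : SzFacts.{u} := by
  intro L _ _ hL P
  obtain ⟨F, _, _, m, hm, hF, ⟨iso⟩⟩ := hL
  haveI : Fact (Nat.Prime 2) := ⟨Nat.prime_two⟩
  have h : IsSzField F m := ⟨hF⟩
  obtain ⟨e₀, he₀⟩ := IsCyclic.exists_generator (α := Fˣ)
  let f : Cfsg.Sz F m ≃* L := (szEquiv h hm).trans iso.symm
  obtain ⟨g, hg⟩ := h.conj_sylow hm (P.comapOfInjective f.toMonoidHom f.injective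
    (fun y _ => f.surjective y))
  let f' : Cfsg.Sz F m ≃* L := (MulAut.conj g).trans f
  refine ⟨Fintype.card F, (unipCenter h).map f'.toMonoidHom, f' (dS h e₀),
    transport f' (base h hm e₀ he₀) (fun x => ?_) (fun x => ?_)⟩
  · have h1 : MulAut.conj g x ∈ (P : Subgroup L).comap f.toMonoidHom ↔ x ∈ unip h := by
      rw [show (P : Subgroup L).comap f.toMonoidHom = (unip h).map (MulAut.conj g).toMonoidHom from hg,
        Subgroup.mem_map_equiv, MulEquiv.symm_apply_apply]
    exact h1
  · rw [Subgroup.mem_map_equiv, MulEquiv.symm_apply_apply]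

end Cfsg.Agent.Lib.Thompson3Prime33
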