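import Cfsg.Prelude.Def_Sz
import Mathlib.GroupTheory.PGroup
import Mathlib.GroupTheory.Sylow

/-!
# The local data of a Suzuki group used in the classification of simple `3'`-groups

`SzLocal L q P Z τ`: `P` is a Sylow `2`-subgroup of `L ≅ Sz(q)`, `Z = Ω₁(P)` its centre and `τ`
generates a torus in the normaliser of `P`.

Owner: helper33.
-/

set_option autoImplicit false

namespace Cfsg.Agent.Lib.Thompson3Prime33

universe u v

variable {L : Type u} [Group L]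

/-- The facts about `Sz(q)` used below, stated for abstract subgroups. -/
structure SzLocal (L : Type u) [Group L] (q : ℕ) (P Z : Subgroup L) (τ : L) : Prop where
  q_eq : ∃ m : ℕ, 1 ≤ m ∧ q = 2 ^ (2 * m + 1)
  card : Nat.card L = q ^ 2 * (q ^ 2 + 1) * (q - 1)
  simple : IsSimpleGroup L
  card_P : Nat.card P = q ^ 2
  card_Z : Nat.card Z = q
  Z_le : Z ≤ P
  sq_iff : ∀ x ∈ P, (x * x = 1 ↔ x ∈ Z)
  sq_mem : ∀ x ∈ P, x * x ∈ Z
  sq_surj : ∀ z ∈ Z, ∃ x ∈ P, x * x = z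
  sq_inj : ∀ x ∈ P, ∀ y ∈ P, x * x = y * y → x⁻¹ * y ∈ Z
  central : ∀ z ∈ Z, ∀ x ∈ P, z * x = x * z
  cent : ∀ x ∈ P, x ∉ Z → ∀ y ∈ P, x * y = y * x → y ∈ Z ∨ x⁻¹ * y ∈ Z
  centralizer_eq : ∀ z ∈ Z, z ≠ 1 → Subgroup.centralizer ({z} : Set L) = P
  invol_conj : ∀ t : L, orderOf t = 2 → ∃ g : L, g * t * g⁻¹ ∈ Z
  pair_odd : ∀ t s : L, orderOf t = 2 → orderOf s = 2 → t * s ≠ s * t → Odd (orderOf (t * s))
  τ_order : orderOf τ = q - 1
  τ_P : τ ∈ Subgroup.normalizer (P : Set L)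
  τ_fpf : ∀ n : ℕ, ¬ (q - 1) ∣ n → ∀ x ∈ P, τ ^ n * x * (τ ^ n)⁻¹ = x → x = 1
  τ_trans : ∀ z ∈ Z, ∀ w ∈ Z, z ≠ 1 → w ≠ 1 → ∃ n : ℕ, τ ^ n * z * (τ ^ n)⁻¹ = w
  τ_transP : ∀ x ∈ P, ∀ y ∈ P, x ∉ Z → y ∉ Z →
    ∃ n : ℕ, (τ ^ n * x * (τ ^ n)⁻¹)⁻¹ * y ∈ Z
  borel : ∀ g : L, g ∈ Subgroup.normalizer (P : Set L) ↔ ∃ x ∈ P, ∃ n : ℕ, g = x * τ ^ n
  borel_of_fuse : ∀ g : L, ∀ z ∈ Z, z ≠ 1 → g * z * g⁻¹ ∈ Z → g ∈ Subgroup.normalizer (P : Set L)
  borel_max : ∀ H : Subgroup L, Subgroup.normalizer (P : Set L) ≤ H →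
    H = Subgroup.normalizer (P : Set L) ∨ H = ⊤
  borel_index : (Subgroup.normalizer (P : Set L)).index = q ^ 2 + 1
  borel_inter : ∀ g : L, g ∉ Subgroup.normalizer (P : Set L) →
    Odd (Nat.card (Subgroup.normalizer (P : Set L) ⊓
      (Subgroup.normalizer (P : Set L)).map (MulAut.conj g).toMonoidHom : Subgroup L))
  count_outside : Nat.card {t : L // orderOf t = 2 ∧ t ∉ Subgroup.normalizer (P : Set L)} =
    q ^ 2 * (q - 1)
  aut_two : ∀ φ : MulAut L, (∃ i : ℕ, φ ^ (2 ^ i) = 1) → ∃ x : L, φ = MulAut.conj x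
  aut_fix : ∀ φ : MulAut L, (∀ z ∈ Z, φ z = z) → ∃ x ∈ P, φ = MulAut.conj x
  aut_semi : ∀ φ : MulAut L, P.map φ.toMonoidHom = P →
    ∃ i : ℕ, ∀ z ∈ Z, φ (τ * z * τ⁻¹) = τ ^ (2 ^ i) * φ z * (τ ^ (2 ^ i))⁻¹

/-- The existence statement: every Sylow `2`-subgroup carries the data. -/
def SzFacts : Prop :=
  ∀ (L : Type u) [Group L] [Finite L], Cfsg.Lie.IsoSuzuki L → ∀ P : Sylow 2 L,
    ∃ (q : ℕ) (Z : Subgroup L) (τ : L), SzLocal L q (P : Subgroup L) Z τ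

/-- A perfect central extension by a `2`-group in which the preimage of `Z` is central in the
preimage of `P` is trivial. -/
def SzExtTrivial : Prop :=
  ∀ (L : Type u) [Group L] [Finite L], Cfsg.Lie.IsoSuzuki L → ∀ P : Sylow 2 L,
    ∀ (Γ : Type u) [Group Γ] [Finite Γ] (σ : Γ →* L), Function.Surjective σ →
      σ.ker ≤ Subgroup.center Γ → IsPGroup 2 σ.ker → commutator Γ = ⊤ →
      (∀ x y : Γ, σ x ∈ (P : Subgroup L) → σ x * σ x = 1 → σ y ∈ (P : Subgroup L) → x * y = y * x) →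
      σ.ker = ⊥

/-- In a central extension by a `2`-group every element of `Ω₁(P)` lifts to an element of order at
most two. -/
def SzExtInvol : Prop :=
  ∀ (L : Type u) [Group L] [Finite L], Cfsg.Lie.IsoSuzuki L → ∀ P : Sylow 2 L,
    ∀ (Γ : Type u) [Group Γ] [Finite Γ] (σ : Γ →* L), Function.Surjective σ →
      σ.ker ≤ Subgroup.center Γ → IsPGroup 2 σ.ker → commutator Γ = ⊤ →
      ∀ z ∈ (P : Subgroup L), z * z = 1 → ∃ x : Γ, σ x = z ∧ x * x = 1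

/-- The four group order formula for an action on a group of odd order. -/
def FourFormula : Prop :=
  ∀ (G : Type u) [Group G] [Finite G] (W : Subgroup G) (a b : G),
    Odd (Nat.card W) → a * a = 1 → b * b = 1 → a * b = b * a → a ≠ 1 → b ≠ 1 → a ≠ b →
    a ∈ Subgroup.normalizer (W : Set G) → b ∈ Subgroup.normalizer (W : Set G) →
    Nat.card W * Nat.card (W ⊓ Subgroup.centralizer ({a, b} : Set G) : Subgroup G) ^ 2 =
      Nat.card (W ⊓ Subgroup.centralizer ({a} : Set G) : Subgroup G) *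
      Nat.card (W ⊓ Subgroup.centralizer ({b} : Set G) : Subgroup G) *
      Nat.card (W ⊓ Subgroup.centralizer ({a * b} : Set G) : Subgroup G)

/-- A cyclic group of order `d` acting semiregularly on an abelian odd group `N` which moves the
elementary abelian `2`-group `V`: `|V| ≥ 2^d`. -/
def FpfModuleBound : Prop :=
  ∀ (G : Type u) [Group G] [Finite G] (V N : Subgroup G) (t : G) (d : ℕ),
    (∀ v ∈ V, v * v = 1) → (∀ a ∈ N, ∀ b ∈ N, a * b = b * a) → Odd (Nat.card N) →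
    N ≤ Subgroup.normalizer (V : Set G) → ¬ N ≤ Subgroup.centralizer (V : Set G) →
    t ∈ Subgroup.normalizer (V : Set G) → t ∈ Subgroup.normalizer (N : Set G) →
    Odd d → t ^ d = 1 →
    (∀ n : ℕ, 0 < n → n < d → ∀ a ∈ N, t ^ n * a * (t ^ n)⁻¹ = a → a = 1) →
    2 ^ d ≤ Nat.card V

end Cfsg.Agent.Lib.Thompson3Prime33
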