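import Cfsg.Agent.Lib.SzMultiplier.Two
import Cfsg.Agent.Lib.LieTwisted.SuzukiSylow
import Cfsg.Agent.Lib.Thompson3Prime33.SzLocal

/-!
# Central extensions of `Sz(q)`: the support statements `SzExtTrivial` and `SzExtInvol`

Owner: helper20.  The complement to the kernel over the centre of the root group is the image of
`w ↦ [n₀, w]`; the pairing argument is the one of `SzMultiplier.Two.killsPart_unip`, without `q ≥ 32`.
-/

set_option autoImplicit false
set_option linter.unusedSectionVars false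
set_option linter.unusedVariables false
set_option maxHeartbeats 1600000

namespace Cfsg.Agent.Lib.Thompson3Prime33

universe u v

open Cfsg.Agent.Lib.LieTwisted.Suzuki Cfsg.Agent.Lib.Schur.Fusion Cfsg.Agent.Lib.SzMultiplier.Two
open scoped commutatorElement

variable {F : Type u} [Field F] [Fintype F] {m : ℕ} (h : IsSzField F m)
  {Γ : Type v} [Group Γ] (σ : Γ →* Cfsg.Sz F m) (hsurj : Function.Surjective σ)
  (hk : σ.ker ≤ Subgroup.center Γ)

include h hsurj hk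

/-- Every `x ≠ 0, 1` with `x² + x + 1 ≠ 0` exists as `q ≥ 8`. -/
theorem exists_scalar (hm : 1 ≤ m) :
    ∃ x : F, x ≠ 0 ∧ x + 1 ≠ 0 ∧ x⁻¹ + 1 + (x + 1)⁻¹ ≠ 0 := by
  classical
  by_contra hall
  push Not at hall
  have two := h.two0
  have hroot : ∀ x : F, x ≠ 0 → x + 1 ≠ 0 → x * x + x + 1 = 0 := by
    intro x hx0 hx1
    have e := hall x hx0 hx1
    field_simp at e
    linear_combination e - x * two
  obtain ⟨x, hx0, hx1'⟩ := h.exists_ne01 hm
  have hx1 : x + 1 ≠ 0 := fun e => hx1' (by linear_combination e - two)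
  have hsub : (Finset.univ : Finset F) ⊆ {0, 1, x, x + 1} := by
    intro y _
    simp only [Finset.mem_insert, Finset.mem_singleton]
    by_cases hy0 : y = 0
    · exact Or.inl hy0
    by_cases hy1 : y + 1 = 0
    · exact Or.inr (Or.inl (by linear_combination hy1 - two))
    have e : (y + x) * (y + (x + 1)) = 0 := by
      linear_combination hroot y hy0 hy1 + hroot x hx0 hx1 + (y * x - 1) * two
    rcases mul_eq_zero.1 e with e | e
    · exact Or.inr (Or.inr (Or.inl (by linear_combination e - x * two)))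
    · exact Or.inr (Or.inr (Or.inr (by linear_combination e - (x + 1) * two)))
  have h4 := (Finset.card_le_card hsub).trans Finset.card_le_four
  rw [Finset.card_univ, h.card] at h4
  have : 2 ^ 3 ≤ 2 ^ (2 * m + 1) := Nat.pow_le_pow_right two_pos (by omega)
  omega

/-- The preimage of the centre of the root group is abelian. -/
theorem centre_comm (hm : 1 ≤ m) :
    ∀ w ∈ (unipCenter h).comap σ, ∀ w' ∈ (unipCenter h).comap σ, w * w' = w' * w := by
  classical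
  choose L hL using fun p : F × F => hsurj (uS h p.1 p.2)
  choose N hN using fun e : Fˣ => hsurj (dS h e)
  obtain ⟨x, hx0, hx1, hxl⟩ := exists_scalar h σ hsurj hk hm
  have hlam : ∀ l : F, l ≠ 0 → ∃ n : Γ, ∀ a b : F, ∀ y : Γ,
      σ y = uS h a b → σ (n * y * n⁻¹) = uS h (l * a) (sg m l * l * b) := by
    intro l hl
    obtain ⟨e, he⟩ := h.sg_surjective l
    have he0 : e ≠ 0 := fun e0 => hl (by rw [← he, e0, sg_zero])
    refine ⟨N (Units.mk0 e he0), fun a b y hy => ?_⟩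
    rw [map_mul, map_mul, map_inv, hN, hy, h.dS_mul_uS, mul_inv_cancel_right, Units.val_mk0]
    congr 1
    · rw [he]
    · rw [← he, h.sg_sg]; ring
  have hmu : ∀ μ : F, ∃ l : F, sg m l * l = μ := h.sg_mul_self_surj
  have hcomC : ∀ a b b' : F, Commute (σ (L (0, b))) (σ (L (a, b'))) := fun a b b' => by
    rw [hL, hL]; exact h.uS_center_comm b a b'
  have hγ : ∀ b d : F, ⁅L (0, b), L (0, d)⁆ = 1 := by
    intro b d
    let γ : F → F → Γ := fun b d => ⁅L (0, b), L (0, d)⁆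
    have γr : ∀ b d d', γ b (d + d') = γ b d * γ b d' := fun b d d' => by
      show ⁅L (0, b), L (0, d + d')⁆ = _
      rw [commutator_congr hk rfl (show σ (L (0, d + d')) = σ (L (0, d) * L (0, d')) by
        rw [map_mul, hL, hL, hL, h.uS_mul, sg_zero, zero_mul, add_zero, add_zero]),
        commutator_mul_right hk (hcomC 0 b d')]
    have γs : ∀ b d, γ b d = (γ d b)⁻¹ := fun b d => (commutatorElement_inv (L (0, d)) (L (0, b))).symm
    have γinv : ∀ l : F, l ≠ 0 → ∀ b d, γ (sg m l * l * b) d = γ b ((sg m l * l)⁻¹ * d) := by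
      intro l hl b d
      obtain ⟨n, hn⟩ := hlam l hl
      have key : ∀ p q, γ (sg m l * l * p) (sg m l * l * q) = γ p q := fun p q =>
        commutator_conj hk (n := n) (hcomC 0 p q)
          (by rw [hL, ← map_inv, ← map_mul, ← map_mul, hn 0 p _ (hL _), mul_zero])
          (by rw [hL, ← map_inv, ← map_mul, ← map_mul, hn 0 q _ (hL _), mul_zero])
      rw [← key b ((sg m l * l)⁻¹ * d),
        mul_inv_cancel_left₀ (mul_ne_zero (mt sg_eq_zero.1 hl) hl)]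
    obtain ⟨l, hl⟩ := hmu x
    obtain ⟨l', hl'⟩ := hmu (x + 1)
    have hl0 : l ≠ 0 := fun e => hx0 (by rw [← hl, e, mul_zero])
    have hl0' : l' ≠ 0 := fun e => hx1 (by rw [← hl', e, mul_zero])
    have γl : ∀ b b' d, γ (b + b') d = γ b d * γ b' d := fun b b' d => by
      rw [γs, γr, γs b, γs b', ← mul_inv_rev]
      congr 1
      exact Subgroup.mem_center_iff.1 (central_of_commute hk (hcomC 0 d b')) _
    have hz0 : ∀ d, γ (0 : F) d = 1 := fun d => by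
      have := γl 0 0 d
      rw [add_zero] at this
      exact left_eq_mul.1 this
    have key : γ b ((x⁻¹ + 1 + (x + 1)⁻¹) * ((x⁻¹ + 1 + (x + 1)⁻¹)⁻¹ * d)) = 1 := by
      generalize (x⁻¹ + 1 + (x + 1)⁻¹)⁻¹ * d = d'
      rw [add_mul, add_mul, one_mul, γr, γr, ← hl', ← hl, ← γinv l' hl0', ← γinv l hl0,
        ← γl, ← γl, hl, hl', show x * b + b + (x + 1) * b = 0 by
          linear_combination ((x + 1) * b) * h.two0, hz0]
    rwa [mul_inv_cancel_left₀ hxl] at key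
  rintro w ⟨b, hb⟩ w' ⟨d, hd⟩
  refine commutatorElement_eq_one_iff_mul_comm.1 ?_
  rw [commutator_congr hk (hb.trans (hL (0, b)).symm) (hd.trans (hL (0, d)).symm)]
  exact hγ b d

/-- Every element of the centre of the root group lifts to an element of order at most two. -/
theorem exists_lift (hm : 1 ≤ m) : ∀ z ∈ unipCenter h, ∃ x : Γ, σ x = z ∧ x * x = 1 := by
  rintro z ⟨b, rfl⟩
  obtain ⟨μ₀, hμ0, hμ1⟩ := h.exists_ne01 hm
  have hne : μ₀ + 1 ≠ 0 := fun e => hμ1 (by linear_combination e - h.two0)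
  obtain ⟨l₀, hl₀⟩ := h.sg_mul_self_surj μ₀
  have hl00 : l₀ ≠ 0 := fun e => hμ0 (by rw [← hl₀, e, mul_zero])
  obtain ⟨e, he⟩ := h.sg_surjective l₀
  have he0 : e ≠ 0 := fun e0 => hl00 (by rw [← he, e0, sg_zero])
  obtain ⟨n, hn⟩ := hsurj (dS h (Units.mk0 e he0))
  obtain ⟨w, hw⟩ := hsurj (uS h 0 ((μ₀ + 1)⁻¹ * b))
  have hnw : σ (n * w * n⁻¹) = uS h 0 (μ₀ * ((μ₀ + 1)⁻¹ * b)) := by
    rw [map_mul, map_mul, map_inv, hn, hw, h.dS_mul_uS, mul_inv_cancel_right, Units.val_mk0]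
    congr 1
    · rw [mul_zero]
    · rw [← hl₀, ← he, h.sg_sg]; ring
  refine ⟨n * w * n⁻¹ * w⁻¹, ?_, ?_⟩
  · rw [map_mul, hnw, map_inv, hw, h.uS_inv, h.uS_mul, sg_zero]
    congr 1
    · ring
    · field_simp
      ring
  · have hwZ : w ∈ (unipCenter h).comap σ := ⟨_, hw⟩
    have hyZ : n * w * n⁻¹ ∈ (unipCenter h).comap σ := ⟨_, hnw⟩
    have hc : w⁻¹ * (n * w * n⁻¹) = (n * w * n⁻¹) * w⁻¹ :=
      centre_comm h σ hsurj hk hm _ (inv_mem hwZ) _ hyZ
    have hw2 : w * w ∈ Subgroup.center Γ := by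
      refine hk ?_
      rw [MonoidHom.mem_ker, map_mul, hw, h.uS_mul, sg_zero, zero_mul, add_zero, add_zero, h.add_self]
      exact h.uS_zero
    calc n * w * n⁻¹ * w⁻¹ * (n * w * n⁻¹ * w⁻¹)
        = n * w * n⁻¹ * (w⁻¹ * (n * w * n⁻¹)) * w⁻¹ := by group
      _ = n * w * n⁻¹ * (n * w * n⁻¹ * w⁻¹) * w⁻¹ := by rw [hc]
      _ = n * (w * w) * n⁻¹ * (w * w)⁻¹ := by group
      _ = 1 := by rw [Subgroup.mem_center_iff.1 hw2 n, mul_inv_cancel_right, mul_inv_cancel]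

/-- If the preimage of the centre is central in the preimage of the root group, its derived group
meets the kernel trivially. -/
theorem eq_one_of_central (hm : 1 ≤ m)
    (hZP : ∀ w ∈ (unipCenter h).comap σ, ∀ y ∈ (unip h).comap σ, w * y = y * w)
    {z : Γ} (hz : σ z = 1) (hzc : z ∈ ⁅(unip h).comap σ, (unip h).comap σ⁆) : z = 1 := by
  classical
  have hcent : ∀ w : Γ, σ w = 1 → ∀ g : Γ, g * w = w * g := fun w hw g =>
    Subgroup.mem_center_iff.1 (hk hw) g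
  choose L hL using fun p : F × F => hsurj (uS h p.1 p.2)
  choose N hN using fun e : Fˣ => hsurj (dS h e)
  obtain ⟨x, hx0, hx1, hxl⟩ := exists_scalar h σ hsurj hk hm
  have hlam : ∀ l : F, l ≠ 0 → ∃ n : Γ, (∃ e : Fˣ, σ n = dS h e) ∧ ∀ a b : F, ∀ y : Γ,
      σ y = uS h a b → σ (n * y * n⁻¹) = uS h (l * a) (sg m l * l * b) := by
    intro l hl
    obtain ⟨e, he⟩ := h.sg_surjective l
    have he0 : e ≠ 0 := fun e0 => hl (by rw [← he, e0, sg_zero])
    refine ⟨N (Units.mk0 e he0), ⟨_, hN _⟩, fun a b y hy => ?_⟩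
    rw [map_mul, map_mul, map_inv, hN, hy, h.dS_mul_uS, mul_inv_cancel_right, Units.val_mk0]
    congr 1
    · rw [he]
    · rw [← he, h.sg_sg]; ring
  have hmu : ∀ μ : F, ∃ l : F, sg m l * l = μ := h.sg_mul_self_surj
  let P := (unip h).comap σ
  let Z := (unipCenter h).comap σ
  have hcomP : ∀ x ∈ P, ∀ y ∈ P, ⁅x, y⁆ ∈ Z := by
    intro x hx y hy
    show σ ⁅x, y⁆ ∈ unipCenter h
    rw [map_commutatorElement]
    exact h.commutator_unip_le (Subgroup.commutator_mem_commutator hx hy)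
  have hZP' : Z ≤ P := by rintro w ⟨b, hb⟩; exact ⟨0, b, hb⟩
  -- a complement to the kernel in `Z`
  obtain ⟨μ₀, hμ0, hμ1⟩ := h.exists_ne01 hm
  obtain ⟨l₀, hl₀⟩ := hmu μ₀
  have hl00 : l₀ ≠ 0 := fun e => hμ0 (by rw [← hl₀, e, mul_zero])
  obtain ⟨n₀, ⟨e₀, he₀⟩, hn₀⟩ := hlam l₀ hl00
  have hn₀Z : ∀ w ∈ Z, n₀ * w * n₀⁻¹ ∈ Z := by
    rintro w ⟨b, hb⟩
    exact ⟨sg m l₀ * l₀ * b, by rw [hn₀ 0 b w hb, mul_zero]⟩
  let δ : Z →* Γ :=
    { toFun := fun w => n₀ * w.1 * n₀⁻¹ * w.1⁻¹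
      map_one' := by simp
      map_mul' := fun v w => by
        show n₀ * (v.1 * w.1) * n₀⁻¹ * (v.1 * w.1)⁻¹ =
          n₀ * v.1 * n₀⁻¹ * v.1⁻¹ * (n₀ * w.1 * n₀⁻¹ * w.1⁻¹)
        have c1 := hZP _ v.2 _ (hZP' (mul_mem (hn₀Z _ w.2) (inv_mem w.2)))
        calc n₀ * (v.1 * w.1) * n₀⁻¹ * (v.1 * w.1)⁻¹
            = n₀ * v.1 * n₀⁻¹ * (n₀ * w.1 * n₀⁻¹ * w.1⁻¹) * v.1⁻¹ := by group
          _ = n₀ * v.1 * n₀⁻¹ * (v.1⁻¹ * (v.1 * (n₀ * w.1 * n₀⁻¹ * w.1⁻¹))) * v.1⁻¹ := by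
              rw [inv_mul_cancel_left]
          _ = _ := by rw [c1]; group }
  let D := δ.range
  have hδσ : ∀ w : Z, ∀ b, σ w.1 = uS h 0 b → σ (δ w) = uS h 0 ((μ₀ + 1) * b) := by
    intro w b hb
    show σ (n₀ * w.1 * n₀⁻¹ * w.1⁻¹) = _
    rw [map_mul, hn₀ 0 b w.1 hb, map_inv, hb, h.uS_inv, mul_zero, h.uS_mul, hl₀, sg_zero]
    congr 1 <;> ring
  have hDker : ∀ d ∈ D, σ d = 1 → d = 1 := by
    rintro _ ⟨w, rfl⟩ hd
    obtain ⟨b, hb⟩ := w.2
    rw [hδσ w b hb, ← h.uS_zero] at hd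
    have h2 := (h.uS_coords_inj hd).2
    have hne : μ₀ + 1 ≠ 0 := fun e => hμ1 (by linear_combination e - h.two0)
    have hb0 : b = 0 := (mul_eq_zero.1 h2).resolve_left hne
    show n₀ * w.1 * n₀⁻¹ * w.1⁻¹ = 1
    have hw : σ w.1 = 1 := by rw [hb, hb0, h.uS_zero]
    rw [hcent _ hw n₀, mul_inv_cancel_right, mul_inv_cancel]
  have hDex : ∀ b, ∃ d ∈ D, σ d = uS h 0 b := by
    intro b
    have hne : μ₀ + 1 ≠ 0 := fun e => hμ1 (by linear_combination e - h.two0)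
    refine ⟨δ ⟨L (0, (μ₀ + 1)⁻¹ * b), ⟨_, hL _⟩⟩, ⟨_, rfl⟩, ?_⟩
    rw [hδσ _ _ (hL _), mul_inv_cancel_left₀ hne]
  choose M hMD hMσ using hDex
  have hMuniq : ∀ b, ∀ d ∈ D, σ d = uS h 0 b → d = M b := by
    intro b d hd hs
    have := hDker (d * (M b)⁻¹) (mul_mem hd (inv_mem (hMD b))) (by rw [map_mul, map_inv, hs, hMσ, mul_inv_cancel])
    exact mul_inv_eq_one.1 this
  have hMadd : ∀ b b', M (b + b') = M b * M b' := fun b b' =>
    (hMuniq _ _ (mul_mem (hMD b) (hMD b')) (by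
      rw [map_mul, hMσ, hMσ, h.uS_mul, sg_zero, zero_mul, add_zero, add_zero])).symm
  -- invariance of the complement
  have hDconj : ∀ l : F, l ≠ 0 → ∃ n : Γ, (∀ a b : F, ∀ y : Γ, σ y = uS h a b →
      σ (n * y * n⁻¹) = uS h (l * a) (sg m l * l * b)) ∧ ∀ d ∈ D, n * d * n⁻¹ ∈ D := by
    intro l hl
    obtain ⟨n, ⟨e, he⟩, hn⟩ := hlam l hl
    refine ⟨n, hn, ?_⟩
    rintro _ ⟨w, rfl⟩
    obtain ⟨b, hb⟩ := w.2
    refine ⟨⟨n * w.1 * n⁻¹, ⟨sg m l * l * b, by rw [hn 0 b w.1 hb, mul_zero]⟩⟩, ?_⟩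
    show n₀ * (n * w.1 * n⁻¹) * n₀⁻¹ * (n * w.1 * n⁻¹)⁻¹ = n * (n₀ * w.1 * n₀⁻¹ * w.1⁻¹) * n⁻¹
    have hcen : (n * n₀)⁻¹ * (n₀ * n) ∈ Subgroup.center Γ :=
      hk (by rw [MonoidHom.mem_ker, map_mul, map_inv, map_mul, map_mul, he, he₀, ← map_mul (dS h),
        ← map_mul (dS h), mul_comm e₀ e, inv_mul_cancel])
    have e1 := Subgroup.mem_center_iff.1 hcen w.1
    have hnn : n₀ * (n * w.1 * n⁻¹) * n₀⁻¹ = n * (n₀ * w.1 * n₀⁻¹) * n⁻¹ := by
      calc n₀ * (n * w.1 * n⁻¹) * n₀⁻¹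
          = (n * n₀) * ((n * n₀)⁻¹ * (n₀ * n) * w.1) * (n₀ * n)⁻¹ := by group
        _ = (n * n₀) * (w.1 * ((n * n₀)⁻¹ * (n₀ * n))) * (n₀ * n)⁻¹ := by rw [e1]
        _ = _ := by group
    rw [hnn]; group
  -- the commutator pairing of the root group
  let γ : F → F → Γ := fun a a' => ⁅L (a, 0), L (a', 0)⁆ * (M (kap m a a'))⁻¹
  have hγker : ∀ a a', σ (γ a a') = 1 := fun a a' => by
    rw [map_mul, map_inv, map_commutatorElement, hL, hL, hMσ, h.commElem_uS, kap, mul_inv_cancel]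
  have hLP : ∀ p, L p ∈ P := fun p => ⟨p.1, p.2, hL p⟩
  have hmulr : ∀ u ∈ P, ∀ v ∈ P, ∀ w ∈ P, ⁅u, v * w⁆ = ⁅u, v⁆ * ⁅u, w⁆ := by
    intro u hu v hv w hw
    have hc := hZP _ (hcomP u hu w hw) v hv
    rw [commutatorElement_mul_right_eq_mul_conj, mul_assoc ⁅u, v⁆, ← hc, mul_assoc, mul_assoc,
      mul_inv_cancel, mul_one]
  have hZcomm : ∀ u ∈ P, ∀ w ∈ Z, ⁅u, w⁆ = 1 := fun u hu w hw =>
    commutatorElement_eq_one_iff_mul_comm.2 (hZP w hw u hu).symm
  have γ_addr : ∀ a a' a'', γ a (a' + a'') = γ a a' * γ a a'' := by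
    intro a a' a''
    have e1 : σ (L (a' + a'', 0)) = σ (L (a', 0) * L (a'', 0) * L (0, sg m a' * a'')) := by
      rw [map_mul, map_mul, hL, hL, hL, hL, h.uS_mul, h.uS_mul]
      congr 1
      · ring
      · rw [h.sg_add]
        linear_combination -(sg m a' * a'') * h.two0
    show ⁅L (a, 0), L (a' + a'', 0)⁆ * (M (kap m a (a' + a'')))⁻¹ = _
    rw [commutator_congr hk rfl e1, hmulr _ (hLP _) _ (mul_mem (hLP _) (hLP _)) _ (hLP _),
      hmulr _ (hLP _) _ (hLP _) _ (hLP _), hZcomm _ (hLP _) _ ⟨_, hL (0, sg m a' * a'')⟩, mul_one,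
      kap_add h, hMadd, mul_inv_rev]
    have hc := hcent _ (hγker a a'') ((M (kap m a a'))⁻¹)
    show _ = ⁅L (a, 0), L (a', 0)⁆ * (M (kap m a a'))⁻¹ * γ a a''
    rw [mul_assoc ⁅L (a, 0), L (a', 0)⁆ (M (kap m a a'))⁻¹ (γ a a''), hc]
    show _ = ⁅L (a, 0), L (a', 0)⁆ * (⁅L (a, 0), L (a'', 0)⁆ * (M (kap m a a''))⁻¹ * (M (kap m a a'))⁻¹)
    group
  have γ_swap : ∀ a a', γ a' a = (γ a a')⁻¹ := by
    intro a a'
    show ⁅L (a', 0), L (a, 0)⁆ * (M (kap m a' a))⁻¹ = (⁅L (a, 0), L (a', 0)⁆ * (M (kap m a a'))⁻¹)⁻¹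
    have hkk : M (kap m a a') * M (kap m a a') = 1 := by
      rw [← hMadd, h.add_self]
      exact (hMuniq 0 1 (one_mem D) (by rw [map_one, h.uS_zero])).symm
    have hc := hcent _ (hγker a a') (M (kap m a a'))
    simp only [γ] at hc
    rw [← commutatorElement_inv (L (a, 0)) (L (a', 0)), kap, add_comm, ← kap, mul_inv_rev, inv_inv,
      eq_comm, inv_eq_of_mul_eq_one_left hkk]
    have hcm : M (kap m a a') * ⁅L (a, 0), L (a', 0)⁆ = ⁅L (a, 0), L (a', 0)⁆ * M (kap m a a') := by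
      rw [← mul_assoc] at hc
      rw [inv_eq_of_mul_eq_one_left hkk] at hc
      have := congrArg (· * M (kap m a a')) hc
      simpa [mul_assoc, hkk] using this
    calc M (kap m a a') * ⁅L (a, 0), L (a', 0)⁆⁻¹
        = ⁅L (a, 0), L (a', 0)⁆⁻¹ * (⁅L (a, 0), L (a', 0)⁆ * M (kap m a a')) * ⁅L (a, 0), L (a', 0)⁆⁻¹ := by group
      _ = _ := by rw [← hcm]; group
  have γ_inv : ∀ l : F, l ≠ 0 → ∀ a a', γ (l * a) a' = γ a (l⁻¹ * a') := by
    intro l hl a a'
    obtain ⟨n, hn, hnD⟩ := hDconj l hl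
    have key : ∀ p q, γ (l * p) (l * q) = γ p q := by
      intro p q
      have e1 : n * M (kap m p q) * n⁻¹ = M (kap m (l * p) (l * q)) :=
        hMuniq _ _ (hnD _ (hMD _)) (by rw [hn 0 _ _ (hMσ _), mul_zero, kap_scale])
      have e2 : ⁅L (l * p, 0), L (l * q, 0)⁆ = n * ⁅L (p, 0), L (q, 0)⁆ * n⁻¹ := by
        rw [conjugate_commutatorElement, commutator_congr hk
          (show σ (L (l * p, 0)) = σ (n * L (p, 0) * n⁻¹) by rw [hn p 0 _ (hL _), hL, mul_zero])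
          (show σ (L (l * q, 0)) = σ (n * L (q, 0) * n⁻¹) by rw [hn q 0 _ (hL _), hL, mul_zero])]
      show ⁅L (l * p, 0), L (l * q, 0)⁆ * (M (kap m (l * p) (l * q)))⁻¹ = γ p q
      rw [← e1, e2, show n * ⁅L (p, 0), L (q, 0)⁆ * n⁻¹ * (n * M (kap m p q) * n⁻¹)⁻¹ = n * γ p q * n⁻¹ by
        simp only [γ]; group, hcent _ (hγker p q) n, mul_inv_cancel_right]
    rw [← key a (l⁻¹ * a'), mul_inv_cancel_left₀ hl]
  have γ_addl : ∀ a a' c, γ (a + a') c = γ a c * γ a' c := fun a a' c => by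
    rw [γ_swap, γ_addr, γ_swap c a, γ_swap c a', ← mul_inv_rev]
    congr 1
    exact (hcent _ (hγker c a) _).symm
  have γ_triv : ∀ a a', γ a a' = 1 := by
    intro a a'
    have hz0 : ∀ c, γ (0 : F) c = 1 := fun c => by
      have := γ_addl 0 0 c
      rw [add_zero] at this
      exact left_eq_mul.1 this
    have key : γ a ((x⁻¹ + 1 + (x + 1)⁻¹) * ((x⁻¹ + 1 + (x + 1)⁻¹)⁻¹ * a')) = 1 := by
      generalize (x⁻¹ + 1 + (x + 1)⁻¹)⁻¹ * a' = d'
      rw [add_mul, add_mul, one_mul, γ_addr, γ_addr, ← γ_inv (x + 1) hx1, ← γ_inv x hx0,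
        ← γ_addl, ← γ_addl, show x * a + a + (x + 1) * a = 0 by
          linear_combination ((x + 1) * a) * h.two0, hz0]
    rwa [mul_inv_cancel_left₀ hxl] at key
  -- so the derived group of `P` lies in the complement
  have hle : ⁅P, P⁆ ≤ D := by
    refine Subgroup.commutator_le.2 fun u hu v hv => ?_
    obtain ⟨a, b, hu'⟩ := hu
    obtain ⟨a', b', hv'⟩ := hv
    have hu2 : σ u = σ (L (a, 0) * L (0, b)) := by
      rw [hu', map_mul, hL, hL, h.uS_mul, mul_zero, add_zero, add_zero, zero_add]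
    have hv2 : σ v = σ (L (a', 0) * L (0, b')) := by
      rw [hv', map_mul, hL, hL, h.uS_mul, mul_zero, add_zero, add_zero, zero_add]
    have hZb : ∀ c, L (0, c) ∈ Z := fun c => ⟨c, hL _⟩
    rw [commutator_congr hk hu2 hv2, hmulr _ (mul_mem (hLP _) (hLP _)) _ (hLP _) _ (hLP _),
      hZcomm _ (mul_mem (hLP _) (hLP _)) _ (hZb b'), mul_one, ← commutatorElement_inv,
      hmulr _ (hLP _) _ (hLP _) _ (hLP _), hZcomm _ (hLP _) _ (hZb b), mul_one, commutatorElement_inv]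
    rw [mul_inv_eq_one.1 (γ_triv a a')]
    exact hMD _
  exact hDker z (hle hzc) hz

omit h hsurj hk

/-- An isomorphism with the model carrying a given Sylow subgroup onto the root group. -/
theorem exists_model (L : Type v) [Group L] [Finite L] (hL : Cfsg.Lie.IsoSuzuki L) (P : Sylow 2 L) :
    ∃ (F : Type) (_ : Field F) (_ : Fintype F) (m : ℕ) (h : IsSzField F m) (e : L ≃* Cfsg.Sz F m),
      1 ≤ m ∧ ∀ x : L, x ∈ (P : Subgroup L) ↔ e x ∈ unip h := by
  classical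
  haveI : Fact (Nat.Prime 2) := ⟨Nat.prime_two⟩
  obtain ⟨F, _, _, m, hm, hF, ⟨e₁⟩⟩ := hL
  have h : IsSzField F m := ⟨hF⟩
  haveI : Finite (Cfsg.Sz F m) := inferInstance
  let e₀ : L ≃* Cfsg.Sz F m := e₁.trans (szEquiv h hm).symm
  have hp : IsPGroup 2 ((P : Subgroup L).map e₀.toMonoidHom) := P.2.map _
  have hi : ¬ 2 ∣ ((P : Subgroup L).map e₀.toMonoidHom).index := by
    rw [Subgroup.index_map_of_bijective (f := e₀.toMonoidHom) e₀.bijective]
    exact P.not_dvd_index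
  obtain ⟨g, hg⟩ := h.conj_sylow hm (hp.toSylow hi)
  have hg' : (P : Subgroup L).map e₀.toMonoidHom = (unip h).map (MulAut.conj g).toMonoidHom := hg
  have key : ∀ x : L, x ∈ (P : Subgroup L) ↔ g⁻¹ * e₀ x * g ∈ unip h := by
    intro x
    constructor
    · intro hx
      have h1 : e₀ x ∈ (P : Subgroup L).map e₀.toMonoidHom := Subgroup.mem_map.2 ⟨x, hx, rfl⟩
      rw [hg'] at h1
      obtain ⟨y, hy, hy'⟩ := Subgroup.mem_map.1 h1
      rw [MulEquiv.coe_toMonoidHom, MulAut.conj_apply] at hy'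
      rw [← hy']
      rw [show g⁻¹ * (g * y * g⁻¹) * g = y by group]
      exact hy
    · intro hx
      have h1 : e₀ x ∈ (unip h).map (MulAut.conj g).toMonoidHom := Subgroup.mem_map.2 ⟨_, hx, by
        rw [MulEquiv.coe_toMonoidHom, MulAut.conj_apply]; group⟩
      rw [← hg'] at h1
      obtain ⟨y, hy, hy'⟩ := Subgroup.mem_map.1 h1
      rw [MulEquiv.coe_toMonoidHom] at hy'
      rwa [← e₀.injective hy']
  refine ⟨F, inferInstance, inferInstance, m, h, e₀.trans (MulAut.conj g).symm, hm, fun x => ?_⟩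
  rw [key x]
  show _ ↔ (MulAut.conj g).symm (e₀ x) ∈ unip h
  rw [MulAut.conj_symm_apply]

/-- The involutions of the root group are central in it. -/
theorem mem_unipCenter_of_sq {h : IsSzField F m} {x : Cfsg.Sz F m} (hx : x ∈ unip h)
    (hx2 : x * x = 1) : x ∈ unipCenter h := by
  obtain ⟨a, b, rfl⟩ := hx
  rw [← pow_two, h.uS_sq, ← h.uS_zero] at hx2
  have h0 := (h.uS_coords_inj hx2).2
  have ha : a = 0 := by
    rcases mul_eq_zero.1 h0 with h1 | h1
    · exact sg_eq_zero.1 h1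
    · exact h1
  exact ⟨b, by rw [ha]⟩

/-- Composing with an isomorphism keeps the kernel. -/
theorem ker_comp {A B C : Type*} [Group A] [Group B] [Group C] (e : B ≃* C) (σ : A →* B) :
    (e.toMonoidHom.comp σ).ker = σ.ker := by
  ext a; simp [MonoidHom.mem_ker]

/-- The support statement `SzExtInvol`. -/
theorem szExtInvol : SzExtInvol.{v} := by
  intro L _ _ hL P Γ _ _ σ hs hk _ _ z hz hz2
  obtain ⟨F, _, _, m, h, e, hm, he⟩ := exists_model L hL P
  obtain ⟨x, hx, hx2⟩ := exists_lift h (e.toMonoidHom.comp σ) (e.surjective.comp hs)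
    (by rwa [ker_comp]) hm (e z)
    (mem_unipCenter_of_sq ((he z).1 hz) (by rw [← map_mul, hz2, map_one]))
  exact ⟨x, e.injective hx, hx2⟩

/-- The support statement `SzExtTrivial`. -/
theorem szExtTrivial : SzExtTrivial.{v} := by
  intro L _ _ hL P Γ _ _ σ hs hk hp hperf hcomm
  haveI : Fact (Nat.Prime 2) := ⟨Nat.prime_two⟩
  obtain ⟨F, _, _, m, h, e, hm, he⟩ := exists_model L hL P
  by_contra hne
  have hcard : Nat.card σ.ker ≠ 1 := fun hc => hne (Subgroup.card_eq_one.1 hc)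
  obtain ⟨n, hn⟩ := hp.exists_card_eq
  obtain ⟨w, hw⟩ := exists_prime_orderOf_dvd_card' (G := σ.ker) 2 (by
    rcases n with _ | n
    · exact absurd (by rw [hn, pow_zero]) hcard
    · rw [hn, pow_succ]; exact dvd_mul_left 2 _)
  have hker : (e.toMonoidHom.comp σ).ker = σ.ker := ker_comp e σ
  have hstem : Cfsg.IsStemExtension (e.toMonoidHom.comp σ) :=
    ⟨e.surjective.comp hs, by rwa [hker], by rw [hperf]; exact le_top⟩
  have hwp : (w : Γ) ^ 2 = 1 := by rw [← Subgroup.coe_pow, ← hw, pow_orderOf_eq_one, Subgroup.coe_one]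
  have hw1 : (w : Γ) = 1 := by
    refine eq_one_of_central h (e.toMonoidHom.comp σ) (e.surjective.comp hs) (by rwa [hker]) hm ?_ ?_
      (mem_commutator_comap hstem (by rw [hker]; exact w.2) Nat.prime_two hwp _ (h.index_odd hm))
    · rintro a ⟨b, hb⟩ y hy
      have hb' : e (σ a) = uS h 0 b := hb
      refine hcomm a y ((he _).2 (by rw [hb']; exact h.uS_mem 0 b)) ?_ ((he _).2 hy)
      apply e.injective
      rw [map_mul, hb', map_one, h.uS_mul, sg_zero, zero_mul, add_zero, add_zero, h.add_self]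
      exact h.uS_zero
    · show e (σ w) = 1
      rw [MonoidHom.mem_ker.1 w.2, map_one]
  have : orderOf w = 1 := orderOf_eq_one_iff.2 (Subtype.ext hw1)
  omega

end Cfsg.Agent.Lib.Thompson3Prime33
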