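import Cfsg.Agent.Lib.Thompson3Prime33.FinalBigCent
import Cfsg.Agent.Lib.NumberTheory.Zsigmondy

/-!
# The part centralising the component has at most two elements

Otherwise the number of Sylow subgroups for a primitive prime divisor of `q^4 - 1` is not congruent to one.

Owner: helper61.
-/

set_option autoImplicit false
set_option linter.style.haveILetI false
set_option linter.unusedSectionVars false
set_option linter.unusedVariables false

namespace Cfsg.Agent.Lib.Thompson3Prime33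

universe u

variable {G : Type u} [Group G] [Finite G] {T : Sylow 2 G} {A M : Subgroup G} {q : ℕ} {u : G}
  {R : Subgroup G} {L : Subgroup (CQ u)} {Z : Subgroup (↥L ⧸ Subgroup.center ↥L)}
  {τ : ↥L ⧸ Subgroup.center ↥L} {H : Subgroup (NX A)} {σ : NX A}

/-- A primitive prime divisor of `q^4 - 1`. -/
theorem exists_primitive_four {m : ℕ} (hm : 1 ≤ m) : ∃ p : ℕ, p.Prime ∧
    p ∣ (2 ^ (2 * m + 1)) ^ 2 + 1 ∧ p ≠ 2 ∧ p ≠ 5 ∧ ¬ p ∣ 2 ^ (2 * m + 1) - 1 ∧ 2 * m + 1 < p := by
  obtain ⟨p, hp, hpo⟩ := NumberTheory.exists_primitive_prime (q := 2) (n := 4 * (2 * m + 1)) le_rfl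
    (by omega) (by omega) (by omega)
  haveI := Fact.mk hp
  have ho : orderOf (2 : ZMod p) = 4 * (2 * m + 1) := by simpa using hpo
  have hne : (2 : ZMod p) ≠ 0 := fun e => by rw [e, orderOf_zero] at ho; omega
  have hlt : 4 * (2 * m + 1) < p := by
    have h1 := Nat.le_of_dvd (by have := hp.two_le; omega) (ZMod.orderOf_dvd_card_sub_one hne)
    have := hp.two_le
    omega
  refine ⟨p, hp, ?_, by omega, by omega, fun hd => ?_, by omega⟩
  · rw [← ZMod.natCast_eq_zero_iff]
    push_cast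
    have h1 : ((2 : ZMod p) ^ ((2 * m + 1) * 2)) ^ 2 = 1 := by
      rw [← pow_mul, show (2 * m + 1) * 2 * 2 = orderOf (2 : ZMod p) by rw [ho]; ring, pow_orderOf_eq_one]
    rcases sq_eq_one_iff.1 h1 with e | e
    · have := Nat.le_of_dvd (by omega) (orderOf_dvd_of_pow_eq_one e)
      omega
    · rw [← pow_mul, e, neg_add_cancel]
  · rw [← ZMod.natCast_eq_zero_iff, Nat.cast_sub Nat.one_le_two_pow, sub_eq_zero] at hd
    push_cast at hd
    have := Nat.le_of_dvd (by omega) (orderOf_dvd_of_pow_eq_one hd)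
    omega

namespace Semi

/-- An element of prime order greater than `n` in `H` would be a power of `σ`. -/
theorem not_dvd_card (e : Stable T A M q u R L Z τ H σ) {m p : ℕ} (hq : q = 2 ^ (2 * m + 1))
    (hp : p.Prime) (hlt : 2 * m + 1 < p) (hd : ¬ p ∣ q - 1) : ¬ p ∣ Nat.card H := by
  intro hpH
  haveI := Fact.mk hp
  obtain ⟨⟨k, hk⟩, hko⟩ := exists_prime_orderOf_dvd_card' (G := H) p hpH
  rw [Subgroup.orderOf_mk] at hko
  have eb := e.toSemi.base
  have hkS := e.stab hk
  obtain ⟨i, hi⟩ := e.toSemi.semi k hk hkS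
  have hiter : ∀ j : ℕ, k ^ j * σ * (k ^ j)⁻¹ = σ ^ 2 ^ (i * j) := by
    intro j
    induction j with
    | zero => simp
    | succ j ih =>
      calc k ^ (j + 1) * σ * (k ^ (j + 1))⁻¹ = k * (k ^ j * σ * (k ^ j)⁻¹) * k⁻¹ := by
            rw [pow_succ']; group
        _ = (k * σ * k⁻¹) ^ 2 ^ (i * j) := by rw [ih, conj_pow]
        _ = _ := by rw [hi, ← pow_mul, ← pow_add]; congr 2; ring
  have h1 : σ ^ 1 = σ ^ 2 ^ (i * p) := by
    rw [← hiter p, ← hko, pow_orderOf_eq_one, pow_one, one_mul, inv_one, mul_one]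
  have hn : 2 * m + 1 ∣ i := by
    have h2 := pow_eq_pow_iff_modEq.1 h1
    rw [eb.orderOf_eq, hq, Nat.modEq_iff_dvd' Nat.one_le_two_pow] at h2
    have h3 : Nat.gcd (2 ^ (2 * m + 1) - 1) (2 ^ (i * p) - 1) = 2 ^ (2 * m + 1) - 1 :=
      Nat.gcd_eq_left h2
    rw [Nat.pow_sub_one_gcd_pow_sub_one] at h3
    have h4 : Nat.gcd (2 * m + 1) (i * p) = 2 * m + 1 := Nat.pow_right_injective le_rfl
      (by have := Nat.one_le_two_pow (n := Nat.gcd (2 * m + 1) (i * p))
          have := Nat.one_le_two_pow (n := 2 * m + 1)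
          show 2 ^ Nat.gcd (2 * m + 1) (i * p) = 2 ^ (2 * m + 1)
          omega)
    have hco : (2 * m + 1).Coprime p := (hp.coprime_iff_not_dvd.2 fun hd' => by
      have := Nat.le_of_dvd (by omega) hd'
      omega).symm
    exact hco.dvd_of_dvd_mul_right (h4 ▸ Nat.gcd_dvd_right _ _)
  have hcomm : k * σ * k⁻¹ = σ := by
    obtain ⟨c, rfl⟩ := hn
    rw [hi]
    conv_rhs => rw [← pow_one σ]
    refine pow_eq_pow_iff_modEq.2 ?_
    rw [eb.orderOf_eq, hq]
    have hmod : 2 ^ (2 * m + 1) ≡ 1 [MOD 2 ^ (2 * m + 1) - 1] :=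
      ((Nat.modEq_iff_dvd' Nat.one_le_two_pow).2 dvd_rfl).symm
    have := hmod.pow c
    rwa [one_pow, ← pow_mul] at this
  have hc := eb.top.counted
  obtain ⟨a, ha, ha1⟩ := A.bot_or_exists_ne_one.resolve_left hc.closed.ne_bot
  obtain ⟨n, rfl⟩ := nx_surjective A k
  have hb : (n : G) * a * (n : G)⁻¹ ∈ A := normalizer_conj n.2 ha
  obtain ⟨j, hj⟩ := eb.trans_A ha ha1 hb (fun e' => ha1 (conj_eq_one_iff.1 e'))
  set a' := nx A ⟨a, Subgroup.le_normalizer ha⟩ with ha'
  have hconj : nx A n * a' * (nx A n)⁻¹ = σ ^ j * a' * (σ ^ j)⁻¹ := by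
    rw [hj, ha', ← map_inv, ← map_mul, ← map_mul]
    rfl
  set w := (σ ^ j)⁻¹ * nx A n with hw
  have hwa : Commute w a' := commute_of_conj_eq (by
    calc (σ ^ j)⁻¹ * nx A n * a' * ((σ ^ j)⁻¹ * nx A n)⁻¹
        = (σ ^ j)⁻¹ * (nx A n * a' * (nx A n)⁻¹) * σ ^ j := by group
      _ = a' := by rw [hconj]; group)
  have hwσ : Commute w σ :=
    ((Commute.pow_self σ j).inv_left).mul_left (commute_of_conj_eq hcomm)
  have hSn : σ ∈ Subgroup.normalizer (nimg A eb.top.data.sPart : Set (NX A)) :=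
    Subgroup.centralizer_le_normalizer _ (Subgroup.mem_centralizer_iff.2 fun s hs => (eb.comm_sPart hs).symm)
  have hw1 : w = 1 := by
    refine e.toSemi.kernel w (mul_mem (inv_mem (pow_mem eb.mem j)) hk)
      (mul_mem (inv_mem (pow_mem hSn j)) hkS) (Subgroup.mem_centralizer_iff.2 ?_)
    rintro _ ⟨x, hx, rfl⟩
    by_cases hx1 : (x : G) = 1
    · rw [show x = 1 from Subtype.ext hx1, map_one, one_mul, mul_one]
    · obtain ⟨i', hi'⟩ := eb.trans_A ha ha1 hx hx1
      have hi'' : σ ^ i' * a' * (σ ^ i')⁻¹ = nx A x := hi'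
      rw [← hi'']
      exact (((hwσ.pow_right i').mul_right hwa).mul_right (hwσ.pow_right i').inv_right).eq.symm
  rw [hw, inv_mul_eq_one] at hw1
  refine hd ?_
  rw [← hko, ← hw1]
  exact orderOf_dvd_of_pow_eq_one (by rw [← pow_mul, mul_comm, pow_mul, eb.pow, one_pow])

end Semi

/-- `S` has at most two elements. -/
theorem Stable.false_of_big (e : Stable T A M q u R L Z τ H σ)
    (hr : 2 < Nat.card e.toSemi.base.top.data.sPart) : False := by
  classical
  haveI : Fact (Nat.Prime 2) := ⟨Nat.prime_two⟩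
  have eb := e.toSemi.base
  have h := eb.top
  have hc := h.counted
  have hW := h.wcl_eq_bot hr
  have hinj := h.nx_injective hW
  have hTA := eb.tower.T_le
  set NA := Subgroup.normalizer (A : Set G) with hNA
  set NL := Subgroup.normalizer (lift u L : Set G)
  set N₁ := NA ⊓ NL
  -- the elements of `H` normalise the component
  have hsplit : ∀ g ∈ NA, ∃ d ∈ (T : Subgroup G), ∃ i ∈ N₁, g = d * i := by
    intro g hg
    obtain ⟨_, ⟨d, hd, rfl⟩, k, hk, hx⟩ := eb.mul (nx A ⟨g, hg⟩)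
    obtain ⟨n, rfl⟩ := nx_surjective A k
    refine ⟨d, hd, n, ⟨n.2, h.normalizes_lift_A hW n.2 fun s hs => ?_⟩, ?_⟩
    · have hsN : s ∈ NA := h.data.R_le_normalizer hs.1
      obtain ⟨s', hs', he⟩ := normalizer_conj (e.stab hk)
        (show nx A ⟨s, hsN⟩ ∈ nimg A h.data.sPart from ⟨⟨s, hsN⟩, hs, rfl⟩)
      rw [← map_inv, ← map_mul, ← map_mul] at he
      have he' : (s' : G) = (n : G) * s * (n : G)⁻¹ := congrArg Subtype.val (hinj he)
      exact he' ▸ hs'
    · rw [← map_mul] at hx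
      exact congrArg Subtype.val (hinj hx)
  have hNR : R ≤ N₁ := le_inf h.data.R_le_normalizer ((h.inf_normalizer_lift hW).ge.trans inf_le_right)
  have hrelA : N₁.relIndex NA = q := by
    rw [relIndex_eq_of_mul inf_le_left hTA hsplit, ← h.relIndex_T, ← Subgroup.inf_relIndex_right N₁,
      show N₁ ⊓ (T : Subgroup G) = R from le_antisymm
        (fun x hx => (h.inf_normalizer_lift hW).le ⟨hx.2, hx.1.2⟩) (le_inf hNR h.trans.le)]
  have hrelL : N₁.relIndex NL = q ^ 2 + 1 := by
    rw [relIndex_eq_of_mul inf_le_right Subgroup.le_normalizer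
      (fun g hg => h.exists_normalizer_mul hW hg)]
    exact h.relIndex_lift hW
  -- the index of the normaliser of the component
  have hq8 := hc.eight_le
  set X := NL.index
  have hX : X = q * (q * q * q + 1 - q ^ 2) := by
    have h1 := Subgroup.relIndex_mul_index (inf_le_left : N₁ ≤ NA)
    have h2 := Subgroup.relIndex_mul_index (inf_le_right : N₁ ≤ NL)
    rw [hrelA] at h1
    rw [hrelL, ← h1] at h2
    have h3 := hc.index
    rw [h.M_eq hW] at h3
    change NA.index + _ = _ at h3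
    have hle : q ^ 2 ≤ q * q * q := by rw [pow_two]; exact Nat.le_mul_of_pos_right _ (by omega)
    have h4 : NA.index = (q ^ 2 + 1) * (q * q * q + 1 - q ^ 2) := by
      rw [show q * q * q = q ^ 3 by ring, Nat.mul_sub]
      omega
    rw [h4] at h2
    refine Nat.eq_of_mul_eq_mul_left (show 0 < q ^ 2 + 1 by omega) ?_
    rw [h2]
    ring
  obtain ⟨m, hm, hq⟩ := hc.q_eq
  obtain ⟨p, hp, hpd, hp2, hp5, hpq1, hlt⟩ := exists_primitive_four hm
  haveI := Fact.mk hp
  rw [← hq] at hpd hpq1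
  have hpq : ¬ p ∣ q := fun hd => hp2 ((Nat.prime_dvd_prime_iff_eq hp Nat.prime_two).1
    (hp.dvd_of_dvd_pow (hq ▸ hd)))
  have hzq : (q : ZMod p) ^ 2 = -1 := by
    rw [← ZMod.natCast_eq_zero_iff] at hpd
    push_cast at hpd
    exact eq_neg_of_add_eq_zero_left hpd
  have hXp : (X : ZMod p) = 1 + 2 * (q : ZMod p) := by
    rw [hX, Nat.cast_mul, Nat.cast_sub (by
      rw [pow_two]; exact le_trans (Nat.le_mul_of_pos_right _ (by omega)) (Nat.le_succ _))]
    push_cast
    linear_combination ((q : ZMod p) ^ 2 - (q : ZMod p) - 1) * hzq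
  have hpX : ¬ p ∣ X := by
    intro hd
    rw [← ZMod.natCast_eq_zero_iff, hXp] at hd
    have h5 : ((5 : ℕ) : ZMod p) = 0 := by
      push_cast
      linear_combination (1 - 2 * (q : ZMod p)) * hd + 4 * hzq
    exact hp5 ((Nat.prime_dvd_prime_iff_eq hp (by norm_num : Nat.Prime 5)).1
      ((ZMod.natCast_eq_zero_iff 5 p).1 h5))
  -- the two-part and the `p`-part of the normaliser
  have hcardA : Nat.card N₁ * q = Nat.card NA := by
    rw [← hrelA, Subgroup.relIndex, ← Nat.card_congr (Subgroup.subgroupOfEquivOfLe (inf_le_left : N₁ ≤ NA)).toEquiv,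
      Subgroup.card_mul_index]
  have hcardL : Nat.card N₁ * (q ^ 2 + 1) = Nat.card NL := by
    rw [← hrelL, Subgroup.relIndex, ← Nat.card_congr (Subgroup.subgroupOfEquivOfLe (inf_le_right : N₁ ≤ NL)).toEquiv,
      Subgroup.card_mul_index]
  have hq0 : q ≠ 0 := by omega
  have ho1 : ¬ 2 ∣ q ^ 2 + 1 := fun hd => by
    have := (Nat.dvd_add_right (dvd_pow (hq ▸ dvd_pow_self 2 (by omega) : 2 ∣ q) two_ne_zero)).1 hd
    omega
  have hRN : CosetGraph.SylowIn.IsSylowIn 2 R NL := by
    refine ⟨hNR.trans inf_le_right, ?_⟩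
    have h1 : CosetGraph.SylowIn.IsSylowIn 2 (T : Subgroup G) NA := ⟨hTA, by
      rw [T.card_eq_multiplicity]
      exact le_antisymm (Nat.le_of_dvd (by positivity) (by
          have := Subgroup.card_dvd_of_le hTA
          rw [T.card_eq_multiplicity] at this
          exact Nat.pow_dvd_pow 2 ((Nat.Prime.pow_dvd_iff_le_factorization Nat.prime_two Nat.card_pos.ne').1 this)))
        (Nat.le_of_dvd (by positivity)
          (Nat.ordProj_dvd_ordProj_of_dvd Nat.card_pos.ne' NA.card_subgroup_dvd_card 2))⟩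
    have h2 := h1.card_eq
    rw [h.trans.card, ← hcardA, Nat.factorization_mul Nat.card_pos.ne' hq0, Finsupp.add_apply, pow_add,
      hq, Nat.Prime.factorization_pow Nat.prime_two, Finsupp.single_eq_same, mul_comm] at h2
    rw [← hcardL, Nat.factorization_mul Nat.card_pos.ne' (by omega), Finsupp.add_apply,
      Nat.factorization_eq_zero_of_not_dvd ho1, add_zero]
    exact Nat.eq_of_mul_eq_mul_right (by positivity) h2
  have hpN₁ : ¬ p ∣ Nat.card N₁ := by
    intro hd
    have h1 : p ∣ Nat.card (NX A) :=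
      (hd.trans (dvd_mul_right _ q)).trans ((hcardA.trans (Nat.card_congr
        (Equiv.ofBijective _ ⟨hinj, nx_surjective A⟩))).dvd)
    haveI := eb.tower.nimg_T_normal
    rw [← (nimg A (T : Subgroup G)).card_mul_index, hp.dvd_mul] at h1
    rcases h1 with h1 | h1
    · obtain ⟨j, hj⟩ := IsPGroup.iff_card.1 T.2
      rw [h.card_nimg le_rfl, hj] at h1
      exact hp2 ((Nat.prime_dvd_prime_iff_eq hp Nat.prime_two).1 (hp.dvd_of_dvd_pow h1))
    · refine Semi.not_dvd_card e hq hp hlt hpq1 (h1.trans ?_)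
      refine Subgroup.card_dvd_of_surjective ((QuotientGroup.mk' (nimg A (T : Subgroup G))).comp H.subtype) ?_
      intro y
      obtain ⟨x, rfl⟩ := QuotientGroup.mk'_surjective _ y
      obtain ⟨d, hd', k, hk, rfl⟩ := eb.mul x
      refine ⟨⟨k, hk⟩, ?_⟩
      show QuotientGroup.mk' _ k = QuotientGroup.mk' _ (d * k)
      rw [map_mul, show QuotientGroup.mk' (nimg A (T : Subgroup G)) d = 1 from (QuotientGroup.eq_one_iff d).2 hd',
        one_mul]
  -- a Sylow subgroup of the component is one of the group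
  have hν : (Nat.card G).factorization p = (Nat.card (lift u L)).factorization p := by
    rw [← NL.card_mul_index, ← hcardL, h.data.card_lift hc hW]
    have hk : 0 < q ^ 2 + 1 := by omega
    have hk' : 0 < q - 1 := by omega
    have hX0 : NL.index ≠ 0 := Subgroup.index_ne_zero_of_finite
    have hN0 : Nat.card N₁ ≠ 0 := Nat.card_pos.ne'
    rw [Nat.factorization_mul (mul_ne_zero hN0 hk.ne') hX0, Nat.factorization_mul hN0 hk.ne',
      Nat.factorization_mul (mul_ne_zero (by positivity) hk.ne') hk'.ne',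
      Nat.factorization_mul (by positivity) hk.ne']
    simp only [Finsupp.add_apply, Nat.factorization_eq_zero_of_not_dvd (show ¬ p ∣ NL.index from hpX),
      Nat.factorization_eq_zero_of_not_dvd hpN₁, Nat.factorization_eq_zero_of_not_dvd hpq1,
      Nat.factorization_eq_zero_of_not_dvd fun hd => hpq (hp.dvd_of_dvd_pow hd), zero_add, add_zero]
  obtain ⟨P₀⟩ : Nonempty (Sylow p ↥(lift u L)) := inferInstance
  set Q := (P₀ : Subgroup ↥(lift u L)).map (lift u L).subtype
  have hQc : Nat.card Q = p ^ (Nat.card G).factorization p := by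
    rw [Subgroup.card_map_of_injective (lift u L).subtype_injective, P₀.card_eq_multiplicity, hν]
  let P : Sylow p G := Sylow.ofCard Q hQc
  have hQL : Q ≤ lift u L := Subgroup.map_subtype_le _
  have hQp : p ∣ Nat.card Q := by
    rw [hQc]
    refine dvd_pow_self p (Nat.pos_iff_ne_zero.1 (hp.factorization_pos_of_dvd Nat.card_pos.ne' ?_))
    refine dvd_trans ?_ (Subgroup.card_subgroup_dvd_card (lift u L))
    rw [h.data.card_lift hc hW]
    exact (hpd.mul_left _).mul_right _
  have hQo : Odd (Nat.card Q) := by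
    rw [hQc]
    exact (hp.odd_of_ne_two hp2).pow
  have hQ1 : Q ≠ ⊥ := fun e => by
    rw [e, Subgroup.card_bot] at hQp
    exact hp.not_dvd_one hQp
  have hNQ := h.normalizer_le hW hr hRN hQL hQ1 hQo
  have hQN : Q ≤ NL := hQL.trans Subgroup.le_normalizer
  let P' : Sylow p ↥NL := P.subtype hQN
  have h1 : Nat.card (Sylow p G) ≡ 1 [MOD p] := card_sylow_modEq_one p G
  have h2 : Nat.card (Sylow p ↥NL) ≡ 1 [MOD p] := card_sylow_modEq_one p ↥NL
  rw [P.card_eq_index_normalizer] at h1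
  rw [P'.card_eq_index_normalizer] at h2
  have e' : Subgroup.normalizer (P' : Set ↥NL) =
      (Subgroup.normalizer (Q : Set G)).subgroupOf NL := (Subgroup.subgroupOf_normalizer_eq hQN).symm
  rw [e'] at h2
  have h3 := Subgroup.relIndex_mul_index hNQ
  have h4 : (X : ZMod p) = 1 := by
    have e1 := (ZMod.natCast_eq_natCast_iff' _ _ p).2 h1
    have e2 : (((Subgroup.normalizer (Q : Set G)).relIndex NL : ℕ) : ZMod p) = ((1 : ℕ) : ZMod p) :=
      (ZMod.natCast_eq_natCast_iff' _ _ p).2 h2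
    rw [show Subgroup.normalizer (P : Set G) = Subgroup.normalizer (Q : Set G) from rfl,
      ← h3, Nat.cast_mul, e2] at e1
    simpa using e1
  rw [hXp] at h4
  have h5 : ((2 * q : ℕ) : ZMod p) = 0 := by push_cast; linear_combination h4
  rcases hp.dvd_mul.1 ((ZMod.natCast_eq_zero_iff _ _).1 h5) with h6 | h6
  · exact hp2 ((Nat.prime_dvd_prime_iff_eq hp Nat.prime_two).1 h6)
  · exact hpq h6

end Cfsg.Agent.Lib.Thompson3Prime33
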