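import Cfsg.Agent.Lib.Thompson3Prime33.EndInterface

/-!
# The part of `R` centralising the component has order more than two

Otherwise `T / A` is elementary abelian and the complement fixes the image of `u`, which is then
outside the focal subgroup.

Owner: helper42 (piece P6).
-/

set_option autoImplicit false
set_option linter.style.haveILetI false
set_option linter.unusedSectionVars false
set_option linter.unusedVariables false

open scoped commutatorElement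

namespace Cfsg.Agent.Lib.Thompson3Prime33

universe u

variable {G : Type u} [Group G] [Finite G] {T : Sylow 2 G} {A M : Subgroup G} {q : ℕ}
  {u : G} {R : Subgroup G} {L : Subgroup (CQ u)}
  {Z : Subgroup (↥L ⧸ Subgroup.center ↥L)} {τ : ↥L ⧸ Subgroup.center ↥L}

namespace BadData

theorem sPart_eq_or (b : BadData T A M u R L q Z τ) (hr : Nat.card b.sPart ≤ 2) {s : G}
    (hs : s ∈ b.sPart) : s = 1 ∨ s = u := by
  classical
  have hle : Subgroup.zpowers u ≤ b.sPart := Subgroup.zpowers_le.2 b.self_mem_sPart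
  have he := Subgroup.eq_of_le_of_card_ge hle (hr.trans_eq (by rw [Nat.card_zpowers, b.invol]))
  rw [← he, mem_zpowers_iff_mem_range_orderOf, b.invol] at hs
  obtain ⟨i, hi, rfl⟩ := Finset.mem_image.1 hs
  rw [Finset.mem_range] at hi
  interval_cases i <;> simp

/-- An element of `P` with at most one non-trivial commutator lies in `Z`. -/
theorem mem_Z_of_comm (b : BadData T A M u R L q Z τ) (h8 : 8 ≤ q) {x₀ c : ↥L ⧸ Subgroup.center ↥L}
    (hx₀ : x₀ ∈ pbar (qimg u R) L) (hc : c ∈ Z)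
    (hcomm : ∀ x ∈ pbar (qimg u R) L, x₀ * x * x₀⁻¹ = x ∨ x₀ * x * x₀⁻¹ = x * c) : x₀ ∈ Z := by
  classical
  by_contra hne
  have hloc := b.comp.loc
  set P := pbar (qimg u R) L
  have hcen : ∀ y ∈ P, x₀ * y * x₀⁻¹ = y → y ∈ Z ∨ x₀⁻¹ * y ∈ Z := fun y hy e =>
    hloc.cent x₀ hx₀ hne y hy (mul_inv_eq_iff_eq_mul.1 e)
  obtain ⟨x₁, hx₁, hx₁'⟩ : ∃ x₁ ∈ P,
      ∀ x ∈ P, x₀ * x * x₀⁻¹ = x ∨ x₀ * (x₁⁻¹ * x) * x₀⁻¹ = x₁⁻¹ * x := by
    by_cases hex : ∃ x₁ ∈ P, x₀ * x₁ * x₀⁻¹ ≠ x₁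
    · obtain ⟨x₁, hx₁, hx₁'⟩ := hex
      refine ⟨x₁, hx₁, fun x hx => ?_⟩
      rcases hcomm x hx with e | e
      · exact Or.inl e
      refine Or.inr ?_
      have e₁ := (hcomm x₁ hx₁).resolve_left hx₁'
      have hcc := hloc.central c hc _ (mul_mem (inv_mem hx₁) hx)
      calc x₀ * (x₁⁻¹ * x) * x₀⁻¹ = (x₀ * x₁ * x₀⁻¹)⁻¹ * (x₀ * x * x₀⁻¹) := by group
        _ = c⁻¹ * ((x₁⁻¹ * x) * c) := by rw [e, e₁]; group
        _ = x₁⁻¹ * x := by rw [← hcc, inv_mul_cancel_left]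
    · push Not at hex
      exact ⟨1, P.one_mem, fun x hx => Or.inl (hex x hx)⟩
  let f : Z × Bool × Bool → P := fun w =>
    ⟨(if w.2.1 then x₁ else 1) * ((if w.2.2 then x₀ else 1) * w.1),
      mul_mem (by split_ifs; exacts [hx₁, one_mem _])
        (mul_mem (by split_ifs; exacts [hx₀, one_mem _]) (hloc.Z_le w.1.2))⟩
  have hf : Function.Surjective f := by
    rintro ⟨x, hx⟩
    rcases hx₁' x hx with e | e
    · rcases hcen x hx e with h | h
      · exact ⟨⟨⟨x, h⟩, false, false⟩, Subtype.ext (by simp [f])⟩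
      · exact ⟨⟨⟨_, h⟩, false, true⟩, Subtype.ext (by simp [f])⟩
    · rcases hcen _ (mul_mem (inv_mem hx₁) hx) e with h | h
      · exact ⟨⟨⟨_, h⟩, true, false⟩, Subtype.ext (by simp [f])⟩
      · exact ⟨⟨⟨_, h⟩, true, true⟩, Subtype.ext (by simp [f])⟩
  have hcard := Nat.card_le_card_of_surjective f hf
  rw [Nat.card_prod, Nat.card_prod, hloc.card_P, hloc.card_Z, Nat.card_eq_fintype_card,
    Fintype.card_bool, pow_two] at hcard
  have := Nat.le_of_mul_le_mul_left hcard (by omega)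
  omega

end BadData

namespace Top

/-- `T / A` has exponent two. -/
theorem sq_mem_A_of_two (h : Top T A M q u R L Z τ) (hr : Nat.card h.data.sPart ≤ 2) {g : G}
    (hg : g ∈ (T : Subgroup G)) : g * g ∈ A := by
  have b := h.data
  have hc := h.counted
  have hloc := b.comp.loc
  obtain ⟨a, ha, hga⟩ := h.trans.maps g hg
  have hgA : ∀ x ∈ A, g * x * g⁻¹ = x := fun x hx =>
    conj_eq_of_commute (Subgroup.mem_centralizer_iff.1 (h.trans.cent hg) x hx).symm
  have hg2 : g * g ∈ R := by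
    refine h.trans.fix _ (mul_mem hg hg) (commute_of_conj_eq ?_)
    calc g * g * u * (g * g)⁻¹ = g * (g * u * g⁻¹) * g⁻¹ := by group
      _ = (g * u * g⁻¹) * (g * a * g⁻¹) := by conv_lhs => rw [hga]
                                              group
      _ = u := by rw [hga, hgA a ha, mul_assoc, hc.closed.sq ha, mul_one]
  obtain ⟨p₀, hp₀, s₀, hs₀, e₀, -⟩ := b.exists_split hg2
  have hconj : ∀ p ∈ R ⊓ lift u L,
      p₀ * p * p₀⁻¹ = p ∨ p₀ * p * p₀⁻¹ = p * a := by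
    intro p hp
    have hgp := b.normalizes_R hc h.trans hg hp.1
    have hproj : (b.proj ⟨p, hp.1⟩)⁻¹ * b.proj ⟨g * p * g⁻¹, hgp⟩ ∈ Z := by
      refine hloc.sq_inj _ (b.proj_mem _) _ (b.proj_mem _) ?_
      rw [← map_mul, ← map_mul]
      refine congrArg b.proj (Subtype.ext ?_)
      show p * p = g * p * g⁻¹ * (g * p * g⁻¹)
      rw [show g * p * g⁻¹ * (g * p * g⁻¹) = g * (p * p) * g⁻¹ by group, hgA _ (b.sq_mem_A hp)]
    obtain ⟨p', hp', s, hs, e, -⟩ := b.exists_split hgp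
    have hz : p⁻¹ * p' ∈ A := by
      refine b.mem_A_of_proj ⟨_, mul_mem (inv_mem hp.1) hp'.1⟩ (mul_mem (inv_mem hp.2) hp'.2) ?_
      rw [show (⟨p⁻¹ * p', mul_mem (inv_mem hp.1) hp'.1⟩ : R) = ⟨p, hp.1⟩⁻¹ * ⟨p', hp'.1⟩ from rfl,
        map_mul, map_inv]
      rwa [show (⟨g * p * g⁻¹, hgp⟩ : R) = ⟨p', hp'.1⟩ * ⟨s, hs.1⟩ from Subtype.ext e, map_mul,
        b.proj_sPart ⟨s, hs.1⟩ hs, mul_one] at hproj
    set z := p⁻¹ * p' with hzdef
    have e' : g * p * g⁻¹ = p * z * s := by rw [e, hzdef, mul_inv_cancel_left]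
    have hzs : z * s = s * z := Subgroup.mem_centralizer_iff.1 (b.R_cent hc hs.1) z hz
    have h2 : g * g * p * (g * g)⁻¹ = p * s * (g * s * g⁻¹) := by
      calc g * g * p * (g * g)⁻¹ = g * (g * p * g⁻¹) * g⁻¹ := by group
        _ = (g * p * g⁻¹) * (g * z * g⁻¹) * (g * s * g⁻¹) := by conv_lhs => rw [e']
                                                                group
        _ = p * (z * s * z) * (g * s * g⁻¹) := by rw [hgA z hz, e']; group
        _ = _ := by rw [hzs, mul_assoc s, hc.closed.sq hz, mul_one]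
    have hs0 : Commute s₀ p :=
      (Subgroup.mem_centralizer_singleton_iff.1 (b.sPart_le_cent hc hs₀ hp.1)).symm
    have h3 : g * g * p * (g * g)⁻¹ = p₀ * p * p₀⁻¹ := by
      rw [e₀]
      calc p₀ * s₀ * p * (p₀ * s₀)⁻¹ = p₀ * (s₀ * p * s₀⁻¹) * p₀⁻¹ := by group
        _ = _ := by rw [conj_eq_of_commute hs0.eq]
    rw [← h3, h2]
    rcases b.sPart_eq_or hr hs with rfl | rfl
    · left; group
    · right
      rw [hga, mul_assoc, ← mul_assoc s s a, b.mul_self, one_mul]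
  have hZ : b.proj ⟨p₀, hp₀.1⟩ ∈ Z := by
    refine b.mem_Z_of_comm hc.eight_le (b.proj_mem _) (b.proj_A hc ⟨a, b.A_le_R hc ha⟩ ha) ?_
    intro x hx
    obtain ⟨p, hp, rfl⟩ := b.comp.exists_R hx
    rw [← b.proj_eq_lmap ⟨p, hp⟩ p.2, ← map_inv, ← map_mul, ← map_mul, ← map_mul]
    exact (hconj p ⟨hp, p.2⟩).imp (fun e => congrArg b.proj (Subtype.ext e))
      (fun e => congrArg b.proj (Subtype.ext e))
  have ha₀ := b.mem_A_of_proj ⟨p₀, hp₀.1⟩ hp₀.2 hZ
  rcases b.sPart_eq_or hr hs₀ with rfl | rfl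
  · rw [e₀, mul_one]; exact ha₀
  · refine b.sq_R hc (h.trans.fix g hg ?_)
    have h1 : g * (g * g) = g * g * g := (mul_assoc g g g).symm
    rw [e₀, ← mul_assoc, Subgroup.mem_centralizer_iff.1 (h.trans.cent hg) p₀ ha₀ |>.symm,
      mul_assoc, mul_assoc] at h1
    exact mul_left_cancel h1

theorem comm_mem_A_of_two (h : Top T A M q u R L Z τ) (hr : Nat.card h.data.sPart ≤ 2) {x y : G}
    (hx : x ∈ (T : Subgroup G)) (hy : y ∈ (T : Subgroup G)) : x * y * x⁻¹ * y⁻¹ ∈ A := by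
  rw [show x * y * x⁻¹ * y⁻¹ = (x * y * (x * y)) * ((y⁻¹ * x⁻¹ * x⁻¹ * y) * (y * y)⁻¹) by group]
  refine A.mul_mem (h.sq_mem_A_of_two hr (mul_mem hx hy))
    (A.mul_mem ?_ (A.inv_mem (h.sq_mem_A_of_two hr hy)))
  have h1 := normalizer_conj (h.counted.closed.sylow_le (inv_mem hy))
    (A.inv_mem (h.sq_mem_A_of_two hr hx))
  simpa [mul_assoc] using h1

end Top

variable {H : Subgroup (NX A)} {σ : NX A}

/-- The case `|S| ≤ 2` is impossible. -/
theorem Stable.false_of_two (e : Stable T A M q u R L Z τ H σ)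
    (hr : Nat.card e.toSemi.base.top.data.sPart ≤ 2) : False := by
  haveI : Fact (Nat.Prime 2) := ⟨Nat.prime_two⟩
  have he := e.toSemi.base
  have h := he.top
  have b := h.data
  have hc := h.counted
  have hN := hc.closed.sylow_le
  haveI := hc.nimg_A_normal
  haveI := he.tower.nimg_T_normal
  have huT : u ∈ (T : Subgroup G) := h.trans.le b.self_mem_R
  set ū := nx A ⟨u, hN huT⟩ with hū
  have hu1 : ū ≠ 1 := fun e0 => b.ne_one
    (h.eq_of_nx huT (T : Subgroup G).one_mem (e0.trans (map_one (nx A)).symm))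
  have huS : ū ∈ nimg A b.sPart := ⟨⟨u, hN huT⟩, b.self_mem_sPart, rfl⟩
  have hfix : ∀ k ∈ H, k * ū * k⁻¹ = ū := by
    intro k hk
    obtain ⟨s, hs, hse⟩ := normalizer_conj (e.stab hk) huS
    rcases b.sPart_eq_or hr hs with hs1 | hs1
    · refine absurd ?_ hu1
      rw [show s = 1 from Subtype.ext hs1, map_one] at hse
      exact conj_eq_one_iff.1 hse.symm
    · rw [← hse, hū]
      exact congrArg (nx A) (Subtype.ext hs1)
  set π := QuotientGroup.mk' (nimg A A)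
  set V := (nimg A (T : Subgroup G)).map π with hV
  set H' := H.map π with hH'
  haveI : V.Normal := Subgroup.Normal.map inferInstance π (QuotientGroup.mk'_surjective _)
  have hone : ∀ {g : G} (hg : g ∈ A), π (nx A ⟨g, Subgroup.le_normalizer hg⟩) = 1 := fun hg =>
    (QuotientGroup.eq_one_iff _).2 (mem_nimg Subgroup.le_normalizer hg)
  haveI hVc : IsMulCommutative V := by
    refine ⟨⟨?_⟩⟩
    rintro ⟨_, _, ⟨x, hx, rfl⟩, rfl⟩ ⟨_, _, ⟨y, hy, rfl⟩, rfl⟩
    refine Subtype.ext ?_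
    show π (nx A x) * π (nx A y) = π (nx A y) * π (nx A x)
    have h1 : π (nx A (x * y * x⁻¹ * y⁻¹)) = 1 := hone (h.comm_mem_A_of_two hr hx hy)
    simp only [map_mul, map_inv] at h1
    exact commute_of_conj_eq (mul_inv_eq_one.1 h1)
  have hHV : H' ≤ Subgroup.normalizer (V : Set (NX A ⧸ nimg A A)) :=
    Subgroup.le_normalizer_of_normal
  have hcop : (Nat.card H').Coprime (Nat.card V) := by
    obtain ⟨k, hk⟩ := IsPGroup.iff_card.1 T.2
    refine Nat.Coprime.coprime_dvd_left (Subgroup.card_map_dvd H π)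
      (Nat.Coprime.coprime_dvd_right (Subgroup.card_map_dvd _ π) ?_)
    rw [h.card_nimg le_rfl, hk]
    exact ((Nat.coprime_two_left.2 he.odd).pow_left k).symm
  set K := ((⁅V, H'⁆).comap (π.comp (nx A))).map (Subgroup.normalizer (A : Set G)).subtype with hK
  have hTK : (T : Subgroup G) ≤ K := by
    have hf : (T : Subgroup G).focalSubgroup = (T : Subgroup G) := by
      rw [← Subgroup.commutator_inf_eq_focalSubgroup T, hc.closed.hyp.commutator_eq_top, top_inf_eq]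
    rw [← hf, Subgroup.focalSubgroup_def, Subgroup.closure_le]
    rintro g ⟨hg, x, hx, v, rfl⟩
    rw [commutatorElement_def] at hg ⊢
    have h1 : v * x * v⁻¹ ∈ (T : Subgroup G) := by
      have := inv_mem (mul_mem (inv_mem hx) hg)
      simpa [mul_assoc] using this
    obtain ⟨n, hn, hne⟩ := hc.closed.control_one hx h1
    have e1 : x * v * x⁻¹ * v⁻¹ = x * n * x⁻¹ * n⁻¹ := by
      have h2 := congrArg (fun w => x * w⁻¹) hne
      simpa [mul_assoc] using h2
    rw [e1]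
    refine ⟨⟨x, hN hx⟩ * ⟨n, hn⟩ * ⟨x, hN hx⟩⁻¹ * ⟨n, hn⟩⁻¹, ?_, rfl⟩
    obtain ⟨d, hd, k, hk, hdk⟩ := he.mul (nx A ⟨n, hn⟩)
    simp only [SetLike.mem_coe, Subgroup.mem_comap, MonoidHom.comp_apply, map_mul, map_inv, hdk]
    set X := π (nx A ⟨x, hN hx⟩)
    have hX : X ∈ V := ⟨_, mem_nimg hN hx, rfl⟩
    have hD : π d ∈ V := ⟨d, hd, rfl⟩
    have hcm : X * π k * X⁻¹ * (π k)⁻¹ ∈ ⁅V, H'⁆ := by
      rw [← commutatorElement_def]
      exact Subgroup.commutator_mem_commutator hX ⟨k, hk, rfl⟩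
    have hc1 : X * π d = π d * X := congrArg Subtype.val (hVc.is_comm.comm ⟨X, hX⟩ ⟨_, hD⟩)
    have hCV : X * π k * X⁻¹ * (π k)⁻¹ ∈ V := by
      rw [show X * π k * X⁻¹ * (π k)⁻¹ = X * (π k * X⁻¹ * (π k)⁻¹) by group]
      exact mul_mem hX ((inferInstance : V.Normal).conj_mem _ (inv_mem hX) _)
    have hc2 := congrArg Subtype.val (hVc.is_comm.comm ⟨_, hCV⟩ ⟨_, hD⟩)
    have e2 : X * (π d * π k) * X⁻¹ * (π d * π k)⁻¹ = X * π k * X⁻¹ * (π k)⁻¹ := by
      calc X * (π d * π k) * X⁻¹ * (π d * π k)⁻¹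
          = (X * π d) * π k * X⁻¹ * (π k)⁻¹ * (π d)⁻¹ := by group
        _ = π d * (X * π k * X⁻¹ * (π k)⁻¹) * (π d)⁻¹ := by rw [hc1]; group
        _ = _ := by
            rw [show π d * (X * π k * X⁻¹ * (π k)⁻¹) = X * π k * X⁻¹ * (π k)⁻¹ * π d from hc2.symm,
              mul_inv_cancel_right]
    rwa [e2]
  have hmem : π ū ∈ (V ⊓ Subgroup.centralizer (H' : Set (NX A ⧸ nimg A A))) ⊓ ⁅V, H'⁆ := by
    refine ⟨⟨⟨ū, mem_nimg hN huT, rfl⟩, Subgroup.mem_centralizer_iff.2 ?_⟩, ?_⟩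
    · rintro _ ⟨k, hk, rfl⟩
      rw [← map_mul, ← map_mul, commute_of_conj_eq (hfix k hk)]
    · obtain ⟨m, hm, hme⟩ := hTK huT
      rw [hū, show (⟨u, hN huT⟩ : ↥(Subgroup.normalizer (A : Set G))) = m from Subtype.ext hme.symm]
      exact hm
  rw [Coprime.centralizer_inf_commutator_eq_bot hHV hcop, Subgroup.mem_bot] at hmem
  obtain ⟨a, ha, hae⟩ := (QuotientGroup.eq_one_iff ū).1 hmem
  exact hc.not_mem_A b.bad
    (h.eq_of_nx (hc.closed.le ha) huT hae ▸ (ha : (a : G) ∈ A))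

end Cfsg.Agent.Lib.Thompson3Prime33
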