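import Cfsg.Agent.Lib.Thompson3Prime33.StabBase
import Cfsg.Agent.Lib.PGroups.Frattini

/-!
# `H` stabilises the image of `S`

A normal `p`-subgroup of `H` moving the image of `S` acts without fixed points on the Frattini
quotient of the image of `T`, on which the bound leaves only `q = 8` and `127` elements, transitive
on the non-trivial cosets of the image of `A`.

Owner: helper20.
-/

set_option autoImplicit false
set_option linter.style.haveILetI false
set_option linter.unusedSectionVars false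
set_option linter.unusedVariables false

open scoped commutatorElement

namespace Cfsg.Agent.Lib.Thompson3Prime33

universe u

theorem exists_elemAb_normal {X : Type*} [Group X] [Finite X] {H : Subgroup X}
    [Group.IsSolvable H] (hH : H ≠ ⊥) :
    ∃ (p : ℕ) (N : Subgroup X), p.Prime ∧ N ≠ ⊥ ∧ N ≤ H ∧
      H ≤ Subgroup.normalizer (N : Set X) ∧ (∀ a ∈ N, ∀ b ∈ N, a * b = b * a) ∧
      ∀ a ∈ N, a ^ p = 1 := by
  obtain ⟨p, P, hp, hP, hPH, hHP, hpP⟩ := Coprime.exists_normal_pSubgroup hH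
  haveI := Fact.mk hp
  let N : Subgroup X :=
    { carrier := {x | x ∈ P ∧ (∀ y ∈ P, x * y = y * x) ∧ x ^ p = 1}
      one_mem' := ⟨one_mem _, fun y _ => by rw [one_mul, mul_one], one_pow p⟩
      mul_mem' := by
        rintro a b ⟨ha, hac, hap⟩ ⟨hb, hbc, hbp⟩
        refine ⟨mul_mem ha hb, fun y hy => ?_, ?_⟩
        · exact ((show Commute a y from hac y hy).mul_left (show Commute b y from hbc y hy)).eq
        · rw [(show Commute a b from hac b hb).mul_pow, hap, hbp, one_mul]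
      inv_mem' := by
        rintro a ⟨ha, hac, hap⟩
        exact ⟨inv_mem ha, fun y hy => (Commute.inv_left (show Commute a y from hac y hy)).eq,
          by rw [inv_pow, hap, inv_one]⟩ }
  refine ⟨p, N, hp, ?_, fun x hx => hPH hx.1, fun k hk => mem_normalizer_of_conj_mem ?_,
    fun a ha b hb => ha.2.1 b hb.1, fun a ha => ha.2.2⟩
  · haveI : Nontrivial P := (Subgroup.nontrivial_iff_ne_bot P).2 hP
    haveI := hpP.center_nontrivial
    obtain ⟨z, hz⟩ := exists_prime_orderOf_dvd_card' (G := Subgroup.center P) p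
      (((hpP.to_subgroup _).card_eq_or_dvd).resolve_left Finite.one_lt_card.ne')
    intro e
    have hzN : ((z : P) : X) ∈ N := ⟨(z : P).2,
      fun y hy => (congrArg Subtype.val (Subgroup.mem_center_iff.1 z.2 ⟨y, hy⟩)).symm,
      by rw [← hz, ← Subgroup.orderOf_coe, ← Subgroup.orderOf_coe]; exact pow_orderOf_eq_one _⟩
    rw [e, Subgroup.mem_bot] at hzN
    rw [← Subgroup.orderOf_coe, ← Subgroup.orderOf_coe, hzN, orderOf_one] at hz
    exact hp.ne_one hz.symm
  · rintro x ⟨hx, hxc, hxp⟩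
    refine ⟨normalizer_conj (hHP hk) hx, fun y hy => ?_, ?_⟩
    · have h1 := hxc _ (normalizer_conj (inv_mem (hHP hk)) hy)
      calc k * x * k⁻¹ * y = k * (x * (k⁻¹ * y * k⁻¹⁻¹)) * k⁻¹ := by group
        _ = y * (k * x * k⁻¹) := by rw [h1]; group
    · rw [conj_pow, hxp, mul_one, mul_inv_cancel]

/-- An element of order prime to six normalising a group of order at most four centralises it. -/
theorem commute_of_small {Y : Type*} [Group Y] [Finite Y] {E : Subgroup Y} (hE : Nat.card E ≤ 4)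
    {k : Y} (hk : k ∈ Subgroup.normalizer (E : Set Y)) (h2 : ¬ 2 ∣ orderOf k)
    (h3 : ¬ 3 ∣ orderOf k) {x : Y} (hx : x ∈ E) : k * x * k⁻¹ = x := by
  classical
  set ψ : ↥(Subgroup.normalizer (E : Set Y)) →* Equiv.Perm ↥E :=
    (MulAction.toPermHom (MulAut ↥E) ↥E).comp E.normalizerMonoidHom with hψ
  have h24 : orderOf (ψ ⟨k, hk⟩) ∣ 24 := by
    refine (orderOf_dvd_natCard _).trans ?_
    rw [Nat.card_perm]
    exact (Nat.factorial_dvd_factorial hE).trans (by decide)
  have hord : orderOf (ψ ⟨k, hk⟩) ∣ orderOf k := by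
    refine (orderOf_map_dvd ψ ⟨k, hk⟩).trans ?_
    rw [← Subgroup.orderOf_coe]
  have hcop : Nat.Coprime 24 (orderOf k) := by
    rw [show 24 = 2 ^ 3 * 3 by norm_num]
    exact Nat.Coprime.mul_left ((Nat.prime_two.coprime_iff_not_dvd.2 h2).pow_left 3)
      (Nat.prime_three.coprime_iff_not_dvd.2 h3)
  have h1 : ψ ⟨k, hk⟩ = 1 :=
    orderOf_eq_one_iff.1 (Nat.eq_one_of_dvd_coprimes hcop h24 hord)
  exact congrArg Subtype.val (Equiv.Perm.ext_iff.1 h1 ⟨x, hx⟩)

/-- The order of a group over a normal subgroup it contains. -/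
theorem card_mul_map {Y : Type*} [Group Y] [Finite Y] {N K : Subgroup Y} [N.Normal] (h : N ≤ K) :
    Nat.card N * Nat.card (K.map (QuotientGroup.mk' N)) = Nat.card K := by
  rw [← Subgroup.relIndex_ker, QuotientGroup.ker_mk',
    ← Nat.card_congr (Subgroup.subgroupOfEquivOfLe h).toEquiv, Subgroup.relIndex,
    Subgroup.card_mul_index]

variable {G : Type u} [Group G] [Finite G] {T : Sylow 2 G} {A M : Subgroup G} {q : ℕ}
variable {u : G} {R : Subgroup G} {L : Subgroup (CQ u)}
  {Z : Subgroup (↥L ⧸ Subgroup.center ↥L)} {τ : ↥L ⧸ Subgroup.center ↥L}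
  {H : Subgroup (NX A)} {σ : NX A}

namespace Endgame

theorem not_three (e : Endgame T A M q u R L Z τ H σ) (x : NX A) : ¬ 3 ∣ orderOf x := fun h =>
  e.top.counted.closed.hyp.three ((h.trans (orderOf_dvd_natCard x)).trans
    e.top.counted.sec_nx.small.1)

/-- The elements of `A` are squares of the images of the elements of `R ∩ L`. -/
theorem exists_sqrt (e : Endgame T A M q u R L Z τ H σ) {a : G} (ha : a ∈ A) :
    ∃ x ∈ (T : Subgroup G), x * x = a := by
  have b := e.top.data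
  have hc := e.top.counted
  obtain ⟨y, hy, hyy⟩ := b.comp.loc.sq_surj _
    (b.comp.lmap_mem_Z (g := ⟨a, b.A_le_lift hc ha⟩) ((hc.inf_cent b.bad b.mem).ge ha))
  obtain ⟨g, hg, rfl⟩ := b.comp.exists_R hy
  refine ⟨g, e.top.trans.le hg, ?_⟩
  exact congrArg Subtype.val (b.comp.lmap_injOn b.simple (g := g * g) (g' := ⟨a, b.A_le_lift hc ha⟩)
    (R.mul_mem hg hg) (b.A_le_R hc ha) (by rw [map_mul, hyy]))

/-- An element of `T` with square different from one. -/
theorem exists_not_sq (e : Endgame T A M q u R L Z τ H σ) :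
    ∃ x ∈ (T : Subgroup G), x ∉ A ∧ x * x ≠ 1 := by
  have b := e.top.data
  have hc := e.top.counted
  obtain ⟨a, ha, ha1⟩ := A.bot_or_exists_ne_one.resolve_left hc.closed.ne_bot
  obtain ⟨x, hx, hxa⟩ := e.exists_sqrt ha
  exact ⟨x, hx, fun hA => ha1 (hxa.symm.trans (hc.closed.sq hA)), fun h => ha1 (hxa.symm.trans h)⟩

end Endgame

namespace Semi

set_option maxHeartbeats 1000000 in
theorem stab_of_free (e : Semi T A M q u R L Z τ H σ) {N : Subgroup (NX A)} {p : ℕ} (hp : p.Prime)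
    (hNH : N ≤ H) (hHN : H ≤ Subgroup.normalizer (N : Set (NX A)))
    (hNc : ∀ a ∈ N, ∀ b ∈ N, a * b = b * a) (hNp : ∀ a ∈ N, a ^ p = 1) (hN : N ≠ ⊥)
    (hfree : ∀ y ∈ N, y ∈ Subgroup.normalizer (nimg A e.base.top.data.sPart : Set (NX A)) → y = 1) :
    H ≤ Subgroup.normalizer (nimg A e.base.top.data.sPart : Set (NX A)) := by
  haveI : Fact (Nat.Prime 2) := ⟨Nat.prime_two⟩
  haveI : Fact p.Prime := ⟨hp⟩
  have hb := e.base
  have hc := hb.top.counted
  haveI := hb.tower.nimg_T_normal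
  haveI := hc.nimg_A_normal
  set r := Nat.card hb.top.data.sPart with hr
  set Tb := nimg A (T : Subgroup G) with hTb
  set Ab := nimg A A with hAb
  have hcT : Nat.card Tb = q ^ 3 * r := by
    rw [hTb, hb.top.card_nimg le_rfl, hb.top.card_T, hr]
  have hcA : Nat.card Ab = q := by rw [hAb, hb.top.card_nimg hc.closed.le, hc.card_A]
  have hTb2 : IsPGroup 2 Tb := by
    obtain ⟨k, hk⟩ := IsPGroup.iff_card.1 T.2
    exact IsPGroup.of_card (n := k) (by rw [hTb, hb.top.card_nimg le_rfl, hk])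
  obtain ⟨y₀, hy₀, hy₀1⟩ := N.bot_or_exists_ne_one.resolve_left hN
  have hpy : orderOf y₀ = p := orderOf_eq_prime (hNp y₀ hy₀) hy₀1
  have hp2 : p ≠ 2 := fun h => by
    have := hb.odd.of_dvd_nat (Subgroup.orderOf_dvd_natCard _ (hNH hy₀))
    rw [hpy, h] at this
    exact absurd this (by decide)
  have hp3 : p ≠ 3 := fun h => hb.not_three y₀ (by rw [hpy, h])
  have hNfix : ∀ n : ℕ, ¬ (q - 1) ∣ n → ∀ y ∈ N, σ ^ n * y * (σ ^ n)⁻¹ = y → y = 1 :=
    fun n hn y hy hfix => hfree y hy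
      (e.norm_of_comm (fun h => hn (hb.pow_eq_one_iff.1 h)) (commute_of_conj_eq hfix).symm)
  -- the Frattini quotient
  set Φ := (frattini ↥Tb).map Tb.subtype with hΦdef
  haveI : Φ.Normal := Cores.normal_map_subtype Tb (frattini ↥Tb)
  have hΦT : Φ ≤ Tb := Subgroup.map_subtype_le _
  have hsqΦ : ∀ x ∈ Tb, x * x ∈ Φ := fun x hx =>
    ⟨⟨x, hx⟩ ^ 2, PGroups.pow_mem_frattini hTb2 _, by simp [pow_two]⟩
  have hAΦ : Ab ≤ Φ := by
    rintro _ ⟨⟨a, haN⟩, ha, rfl⟩
    obtain ⟨x, hx, rfl⟩ := hb.exists_sqrt (a := a) ha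
    rw [show (⟨x * x, haN⟩ : ↥(Subgroup.normalizer (A : Set G))) =
      ⟨x, hb.tower.T_le hx⟩ * ⟨x, hb.tower.T_le hx⟩ from rfl, map_mul]
    exact hsqΦ _ (mem_nimg hb.tower.T_le hx)
  set π := QuotientGroup.mk' Φ with hπ
  set V := Tb.map π with hV
  set N' := N.map π with hN'
  haveI : V.Normal := Subgroup.Normal.map inferInstance π (QuotientGroup.mk'_surjective Φ)
  have hVsq : ∀ v ∈ V, v * v = 1 := by
    rintro _ ⟨x, hx, rfl⟩
    rw [← map_mul, hπ, QuotientGroup.mk'_apply, QuotientGroup.eq_one_iff]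
    exact hsqΦ x hx
  have hVc : ∀ a ∈ V, ∀ b ∈ V, a * b = b * a := fun a ha b hb' => by
    have h1 := hVsq _ (V.mul_mem ha hb')
    calc a * b = a * (a * b * (a * b)) * b := by rw [h1, mul_one]
      _ = (a * a) * (b * a) * (b * b) := by group
      _ = b * a := by rw [hVsq a ha, hVsq b hb', one_mul, mul_one]
  haveI : IsMulCommutative V := ⟨⟨fun a b => Subtype.ext (hVc _ a.2 _ b.2)⟩⟩
  have hinjH : ∀ x ∈ H, π x = 1 → x = 1 := by
    intro x hx h1
    rw [← Subgroup.mem_bot, ← hb.inf_T]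
    exact ⟨hx, hΦT ((QuotientGroup.eq_one_iff x).1 h1)⟩
  have hcN : Nat.card N' = Nat.card N := by
    refine (Nat.card_congr (Equiv.ofBijective (π.subgroupMap N)
      ⟨(injective_iff_map_eq_one _).2 fun x hx => ?_, MonoidHom.subgroupMap_surjective _ _⟩)).symm
    exact Subtype.ext (hinjH _ (hNH x.2) (congrArg Subtype.val hx))
  have hNodd : Odd (Nat.card N) := hb.odd.of_dvd_nat (Subgroup.card_dvd_of_le hNH)
  have hN'odd : Odd (Nat.card N') := hcN ▸ hNodd
  have hV2 : IsPGroup 2 V := hTb2.map π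
  obtain ⟨kV, hkV⟩ := IsPGroup.iff_card.1 hV2
  have hcop : (Nat.card N').Coprime (Nat.card V) := by
    rw [hkV]; exact ((Nat.coprime_two_left.2 hN'odd).pow_left kV).symm
  have hN'V : N' ≤ Subgroup.normalizer (V : Set _) := Subgroup.le_normalizer_of_normal
  have hN'c : ∀ a ∈ N', ∀ b ∈ N', a * b = b * a := by
    rintro _ ⟨a, ha, rfl⟩ _ ⟨b, hb', rfl⟩
    rw [← map_mul, ← map_mul, hNc a ha b hb']
  have hmove : ¬ N' ≤ Subgroup.centralizer (V : Set _) := by
    intro hle
    have h1 : N ≤ Subgroup.centralizer (Tb : Set (NX A)) := by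
      obtain ⟨kT, hkT⟩ := IsPGroup.iff_card.1 (hTb2.to_subgroup (frattini ↥Tb))
      refine Coprime.le_centralizer_of_frattini Subgroup.le_normalizer_of_normal
        (by rw [hkT]; exact ((Nat.coprime_two_left.2 hNodd).pow_left kT).symm) fun a ha x hx => ?_
      refine (QuotientGroup.eq_one_iff (N := Φ) _).1 ?_
      show π (a * x * a⁻¹ * x⁻¹) = 1
      rw [map_mul, map_mul, map_mul, map_inv, map_inv,
        ← Subgroup.mem_centralizer_iff.1 (hle ⟨a, ha, rfl⟩) _ ⟨x, hx, rfl⟩, mul_inv_cancel_right,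
        mul_inv_cancel]
    exact hy₀1 (hb.faithful (hNH hy₀) fun d hd =>
      (Subgroup.mem_centralizer_iff.1 (h1 hy₀) d hd).symm)
  set C := V ⊓ Subgroup.centralizer (N' : Set _) with hC
  set V' := ⁅V, N'⁆ with hV'
  have hV'V : V' ≤ V := Coprime.commutator_le_of_le_normalizer hN'V
  have hmove' : ¬ N' ≤ Subgroup.centralizer (V' : Set _) := fun hle => hmove
    (Coprime.le_centralizer_of_commutator_commutator
      (hcop.coprime_dvd_right (Subgroup.card_dvd_of_le hV'V))
      (Subgroup.commutator_eq_bot_iff_le_centralizer.2 (Subgroup.le_centralizer_iff.1 hle)))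
  have hconjN : ∀ k ∈ H, cj (π k) N' = N' := by
    intro k hk
    have h1 : cj k N = N := Subgroup.mem_normalizer_iff_map_conj_eq.1 (hHN hk)
    conv_rhs => rw [hN', ← h1, cj, Subgroup.map_map]
    rw [hN', cj, Subgroup.map_map]
    congr 1
  have hσV' : π σ ∈ Subgroup.normalizer (V' : Set _) := by
    rw [Subgroup.mem_normalizer_iff_map_conj_eq, hV', Subgroup.map_commutator]
    congr 1
    · exact Subgroup.mem_normalizer_iff_map_conj_eq.1 (Subgroup.le_normalizer_of_normal (H := V)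
        (K := ⊤) (Subgroup.mem_top _))
    · exact hconjN σ hb.mem
  have hbound : 2 ^ (q - 1) ≤ Nat.card V' := by
    refine hc.closed.hyp.deps.fpf _ V' N' (π σ) (q - 1) (fun v hv => hVsq v (hV'V hv)) hN'c hN'odd
      (Coprime.right_le_normalizer_commutator _ _) hmove' hσV'
      (Subgroup.mem_normalizer_iff_map_conj_eq.2 (hconjN σ hb.mem)) hb.tower.odd_q_sub_one
      (by rw [← map_pow, hb.pow, map_one]) fun n hn0 hnd a ha hfix => ?_
    obtain ⟨y, hy, rfl⟩ := ha
    rw [← map_pow, ← map_inv, ← map_mul, ← map_mul, ← mul_inv_eq_one, ← map_inv, ← map_mul] at hfix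
    have h1 := hinjH _ (H.mul_mem (H.mul_mem (H.mul_mem (H.pow_mem hb.mem n) (hNH hy))
      (H.inv_mem (H.pow_mem hb.mem n))) (H.inv_mem (hNH hy))) hfix
    rw [mul_inv_eq_one] at h1
    rw [hNfix n (fun hd => (Nat.le_of_dvd hn0 hd).not_gt hnd) y hy h1, map_one]
  -- the orders
  have hrel : Nat.card Φ * Nat.card V = Nat.card Tb := card_mul_map hΦT
  have hrq : r ≤ q := hb.top.card_sPart_le_q
  have hq0 : 0 < q := by linarith [hc.eight_le]
  have hΦq : q ≤ Nat.card Φ := hcA ▸ Subgroup.card_le_of_le hAΦ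
  have hVle : Nat.card V ≤ q ^ 3 := by
    refine Nat.le_of_mul_le_mul_left ?_ hq0
    calc q * Nat.card V ≤ Nat.card Φ * Nat.card V := Nat.mul_le_mul_right _ hΦq
      _ = q ^ 3 * r := hrel.trans hcT
      _ ≤ q * q ^ 3 := by rw [mul_comm q]; exact Nat.mul_le_mul_left _ hrq
  obtain ⟨m, hm, hqm⟩ := hc.q_eq
  have hq8 : q = 8 := by
    have h1 := (hbound.trans (Subgroup.card_le_of_le hV'V)).trans hVle
    rw [hqm, ← pow_mul] at h1
    have h2 := (Nat.pow_le_pow_iff_right (by norm_num : 1 < 2)).1 h1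
    rw [hqm]
    suffices m = 1 by subst this; norm_num
    by_contra hne
    have h3 : ∀ j, 6 * (j + 2) + 4 < 2 ^ (2 * (j + 2) + 1) := fun j => by
      induction j with
      | zero => norm_num
      | succ j ih =>
        rw [show 2 * (j + 1 + 2) + 1 = 2 * (j + 2) + 1 + 2 by ring, pow_add]
        norm_num
        omega
    have h4 := h3 (m - 2)
    rw [show m - 2 + 2 = m by omega] at h4
    omega
  -- the fixed points on the Frattini quotient
  have hCV : Nat.card C * Nat.card V' ≤ Nat.card V := by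
    rw [← Coprime.card_sup_of_disjoint (A := C) (K := V')
      (fun c hc' => mem_normalizer_of_conj_mem fun v hv => by
        rw [conj_eq_of_commute (hVc c hc'.1 v (hV'V hv))]; exact hv)
      (disjoint_iff.2 (Coprime.centralizer_inf_commutator_eq_bot hN'V hcop))]
    exact Subgroup.card_le_of_le (sup_le inf_le_left hV'V)
  set E := Tb ⊓ C.comap π with hE
  have hΦE : Φ ≤ E := fun x hx => ⟨hΦT hx, by
    show π x ∈ C
    rw [hπ, QuotientGroup.mk'_apply, (QuotientGroup.eq_one_iff x).2 hx]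
    exact one_mem C⟩
  have hEmap : E.map π = C := by
    refine le_antisymm ?_ fun y hy => ?_
    · rintro _ ⟨x, hx, rfl⟩; exact hx.2
    · obtain ⟨x, hx, rfl⟩ := hy.1
      exact ⟨x, ⟨hx, hy⟩, rfl⟩
  have hrelE : Nat.card Φ * Nat.card C = Nat.card E := by
    rw [← hEmap]; exact card_mul_map hΦE
  have hAE : Ab ≤ E := hAΦ.trans hΦE
  have hEH : ∀ k ∈ H, ∀ x ∈ E, k * x * k⁻¹ ∈ E := by
    intro k hk x hx
    refine ⟨Subgroup.Normal.conj_mem inferInstance x hx.1 k, ?_⟩
    show π (k * x * k⁻¹) ∈ C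
    rw [map_mul, map_mul, map_inv]
    refine ⟨Subgroup.Normal.conj_mem inferInstance _ hx.2.1 _, Subgroup.mem_centralizer_iff.2 ?_⟩
    intro n' hn'
    rw [SetLike.mem_coe, ← hconjN k hk] at hn'
    obtain ⟨n'', hn'', rfl⟩ := hn'
    have h1 := Subgroup.mem_centralizer_iff.1 hx.2.2 n'' hn''
    show π k * n'' * (π k)⁻¹ * (π k * π x * (π k)⁻¹) = π k * π x * (π k)⁻¹ * (π k * n'' * (π k)⁻¹)
    calc π k * n'' * (π k)⁻¹ * (π k * π x * (π k)⁻¹) = π k * (n'' * π x) * (π k)⁻¹ := by group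
      _ = _ := by rw [h1]; group
  have hEsmall : Nat.card (E.map (QuotientGroup.mk' Ab)) ≤ 4 := by
    have h1 : Nat.card Ab * Nat.card (E.map (QuotientGroup.mk' Ab)) = Nat.card E := card_mul_map hAE
    have h2 : Nat.card E * 2 ^ (q - 1) ≤ q ^ 3 * r := by
      calc Nat.card E * 2 ^ (q - 1) ≤ Nat.card E * Nat.card V' := Nat.mul_le_mul_left _ hbound
        _ = Nat.card Φ * (Nat.card C * Nat.card V') := by rw [← hrelE, mul_assoc]
        _ ≤ Nat.card Φ * Nat.card V := Nat.mul_le_mul_left _ hCV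
        _ = _ := hrel.trans hcT
    have h3 : Nat.card E * 128 ≤ 512 * r := by
      rw [hq8] at h2
      norm_num at h2
      exact h2
    rw [hcA] at h1
    generalize Nat.card (E.map (QuotientGroup.mk' Ab)) = l at h1 ⊢
    generalize Nat.card E = w at h1 h3
    subst hq8
    omega
  by_cases hEA : E = Ab
  swap
  · -- a non-trivial coset of `A` fixed by `H`
    obtain ⟨x, hx, hxA⟩ : ∃ x ∈ E, x ∉ Ab := by
      by_contra hall
      push Not at hall
      exact hEA (le_antisymm hall hAE)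
    have hfix : ∀ k ∈ H, k * x * k⁻¹ * x⁻¹ ∈ Ab := by
      intro k hk
      set πA := QuotientGroup.mk' Ab with hπA
      have hkN : πA k ∈ Subgroup.normalizer (E.map πA : Set _) := by
        refine mem_normalizer_of_conj_mem ?_
        rintro _ ⟨z, hz, rfl⟩
        exact ⟨k * z * k⁻¹, hEH k hk z hz, by rw [map_mul, map_mul, map_inv]⟩
      have hkd : orderOf (πA k) ∣ orderOf k := orderOf_map_dvd _ _
      have h1 := commute_of_small hEsmall hkN (fun h2 => Nat.two_dvd_ne_zero.2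
        (Nat.odd_iff.1 ((hb.odd.of_dvd_nat (Subgroup.orderOf_dvd_natCard _ hk)))) (h2.trans hkd))
        (fun h3 => hb.not_three k (h3.trans hkd)) (Subgroup.mem_map_of_mem πA hx)
      refine (QuotientGroup.eq_one_iff (N := Ab) _).1 ?_
      show πA (k * x * k⁻¹ * x⁻¹) = 1
      rw [map_mul, map_mul, map_mul, map_inv, map_inv, h1, mul_inv_cancel]
    obtain ⟨a, ha, hax⟩ := Coprime.exists_fixed_mul (A := H) (N := Ab) (k := x)
      Subgroup.le_normalizer_of_normal
      (by rw [hcA, hq8, show (8 : ℕ) = 2 ^ 3 by norm_num]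
          exact ((Nat.coprime_two_left.2 hb.odd).pow_left 3).symm)
      (Or.inr (Coprime.isSolvable_of_isPGroup hc.nimg_A_two)) hfix
    have haxS : a * x ∈ nimg A hb.top.data.sPart := by
      refine hb.fix (n := 1) (fun hd => ?_) (mul_mem (hb.nimg_A_le ha) hx.1) ?_
      · have h7 := Nat.le_of_dvd one_pos hd
        omega
      · rw [pow_one]
        exact conj_eq_of_commute (Subgroup.mem_centralizer_iff.1 hax σ hb.mem)
    have hax1 : a * x ≠ 1 := fun h => hxA (by
      rw [show x = a⁻¹ from eq_inv_of_mul_eq_one_right h]; exact inv_mem ha)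
    exact fun k hk => e.norm_of_fix k hk _ haxS hax1 (Subgroup.mem_centralizer_iff.1 hax k hk)
  -- now the quotient by `A` is elementary and without fixed points
  exfalso
  have hΦA : Φ = Ab := le_antisymm (hEA ▸ hΦE) hAΦ
  have hcΦ : Nat.card Φ = q := (congrArg (fun K : Subgroup (NX A) => Nat.card K) hΦA).trans hcA
  have hC1 : Nat.card C = 1 := by
    refine Nat.eq_of_mul_eq_mul_left hq0 ?_
    rw [mul_one]
    calc q * Nat.card C = Nat.card Φ * Nat.card C := by rw [hcΦ]
      _ = q := by rw [hrelE, hEA, hcA]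
  have hVcard : Nat.card V = q ^ 2 * r := by
    refine Nat.eq_of_mul_eq_mul_left hq0 ?_
    calc q * Nat.card V = Nat.card Φ * Nat.card V := by rw [hcΦ]
      _ = q * (q ^ 2 * r) := by rw [hrel, hcT]; ring
  -- the action of `N` on the quotient
  letI : MulAction ↥N' ↥V :=
    MulAction.compHom ↥V (V.normalizerMonoidHom.comp (Subgroup.inclusion hN'V))
  have hsmul : ∀ (n : ↥N') (v : ↥V), ((n • v : ↥V) : _ ⧸ Φ) = n * v * (n : _ ⧸ Φ)⁻¹ := fun n v => rfl
  have hN'p : IsPGroup p N' := fun y => ⟨1, Subtype.ext (by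
    obtain ⟨x, hx, he⟩ := y.2
    rw [Subgroup.coe_pow, pow_one, ← he, ← map_pow, hNp x hx, map_one, Subgroup.coe_one])⟩
  have hfix1 : Nat.card (MulAction.fixedPoints ↥N' ↥V) = 1 := by
    refine Nat.card_eq_one_iff_unique.2 ⟨⟨fun a c => ?_⟩, ⟨⟨1, fun n => Subtype.ext ?_⟩⟩⟩
    · have hz : ∀ z : MulAction.fixedPoints ↥N' ↥V, ((z.1 : ↥V) : _ ⧸ Φ) = 1 := by
        intro z
        have hzC : ((z.1 : ↥V) : _ ⧸ Φ) ∈ C := ⟨z.1.2, Subgroup.mem_centralizer_iff.2 fun n hn =>
          commute_of_conj_eq ((hsmul ⟨n, hn⟩ z.1).symm.trans (congrArg Subtype.val (z.2 ⟨n, hn⟩)))⟩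
        rwa [Subgroup.card_eq_one.1 hC1, Subgroup.mem_bot] at hzC
      exact Subtype.ext (Subtype.ext ((hz a).trans (hz c).symm))
    · rw [hsmul]; simp
  have hmodp := hN'p.card_modEq_card_fixedPoints ↥V
  rw [hfix1] at hmodp
  have hpV : p ∣ Nat.card V - 1 := (Nat.modEq_iff_dvd' Nat.card_pos).1 hmodp.symm
  -- the orbit of the image of `u`
  set uu : NX A := nx A ⟨u, hb.top.data.mem⟩ with huu
  have huS : uu ∈ nimg A hb.top.data.sPart :=
    ⟨⟨u, hb.top.data.mem⟩, hb.top.data.self_mem_sPart, rfl⟩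
  have huT : uu ∈ Tb := hb.nimg_sPart_le huS
  set v₀ : ↥V := ⟨π uu, uu, huT, rfl⟩ with hv₀
  have hstab : MulAction.stabilizer ↥N' v₀ = ⊥ := by
    refine le_bot_iff.1 fun n hn => ?_
    obtain ⟨y, hy, hye⟩ := n.2
    have h1 : π y * π uu * (π y)⁻¹ = π uu := by
      rw [hye]
      exact (hsmul n v₀).symm.trans (congrArg Subtype.val (MulAction.mem_stabilizer_iff.1 hn))
    set A₀ := H ⊓ (Subgroup.centralizer ({π uu} : Set _)).comap π with hA₀
    have hfix : ∀ k ∈ A₀, k * uu * k⁻¹ * uu⁻¹ ∈ Ab := by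
      intro k hk
      rw [← hΦA]
      refine (QuotientGroup.eq_one_iff (N := Φ) _).1 ?_
      show π (k * uu * k⁻¹ * uu⁻¹) = 1
      rw [map_mul, map_mul, map_mul, map_inv, map_inv,
        conj_eq_of_commute (Subgroup.mem_centralizer_singleton_iff.1 (Subgroup.mem_comap.1 hk.2)),
        mul_inv_cancel]
    obtain ⟨a, ha, hau⟩ := Coprime.exists_fixed_mul (A := A₀) (N := Ab) (k := uu)
      Subgroup.le_normalizer_of_normal
      (by rw [hcA, hq8, show (8 : ℕ) = 2 ^ 3 by norm_num]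
          exact ((Nat.coprime_two_left.2 (hb.odd.of_dvd_nat
            (Subgroup.card_dvd_of_le inf_le_left))).pow_left 3).symm)
      (Or.inr (Coprime.isSolvable_of_isPGroup hc.nimg_A_two)) hfix
    have hσA₀ : σ ∈ A₀ := ⟨hb.mem, by
      refine Subgroup.mem_comap.2 (Subgroup.mem_centralizer_singleton_iff.2 ?_)
      rw [← map_mul, ← map_mul, hb.comm_sPart huS]⟩
    have haS : a * uu ∈ nimg A hb.top.data.sPart := by
      refine hb.fix (n := 1) (fun hd => ?_) (mul_mem (hb.nimg_A_le ha) huT) ?_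
      · have h7 := Nat.le_of_dvd one_pos hd
        omega
      · rw [pow_one]
        exact conj_eq_of_commute (Subgroup.mem_centralizer_iff.1 hau σ hσA₀)
    have ha1 : a = 1 := hb.inf_A_sPart ha (by simpa using mul_mem haS (inv_mem huS))
    rw [ha1, one_mul] at hau
    have hyA : y ∈ A₀ := ⟨hNH hy, Subgroup.mem_comap.2
      (Subgroup.mem_centralizer_singleton_iff.2 (commute_of_conj_eq h1))⟩
    have hu1 : uu ≠ 1 := fun h => by
      obtain ⟨-, -⟩ := id huS
      have h0 := hb.top.eq_of_nx (hb.top.sPart_le_T hb.top.data.self_mem_sPart)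
        (T : Subgroup G).one_mem (h.trans (map_one (nx A)).symm)
      exact hb.top.data.ne_one h0
    have hy1 := hfree y hy (e.norm_of_fix y (hNH hy) uu huS hu1
      (Subgroup.mem_centralizer_iff.1 hau y hyA))
    rw [Subgroup.mem_bot]
    refine Subtype.ext ?_
    rw [← hye, hy1, map_one]
    rfl
  have horb : (MulAction.orbit ↥N' v₀).ncard = Nat.card N := by
    rw [← MulAction.index_stabilizer, hstab, Subgroup.index_bot, hcN]
  have hv₀1 : v₀ ≠ 1 := fun h => by
    have h1 : uu ∈ Ab := hΦA ▸ (QuotientGroup.eq_one_iff uu).1 (congrArg Subtype.val h)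
    have h2 := hb.inf_A_sPart h1 huS
    exact hb.top.data.ne_one (hb.top.eq_of_nx (hb.top.sPart_le_T hb.top.data.self_mem_sPart)
      (T : Subgroup G).one_mem (h2.trans (map_one (nx A)).symm))
  have hone : ∀ w ∈ MulAction.orbit ↥N' v₀, w ≠ 1 := by
    rintro _ ⟨n, rfl⟩ h
    apply hv₀1
    have h1 := congrArg Subtype.val h
    rw [hsmul, Subgroup.coe_one, conj_eq_one_iff] at h1
    exact Subtype.ext h1
  have hNV : Nat.card N ≤ Nat.card V - 1 := by
    rw [← horb, ← Set.ncard_univ ↥V, ← Set.ncard_sdiff_singleton_of_mem (Set.mem_univ (1 : ↥V))]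
    exact Set.ncard_le_ncard fun w hw => ⟨trivial, hone w hw⟩
  -- `σ` has no fixed points on `N`
  haveI : Fact (Nat.Prime 7) := ⟨by norm_num⟩
  letI : MulAction ↥(Subgroup.zpowers σ) ↥N := MulAction.compHom ↥N
    (N.normalizerMonoidHom.comp (Subgroup.inclusion
      (Subgroup.zpowers_le.2 (hHN hb.mem) : Subgroup.zpowers σ ≤ _)))
  have hsmul7 : ∀ (k : ↥(Subgroup.zpowers σ)) (y : ↥N),
      ((k • y : ↥N) : NX A) = k * y * (k : NX A)⁻¹ := fun k y => rfl
  have hσ7 : IsPGroup 7 ↥(Subgroup.zpowers σ) :=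
    IsPGroup.of_card (n := 1) (by rw [Nat.card_zpowers, hb.orderOf_eq, hq8]; norm_num)
  have hfix7 : Nat.card (MulAction.fixedPoints ↥(Subgroup.zpowers σ) ↥N) = 1 := by
    refine Nat.card_eq_one_iff_unique.2 ⟨⟨fun a c => ?_⟩, ⟨⟨1, fun n => Subtype.ext ?_⟩⟩⟩
    · have hz : ∀ z : MulAction.fixedPoints ↥(Subgroup.zpowers σ) ↥N, ((z.1 : ↥N) : NX A) = 1 := by
        intro z
        refine hNfix 1 (fun hd => ?_) _ z.1.2 ?_
        · have h7 := Nat.le_of_dvd one_pos hd
          omega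
        · rw [pow_one]
          exact (hsmul7 ⟨σ, Subgroup.mem_zpowers σ⟩ z.1).symm.trans
            (congrArg Subtype.val (z.2 _))
      exact Subtype.ext (Subtype.ext ((hz a).trans (hz c).symm))
    · rw [hsmul7]; simp
  have hmod7 := hσ7.card_modEq_card_fixedPoints ↥N
  rw [hfix7] at hmod7
  -- the only possibility
  have hNpg : IsPGroup p N := fun y => ⟨1, Subtype.ext (by
    rw [Subgroup.coe_pow, pow_one]; exact hNp _ y.2)⟩
  obtain ⟨ε, hε⟩ := IsPGroup.iff_card.1 hNpg
  have hε0 : ε ≠ 0 := fun h0 => hN (Subgroup.card_eq_one.1 (by rw [hε, h0, pow_zero]))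
  have hr8 : r = 2 ∨ r = 4 ∨ r = 8 := by
    obtain ⟨k, hk⟩ := IsPGroup.iff_card.1
      (hb.top.data.comp.base.sylow.isPGroup.to_le (inf_le_left : hb.top.data.sPart ≤ R))
    have h2 : 2 ≤ r := by
      rw [hr, ← hb.top.data.invol, ← Nat.card_zpowers]
      exact Subgroup.card_le_of_le (Subgroup.zpowers_le.2 hb.top.data.self_mem_sPart)
    have h8 : r ≤ 8 := hq8 ▸ hrq
    rw [← hr] at hk
    have hk3 : k ≤ 3 := (Nat.pow_le_pow_iff_right (by norm_num : 1 < 2)).1 (hk ▸ h8)
    interval_cases k <;> omega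
  have heq : Nat.card N = Nat.card V - 1 := by
    rw [hVcard, hq8] at hpV hNV ⊢
    rw [hε] at hNV hmod7 ⊢
    have hmod : p ^ ε % 7 = 1 := hmod7
    have h1ε : 1 ≤ ε := Nat.one_le_iff_ne_zero.2 hε0
    have hpd : ∀ l : ℕ, l.Prime → p ∣ l → p = l := fun l hl h =>
      (Nat.prime_dvd_prime_iff_eq hp hl).1 h
    rcases hr8 with h | h | h <;> rw [h] at hpV hNV ⊢ <;> norm_num at hpV hNV ⊢
    · obtain rfl := hpd 127 (by norm_num) hpV
      have hle : ε ≤ 1 := by
        by_contra hc2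
        have := Nat.pow_le_pow_right (show 0 < 127 by norm_num) (show 2 ≤ ε by omega)
        omega
      interval_cases ε
      rfl
    · exfalso
      rcases (Nat.Prime.dvd_mul hp).1 (show p ∣ 3 * (5 * 17) by norm_num; exact hpV) with h3 | h5
      · exact hp3 (hpd 3 (by norm_num) h3)
      rcases (Nat.Prime.dvd_mul hp).1 h5 with h5 | h17
      · obtain rfl := hpd 5 (by norm_num) h5
        have hle : ε ≤ 3 := by
          by_contra hc2
          have := Nat.pow_le_pow_right (show 0 < 5 by norm_num) (show 4 ≤ ε by omega)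
          omega
        interval_cases ε <;> norm_num at hmod
      · obtain rfl := hpd 17 (by norm_num) h17
        have hle : ε ≤ 1 := by
          by_contra hc2
          have := Nat.pow_le_pow_right (show 0 < 17 by norm_num) (show 2 ≤ ε by omega)
          omega
        interval_cases ε
        norm_num at hmod
    · exfalso
      rcases (Nat.Prime.dvd_mul hp).1 (show p ∣ 7 * 73 by norm_num; exact hpV) with h7 | h73
      · obtain rfl := hpd 7 (by norm_num) h7
        rw [show ε = ε - 1 + 1 by omega, pow_succ] at hmod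
        omega
      · obtain rfl := hpd 73 (by norm_num) h73
        have hle : ε ≤ 1 := by
          by_contra hc2
          have := Nat.pow_le_pow_right (show 0 < 73 by norm_num) (show 2 ≤ ε by omega)
          omega
        interval_cases ε
        norm_num at hmod
  have horbit : MulAction.orbit ↥N' v₀ = Set.univ \ {(1 : ↥V)} := by
    refine Set.eq_of_subset_of_ncard_le (fun w hw => ⟨trivial, hone w hw⟩) ?_
    rw [horb, heq, Set.ncard_sdiff_singleton_of_mem (Set.mem_univ _), Set.ncard_univ]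
  obtain ⟨x, hxT, hxA, hxx⟩ := hb.exists_not_sq
  set xx : NX A := nx A ⟨x, hb.tower.T_le hxT⟩ with hxx'
  have hxxT : xx ∈ Tb := mem_nimg hb.tower.T_le hxT
  have hxV : (⟨π xx, xx, hxxT, rfl⟩ : ↥V) ∈ MulAction.orbit ↥N' v₀ := by
    rw [horbit]
    refine ⟨trivial, fun h => hxA ?_⟩
    have h1 : xx ∈ Ab := hΦA ▸ (QuotientGroup.eq_one_iff xx).1 (congrArg Subtype.val h)
    obtain ⟨⟨a, haN⟩, ha, hae⟩ := h1
    exact hb.top.eq_of_nx (hc.closed.le ha) hxT hae ▸ ha
  obtain ⟨n, hn⟩ := hxV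
  obtain ⟨y, hy, hye⟩ := n.2
  have h1 : π (y * uu * y⁻¹) = π xx := by
    rw [map_mul, map_mul, map_inv, hye]
    exact (hsmul n v₀).symm.trans (congrArg Subtype.val hn)
  rw [hπ, QuotientGroup.mk'_apply, QuotientGroup.mk'_apply, QuotientGroup.eq, hΦA] at h1
  set a := (y * uu * y⁻¹)⁻¹ * xx with ha
  have ha2 : y⁻¹ * a * y⁻¹⁻¹ ∈ Ab := Subgroup.Normal.conj_mem inferInstance a h1 y⁻¹
  refine hxx (hb.top.eq_of_nx ((T : Subgroup G).mul_mem hxT hxT) (T : Subgroup G).one_mem ?_)
  rw [show (⟨x * x, _⟩ : ↥(Subgroup.normalizer (A : Set G))) =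
    ⟨x, hb.tower.T_le hxT⟩ * ⟨x, hb.tower.T_le hxT⟩ from rfl, map_mul]
  refine Eq.trans ?_ (map_one (nx A)).symm
  show xx * xx = 1
  obtain ⟨⟨c, hcN⟩, hcA', hce⟩ := ha2
  replace hcA' : c ∈ A := hcA'
  have huc : uu * (y⁻¹ * a * y⁻¹⁻¹) * (uu * (y⁻¹ * a * y⁻¹⁻¹)) = 1 := by
    rw [← hce, huu, ← map_mul, ← map_mul]
    refine (congrArg (nx A) (Subtype.ext ?_)).trans (map_one (nx A))
    show u * c * (u * c) = 1
    have hcu : c * u = u * c :=
      Subgroup.mem_centralizer_singleton_iff.1 (hc.le_cent u hb.top.data.bad hb.top.data.mem hcA')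
    calc u * c * (u * c) = u * (c * u) * c := by group
      _ = (u * u) * (c * c) := by rw [hcu]; group
      _ = 1 := by rw [hb.top.data.mul_self, hc.closed.sq hcA', mul_one]
  calc xx * xx = y * (uu * (y⁻¹ * a * y⁻¹⁻¹) * (uu * (y⁻¹ * a * y⁻¹⁻¹))) * y⁻¹ := by
        rw [ha]; group
    _ = 1 := by rw [huc, mul_one, mul_inv_cancel]

/-- `H` stabilises the image of `S`. -/
theorem stable (e : Semi T A M q u R L Z τ H σ) : Stable T A M q u R L Z τ H σ := by
  refine ⟨e, ?_⟩
  haveI : Group.IsSolvable H := OddOrder.FeitThompson.isSolvable_of_odd_card e.base.odd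
  have hH : H ≠ ⊥ := fun h => by
    have h1 := e.base.mem
    rw [h, Subgroup.mem_bot] at h1
    have h2 := e.base.orderOf_eq
    rw [h1, orderOf_one] at h2
    have := e.base.top.counted.eight_le
    omega
  obtain ⟨p, N, hp, hN, hNH, hHN, hNc, hNp⟩ := exists_elemAb_normal hH
  by_cases hex : ∃ n ∈ N, n ≠ 1 ∧
      n ∈ Subgroup.normalizer (nimg A e.base.top.data.sPart : Set (NX A))
  · obtain ⟨n, hn, hn1, hnS⟩ := hex
    exact e.stab_of_mem hp hNH hHN hNc hNp hn hn1 hnS
  · push Not at hex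
    exact e.stab_of_free hp hNH hHN hNc hNp hN fun y hy hyS =>
      by_contra fun h => hex y hy h hyS

end Semi

end Cfsg.Agent.Lib.Thompson3Prime33
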