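import Cfsg.Agent.Lib.Thompson3Prime33.Assemble
import Cfsg.Agent.Lib.Thompson3Prime33.Stab
import Cfsg.Agent.Lib.Thompson3Prime33.FinalTwo
import Cfsg.Agent.Lib.Thompson3Prime33.FinalBig

/-!
# Thompson's theorem on the simple groups of order prime to three

Owner: helper33.
-/

set_option autoImplicit false

namespace Cfsg.Agent.Lib.Thompson3Prime33

universe u

/-- Every finite non-abelian simple group of order prime to three is a Suzuki group. -/
theorem threePrimeSimple : ThreePrimeSimple.{u} :=
  threePrimeSimple_of fun _ _ _ => ⟨fun e => e.stable, fun e h => e.false_of_two h,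
    fun e h => e.false_of_big h⟩

end Cfsg.Agent.Lib.Thompson3Prime33
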