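import Cfsg.Prelude.Def_Sz

/-!
# The statement of Thompson's theorem on simple `3'`-groups

Owner: helper33.
-/

set_option autoImplicit false

namespace Cfsg.Agent.Lib.Thompson3Prime33

universe u

/-- Every finite non-abelian simple group of order prime to three is a Suzuki group. -/
def ThreePrimeSimple : Prop :=
  ∀ (G : Type u) [Group G] [Finite G], IsSimpleGroup G → (∃ a b : G, a * b ≠ b * a) →
    ¬ 3 ∣ Nat.card G → Cfsg.Lie.IsoSuzuki G

end Cfsg.Agent.Lib.Thompson3Prime33
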