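import Cfsg.Agent.Lib.Thompson3Prime33.Statement
import Cfsg.Agent.Lib.LieTwisted.SuzukiOut
import Cfsg.Agent.Lib.SzSubfield.Basic
import Cfsg.Agent.Lib.CITReduce.SuzukiGraph
import Cfsg.Agent.Lib.Components.Basic
import Cfsg.Agent.Lib.Coprime.Glauberman
import Cfsg.Agent.Lib.Cores.Basic
import Cfsg.Agent.Lib.MixedPQ.Basic
import Cfsg.Agent.Lib.Multiplier.Sylow
import Cfsg.Prelude.Def_Local
import Mathlib.FieldTheory.Fixed

/-!
# S2976: a component of order prime to three and an element of order three with soluble centraliser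

The component modulo its centre is a Suzuki group by `ThreePrimeSimple`; an automorphism of order
three of `Sz(q)` is conjugate to a field automorphism, which centralises a subfield group.
-/

set_option autoImplicit false
set_option linter.unusedSectionVars false
set_option linter.style.haveILetI false

namespace Cfsg.Agent.Lib.Thompson3Prime33.Component

open Subgroup Cfsg.Agent.Lib.LieTwisted.Suzuki

universe u

section Sz

variable {F : Type*} [Field F] [Fintype F] {m : ℕ} (h : IsSzField F m) (hm : 1 ≤ m)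
include h hm

theorem not_solvable : ¬ Group.IsSolvable (Cfsg.Sz F m) := by
  haveI := h.isSimple hm
  intro hs
  have hab := IsSimpleGroup.comm_iff_isSolvable.2 hs
  have hp : (Nat.card (Cfsg.Sz F m)).Prime := by
    letI : CommGroup (Cfsg.Sz F m) :=
      { (inferInstance : Group (Cfsg.Sz F m)) with mul_comm := hab }
    exact IsSimpleGroup.prime_card
  rw [h.card_group hm] at hp
  have hq := h.two_lt_card hm
  rcases Nat.prime_mul_iff.1 hp with ⟨-, h1⟩ | ⟨-, h1⟩
  · omega
  · have := Nat.eq_one_of_mul_eq_one_right h1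
    nlinarith

/-- Every automorphism is an inner automorphism times a field automorphism. -/
theorem exists_decomp (φ : MulAut (Cfsg.Sz F m)) :
    ∃ g ρ, φ = MulAut.conj g * h.fieldHom hm ρ := by
  obtain ⟨g, hg⟩ := h.exists_adapted hm φ
  obtain ⟨e, ρ, hd⟩ := hg.decomp h hm
  refine ⟨g⁻¹ * dS h e, ρ, ?_⟩
  rw [map_mul, mul_assoc, ← hd, ← mul_assoc, ← map_mul, inv_mul_cancel, map_one, one_mul]

theorem outer_injective : Function.Injective
    (fun ρ => (QuotientGroup.mk (h.fieldHom hm ρ) : Cfsg.Out (Cfsg.Sz F m))) := by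
  classical
  haveI : Fact (Nat.Prime 2) := ⟨Nat.prime_two⟩
  have hs : Function.Surjective
      (fun ρ => (QuotientGroup.mk (h.fieldHom hm ρ) : Cfsg.Out (Cfsg.Sz F m))) := fun q => by
    obtain ⟨φ, rfl⟩ := QuotientGroup.mk_surjective q
    obtain ⟨g, ρ, rfl⟩ := exists_decomp h hm φ
    refine ⟨ρ, QuotientGroup.eq.2 ?_⟩
    rw [← mul_assoc]
    simpa using (Cfsg.innNormal (Cfsg.Sz F m)).conj_mem _ ⟨g, rfl⟩ (h.fieldHom hm ρ)⁻¹
  haveI : Finite (F ≃+* F) := Finite.of_injective (fun f => (f : F → F)) DFunLike.coe_injective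
  refine (Function.Surjective.bijective_of_nat_card_le hs ?_).1
  rw [h.card_out hm, AutPSL.card_fieldAuts h.card]

/-- A field automorphism of order three centralises a subfield group. -/
theorem eq_one_of_field {ρ : F ≃+* F} (hρ : orderOf ρ = 3) {S : Subgroup (Cfsg.Sz F m)}
    (hS : Group.IsSolvable S) (hfix : ∀ x, h.fieldHom hm ρ x = x → x ∈ S) : m = 1 := by
  classical
  haveI : Finite (F ≃+* F) := Finite.of_injective (fun f => (f : F → F)) DFunLike.coe_injective
  letI : Fintype (zpowers ρ) := Fintype.ofFinite _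
  let K := FixedPoints.subfield (zpowers ρ) F
  have hK3 : Module.finrank K F = 3 := by
    rw [FixedPoints.finrank_eq_card (zpowers ρ) F, ← Nat.card_eq_fintype_card, Nat.card_zpowers, hρ]
  have hc : Nat.card F = Nat.card K ^ 3 := by rw [Module.natCard_eq_pow_finrank (K := K), hK3]
  obtain ⟨j, -, hj⟩ := (Nat.dvd_prime_pow Nat.prime_two).1
    (show Nat.card K ∣ 2 ^ (2 * m + 1) by
      rw [← h.card, ← Nat.card_eq_fintype_card, hc]; exact dvd_pow_self _ (by norm_num))
  have hj3 : 2 * m + 1 = j * 3 := by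
    have h1 := hc
    rw [Nat.card_eq_fintype_card, h.card, hj, ← pow_mul] at h1
    exact Nat.pow_right_injective le_rfl h1
  obtain ⟨k, rfl⟩ : ∃ k, j = 2 * k + 1 := ⟨j / 2, by omega⟩
  by_contra hm1
  have hk1 : 1 ≤ k := by omega
  have hkF : IsSzField K k := ⟨by rw [← Nat.card_eq_fintype_card, hj]⟩
  have hsg : ∀ x : K, (K.subtype : K →+* F) (sg k x) = sg m ((K.subtype : K →+* F) x) := fun x => by
    have hx : x ^ 2 ^ (2 * k + 1) = x := by rw [← hkF.card]; exact FiniteField.pow_card x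
    show K.subtype (x ^ 2 ^ (k + 1)) = K.subtype x ^ 2 ^ (m + 1)
    rw [← map_pow, show m + 1 = 2 * k + 1 + (k + 1) by omega, pow_add 2 (2 * k + 1), pow_mul, hx]
  let f := SzSubfield.Basic.emb h hkF hm hk1 K.subtype hsg
  have hf : ∀ g, f g ∈ S := fun g => hfix _ (mat_injective (by
    rw [h.mat_fieldHom]
    ext i j'
    exact (mat g i j').2 ⟨ρ, mem_zpowers ρ⟩))
  have hinj : Function.Injective (f.codRestrict S hf) := fun a b e =>
    SzSubfield.Basic.emb_injective h hkF hm hk1 K.subtype hsg (congrArg Subtype.val e)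
  exact not_solvable hkF hk1 (Group.isSolvable_of_isSolvable_injective hinj)

/-- An automorphism of order dividing three with soluble fixed points forces `q = 8`. -/
theorem eq_one_of_solvable (φ : MulAut (Cfsg.Sz F m)) (h3 : φ ^ 3 = 1)
    (S : Subgroup (Cfsg.Sz F m)) (hS : Group.IsSolvable S) (hfix : ∀ x, φ x = x → x ∈ S) :
    m = 1 := by
  classical
  haveI := h.isSimple hm
  haveI : Fact (Nat.Prime 3) := ⟨Nat.prime_three⟩
  obtain ⟨g, ρ, hφ⟩ := exists_decomp h hm φ
  let π := QuotientGroup.mk' (MulAut.conj : Cfsg.Sz F m →* MulAut (Cfsg.Sz F m)).range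
  have hπ : ∀ ρ, π (h.fieldHom hm ρ) = QuotientGroup.mk (h.fieldHom hm ρ) := fun _ => rfl
  have hπφ : π φ = π (h.fieldHom hm ρ) := by
    rw [hφ, map_mul, show π (MulAut.conj g) = 1 from (QuotientGroup.eq_one_iff _).2 ⟨g, rfl⟩,
      one_mul]
  have hρ3 : ρ ^ 3 = 1 := outer_injective h hm (by
    show π (h.fieldHom hm (ρ ^ 3)) = π (h.fieldHom hm 1)
    rw [map_pow, map_pow, ← hπφ, ← map_pow, h3, map_one, map_one, map_one])
  have hnt : φ ≠ 1 := fun e => not_solvable h hm (by
    have htop : S = ⊤ := eq_top_iff.2 fun x _ => hfix x (by rw [e]; rfl)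
    subst htop
    exact Group.isSolvable_of_surjective (f := (⊤ : Subgroup (Cfsg.Sz F m)).subtype)
      fun x => ⟨⟨x, mem_top x⟩, rfl⟩)
  have hρ1 : ρ ≠ 1 := by
    intro e
    rw [e, map_one, mul_one] at hφ
    have h1 : MulAut.conj (g ^ 3) = 1 := by rw [map_pow, ← hφ, h3]
    have hg : g ^ 3 ∈ center (Cfsg.Sz F m) := mem_center_iff.2 fun y => by
      have := DFunLike.congr_fun h1 y
      rw [MulAut.conj_apply, MulAut.one_apply] at this
      exact (mul_inv_eq_iff_eq_mul.1 this).symm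
    have hz : center (Cfsg.Sz F m) = ⊥ := (IsSimpleGroup.eq_bot_or_eq_top_of_normal _
      inferInstance).resolve_right fun ht => not_solvable h hm
        (Group.isSolvable_of_comm fun a b => (mem_center_iff.1 (ht ▸ mem_top a : a ∈ center _) b).symm)
    rw [hz, mem_bot] at hg
    have ho := orderOf_dvd_of_pow_eq_one hg
    rcases (Nat.dvd_prime Nat.prime_three).1 ho with h' | h'
    · rw [orderOf_eq_one_iff.1 h', map_one] at hφ
      exact hnt hφ
    · exact CITReduce.SuzukiGraph.three_not_dvd h hm (h' ▸ _root_.orderOf_dvd_natCard g)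
  have hρo : orderOf ρ = 3 := orderOf_eq_prime hρ3 hρ1
  have hσo : orderOf (h.fieldHom hm ρ) = 3 := orderOf_eq_prime (by rw [← map_pow, hρ3, map_one])
    fun e => hρ1 (outer_injective h hm (by show π _ = π _; rw [e, map_one (h.fieldHom hm)]))
  have hφo : orderOf φ = 3 := orderOf_eq_prime h3 hnt
  set I := (MulAut.conj : Cfsg.Sz F m →* MulAut (Cfsg.Sz F m)).range
  haveI : Finite (MulAut (Cfsg.Sz F m)) :=
    Finite.of_injective (fun f => (f : Cfsg.Sz F m → Cfsg.Sz F m)) DFunLike.coe_injective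
  have hIn : I.Normal := Cfsg.innNormal _
  let A := zpowers (h.fieldHom hm ρ) ⊔ I
  have hσA : h.fieldHom hm ρ ∈ A := mem_sup_left (mem_zpowers _)
  have hφA : φ ∈ A := hφ ▸ mul_mem (mem_sup_right ⟨g, rfl⟩) hσA
  have hI3 : ¬ 3 ∣ Nat.card I := fun hd => CITReduce.SuzukiGraph.three_not_dvd h hm
    (hd.trans (card_range_dvd _))
  have hA : ∀ a : MulAut (Cfsg.Sz F m), orderOf a = 3 → (ha : a ∈ A) →
      ∃ P : Sylow 3 A, (P : Subgroup A) = zpowers ⟨a, ha⟩ := by
    intro a ho ha
    have hdvd : Nat.card A ∣ 3 * Nat.card I := by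
      have := MixedPQ.card_sup_zpowers_dvd (K := I) (u := h.fieldHom hm ρ)
        (by rw [normalizer_eq_top_iff.2 hIn]; exact mem_top _)
      rwa [hσo] at this
    have hfac : (Nat.card A).factorization 3 = 1 := by
      have h1 : 3 ∣ Nat.card A := by
        rw [← ho]; exact orderOf_dvd_natCard _ ha
      have h2 : ¬ 3 ^ 2 ∣ Nat.card A := fun h' => hI3
        (Nat.dvd_of_mul_dvd_mul_left (by norm_num : 0 < 3) ((pow_two 3).symm ▸ h'.trans hdvd))
      have h3' := (Nat.prime_three.pow_dvd_iff_le_factorization Nat.card_pos.ne').not.1 h2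
      have h4 := Nat.prime_three.factorization_pos_of_dvd Nat.card_pos.ne' h1
      omega
    exact ⟨Sylow.ofCard (zpowers ⟨a, ha⟩) (by
      rw [hfac, pow_one, Nat.card_zpowers, Subgroup.orderOf_mk, ho]), rfl⟩
  obtain ⟨P, hP⟩ := hA φ hφo hφA
  obtain ⟨Q, hQ⟩ := hA _ hσo hσA
  obtain ⟨a, ha⟩ := MulAction.exists_smul_eq A Q P
  have hφQ : (⟨φ, hφA⟩ : A) ∈ (P : Subgroup A) := hP ▸ mem_zpowers _
  rw [← ha, Sylow.coe_subgroup_smul, hQ] at hφQ
  obtain ⟨w, hw, hwφ⟩ := hφQ
  obtain ⟨i, rfl⟩ := mem_zpowers_iff.1 hw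
  have hφeq : φ = (a : MulAut (Cfsg.Sz F m)) * h.fieldHom hm ρ ^ i *
      (a : MulAut (Cfsg.Sz F m))⁻¹ := (congrArg Subtype.val hwφ).symm
  refine eq_one_of_field h hm hρo (S := S.comap (a : MulAut (Cfsg.Sz F m)).toMonoidHom) ?_ ?_
  · exact Group.isSolvable_of_isSolvable_injective
      (f := ((a : MulAut (Cfsg.Sz F m)).toMonoidHom.subgroupComap S)) fun x y e =>
      Subtype.ext ((a : MulAut (Cfsg.Sz F m)).injective (congrArg Subtype.val e))
  · intro x hx
    refine hfix _ ?_
    have hix : (h.fieldHom hm ρ ^ i) x = x :=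
      (zpow_mem (show h.fieldHom hm ρ ∈ MulAction.stabilizer (MulAut (Cfsg.Sz F m)) x from hx) i)
    rw [hφeq]
    show (a : MulAut (Cfsg.Sz F m)) ((h.fieldHom hm ρ ^ i)
      ((a : MulAut (Cfsg.Sz F m))⁻¹ ((a : MulAut (Cfsg.Sz F m)) x))) = _
    rw [MulAut.inv_apply_self, hix]
    rfl

end Sz

variable {G : Type u} [Group G] [Finite G] {K : Subgroup G} {y : G}

theorem conjNormal_iter (hn : y ∈ normalizer (K : Set G)) (k : K) :
    (K.normalizerMonoidHom ⟨y, hn⟩ k : G) = y * k * y⁻¹ := rfl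

/-- An element of order three with soluble centraliser normalises each component. -/
theorem mem_normalizer_of_solvable (hK : Cfsg.IsComponent K) (hy : orderOf y = 3)
    (hsol : Group.IsSolvable ↥(centralizer ({y} : Set G))) : y ∈ normalizer (K : Set G) := by
  by_contra hn
  have hy3 : y ^ 3 = 1 := hy ▸ pow_orderOf_eq_one y
  have hc1 : Cfsg.IsComponent (K.map (MulAut.conj y).toMonoidHom) := Components.Component.conj hK y
  have hc2 : Cfsg.IsComponent (K.map (MulAut.conj (y * y)).toMonoidHom) := Components.Component.conj hK _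
  have hmem : ∀ z : G, K.map (MulAut.conj z).toMonoidHom = K → z ∈ normalizer (K : Set G) :=
    fun z hz => mem_normalizer_fintype fun k hk => hz ▸ ⟨k, hk, rfl⟩
  have hne1 : K ≠ K.map (MulAut.conj y).toMonoidHom := fun e => hn (hmem y e.symm)
  have hne2 : K ≠ K.map (MulAut.conj (y * y)).toMonoidHom := fun e => hn (by
    have h2 := hmem _ e.symm
    have h4 := mul_mem h2 h2
    rwa [show y * y * (y * y) = y ^ 3 * y by rw [pow_succ, pow_two]; group, hy3, one_mul] at h4)
  have hne3 : K.map (MulAut.conj y).toMonoidHom ≠ K.map (MulAut.conj (y * y)).toMonoidHom := by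
    rw [map_mul, show ((MulAut.conj y * MulAut.conj y : MulAut G)).toMonoidHom =
      (MulAut.conj y).toMonoidHom.comp (MulAut.conj y).toMonoidHom from rfl, ← map_map]
    exact fun e => hne1 (map_injective (MulAut.conj y).injective e)
  have hc01 : ∀ a ∈ K, ∀ b ∈ K, y * b * y⁻¹ * a = a * (y * b * y⁻¹) := fun a ha b hb =>
    (mem_centralizer_iff.1 (Components.Component.le_centralizer_of_ne hK hc1 hne1 ha) _ ⟨b, hb, rfl⟩)
  have hc02 : ∀ a ∈ K, ∀ b ∈ K, y * y * b * (y * y)⁻¹ * a = a * (y * y * b * (y * y)⁻¹) :=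
    fun a ha b hb => mem_centralizer_iff.1 (Components.Component.le_centralizer_of_ne hK hc2 hne2 ha) _
      ⟨b, hb, rfl⟩
  have hc12 : ∀ a ∈ K, ∀ b ∈ K, y * y * b * (y * y)⁻¹ * (y * a * y⁻¹) =
      y * a * y⁻¹ * (y * y * b * (y * y)⁻¹) := fun a ha b hb =>
    mem_centralizer_iff.1 (Components.Component.le_centralizer_of_ne hc1 hc2 hne3 ⟨a, ha, rfl⟩) _
      ⟨b, hb, rfl⟩
  let f : K →* G :=
    { toFun := fun k => k * (y * k * y⁻¹) * (y * y * k * (y * y)⁻¹)
      map_one' := by simp
      map_mul' := fun a b => by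
        obtain ⟨a, ha⟩ := a
        obtain ⟨b, hb⟩ := b
        have e1 : b * (y * a * y⁻¹) = y * a * y⁻¹ * b := (hc01 b hb a ha).symm
        have e2 : b * (y * y * a * (y * y)⁻¹) = y * y * a * (y * y)⁻¹ * b := (hc02 b hb a ha).symm
        have e3 : y * b * y⁻¹ * (y * y * a * (y * y)⁻¹) =
            y * y * a * (y * y)⁻¹ * (y * b * y⁻¹) := (hc12 b hb a ha).symm
        show a * b * (y * (a * b) * y⁻¹) * (y * y * (a * b) * (y * y)⁻¹) =
          a * (y * a * y⁻¹) * (y * y * a * (y * y)⁻¹) *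
            (b * (y * b * y⁻¹) * (y * y * b * (y * y)⁻¹))
        calc a * b * (y * (a * b) * y⁻¹) * (y * y * (a * b) * (y * y)⁻¹)
            = a * (b * (y * a * y⁻¹)) * (y * b * y⁻¹ * (y * y * a * (y * y)⁻¹)) *
                (y * y * b * (y * y)⁻¹) := by group
          _ = a * (y * a * y⁻¹) * (b * (y * y * a * (y * y)⁻¹)) * (y * b * y⁻¹) *
                (y * y * b * (y * y)⁻¹) := by rw [e1, e3]; group
          _ = _ := by rw [e2]; group }
  have hf : ∀ k, f k ∈ centralizer ({y} : Set G) := by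
    rintro ⟨k, hk⟩
    rw [mem_centralizer_singleton_iff]
    have e1 : k * (y * k * y⁻¹) = y * k * y⁻¹ * k := (hc01 k hk k hk).symm
    have e2 : k * (y * y * k * (y * y)⁻¹) = y * y * k * (y * y)⁻¹ * k := (hc02 k hk k hk).symm
    have e3 : y * (y * y * k * (y * y)⁻¹) * y⁻¹ = k := by
      rw [show y * (y * y * k * (y * y)⁻¹) * y⁻¹ = y ^ 3 * k * (y ^ 3)⁻¹ by
        rw [pow_succ, pow_two]; group, hy3]
      group
    show k * (y * k * y⁻¹) * (y * y * k * (y * y)⁻¹) * y =
      y * (k * (y * k * y⁻¹) * (y * y * k * (y * y)⁻¹))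
    calc k * (y * k * y⁻¹) * (y * y * k * (y * y)⁻¹) * y
        = y * k * y⁻¹ * (k * (y * y * k * (y * y)⁻¹)) * y := by rw [e1]; group
      _ = y * k * y⁻¹ * (y * y * k * (y * y)⁻¹) *
            (y * (y * y * k * (y * y)⁻¹) * y⁻¹) * y := by rw [e2, e3]; group
      _ = _ := by group
  let f' := f.codRestrict _ hf
  have hker : f'.ker ≤ (center K).subtype.range := by
    rintro ⟨k, hk⟩ he
    rw [range_subtype, mem_center_iff]
    rintro ⟨a, ha⟩
    have he' : k * (y * k * y⁻¹) * (y * y * k * (y * y)⁻¹) = 1 :=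
      congrArg Subtype.val (MonoidHom.mem_ker.1 he)
    have h1 : k = (y * y * k * (y * y)⁻¹)⁻¹ * (y * k * y⁻¹)⁻¹ := by
      rw [← mul_inv_rev]; exact eq_inv_of_mul_eq_one_left (by rwa [← mul_assoc])
    have h2 : Commute a k := by
      rw [h1]
      exact (Commute.inv_right (hc02 a ha k hk).symm).mul_right
        (Commute.inv_right (hc01 a ha k hk).symm)
    exact Subtype.ext h2
  haveI : Group.IsSolvable (center K) := Group.isSolvable_of_comm mul_comm'
  exact Components.Component.not_isSolvable hK (Group.isSolvable_of_ker_le_range (center K).subtype f' hker)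

/-- S2976 modulo the simple `3'`-groups. -/
theorem row2976 (hT : ThreePrimeSimple.{u}) {G : Type u} [Group G] [Finite G] (K : Subgroup G)
    (hK : Cfsg.IsComponent K) (h3 : ¬ 3 ∣ Nat.card ↥K) (y : G) (hy : orderOf y = 3)
    (hsol : Group.IsSolvable ↥(centralizer ({y} : Set G))) :
    (∃ (F : Type) (_ : Field F) (_ : Fintype F), Fintype.card F = 8 ∧
        Nonempty (↥K ⧸ center ↥K ≃* ↥(Cfsg.Lie.Sz F 4))) ∧
      y ∈ normalizer (K : Set G) ∧ (Cfsg.pCore 2 G = ⊥ → IsSimpleGroup ↥K) := by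
  classical
  have hn := mem_normalizer_of_solvable hK hy hsol
  haveI := hK.2.2
  have hna : ∃ a b : ↥K ⧸ center ↥K, a * b ≠ b * a := by
    by_contra hab
    push Not at hab
    haveI hq : Group.IsSolvable (↥K ⧸ center ↥K) := Group.isSolvable_of_comm hab
    haveI : Group.IsSolvable (center ↥K) := Group.isSolvable_of_comm mul_comm'
    exact Components.Component.not_isSolvable hK (Group.isSolvable_of_ker_le_range (center ↥K).subtype
      (QuotientGroup.mk' (center ↥K)) (by simp))
  obtain ⟨F, iF, iFF, m, hm, hF, ⟨e⟩⟩ := hT (↥K ⧸ center ↥K) hK.2.2 hna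
    (fun hd => h3 (hd.trans (center ↥K).card_quotient_dvd_card))
  have h : IsSzField F m := ⟨hF⟩
  let e' : ↥K ⧸ center ↥K ≃* Cfsg.Sz F m := e.trans (szEquiv h hm).symm
  -- the automorphism induced by `y`
  let β : MulAut ↥K := K.normalizerMonoidHom ⟨y, hn⟩
  have hZ : (center ↥K).map β.toMonoidHom = center ↥K :=
    characteristic_iff_map_eq.1 inferInstance β
  let α : MulAut (↥K ⧸ center ↥K) := QuotientGroup.congr _ _ β hZ
  have hα : ∀ k : K, α (k : ↥K ⧸ center ↥K) = ((β k : ↥K) : ↥K ⧸ center ↥K) := fun k => rfl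
  have hy3 : y ^ 3 = 1 := hy ▸ pow_orderOf_eq_one y
  have hα3 : α ^ 3 = 1 := by
    have hβ : β ^ 3 = 1 := by
      rw [← map_pow, show (⟨y, hn⟩ : normalizer (K : Set G)) ^ 3 = 1 from Subtype.ext hy3, map_one]
    refine MulEquiv.ext fun q => ?_
    obtain ⟨k, rfl⟩ := QuotientGroup.mk_surjective q
    show α (α (α (k : ↥K ⧸ center ↥K))) = _
    rw [hα, hα, hα]
    exact congrArg _ (DFunLike.congr_fun hβ k)
  let C : Subgroup ↥K := (centralizer ({y} : Set G)).subgroupOf K
  have hCs : Group.IsSolvable C := Group.isSolvable_of_isSolvable_injective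
    (f := (K.subtype).subgroupComap (centralizer ({y} : Set G))) fun a b e =>
    Subtype.ext (Subtype.ext (congrArg (fun z : centralizer ({y} : Set G) => (z : G)) e))
  let φ : MulAut (Cfsg.Sz F m) := MulAut.congr e' α
  have hφ3 : φ ^ 3 = 1 := by rw [← map_pow, hα3, map_one]
  let S := C.map (e'.toMonoidHom.comp (QuotientGroup.mk' (center ↥K)))
  have hS : Group.IsSolvable S := Group.isSolvable_of_surjective
    (f := (e'.toMonoidHom.comp (QuotientGroup.mk' (center ↥K))).subgroupMap C)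
    (MonoidHom.subgroupMap_surjective _ _)
  have hm1 : m = 1 := by
    refine eq_one_of_solvable h hm φ hφ3 S hS fun x hx => ?_
    obtain ⟨k, hk⟩ := QuotientGroup.mk_surjective (e'.symm x)
    have hfix : ((β k : ↥K) : ↥K ⧸ center ↥K) = k := by
      rw [← hα, hk]
      apply e'.injective
      rw [e'.apply_symm_apply]
      exact hx
    set Z : Subgroup G := (center ↥K).map K.subtype
    have hyZ : zpowers y ≤ normalizer (Z : Set G) := by
      refine zpowers_le.2 (mem_normalizer_fintype ?_)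
      rintro _ ⟨z, hz, rfl⟩
      exact ⟨β z, hZ ▸ mem_map_of_mem _ hz, rfl⟩
    have hcop : (Nat.card (zpowers y)).Coprime (Nat.card Z) := by
      rw [Nat.card_zpowers, hy, Nat.prime_three.coprime_iff_not_dvd]
      exact fun hd => h3 (hd.trans ((card_map_of_injective K.subtype_injective).dvd.trans
        (center ↥K).card_subgroup_dvd_card))
    have hk1 : (k : G)⁻¹ * (y * k * y⁻¹) ∈ Z :=
      ⟨k⁻¹ * β k, (QuotientGroup.eq (s := center ↥K)).1 hfix.symm, rfl⟩
    have hkn : ∀ n : ℕ, (k : G)⁻¹ * (y ^ n * k * (y ^ n)⁻¹) ∈ Z := by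
      intro n
      induction n with
      | zero => simp
      | succ n ih =>
        have h2 := mul_mem hk1
          ((mem_normalizer_iff.1 (hyZ (mem_zpowers y)) _).1 ih)
        rw [show (k : G)⁻¹ * (y * k * y⁻¹) * (y * ((k : G)⁻¹ * (y ^ n * k * (y ^ n)⁻¹)) * y⁻¹) =
          (k : G)⁻¹ * (y ^ (n + 1) * k * (y ^ (n + 1))⁻¹) by rw [pow_succ']; group] at h2
        exact h2
    obtain ⟨n, hn', hfx⟩ := Coprime.exists_mul_fixed (A := zpowers y) (N := Z) (k := (k : G)) hyZ hcop
      (Or.inl (Coprime.isSolvable_zpowers y)) fun a ha => by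
        obtain ⟨n, rfl⟩ := (isOfFinOrder_of_finite y).mem_powers_iff_mem_zpowers.2 ha
        exact hkn n
    obtain ⟨z, hz, rfl⟩ := hn'
    refine ⟨k * z, mem_subgroupOf.2 (mem_centralizer_singleton_iff.2
      (mem_centralizer_iff.1 hfx y (mem_zpowers y)).symm), ?_⟩
    show e' ((k * z : ↥K) : ↥K ⧸ center ↥K) = x
    rw [QuotientGroup.mk_mul, (QuotientGroup.eq_one_iff _).2 hz, mul_one, hk, e'.apply_symm_apply]
  subst hm1
  refine ⟨⟨F, iF, iFF, by rw [hF]; norm_num, ⟨e⟩⟩, hn, fun hO => ?_⟩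
  -- the centre is trivial
  have hZ1 : center ↥K = ⊥ := by
    by_contra hne
    obtain ⟨p, hp, hd⟩ := Nat.exists_prime_and_dvd
      (fun h1 : Nat.card (center ↥K) = 1 => hne (card_eq_one.1 h1))
    haveI := Fact.mk hp
    by_cases h2 : p = 2
    · subst h2
      obtain ⟨⟨z, hz⟩, hzo⟩ := exists_prime_orderOf_dvd_card' 2 hd
      rw [Subgroup.orderOf_mk] at hzo
      haveI hN : (zpowers z).Normal := ⟨fun w hw g => by
        have hwc : w ∈ center ↥K := (zpowers_le.2 hz) hw
        rwa [mem_center_iff.1 hwc g, mul_inv_cancel_right]⟩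
      have hsn : ((zpowers z).map K.subtype).IsSubnormal :=
        (hN.isSubnormal).trans' hK.1
      have hp2 : IsPGroup 2 ((zpowers z).map K.subtype) :=
        (IsPGroup.of_card (n := 1) (by rw [Nat.card_zpowers, hzo, pow_one])).map _
      have hle := Cores.IsSubnormal.le_pCore hsn hp2
      rw [hO, le_bot_iff, map_eq_bot_iff_of_injective _ K.subtype_injective, zpowers_eq_bot] at hle
      rw [hle, orderOf_one] at hzo
      norm_num at hzo
    · have hst : Cfsg.IsStemExtension (QuotientGroup.mk' (center ↥K)) := by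
        refine ⟨QuotientGroup.mk'_surjective _, (QuotientGroup.ker_mk' _).le, ?_⟩
        rw [hK.2.1.commutator_eq_top]
        exact le_top
      refine Multiplier.not_dvd_card_ker_of_cyclic (p := p) _ hst (fun P => ?_)
        (by rwa [QuotientGroup.ker_mk'])
      have hcard : Nat.card (↥K ⧸ center ↥K) = 2 ^ 6 * 455 := by
        rw [Nat.card_congr e'.toEquiv, h.card_group hm, hF]
        norm_num
      have hle : (Nat.card (↥K ⧸ center ↥K)).factorization p ≤ 1 := by
        by_contra hlt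
        have h1 : p ^ 2 ∣ 2 ^ 6 * 455 := hcard ▸ (pow_dvd_pow p (by omega)).trans (Nat.ordProj_dvd _ _)
        have h455 : p ^ 2 ∣ 455 := (Nat.Coprime.pow 2 6
          ((Nat.coprime_primes hp Nat.prime_two).2 h2)).dvd_of_dvd_mul_left h1
        have hb : p < 22 := by nlinarith [Nat.le_of_dvd (by norm_num) h455]
        have key : ∀ q < 22, 2 ≤ q → ¬ q ^ 2 ∣ 455 := by decide +kernel
        exact key p hb hp.two_le h455
      have hS := P.card_eq_multiplicity
      interval_cases hf : (Nat.card (↥K ⧸ center ↥K)).factorization p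
      · rw [pow_zero] at hS
        haveI := (Nat.card_eq_one_iff_unique.1 hS).1
        exact isCyclic_of_subsingleton
      · rw [pow_one] at hS
        exact isCyclic_of_prime_card hS
  haveI := Components.Quasisimple.nontrivial hK.2
  exact IsSimpleGroup.isSimpleGroup_of_surjective
    ((QuotientGroup.quotientMulEquivOfEq hZ1).trans (QuotientGroup.quotientBot (G := ↥K))).toMonoidHom
    ((QuotientGroup.quotientMulEquivOfEq hZ1).trans (QuotientGroup.quotientBot (G := ↥K))).surjective

end Cfsg.Agent.Lib.Thompson3Prime33.Component
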