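import Cfsg.Agent.Lib.Thompson3Prime33.Basic
import Cfsg.Agent.Lib.GlaubermanTwo54.NoTransv

/-!
# The quadratic bound in small groups

Owner: helper33.
-/

set_option autoImplicit false
set_option linter.style.haveILetI false
set_option linter.unusedSectionVars false

open scoped commutatorElement

namespace Cfsg.Agent.Lib.Thompson3Prime33

universe u

variable {G : Type u} [Group G] [Finite G]

theorem Hyp.three_of_small (h : Hyp G) {Y : Type u} [Group Y] (hY : Small G Y) :
    ¬ 3 ∣ Nat.card Y := fun h3 => h.three (h3.trans hY.1)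

/-- The bound in a small group. -/
theorem Hyp.reduced_bound (h : Hyp G) {Y : Type u} [Group Y] [Finite Y] (hY : Small G Y)
    (V : Subgroup Y) [V.Normal] (hV : Cfsg.IsElementaryAbelian 2 V)
    (hred : Cfsg.pCore 2 (Y ⧸ Subgroup.centralizer (V : Set Y)) = ⊥) (R : Subgroup Y)
    (hRc : ∀ a ∈ R, ∀ b ∈ R, ⁅a, b⁆ ∈ Subgroup.centralizer (V : Set Y))
    (hRs : ∀ a ∈ R, a * a ∈ Subgroup.centralizer (V : Set Y)) :
    (Subgroup.centralizer (V : Set Y)).relIndex R ^ 2 *
        Nat.card (V ⊓ Subgroup.centralizer (R : Set Y) : Subgroup Y) ≤ Nat.card V ∧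
      (Subgroup.centralizer (V : Set Y)).relIndex R ^ 2 ≤ Nat.card ↥⁅V, R⁆ := by
  have hfree : ¬ Cfsg.Involves (Equiv.Perm (Fin 4)) Y := by
    rintro ⟨K, N, hn, ⟨e⟩⟩
    haveI := hn
    refine h.three_of_small hY ?_
    have h1 : Nat.card (K ⧸ N.subgroupOf K) = 24 := by
      rw [Nat.card_congr e.toEquiv, Nat.card_perm, Nat.card_fin]; rfl
    exact ((show 3 ∣ 24 by norm_num).trans (h1 ▸ Subgroup.card_quotient_dvd_card _)).trans
      K.card_subgroup_dvd_card
  have hc : Cfsg.IsCompositionKGroupWith (fun (X : Type u) [Group X] => GlaubermanTwo54.TypOdd X) Y :=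
    fun H _ N _ hs hn => Or.inl (Or.inl (h.suzuki
      ((hY.subgroup H).surj (QuotientGroup.mk' N) (QuotientGroup.mk'_surjective N)) hs hn))
  obtain ⟨h1, h2⟩ := GlaubermanTwo54.reduced_bound (V := V) hfree hc hV hred R hRc hRs
  refine ⟨le_trans (Nat.mul_le_mul_left _ (Subgroup.card_le_of_le ?_)) h1, h2⟩
  intro v hv
  rw [PLocal.mem_fixOn]
  exact ⟨hv.1, fun r hr => Subgroup.mem_centralizer_iff.1 hv.2 r hr⟩

variable {T : Sylow 2 G} {A : Subgroup G}

/-- The bound on the automiser of `A`. -/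
theorem Closed.bound (h : Closed G T A) {R : Subgroup G}
    (hR : R ≤ Subgroup.normalizer (A : Set G))
    (hRc : ∀ a ∈ R, ∀ b ∈ R, ⁅a, b⁆ ∈ Subgroup.centralizer (A : Set G))
    (hRs : ∀ a ∈ R, a * a ∈ Subgroup.centralizer (A : Set G)) :
    (Subgroup.centralizer (A : Set G)).relIndex R ^ 2 *
        Nat.card (A ⊓ Subgroup.centralizer (R : Set G) : Subgroup G) ≤ Nat.card A := by
  haveI : Fact (Nat.Prime 2) := ⟨Nat.prime_two⟩
  set N := Subgroup.normalizer (A : Set G) with hN
  set V := A.subgroupOf N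
  haveI : V.Normal := Subgroup.normal_in_normalizer
  have hcent : Subgroup.centralizer (V : Set N) = (Subgroup.centralizer (A : Set G)).subgroupOf N := by
    ext n
    rw [Subgroup.mem_subgroupOf, Subgroup.mem_centralizer_iff, Subgroup.mem_centralizer_iff]
    exact ⟨fun hn a ha => congrArg Subtype.val
      (hn ⟨a, Subgroup.le_normalizer ha⟩ (Subgroup.mem_subgroupOf.2 ha)),
      fun hn a ha => Subtype.ext (hn a ha)⟩
  have hred : Cfsg.pCore 2 (N ⧸ Subgroup.centralizer (V : Set N)) = ⊥ := by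
    set π := QuotientGroup.mk' (Subgroup.centralizer (V : Set N))
    set D := Cfsg.pCore 2 (N ⧸ Subgroup.centralizer (V : Set N))
    haveI : D.Normal := inferInstance
    have hK := h.le_centralizer_of_two (K := (D.comap π).map N.subtype) (Subgroup.map_subtype_le _)
      (by
        rintro n hn _ ⟨k, hk, rfl⟩
        exact ⟨⟨n, hn⟩ * k * ⟨n, hn⟩⁻¹, (inferInstance : (D.comap π).Normal).conj_mem k hk ⟨n, hn⟩, rfl⟩)
      (by
        rintro _ ⟨k, hk, rfl⟩
        obtain ⟨i, hi⟩ := Cores.pCore_isPGroup 2 ⟨π k, hk⟩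
        refine ⟨i, fun a ha => ?_⟩
        have hi' : (π k) ^ 2 ^ i = 1 := congrArg Subtype.val hi
        rw [← map_pow, QuotientGroup.mk'_apply, QuotientGroup.eq_one_iff, hcent,
          Subgroup.mem_subgroupOf] at hi'
        exact (Subgroup.mem_centralizer_iff.1 hi' a ha).symm)
    refine le_bot_iff.1 fun y hy => ?_
    obtain ⟨k, rfl⟩ := QuotientGroup.mk'_surjective _ y
    rw [Subgroup.mem_bot, QuotientGroup.mk'_apply, QuotientGroup.eq_one_iff, hcent,
      Subgroup.mem_subgroupOf]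
    exact hK ⟨k, hy, rfl⟩
  have hVe : Cfsg.IsElementaryAbelian 2 V := PGroups.elemAb_mk
    (fun a ha b hb => Subtype.ext (h.comm ha hb)) fun a ha => Subtype.ext (h.elem.2 a ha)
  obtain ⟨h1, -⟩ := h.hyp.reduced_bound (small_subgroup h.ne_top) V hVe hred (R.subgroupOf N)
    (fun a ha b hb => hcent ▸ Subgroup.mem_subgroupOf.2 (hRc a ha b hb))
    (fun a ha => hcent ▸ Subgroup.mem_subgroupOf.2 (hRs a ha))
  rw [hcent, Subgroup.relIndex_subgroupOf hR,
    Nat.card_congr (Subgroup.subgroupOfEquivOfLe Subgroup.le_normalizer).toEquiv] at h1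
  refine le_trans (Nat.mul_le_mul_left _ ?_) h1
  refine Nat.card_le_card_of_injective
    (fun a => ⟨⟨a.1, Subgroup.le_normalizer a.2.1⟩, a.2.1, Subgroup.mem_centralizer_iff.2
      fun r hr => Subtype.ext (Subgroup.mem_centralizer_iff.1 a.2.2 r hr)⟩) fun a b e => ?_
  exact Subtype.ext (congrArg (fun z => ((z.1 : N) : G)) e)

end Cfsg.Agent.Lib.Thompson3Prime33
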