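import Cfsg.Agent.Lib.Thompson3Prime33.Basic
import Cfsg.Agent.Lib.LAEven54.SylowJoin
import Cfsg.Agent.Lib.Balance.LocalBalance

/-!
# The decompositions of the centraliser of `A` in `T` given by effective components

`Eff A RA q Pl C`: `RA` is the direct product of `Pl`, isomorphic to a Sylow `2`-subgroup of
`Sz(q)` with `A ⊓ Pl` as its subgroup of involutions, and of `C`, compatibly with `A`.

Owner: helper33.
-/

set_option autoImplicit false
set_option linter.style.haveILetI false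
set_option linter.unusedSectionVars false
set_option linter.unusedVariables false

namespace Cfsg.Agent.Lib.Thompson3Prime33

universe u

variable {G : Type u} [Group G] [Finite G]

/-- A decomposition of `RA` given by an effective component. -/
structure Eff (A RA : Subgroup G) (q : ℕ) (Pl C : Subgroup G) : Prop where
  q_eq : ∃ m : ℕ, 1 ≤ m ∧ q = 2 ^ (2 * m + 1)
  le_left : Pl ≤ RA
  le_right : C ≤ RA
  comm : ∀ p ∈ Pl, ∀ c ∈ C, p * c = c * p
  inf_bot : Pl ⊓ C = ⊥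
  gen : ∀ r ∈ RA, ∃ p ∈ Pl, ∃ c ∈ C, r = p * c
  card : Nat.card Pl = q ^ 2
  card_inf : Nat.card (A ⊓ Pl : Subgroup G) = q
  sq_iff : ∀ x ∈ Pl, (x * x = 1 ↔ x ∈ A)
  sq_mem : ∀ x ∈ Pl, x * x ∈ A
  sq_surj : ∀ z ∈ A, z ∈ Pl → ∃ x ∈ Pl, x * x = z
  cent : ∀ x ∈ Pl, x ∉ A → ∀ y ∈ Pl, x * y = y * x → y ∈ A ∨ x⁻¹ * y ∈ A
  decomp : ∀ a ∈ A, ∃ z ∈ A ⊓ Pl, ∃ c ∈ A ⊓ C, a = z * c

namespace Eff

variable {A RA Pl C Pl' C' : Subgroup G} {q q' : ℕ}

theorem eight_le (d : Eff A RA q Pl C) : 8 ≤ q := by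
  obtain ⟨m, hm, rfl⟩ := d.q_eq
  calc 8 = 2 ^ 3 := rfl
    _ ≤ 2 ^ (2 * m + 1) := Nat.pow_le_pow_right (by norm_num) (by omega)

theorem ne_bot (d : Eff A RA q Pl C) : A ⊓ Pl ≠ ⊥ := by
  intro e
  have h := d.card_inf
  rw [e, Subgroup.card_bot] at h
  have := d.eight_le
  omega

theorem eq_of_mul_eq (d : Eff A RA q Pl C) {p p' c c' : G} (hp : p ∈ Pl) (hp' : p' ∈ Pl)
    (hc : c ∈ C) (hc' : c' ∈ C) (e : p * c = p' * c') : p = p' ∧ c = c' := by
  have h1 : p'⁻¹ * p = c' * c⁻¹ :=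
    inv_mul_eq_iff_eq_mul.2 (by rw [← mul_assoc, ← e, mul_inv_cancel_right])
  have h3 : p'⁻¹ * p ∈ Pl ⊓ C :=
    Subgroup.mem_inf.2 ⟨mul_mem (inv_mem hp') hp, h1.symm ▸ mul_mem hc' (inv_mem hc)⟩
  have h2 : p'⁻¹ * p = 1 := Subgroup.mem_bot.1 (d.inf_bot ▸ h3)
  have := (inv_mul_eq_one.1 h2).symm
  subst this
  exact ⟨rfl, mul_left_cancel e⟩

theorem inf_inf_bot (d : Eff A RA q Pl C) : (A ⊓ Pl) ⊓ (A ⊓ C) = ⊥ :=
  le_bot_iff.1 (d.inf_bot ▸ inf_le_inf inf_le_right inf_le_right)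

theorem conj_RA (d : Eff A RA q Pl C) {n : G} (hA : n ∈ Subgroup.normalizer (A : Set G))
    (hR : n ∈ Subgroup.normalizer (RA : Set G)) : Eff A RA q (cj n Pl) (cj n C) := by
  have hAA : cj n A = A := Subgroup.mem_normalizer_iff_map_conj_eq.1 hA
  have hRR : cj n RA = RA := Subgroup.mem_normalizer_iff_map_conj_eq.1 hR
  have hinf : ∀ H : Subgroup G, cj n (A ⊓ H) = A ⊓ cj n H := fun H => by
    rw [cj, Subgroup.map_inf _ _ _ (MulAut.conj n).injective]
    exact congrArg (· ⊓ _) hAA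
  have hm : ∀ {H : Subgroup G} {x : G}, x ∈ cj n H → ∃ y ∈ H, x = n * y * n⁻¹ :=
    fun {H x} ⟨y, hy, e⟩ => ⟨y, hy, e.symm⟩
  have hmA : ∀ {y : G}, n * y * n⁻¹ ∈ A ↔ y ∈ A := fun {y} =>
    (Subgroup.mem_normalizer_iff.1 hA y).symm
  refine ⟨d.q_eq, (cj_mono d.le_left).trans hRR.le, (cj_mono d.le_right).trans hRR.le, ?_, ?_, ?_,
    (card_cj n Pl).trans d.card, ?_, ?_, ?_, ?_, ?_, ?_⟩
  · rintro _ ⟨p, hp, rfl⟩ _ ⟨c, hc, rfl⟩
    rw [← map_mul, ← map_mul, d.comm p hp c hc]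
  · rw [cj, ← Subgroup.map_inf _ _ _ (MulAut.conj n).injective, d.inf_bot, Subgroup.map_bot]
  · intro r hr
    obtain ⟨r₀, hr₀, rfl⟩ := hm (hRR.symm ▸ hr : r ∈ cj n RA)
    obtain ⟨p, hp, c, hc, rfl⟩ := d.gen r₀ hr₀
    exact ⟨_, conj_mem_cj hp, _, conj_mem_cj hc, by group⟩
  · rw [← hinf, card_cj]; exact d.card_inf
  · intro x hx
    obtain ⟨y, hy, rfl⟩ := hm hx
    rw [hmA, ← d.sq_iff y hy, show n * y * n⁻¹ * (n * y * n⁻¹) = n * (y * y) * n⁻¹ by group,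
      conj_eq_one_iff]
  · intro x hx
    obtain ⟨y, hy, rfl⟩ := hm hx
    rw [show n * y * n⁻¹ * (n * y * n⁻¹) = n * (y * y) * n⁻¹ by group, hmA]
    exact d.sq_mem y hy
  · intro z hz hzP
    obtain ⟨y, hy, rfl⟩ := hm hzP
    obtain ⟨x, hx, e⟩ := d.sq_surj y (hmA.1 hz) hy
    exact ⟨_, conj_mem_cj hx, by rw [← e]; group⟩
  · intro x hx hxA y hy hxy
    obtain ⟨x₀, hx₀, rfl⟩ := hm hx
    obtain ⟨y₀, hy₀, rfl⟩ := hm hy
    have := d.cent x₀ hx₀ (fun h => hxA (hmA.2 h)) y₀ hy₀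
      (by
        have := congrArg (fun w => n⁻¹ * w * n) hxy
        simpa [mul_assoc] using this)
    rw [hmA, show (n * x₀ * n⁻¹)⁻¹ * (n * y₀ * n⁻¹) = n * (x₀⁻¹ * y₀) * n⁻¹ by group, hmA]
    exact this
  · intro a ha
    obtain ⟨a₀, ha₀, rfl⟩ := hm (hAA.symm ▸ ha : a ∈ cj n A)
    obtain ⟨z, hz, c, hc, rfl⟩ := d.decomp a₀ ha₀
    exact ⟨_, hinf Pl ▸ conj_mem_cj hz, _, hinf C ▸ conj_mem_cj hc, by group⟩

/-- The projection of one decomposition on another: `Pl` or `C` is sent into `A`. -/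
theorem proj_le (d : Eff A RA q Pl C) (d' : Eff A RA q' Pl' C') :
    (∀ x ∈ Pl, ∀ p ∈ Pl', ∀ c ∈ C', x = p * c → p ∈ A) ∨
      (∀ x ∈ C, ∀ p ∈ Pl', ∀ c ∈ C', x = p * c → p ∈ A) := by
  by_contra hc
  push Not at hc
  obtain ⟨⟨x, hx, p, hp, c, hc1, e, hpA⟩, y, hy, p', hp', c', hc1', e', hp'A⟩ := hc
  -- projections of commuting elements commute
  have hproj : ∀ a ∈ RA, ∀ b ∈ RA, a * b = b * a → ∀ pa ∈ Pl', ∀ ca ∈ C', a = pa * ca →
      ∀ pb ∈ Pl', ∀ cb ∈ C', b = pb * cb → pa * pb = pb * pa := by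
    rintro a - b - hab pa hpa ca hca rfl pb hpb cb hcb rfl
    refine (d'.eq_of_mul_eq (c := ca * cb) (c' := cb * ca) (mul_mem hpa hpb) (mul_mem hpb hpa)
      (mul_mem hca hcb) (mul_mem hcb hca) ?_).1
    calc pa * pb * (ca * cb) = pa * (pb * ca) * cb := by group
      _ = pa * (ca * pb) * cb := by rw [d'.comm pb hpb ca hca]
      _ = (pa * ca) * (pb * cb) := by group
      _ = (pb * cb) * (pa * ca) := hab
      _ = pb * (cb * pa) * ca := by group
      _ = pb * (pa * cb) * ca := by rw [d'.comm pa hpa cb hcb]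
      _ = pb * pa * (cb * ca) := by group
  have hxy := d.comm x hx y hy
  have hpp' : p * p' = p' * p := hproj x (d.le_left hx) y (d.le_right hy) hxy p hp c hc1 e p' hp' c'
    hc1' e'
  have hr : p⁻¹ * p' ∈ A := (d'.cent p hp hpA p' hp' hpp').resolve_left hp'A
  -- every element of `Pl'` is congruent to `1` or `p`
  have key : ∀ w ∈ Pl', w ∈ A ∨ p⁻¹ * w ∈ A := by
    have aux : ∀ v ∈ RA, ∀ pv ∈ Pl', ∀ cv ∈ C', v = pv * cv →
        (v ∈ Pl ∨ v ∈ C) → pv ∈ A ∨ p⁻¹ * pv ∈ A := by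
      intro v hv pv hpv cv hcv ev hPC
      rcases hPC with hvP | hvC
      · have h1 := hproj v hv y (d.le_right hy) (d.comm v hvP y hy) pv hpv cv hcv ev p' hp' c' hc1' e'
        rcases d'.cent p' hp' hp'A pv hpv h1.symm with h | h
        · exact Or.inl h
        · exact Or.inr (by have := mul_mem hr h; simpa [mul_assoc] using this)
      · exact d'.cent p hp hpA pv hpv
          (hproj x (d.le_left hx) v hv (d.comm x hx v hvC) p hp c hc1 e pv hpv cv hcv ev)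
    intro w hw
    obtain ⟨a, ha, b, hb, hab⟩ := d.gen w (d'.le_left hw)
    obtain ⟨pa, hpa, ca, hca, ea⟩ := d'.gen a (d.le_left ha)
    obtain ⟨pb, hpb, cb, hcb, eb⟩ := d'.gen b (d.le_right hb)
    have hw' : w = pa * pb := by
      refine (d'.eq_of_mul_eq (c := 1) (c' := ca * cb) hw (mul_mem hpa hpb) (one_mem _)
        (mul_mem hca hcb) ?_).1
      rw [mul_one, hab, ea, eb]
      calc pa * ca * (pb * cb) = pa * (ca * pb) * cb := by group
        _ = pa * (pb * ca) * cb := by rw [d'.comm pb hpb ca hca]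
        _ = _ := by group
    have hpsq : p * p ∈ A := d'.sq_mem p hp
    have hAn : ∀ z ∈ A, z ∈ Pl' → p⁻¹ * z * p ∈ A := by
      intro z hz hzP
      rw [← d'.sq_iff (p⁻¹ * z * p) (mul_mem (mul_mem (inv_mem hp) hzP) hp),
        show p⁻¹ * z * p * (p⁻¹ * z * p) = p⁻¹ * (z * z) * p by group,
        (d'.sq_iff z hzP).2 hz, mul_one, inv_mul_cancel]
    have hA' : ∀ {z}, z ∈ A → z ∈ Pl' → p * z * p⁻¹ ∈ A := by
      intro z hz hzP
      rw [← d'.sq_iff (p * z * p⁻¹) (mul_mem (mul_mem hp hzP) (inv_mem hp)),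
        show p * z * p⁻¹ * (p * z * p⁻¹) = p * (z * z) * p⁻¹ by group,
        (d'.sq_iff z hzP).2 hz, mul_one, mul_inv_cancel]
    rcases aux a (d.le_left ha) pa hpa ca hca ea (Or.inl ha) with h1 | h1 <;>
      rcases aux b (d.le_right hb) pb hpb cb hcb eb (Or.inr hb) with h2 | h2
    · exact Or.inl (hw' ▸ mul_mem h1 h2)
    · refine Or.inr ?_
      rw [hw', show p⁻¹ * (pa * pb) = (p⁻¹ * pa * p) * (p⁻¹ * pb) by group]
      exact mul_mem (hAn pa h1 hpa) h2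
    · exact Or.inr (hw' ▸ by rw [← mul_assoc]; exact mul_mem h1 h2)
    · refine Or.inl ?_
      rw [hw', show pa * pb = p * (p⁻¹ * pa) * p⁻¹ * (p * p * (p⁻¹ * pb)) by group]
      exact mul_mem (hA' h1 (mul_mem (inv_mem hp) hpa)) (mul_mem hpsq h2)
  -- count
  have hle : Nat.card Pl' ≤ Nat.card ((A ⊓ Pl' : Subgroup G) × Bool) := by
    classical
    refine Nat.card_le_card_of_injective (fun w =>
      if hw : (w : G) ∈ A then (⟨w, hw, w.2⟩, false)
      else (⟨p⁻¹ * w, (key w w.2).resolve_left hw, Pl'.mul_mem (Pl'.inv_mem hp) w.2⟩, true)) ?_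
    intro w w' hww
    simp only at hww
    split_ifs at hww with h1 h2 h2
    · exact Subtype.ext (congrArg (fun v : ↥(A ⊓ Pl') × Bool => (v.1 : G)) hww)
    · simp at hww
    · simp at hww
    · exact Subtype.ext (mul_left_cancel
        (congrArg (fun v : ↥(A ⊓ Pl') × Bool => (v.1 : G)) hww))
  rw [Nat.card_prod, d'.card, d'.card_inf, Nat.card_eq_fintype_card, Fintype.card_bool] at hle
  have := d'.eight_le
  nlinarith

end Eff

namespace Closed

variable {T : Sylow 2 G} {A : Subgroup G}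

/-- The Sylow subgroup of the centraliser of `A` in `T`. -/
abbrev ra (T : Sylow 2 G) (A : Subgroup G) : Subgroup G :=
  (T : Subgroup G) ⊓ Subgroup.centralizer (A : Set G)

theorem sylow_ra (h : Closed G T A) :
    CosetGraph.SylowIn.IsSylowIn 2 (ra T A) (Subgroup.centralizer (A : Set G)) := by
  haveI : Fact (Nat.Prime 2) := ⟨Nat.prime_two⟩
  set N := Subgroup.normalizer (A : Set G)
  set C := Subgroup.centralizer (A : Set G)
  have hCN : C ≤ N := Subgroup.centralizer_le_normalizer _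
  haveI : (C.subgroupOf N).Normal := Subgroup.normal_subgroupOf_centralizer_normalizer _
  have h1 := (LAEven54.SylowJoin.isSylowIn_inf (T.subtype h.sylow_le)
    (Subgroup.Normal.isSubnormal (inferInstance : (C.subgroupOf N).Normal))).map N.subtype
      N.subtype_injective
  rw [Subgroup.map_inf _ _ _ N.subtype_injective, Sylow.coe_subtype,
    Subgroup.map_subgroupOf_eq_of_le h.sylow_le, Subgroup.map_subgroupOf_eq_of_le hCN] at h1
  exact h1

theorem exists_cent_mul (h : Closed G T A) {n : G} (hn : n ∈ Subgroup.normalizer (A : Set G)) :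
    ∃ c ∈ Subgroup.centralizer (A : Set G), ∃ m ∈ Subgroup.normalizer (A : Set G),
      m ∈ Subgroup.normalizer (ra T A : Set G) ∧ n = c * m := by
  haveI : Fact (Nat.Prime 2) := ⟨Nat.prime_two⟩
  have hc := h.sylow_ra.conj n
  rw [CosetGraph.SylowIn.conj_map_eq_self
    (Balance.normalizer_le_normalizer_centralizer A hn)] at hc
  obtain ⟨c, hcC, hce⟩ := h.sylow_ra.exists_conj hc
  refine ⟨c, hcC, c⁻¹ * n, mul_mem (inv_mem (Subgroup.centralizer_le_normalizer _ hcC)) hn, ?_,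
    by group⟩
  rw [Subgroup.mem_normalizer_iff_map_conj_eq]
  show cj (c⁻¹ * n) _ = _
  rw [← cj_cj]
  show cj c⁻¹ ((ra T A).map (MulAut.conj n).toMonoidHom) = _
  rw [← hce, cj, ← cj, cj_cj, inv_mul_cancel, cj, map_one]
  exact Subgroup.map_id _

theorem cj_of_cent (h : Closed G T A) {c : G} (hc : c ∈ Subgroup.centralizer (A : Set G))
    {B : Subgroup G} (hB : B ≤ A) : cj c B = B := by
  refine Subgroup.mem_normalizer_iff_map_conj_eq.1 (mem_normalizer_of_conj_mem fun b hb => ?_)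
  rw [conj_eq_of_commute (Subgroup.mem_centralizer_iff.1 hc b (hB hb)).symm]
  exact hb

theorem le_squares (h : Closed G T A) {q : ℕ} {Pl C : Subgroup G} (d : Eff A (ra T A) q Pl C) :
    A ≤ Subgroup.closure ((fun x : G => x * x) '' (ra T A : Set G)) := by
  set Sq := Subgroup.closure ((fun x : G => x * x) '' (ra T A : Set G))
  suffices A ⊓ Sq = A from inf_eq_left.1 this
  refine h.eq_of_invariant inf_le_left ?_ ?_
  · intro e
    obtain ⟨z, hz, hz1⟩ := (A ⊓ Pl).bot_or_exists_ne_one.resolve_left d.ne_bot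
    obtain ⟨x, hx, hxx⟩ := d.sq_surj z hz.1 hz.2
    exact hz1 (Subgroup.mem_bot.1 (e ▸ ⟨hz.1, hxx ▸ Subgroup.subset_closure ⟨x, d.le_left hx, rfl⟩⟩))
  · intro n hn b hb
    obtain ⟨c, hc, m, hm, hmR, rfl⟩ := h.exists_cent_mul hn
    have h1 : m * b * m⁻¹ ∈ A ⊓ Sq := by
      refine ⟨normalizer_conj hm hb.1, ?_⟩
      have h2 : cj m Sq ≤ Sq := by
        rw [cj, MonoidHom.map_closure, Subgroup.closure_le]
        rintro _ ⟨_, ⟨x, hx, rfl⟩, rfl⟩
        exact Subgroup.subset_closure ⟨m * x * m⁻¹, normalizer_conj hmR hx, by simp [mul_assoc]⟩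
      exact h2 (conj_mem_cj hb.2)
    rw [show c * m * b * (c * m)⁻¹ = c * (m * b * m⁻¹) * c⁻¹ by group,
      conj_eq_of_commute (Subgroup.mem_centralizer_iff.1 hc _ h1.1).symm]
    exact h1

theorem pair (h : Closed G T A) {q q' : ℕ} {Pl C Pl' C' : Subgroup G}
    (d : Eff A (ra T A) q Pl C) (d' : Eff A (ra T A) q' Pl' C') :
    A ⊓ Pl ≤ A ⊓ C' ∨ A ⊓ C ≤ A ⊓ C' := by
  rcases d.proj_le d' with hP | hC
  · left
    intro z hz
    obtain ⟨x, hx, hxx⟩ := d.sq_surj z hz.1 hz.2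
    obtain ⟨p, hp, c, hc, rfl⟩ := d'.gen x (d.le_left hx)
    refine ⟨hz.1, ?_⟩
    rw [← hxx, show p * c * (p * c) = p * (c * p) * c by group, ← d'.comm p hp c hc,
      show p * (p * c) * c = p * p * (c * c) by group,
      (d'.sq_iff p hp).2 (hP _ hx p hp c hc rfl), one_mul]
    exact mul_mem hc hc
  · right
    intro a ha
    refine ⟨ha.1, ?_⟩
    set SqC := Subgroup.closure ((fun x : G => x * x) '' (C : Set G))
    have hSqC : SqC ≤ C' := by
      rw [Subgroup.closure_le]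
      rintro _ ⟨y, hy, rfl⟩
      obtain ⟨p, hp, c, hc, rfl⟩ := d'.gen y (d.le_right hy)
      show p * c * (p * c) ∈ C'
      rw [show p * c * (p * c) = p * (c * p) * c by group, ← d'.comm p hp c hc,
        show p * (p * c) * c = p * p * (c * c) by group,
        (d'.sq_iff p hp).2 (hC _ hy p hp c hc rfl), one_mul]
      exact mul_mem hc hc
    refine hSqC ?_
    have hSC : SqC ≤ C := by
      rw [Subgroup.closure_le]; rintro _ ⟨y, hy, rfl⟩; exact C.mul_mem hy hy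
    have hsplit : Subgroup.closure ((fun x : G => x * x) '' (ra T A : Set G)) ≤ (A ⊓ Pl) ⊔ SqC := by
      rw [Subgroup.closure_le]
      rintro _ ⟨x, hx, rfl⟩
      obtain ⟨p, hp, c, hc, rfl⟩ := d.gen x hx
      show p * c * (p * c) ∈ (A ⊓ Pl) ⊔ SqC
      rw [show p * c * (p * c) = p * (c * p) * c by group, ← d.comm p hp c hc,
        show p * (p * c) * c = p * p * (c * c) by group]
      exact mul_mem (Subgroup.mem_sup_left ⟨d.sq_mem p hp, mul_mem hp hp⟩)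
        (Subgroup.mem_sup_right (Subgroup.subset_closure ⟨c, hc, rfl⟩))
    have hcomm : SqC ≤ Subgroup.normalizer ((A ⊓ Pl : Subgroup G) : Set G) := fun c hc =>
      mem_normalizer_of_conj_mem fun z hz => by
        rw [conj_eq_of_commute (d.comm z hz.2 c (hSC hc)).symm]; exact hz
    have h1 := hsplit (h.le_squares d ha.1)
    rw [← SetLike.mem_coe, Subgroup.coe_mul_of_right_le_normalizer_left _ _ hcomm] at h1
    obtain ⟨z, hz, s, hs, e⟩ := h1
    obtain ⟨-, rfl⟩ := d.eq_of_mul_eq hz.2 (one_mem _) (hSC hs) ha.2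
      (by rw [one_mul]; exact e)
    exact hs

end Closed

/-- A pair `(Z, Q)` given by a decomposition with `Q` non-trivial. -/
def Mon (A RA Z Q : Subgroup G) : Prop :=
  ∃ (q : ℕ) (Pl C : Subgroup G), Eff A RA q Pl C ∧ A ⊓ Pl = Z ∧ A ⊓ C = Q ∧ Q ≠ ⊥

namespace Mon

variable {T : Sylow 2 G} {A Z Q Z' Q' Z'' Q'' : Subgroup G}

theorem Z_le (m : Mon A (Closed.ra T A) Z Q) : Z ≤ A := by
  obtain ⟨q, Pl, C, -, rfl, -, -⟩ := m; exact inf_le_left

theorem Q_le (m : Mon A (Closed.ra T A) Z Q) : Q ≤ A := by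
  obtain ⟨q, Pl, C, -, -, rfl, -⟩ := m; exact inf_le_left

theorem Z_ne_bot (m : Mon A (Closed.ra T A) Z Q) : Z ≠ ⊥ := by
  obtain ⟨q, Pl, C, d, rfl, -, -⟩ := m; exact d.ne_bot

theorem Q_ne_bot (m : Mon A (Closed.ra T A) Z Q) : Q ≠ ⊥ := by
  obtain ⟨q, Pl, C, -, -, -, h⟩ := m; exact h

theorem inf_bot (m : Mon A (Closed.ra T A) Z Q) : Z ⊓ Q = ⊥ := by
  obtain ⟨q, Pl, C, d, rfl, rfl, -⟩ := m; exact d.inf_inf_bot

theorem decomp (m : Mon A (Closed.ra T A) Z Q) {a : G} (ha : a ∈ A) :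
    ∃ z ∈ Z, ∃ c ∈ Q, a = z * c := by
  obtain ⟨q, Pl, C, d, rfl, rfl, -⟩ := m; exact d.decomp a ha

theorem conj (m : Mon A (Closed.ra T A) Z Q) (h : Closed G T A) {n : G}
    (hn : n ∈ Subgroup.normalizer (A : Set G)) : Mon A (Closed.ra T A) (cj n Z) (cj n Q) := by
  obtain ⟨c, hc, k, hk, hkR, rfl⟩ := h.exists_cent_mul hn
  obtain ⟨q, Pl, C, d, rfl, rfl, hne⟩ := m
  have hkA : cj k A = A := Subgroup.mem_normalizer_iff_map_conj_eq.1 hk
  have hcl : ∀ H : Subgroup G, cj (c * k) (A ⊓ H) = A ⊓ cj k H := fun H => by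
    rw [← cj_cj, show cj k (A ⊓ H) = A ⊓ cj k H by
      rw [cj, Subgroup.map_inf _ _ _ (MulAut.conj k).injective]
      exact congrArg (· ⊓ _) hkA, h.cj_of_cent hc inf_le_left]
  refine ⟨q, cj k Pl, cj k C, d.conj_RA hk hkR, (hcl Pl).symm, (hcl C).symm, fun e => hne ?_⟩
  rwa [cj, Subgroup.map_eq_bot_iff_of_injective _ (MulAut.conj (c * k)).injective] at e

theorem trichotomy (m : Mon A (Closed.ra T A) Z Q) (m' : Mon A (Closed.ra T A) Z' Q')
    (h : Closed G T A) : Q = Q' ∨ (Z ≤ Q' ∧ Z' ≤ Q) := by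
  obtain ⟨q, Pl, C, d, rfl, rfl, -⟩ := m
  obtain ⟨q', Pl', C', d', rfl, rfl, -⟩ := m'
  rcases h.pair d d' with h1 | h1 <;> rcases h.pair d' d with h2 | h2
  · exact Or.inr ⟨h1, h2⟩
  · exfalso
    exact d.ne_bot (le_bot_iff.1 (d.inf_inf_bot ▸ le_inf le_rfl (h1.trans h2)))
  · exfalso
    exact d'.ne_bot (le_bot_iff.1 (d'.inf_inf_bot ▸ le_inf le_rfl (h2.trans h1)))
  · exact Or.inl (le_antisymm h1 h2)

theorem Q_eq_of_Z_eq (m : Mon A (Closed.ra T A) Z Q) (m' : Mon A (Closed.ra T A) Z Q')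
    (h : Closed G T A) : Q = Q' := by
  rcases m.trichotomy m' h with e | ⟨h1, -⟩
  · exact e
  · exact absurd (le_bot_iff.1 (m'.inf_bot ▸ le_inf le_rfl h1)) m.Z_ne_bot

theorem Z_eq_of_Q_eq (m : Mon A (Closed.ra T A) Z Q) (m' : Mon A (Closed.ra T A) Z' Q)
    (h : Closed G T A) : Z = Z' := by
  classical
  set B := sInf {B : Subgroup G | ∃ Z₁, Mon A (Closed.ra T A) Z₁ B}
  have hBQ : B ≤ Q := sInf_le ⟨Z, m⟩
  have hB : B = ⊥ := by
    by_contra hne
    refine m.Z_ne_bot (le_bot_iff.1 (m.inf_bot ▸ le_inf le_rfl (m.Z_le.trans ?_)))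
    refine (h.eq_of_invariant (hBQ.trans m.Q_le) hne fun n hn b hb => ?_).ge.trans hBQ
    rw [Subgroup.mem_sInf]
    rintro B₁ ⟨Z₁, m₁⟩
    have h2 := Subgroup.mem_sInf.1 hb (cj n⁻¹ B₁) ⟨cj n⁻¹ Z₁, m₁.conj h (inv_mem hn)⟩
    rw [mem_cj, inv_inv] at h2
    exact h2
  -- the intersection of the other subgroups `Q`
  have key : ∀ {X}, Mon A (Closed.ra T A) X Q → ∀ {Y R}, Mon A (Closed.ra T A) Y R → R ≠ Q →
      X ≤ R := fun mX _ _ mY hne => ((mX.trichotomy mY h).resolve_left hne.symm).1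
  refine le_antisymm ?_ ?_ <;> intro z hz
  · obtain ⟨z', hz', c, hc, e⟩ := m'.decomp (m.Z_le hz)
    have hc1 : c = 1 := Subgroup.mem_bot.1 (hB ▸ (Subgroup.mem_sInf.2 fun R ⟨Y, mY⟩ => by
      by_cases hRQ : R = Q
      · exact hRQ ▸ hc
      · have h3 := mul_mem (inv_mem (key m' mY hRQ hz')) (key m mY hRQ hz)
        rwa [e, inv_mul_cancel_left] at h3))
    rw [e, hc1, mul_one]; exact hz'
  · obtain ⟨z', hz', c, hc, e⟩ := m.decomp (m'.Z_le hz)
    have hc1 : c = 1 := Subgroup.mem_bot.1 (hB ▸ (Subgroup.mem_sInf.2 fun R ⟨Y, mY⟩ => by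
      by_cases hRQ : R = Q
      · exact hRQ ▸ hc
      · have h3 := mul_mem (inv_mem (key m mY hRQ hz')) (key m' mY hRQ hz)
        rwa [e, inv_mul_cancel_left] at h3))
    rw [e, hc1, mul_one]; exact hz'

theorem le_of_ne (m : Mon A (Closed.ra T A) Z Q) (m' : Mon A (Closed.ra T A) Z' Q')
    (h : Closed G T A) (hne : Z ≠ Z') : Z ≤ Q' := by
  rcases m.trichotomy m' h with e | ⟨h1, -⟩
  · subst e; exact absurd (m.Z_eq_of_Q_eq m' h) hne
  · exact h1

theorem exists_conj (m : Mon A (Closed.ra T A) Z Q) (m' : Mon A (Closed.ra T A) Z' Q')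
    (h : Closed G T A) : ∃ n ∈ Subgroup.normalizer (A : Set G), Z' = cj n Z := by
  by_contra hc
  push Not at hc
  set B := sSup {Y : Subgroup G | ∃ n ∈ Subgroup.normalizer (A : Set G), Y = cj n Z}
  have hBQ : B ≤ Q' := sSup_le fun Y ⟨n, hn, e⟩ => by
    subst e; exact (m.conj h hn).le_of_ne m' h (hc n hn).symm
  have hBA : B = A := by
    refine h.eq_of_invariant (hBQ.trans m'.Q_le) (fun e => m.Z_ne_bot (le_bot_iff.1 (e ▸ ?_))) ?_
    · refine le_sSup ⟨1, one_mem _, ?_⟩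
      rw [cj, map_one]; exact (Subgroup.map_id Z).symm
    · intro n hn b hb
      have h1 : cj n B ≤ B := by
        simp only [B, cj, sSup_eq_iSup', Subgroup.map_iSup]
        refine iSup_le fun ⟨Y, k, hk, e⟩ => ?_
        subst e
        exact le_iSup_of_le ⟨_, n * k, mul_mem hn hk, rfl⟩ (cj_cj n k Z).le
      exact h1 (conj_mem_cj hb)
  exact m'.Z_ne_bot (le_bot_iff.1 (m'.inf_bot ▸ le_inf le_rfl (m'.Z_le.trans (hBA.ge.trans hBQ))))

theorem exists_ne (m : Mon A (Closed.ra T A) Z Q) (h : Closed G T A) :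
    ∃ Z' Q', Mon A (Closed.ra T A) Z' Q' ∧ Z' ≠ Z := by
  by_contra hc
  push Not at hc
  refine m.Z_ne_bot (le_bot_iff.1 (m.inf_bot ▸ le_inf le_rfl (m.Z_le.trans
    (h.eq_of_invariant m.Q_le m.Q_ne_bot fun n hn b hb => ?_).ge)))
  have h1 := hc _ _ (m.conj h hn)
  have h2 := (m.Q_eq_of_Z_eq (h1 ▸ m.conj h hn) h)
  exact h2.symm ▸ conj_mem_cj hb

theorem exists_third (m : Mon A (Closed.ra T A) Z Q) (m' : Mon A (Closed.ra T A) Z' Q')
    (h : Closed G T A) : ∃ Z'' Q'', Mon A (Closed.ra T A) Z'' Q'' ∧ Z'' ≠ Z ∧ Z'' ≠ Z' := by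
  by_contra hc
  push Not at hc
  obtain ⟨Z₁, Q₁, m₁, hne⟩ := m.exists_ne h
  have hc' : ∀ {Y R}, Mon A (Closed.ra T A) Y R → Y ≠ Z → Y = Z₁ := fun mY hy =>
    (hc _ _ mY hy).trans (hc _ _ m₁ hne).symm
  set N := Subgroup.normalizer (A : Set G)
  set K := (Subgroup.normalizer (Z : Set G)).subgroupOf N
  have hK2 : K.index = 2 := by
    obtain ⟨a, ha, hae⟩ := m.exists_conj m₁ h
    rw [Subgroup.index_eq_two_iff]
    refine ⟨⟨a⁻¹, inv_mem ha⟩, fun b => ?_⟩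
    have hb : (⟨(b : G), b.2⟩ : N) = b := rfl
    by_cases hbK : b ∈ K
    · refine Or.inr ⟨hbK, fun h1 => hne ?_⟩
      have h2 : a⁻¹ ∈ Subgroup.normalizer (Z : Set G) := by
        have := mul_mem (inv_mem (Subgroup.mem_subgroupOf.1 hbK)) (Subgroup.mem_subgroupOf.1 h1)
        simpa using this
      rw [hae]
      exact Subgroup.mem_normalizer_iff_map_conj_eq.1 (inv_mem_iff.1 h2)
    · refine Or.inl ⟨?_, hbK⟩
      rw [Subgroup.mem_subgroupOf, Subgroup.mem_normalizer_iff_map_conj_eq]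
      show cj ((b : G) * a⁻¹) Z = Z
      have h3 : cj (b : G) Z = Z₁ := hc' (m.conj h b.2) fun e =>
        hbK (Subgroup.mem_subgroupOf.2 (Subgroup.mem_normalizer_iff_map_conj_eq.2 e))
      by_contra h4
      have h5 := hc' (m.conj h (mul_mem b.2 (inv_mem ha))) h4
      rw [← cj_cj, ← h3] at h5
      have h6 : cj a⁻¹ Z = Z := Subgroup.map_injective (MulAut.conj (b : G)).injective h5
      refine hne ?_
      rw [hae]
      conv_lhs => rw [← h6]
      rw [cj_cj, mul_inv_cancel, cj, map_one]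
      exact Subgroup.map_id Z
  refine h.relIndex_ne_two (K := Subgroup.normalizer (Z : Set G)) ?_ hK2
  exact Subgroup.normal_of_index_eq_two hK2

end Mon

end Cfsg.Agent.Lib.Thompson3Prime33
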