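import Cfsg.Agent.Lib.Thompson3Prime33.CompAt
import Cfsg.Agent.Lib.Thompson3Prime33.Bound
import Cfsg.Agent.Lib.Thompson3Prime33.Eff

/-!
# Effective components in the centraliser of an element of `A`

A component of `C(a) / O(C(a))` not centralised by `A` is simple and gives a decomposition of the
centraliser of `A` in `T`.

Owner: helper33.
-/

set_option autoImplicit false
set_option linter.style.haveILetI false
set_option linter.unusedSectionVars false
set_option linter.unusedVariables false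

open scoped commutatorElement

namespace Cfsg.Agent.Lib.Thompson3Prime33

universe u

variable {G : Type u} [Group G] [Finite G] {T : Sylow 2 G} {A : Subgroup G}

theorem Closed.le_centralizer_elem (h : Closed G T A) {a : G} (ha : a ∈ A) :
    A ≤ Subgroup.centralizer ({a} : Set G) := fun _ hb =>
  Subgroup.mem_centralizer_singleton_iff.2 (h.comm hb ha)

/-- The local set-up at an element of `A`. -/
theorem Closed.exists_loc (h : Closed G T A) {a : G} (ha : a ∈ A) (ha1 : a ≠ 1) :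
    ∃ R, Loc a R A ∧ (T : Subgroup G) ⊓ Subgroup.centralizer ({a} : Set G) ≤ R := by
  haveI : Fact (Nat.Prime 2) := ⟨Nat.prime_two⟩
  obtain ⟨R, hR, hTR⟩ := CosetGraph.SylowIn.IsSylowIn.exists_le (p := 2)
    (P := (T : Subgroup G) ⊓ Subgroup.centralizer ({a} : Set G)) (T.2.to_le inf_le_left) inf_le_right
  have hAR : A ≤ R := (le_inf h.le (h.le_centralizer_elem ha)).trans hTR
  exact ⟨R, ⟨h.order_two ha ha1, hR, hAR, h.elem,
    fun f hf g _ hgf => h.mem_of_two hR.isPGroup hAR hf hgf⟩, hTR⟩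

theorem Closed.mem_ra (h : Closed G T A) {a : G} (ha : a ∈ A) {R : Subgroup G}
    (hR : IsPGroup 2 R) (hTR : (T : Subgroup G) ⊓ Subgroup.centralizer ({a} : Set G) ≤ R)
    {r : G} (hr : r ∈ R) (hrA : r ∈ Subgroup.centralizer (A : Set G)) : r ∈ Closed.ra T A := by
  haveI : Fact (Nat.Prime 2) := ⟨Nat.prime_two⟩
  have hle : Closed.ra T A ≤ R ⊓ Subgroup.centralizer (A : Set G) := by
    refine le_inf ((le_inf inf_le_left fun x hx => ?_).trans hTR) inf_le_right
    exact Subgroup.mem_centralizer_singleton_iff.2 (Subgroup.mem_centralizer_iff.1 hx.2 a ha).symm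
  obtain ⟨k, hk⟩ := IsPGroup.iff_card.1 (hR.to_le (inf_le_left :
    R ⊓ Subgroup.centralizer (A : Set G) ≤ R))
  have hc := h.sylow_ra.card_eq
  have hd : Nat.card (R ⊓ Subgroup.centralizer (A : Set G) : Subgroup G) ≤
      Nat.card (Closed.ra T A) := by
    rw [hk, hc]
    refine Nat.pow_le_pow_right two_pos ?_
    exact (Nat.Prime.pow_dvd_iff_le_factorization Nat.prime_two Nat.card_pos.ne').1
      (hk ▸ Subgroup.card_dvd_of_le inf_le_right)
  exact (Subgroup.eq_of_le_of_card_ge hle hd).ge ⟨hr, hrA⟩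

namespace CompData

variable {x : G} {R F : Subgroup G} {L : Subgroup (CQ x)} {q : ℕ}
  {Z : Subgroup (↥L ⧸ Subgroup.center ↥L)} {τ : ↥L ⧸ Subgroup.center ↥L}

theorem cmap_cent_of_lmap_one (d : CompData x R F L q Z τ) {g : ↥(lift x L)}
    (hg : lmap x L g = 1) :
    cmap x ⟨g, lift_le x L g.2⟩ ∈ Subgroup.centralizer (L : Set (CQ x)) := by
  rw [lmap_apply, QuotientGroup.mk'_apply, QuotientGroup.eq_one_iff] at hg
  refine Subgroup.mem_centralizer_iff.2 fun m hm => ?_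
  exact congrArg Subtype.val (Subgroup.mem_center_iff.1 hg ⟨m, hm⟩)

theorem cmap_eq_one_of_lmap_one (d : CompData x R F L q Z τ) (hc : Subgroup.center ↥L = ⊥)
    {g : ↥(lift x L)} (hg : lmap x L g = 1) : cmap x ⟨g, lift_le x L g.2⟩ = 1 := by
  rw [lmap_apply, QuotientGroup.mk'_apply, QuotientGroup.eq_one_iff, hc, Subgroup.mem_bot] at hg
  rw [← coe_toL, hg]
  rfl

theorem lmap_injOn (d : CompData x R F L q Z τ) (hc : Subgroup.center ↥L = ⊥)
    {g g' : ↥(lift x L)} (hg : (g : G) ∈ R) (hg' : (g' : G) ∈ R) (e : lmap x L g = lmap x L g') :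
    g = g' := by
  have h1 := d.cmap_eq_one_of_lmap_one hc (g := g⁻¹ * g') (by rw [map_mul, map_inv, e, inv_mul_cancel])
  have h2 := d.base.eq_one_of_cmap (a := ⟨(g⁻¹ * g' : ↥(lift x L)), lift_le x L (g⁻¹ * g').2⟩)
    (R.mul_mem (R.inv_mem hg) hg') h1
  exact inv_mul_eq_one.1 (Subtype.ext
    (congrArg (fun v : ↥(Subgroup.centralizer ({x} : Set G)) => (v : G)) h2))

theorem commute_of_images (d : CompData x R F L q Z τ) {r c : G} (hr : r ∈ R) (hc : c ∈ R)
    (e : cmap x ⟨r, d.base.sylow.le hr⟩ * cmap x ⟨c, d.base.sylow.le hc⟩ =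
      cmap x ⟨c, d.base.sylow.le hc⟩ * cmap x ⟨r, d.base.sylow.le hr⟩) : r * c = c * r := by
  have h1 := d.base.eq_of_cmap (a := ⟨r, d.base.sylow.le hr⟩ * ⟨c, d.base.sylow.le hc⟩)
    (b := ⟨c, d.base.sylow.le hc⟩ * ⟨r, d.base.sylow.le hr⟩) (R.mul_mem hr hc) (R.mul_mem hc hr)
    (by rw [map_mul, map_mul, e])
  exact congrArg Subtype.val h1

theorem commute_lift_cent (d : CompData x R F L q Z τ) {r c : G} (hr : r ∈ R) (hrL : r ∈ lift x L)
    (hc : c ∈ R) (hcL : c ∈ lift x (Subgroup.centralizer (L : Set (CQ x)))) : r * c = c * r := by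
  obtain ⟨h1, h2⟩ := mem_lift.1 hcL
  obtain ⟨h3, h4⟩ := mem_lift.1 hrL
  exact d.commute_of_images hr hc (Subgroup.mem_centralizer_iff.1 h2 _ h4)

/-- The number of elements of `F`. -/
theorem card_le (d : CompData x R F L q Z τ) :
    Nat.card F ≤ q * Nat.card (F ⊓ lift x (Subgroup.centralizer (L : Set (CQ x))) : Subgroup G) := by
  have hex : ∀ f : F, ∃ g : ↥(lift x L), (g : G) ∈ F ∧ (g : G)⁻¹ * f ∈
      F ⊓ lift x (Subgroup.centralizer (L : Set (CQ x))) := fun f => by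
    obtain ⟨l, hl, c, hc, e⟩ := d.exists_decomp f.2
    exact ⟨⟨l, hl.2⟩, hl.1, by rw [e, inv_mul_cancel_left]; exact hc⟩
  choose g hg hgf using hex
  choose s hs hsz using fun z : Z => d.exists_F z.2
  have hq : ∀ f : F, (s ⟨lmap x L (g f), d.lmap_mem_Z (hg f)⟩ : G)⁻¹ * (f : G) ∈
      F ⊓ lift x (Subgroup.centralizer (L : Set (CQ x))) := by
    intro f
    set g' := s ⟨lmap x L (g f), d.lmap_mem_Z (hg f)⟩
    have h1 : (g' : G)⁻¹ * (g f : G) ∈ F ⊓ lift x (Subgroup.centralizer (L : Set (CQ x))) := by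
      refine ⟨F.mul_mem (F.inv_mem (hs _)) (hg f), ?_⟩
      have h2 := d.cmap_cent_of_lmap_one (g := g'⁻¹ * g f)
        (by rw [map_mul, map_inv, hsz, inv_mul_cancel])
      exact mem_lift.2 ⟨_, h2⟩
    have h3 := mul_mem h1 (hgf f)
    rwa [mul_assoc, mul_inv_cancel_left] at h3
  refine le_of_le_of_eq (Nat.card_le_card_of_injective (fun f : F =>
    ((⟨lmap x L (g f), d.lmap_mem_Z (hg f)⟩ : Z),
      (⟨_, hq f⟩ : ↥(F ⊓ lift x (Subgroup.centralizer (L : Set (CQ x))))))) ?_)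
    (by rw [Nat.card_prod, d.loc.card_Z])
  intro f f' e
  have e1 := (Prod.ext_iff.1 e).1
  have e2 := congrArg Subtype.val (Prod.ext_iff.1 e).2
  dsimp only at e1 e2
  rw [e1] at e2
  exact Subtype.ext (mul_left_cancel e2)

/-- At an element of `A`, a Sylow subgroup of the component centralises `A`. -/
theorem le_centralizer (d : CompData x R A L q Z τ) (h : Closed G T A) {r : G} (hr : r ∈ R)
    (hrL : r ∈ lift x L) : r ∈ Subgroup.centralizer (A : Set G) := by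
  set R0 := R ⊓ lift x L with hR0
  set Q := A ⊓ lift x (Subgroup.centralizer (L : Set (CQ x))) with hQ
  have hAN : R ≤ Subgroup.normalizer (A : Set G) :=
    h.le_normalizer_of_two d.base.sylow.isPGroup d.base.le
  have hfixQ : ∀ r ∈ R0, ∀ c ∈ Q, r * c = c * r := fun r hr c hc =>
    d.commute_lift_cent hr.1 hr.2 (d.base.le hc.1) hc.2
  have hstab : ∀ r ∈ R0, ∀ a ∈ A, a⁻¹ * (r * a * r⁻¹) ∈ Q := by
    intro r hr a ha
    obtain ⟨z, hz, c, hc, rfl⟩ := d.exists_decomp ha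
    have e : (z * c)⁻¹ * (r * (z * c) * r⁻¹) = z⁻¹ * (r * z * r⁻¹) := by
      have h1 := hfixQ r hr c hc
      have h2 : c⁻¹ * (z⁻¹ * (r * z * r⁻¹)) * c = z⁻¹ * (r * z * r⁻¹) := by
        rw [h.comm (A.inv_mem hc.1) (A.mul_mem (A.inv_mem hz.1) (normalizer_conj (hAN hr.1) hz.1)),
          inv_mul_cancel_right]
      calc (z * c)⁻¹ * (r * (z * c) * r⁻¹) = c⁻¹ * z⁻¹ * (r * z * (c * r⁻¹)) := by group
        _ = c⁻¹ * z⁻¹ * (r * z * (r⁻¹ * (r * c) * r⁻¹)) := by group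
        _ = c⁻¹ * (z⁻¹ * (r * z * r⁻¹)) * c := by rw [h1]; group
        _ = _ := h2
    rw [e]
    refine ⟨A.mul_mem (A.inv_mem hz.1) (normalizer_conj (hAN hr.1) hz.1), ?_⟩
    set g : ↥(lift x L) := ⟨z, hz.2⟩
    set k : ↥(lift x L) := ⟨r, hr.2⟩
    have h1 : lmap x L (g⁻¹ * (k * g * k⁻¹)) = 1 := by
      have hc' := d.loc.central _ (d.lmap_mem_Z (g := g) hz.1) _ (d.lmap_mem_pbar (g := k) hr.1)
      rw [map_mul, map_mul, map_mul, map_inv, map_inv, ← hc', mul_inv_cancel_right, inv_mul_cancel]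
    exact mem_lift.2 ⟨_, d.cmap_cent_of_lmap_one h1⟩
  by_contra hne
  -- the elements whose image centralises the image of `A`
  set fx : ↥(lift x L) → Prop := fun g => ∀ a (ha : a ∈ A),
    cmap x ⟨g, lift_le x L g.2⟩ * cmap x ⟨a, d.base.le_cent ha⟩ =
      cmap x ⟨a, d.base.le_cent ha⟩ * cmap x ⟨g, lift_le x L g.2⟩ with hfx
  have hfx_mul : ∀ g g', fx g → fx g' → fx (g * g') := fun g g' hg hg' a ha => by
    show cmap x (⟨g, lift_le x L g.2⟩ * ⟨g', lift_le x L g'.2⟩) * _ = _ * cmap x _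
    rw [map_mul, mul_assoc, hg' a ha, ← mul_assoc, hg a ha, mul_assoc]
    exact congrArg _ (map_mul (cmap x) _ _).symm
  have hfx_one : ∀ g : ↥(lift x L), lmap x L g = 1 → fx g := by
    intro g hg a ha
    obtain ⟨z, hz, c, hc, rfl⟩ := d.exists_decomp ha
    have hg' := d.cmap_cent_of_lmap_one hg
    have hgL : cmap x ⟨g, lift_le x L g.2⟩ ∈ L := cmap_liftIncl_mem g
    rw [show (⟨z * c, d.base.le_cent ha⟩ : ↥(Subgroup.centralizer ({x} : Set G))) =
      ⟨z, d.base.le_cent hz.1⟩ * ⟨c, d.base.le_cent hc.1⟩ from rfl, map_mul]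
    have e1 := Subgroup.mem_centralizer_iff.1 hg' _ (mem_lift_coe (g := ⟨z, d.base.le_cent hz.1⟩) |>.1 hz.2)
    have e2 := Subgroup.mem_centralizer_iff.1
      ((mem_lift_coe (g := ⟨c, d.base.le_cent hc.1⟩)).1 hc.2) _ hgL
    rw [← mul_assoc, ← e1, mul_assoc, e2, mul_assoc]
  have hfx_iff : ∀ g : ↥(lift x L), (g : G) ∈ R → (fx g ↔ (g : G) ∈ Subgroup.centralizer (A : Set G)) := by
    intro g hg
    refine ⟨fun hf => Subgroup.mem_centralizer_iff.2 fun a ha =>
      (d.commute_of_images hg (d.base.le ha) (hf a ha)).symm, fun hc a ha => ?_⟩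
    rw [← map_mul, ← map_mul]
    exact congrArg (cmap x) (Subtype.ext (Subgroup.mem_centralizer_iff.1 hc a ha).symm)
  have hfx_Z : ∀ g : ↥(lift x L), lmap x L g ∈ Z → fx g := by
    intro g hg
    obtain ⟨f, hf, hfg⟩ := d.exists_F hg
    have h1 : fx f := (hfx_iff f (d.base.le hf)).2 (h.le_centralizer hf)
    have h2 := hfx_mul f (f⁻¹ * g) h1 (hfx_one _ (by rw [map_mul, map_inv, hfg, inv_mul_cancel]))
    rwa [mul_inv_cancel_left] at h2
  have hkerZ : ∀ g : ↥(lift x L), (g : G) ∈ R → (g : G) ∈ Subgroup.centralizer (A : Set G) →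
      lmap x L g ∈ Z := by
    intro g hg hgA
    by_contra hgZ
    apply hne
    have hfg := (hfx_iff g hg).2 hgA
    obtain ⟨t, htN, ht⟩ := d.exists_torus
    refine (hfx_iff ⟨r, hrL⟩ hr).1 ?_
    by_cases hrZ : lmap x L ⟨r, hrL⟩ ∈ Z
    · exact hfx_Z _ hrZ
    obtain ⟨n, hn⟩ := d.loc.τ_transP _ (d.lmap_mem_pbar hg) _ (d.lmap_mem_pbar (g := ⟨r, hrL⟩) hr)
      hgZ hrZ
    have hconj : fx (t ^ n * g * (t ^ n)⁻¹) := by
      intro a ha
      have htn : (t : G) ^ n ∈ Subgroup.normalizer (A : Set G) := pow_mem htN n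
      have ha' := normalizer_conj (inv_mem htn) ha
      rw [← map_mul, ← map_mul]
      refine congrArg (cmap x) (Subtype.ext ?_)
      show ((t : G) ^ n * g * ((t : G) ^ n)⁻¹) * a = a * ((t : G) ^ n * g * ((t : G) ^ n)⁻¹)
      have h1 := (Subgroup.mem_centralizer_iff.1 hgA _ ha').symm
      calc ((t : G) ^ n * g * ((t : G) ^ n)⁻¹) * a
          = (t : G) ^ n * ((g : G) * (((t : G) ^ n)⁻¹ * a * ((t : G) ^ n)⁻¹⁻¹)) * ((t : G) ^ n)⁻¹ := by
            group
        _ = _ := by rw [h1]; group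
    have h2 := hfx_mul _ ((t ^ n * g * (t ^ n)⁻¹)⁻¹ * ⟨r, hrL⟩) hconj (hfx_Z _ (by
      rw [map_mul, map_inv, map_mul, map_mul, map_inv, map_pow, ht]; exact hn))
    rwa [mul_inv_cancel_left] at h2
  -- the bound
  set ψ : R0 →* ↥L ⧸ Subgroup.center ↥L := (lmap x L).comp (Subgroup.inclusion inf_le_right) with hψ
  have hψrange : ψ.range = pbar (qimg x R) L := by
    refine le_antisymm ?_ fun p hp => ?_
    · rintro _ ⟨g, rfl⟩; exact d.lmap_mem_pbar g.2.1
    · obtain ⟨g, hg, e⟩ := d.exists_R hp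
      exact ⟨⟨g, hg, g.2⟩, e⟩
  have hidx : q ≤ (Subgroup.centralizer (A : Set G)).relIndex R0 := by
    have h1 : (Z.comap ψ).index = q := by
      rw [Subgroup.index_comap, hψrange]
      have h2 := Subgroup.relIndex_mul_relIndex ⊥ Z _ bot_le d.loc.Z_le
      rw [Subgroup.relIndex_bot_left, Subgroup.relIndex_bot_left, d.loc.card_Z, d.loc.card_P,
        pow_two] at h2
      exact Nat.eq_of_mul_eq_mul_left (by have := d.loc.eight_le; omega) h2
    rw [Subgroup.relIndex]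
    refine le_of_eq_of_le h1.symm (Nat.le_of_dvd (Nat.pos_of_ne_zero Subgroup.index_ne_zero_of_finite)
      (Subgroup.index_dvd_of_le fun g hg => ?_))
    exact hkerZ (Subgroup.inclusion inf_le_right g) g.2.1 hg
  have hb := h.bound (R := R0) (inf_le_left.trans hAN) ?_ ?_
  · have hQle : Nat.card Q ≤ Nat.card (A ⊓ Subgroup.centralizer (R0 : Set G) : Subgroup G) :=
      Subgroup.card_le_of_le fun c hc =>
        ⟨hc.1, Subgroup.mem_centralizer_iff.2 fun r hr => hfixQ r hr c hc⟩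
    have h1 := d.card_le
    have h2 : q ^ 2 * Nat.card Q ≤ q * Nat.card Q :=
      le_trans (le_trans (Nat.mul_le_mul (Nat.pow_le_pow_left hidx 2) hQle) hb) h1
    have h3 : 0 < Nat.card Q := Nat.card_pos
    have := Nat.le_of_mul_le_mul_right h2 h3
    have := d.loc.eight_le
    nlinarith
  · intro r hr s hs
    have hcomp : ∀ {r s : G}, r ∈ R0 → s ∈ R0 → ∀ a ∈ A,
        r * s * a * (r * s)⁻¹ = a * (a⁻¹ * (r * a * r⁻¹)) * (a⁻¹ * (s * a * s⁻¹)) := by
      intro r s hr hs a ha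
      have hs' := hstab s hs a ha
      calc r * s * a * (r * s)⁻¹ = (r * a * r⁻¹) * (r * (a⁻¹ * (s * a * s⁻¹)) * r⁻¹) := by group
        _ = (r * a * r⁻¹) * (a⁻¹ * (s * a * s⁻¹)) := by rw [conj_eq_of_commute (hfixQ r hr _ hs')]
        _ = _ := by group
    have hsame : ∀ a ∈ A, r * s * a * (r * s)⁻¹ = s * r * a * (s * r)⁻¹ := fun a ha => by
      rw [hcomp hr hs a ha, hcomp hs hr a ha]
      have := h.comm (hstab r hr a ha).1 (hstab s hs a ha).1
      generalize a⁻¹ * (r * a * r⁻¹) = u at this ⊢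
      generalize a⁻¹ * (s * a * s⁻¹) = v at this ⊢
      rw [mul_assoc, this, mul_assoc]
    refine Subgroup.mem_centralizer_iff.2 fun a ha => ?_
    have hsr : s * r ∈ Subgroup.normalizer (A : Set G) := mul_mem (hAN hs.1) (hAN hr.1)
    have ha' := normalizer_conj (inv_mem hsr) ha
    refine (commute_of_conj_eq (g := ⁅r, s⁆) (x := a) ?_).symm
    have h1 := hsame _ ha'
    calc ⁅r, s⁆ * a * ⁅r, s⁆⁻¹
        = r * s * ((s * r)⁻¹ * a * (s * r)⁻¹⁻¹) * (r * s)⁻¹ := by rw [commutatorElement_def]; group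
      _ = a := by rw [h1]; group
  · intro r hr
    refine Subgroup.mem_centralizer_iff.2 fun a ha => ?_
    have hr' := hstab r hr a ha
    set c1 := a⁻¹ * (r * a * r⁻¹) with hc1
    refine (commute_of_conj_eq (g := r * r) (x := a) ?_).symm
    calc r * r * a * (r * r)⁻¹ = r * (a * c1) * r⁻¹ := by rw [hc1]; group
      _ = (r * a * r⁻¹) * (r * c1 * r⁻¹) := by group
      _ = a * (c1 * c1) := by rw [conj_eq_of_commute (hfixQ r hr c1 hr'), hc1]; group
      _ = a := by rw [h.sq hr'.1, mul_one]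

/-- An effective component is simple. -/
theorem center_bot (d : CompData x R A L q Z τ) (h : Closed G T A) : Subgroup.center ↥L = ⊥ :=
  d.center_eq_bot fun r hr hrL f hf _ =>
    (Subgroup.mem_centralizer_iff.1 (d.le_centralizer h hr hrL) f hf).symm

/-- The decomposition given by an effective component. -/
theorem eff (d : CompData x R A L q Z τ) (h : Closed G T A) (hx : x ∈ A)
    (hTR : (T : Subgroup G) ⊓ Subgroup.centralizer ({x} : Set G) ≤ R) :
    Eff A (Closed.ra T A) q (R ⊓ lift x L)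
      (Closed.ra T A ⊓ lift x (Subgroup.centralizer (L : Set (CQ x)))) := by
  haveI : Fact (Nat.Prime 2) := ⟨Nat.prime_two⟩
  have hcb := d.center_bot h
  have hraR : Closed.ra T A ≤ R := (le_inf inf_le_left fun r hr =>
    Subgroup.mem_centralizer_singleton_iff.2 (Subgroup.mem_centralizer_iff.1 hr.2 x hx).symm).trans hTR
  have hAR := d.base.le
  set Pl := R ⊓ lift x L with hPl
  have hone : ∀ g : ↥(lift x L), (g : G) ∈ R → lmap x L g = 1 → (g : G) = 1 := fun g hg e =>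
    congrArg Subtype.val (d.lmap_injOn hcb (g' := 1) hg R.one_mem (e.trans (map_one _).symm))
  have hmemA : ∀ g : ↥(lift x L), (g : G) ∈ R → ((g : G) ∈ A ↔ lmap x L g ∈ Z) := fun g hg =>
    ⟨fun hgA => d.lmap_mem_Z hgA, fun hz => by
      obtain ⟨f, hf, e⟩ := d.exists_F hz
      exact d.lmap_injOn hcb hg (hAR hf) e.symm ▸ hf⟩
  have hψ : Nat.card Pl = q ^ 2 := by
    rw [← d.loc.card_P]
    refine Nat.card_congr (Equiv.ofBijective
      (fun g => (⟨lmap x L ⟨g, g.2.2⟩, d.lmap_mem_pbar g.2.1⟩ : pbar (qimg x R) L)) ⟨?_, ?_⟩)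
    · intro g g' e
      have h1 := d.lmap_injOn hcb (g := ⟨g, g.2.2⟩) (g' := ⟨g', g'.2.2⟩) g.2.1 g'.2.1
        (congrArg Subtype.val e)
      exact Subtype.ext (congrArg (fun v : ↥(lift x L) => (v : G)) h1)
    · rintro ⟨p, hp⟩
      obtain ⟨g, hg, e⟩ := d.exists_R hp
      exact ⟨⟨g, hg, g.2⟩, Subtype.ext e⟩
  refine ⟨d.loc.q_eq, fun r hr => h.mem_ra hx d.base.sylow.isPGroup hTR hr.1
      (d.le_centralizer h hr.1 hr.2), inf_le_left,
    fun p hp c hc => d.commute_lift_cent hp.1 hp.2 (hraR hc.1) hc.2, ?_, ?_, hψ, ?_, ?_, ?_, ?_, ?_, ?_⟩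
  · refine (Subgroup.eq_bot_iff_forall _).2 fun g hg => ?_
    exact hone ⟨g, hg.1.2⟩ hg.1.1 (d.inf_center hg.2.2)
  · intro r hr
    have hrC := d.base.sylow.le (hraR hr)
    obtain ⟨z, hz, hz1⟩ : ∃ z ∈ Z, z ≠ 1 := by
      refine Z.nontrivial_iff_exists_ne_one.1 (Finite.one_lt_card_iff_nontrivial.1 ?_)
      rw [d.loc.card_Z]
      have := d.loc.eight_le
      omega
    have hfix : ∀ f : ↥(lift x L), (f : G) ∈ A →
        cmap x ⟨r, hrC⟩ * (toL x L f : CQ x) * (cmap x ⟨r, hrC⟩)⁻¹ = toL x L f := fun f hf => by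
      rw [coe_toL, ← map_inv, ← map_mul, ← map_mul]
      exact congrArg (cmap x) (Subtype.ext
        (conj_eq_of_commute (Subgroup.mem_centralizer_iff.1 hr.2 f hf).symm))
    have hN : cmap x ⟨r, hrC⟩ ∈ Subgroup.normalizer (L : Set (CQ x)) := by
      by_contra hn
      have hne : cj (cmap x ⟨r, hrC⟩) L ≠ L := fun e => hn (mem_normalizer_of_cj_le e.le)
      obtain ⟨f, hf, rfl⟩ := d.exists_F hz
      refine hz1 ((QuotientGroup.eq_one_iff _).2 (Subgroup.mem_center_iff.2 fun m => Subtype.ext ?_))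
      exact (Subgroup.mem_centralizer_iff.1 (Components.Component.le_centralizer_of_ne d.comp
        (Components.Component.conj d.comp _) hne.symm m.2) _ (hfix f hf ▸ conj_mem_cj (toL x L f).2)).symm
    obtain ⟨p, hp, hφ⟩ := d.loc.aut_fix (autOn L ⟨_, hN⟩) (by
      intro z hz
      obtain ⟨f, hf, rfl⟩ := d.exists_F hz
      rw [lmap_apply, autOn_apply]
      exact congrArg (sig L) (Subtype.ext (hfix f hf)))
    obtain ⟨g, hg, rfl⟩ := d.exists_R hp
    have hgra := h.mem_ra hx d.base.sylow.isPGroup hTR hg (d.le_centralizer h hg g.2)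
    refine ⟨g, ⟨hg, g.2⟩, (g : G)⁻¹ * r, ⟨(Closed.ra T A).mul_mem ((Closed.ra T A).inv_mem hgra) hr,
      mem_lift.2 ⟨mul_mem (inv_mem (lift_le x L g.2)) hrC, ?_⟩⟩, (mul_inv_cancel_left _ _).symm⟩
    have hgN : cmap x ⟨g, lift_le x L g.2⟩ ∈ Subgroup.normalizer (L : Set (CQ x)) :=
      Subgroup.le_normalizer (coe_toL g ▸ (toL x L g).2)
    have h1 := centralizes_of_autOn d.comp.2.1 (mul_mem (inv_mem hgN) hN) (by
      rw [show (⟨_, mul_mem (inv_mem hgN) hN⟩ : ↥(Subgroup.normalizer (L : Set (CQ x)))) =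
        ⟨_, hgN⟩⁻¹ * ⟨_, hN⟩ from rfl, map_mul, map_inv, hφ, lmap_apply, ← autOn_coe, inv_mul_eq_one]
      exact congrArg (autOn L) (Subtype.ext (coe_toL g).symm))
    rw [← map_inv, ← map_mul] at h1
    exact h1
  · rw [← d.loc.card_Z]
    refine Nat.card_congr (Equiv.ofBijective
      (fun g => (⟨lmap x L ⟨g, g.2.2.2⟩, d.lmap_mem_Z g.2.1⟩ : Z)) ⟨?_, ?_⟩)
    · intro g g' e
      have h1 := d.lmap_injOn hcb (g := ⟨g, g.2.2.2⟩) (g' := ⟨g', g'.2.2.2⟩) g.2.2.1 g'.2.2.1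
        (congrArg Subtype.val e)
      exact Subtype.ext (congrArg (fun v : ↥(lift x L) => (v : G)) h1)
    · rintro ⟨z, hz⟩
      obtain ⟨f, hf, e⟩ := d.exists_F hz
      exact ⟨⟨f, hf, hAR hf, f.2⟩, Subtype.ext e⟩
  · rintro y ⟨hy, hyL⟩
    set g : ↥(lift x L) := ⟨y, hyL⟩
    refine ⟨fun e => (hmemA g hy).2 ((d.loc.sq_iff _ (d.lmap_mem_pbar hy)).1 ?_), fun hA' => h.sq hA'⟩
    rw [← map_mul, show g * g = 1 from Subtype.ext e, map_one]
  · rintro y ⟨hy, hyL⟩
    refine (hmemA (⟨y, hyL⟩ * ⟨y, hyL⟩) (R.mul_mem hy hy)).2 ?_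
    rw [map_mul]
    exact d.loc.sq_mem _ (d.lmap_mem_pbar hy)
  · rintro z hzA ⟨hzR, hzL⟩
    obtain ⟨p, hp, e⟩ := d.loc.sq_surj _ (d.lmap_mem_Z (g := ⟨z, hzL⟩) hzA)
    obtain ⟨g, hg, rfl⟩ := d.exists_R hp
    refine ⟨g, ⟨hg, g.2⟩, congrArg Subtype.val (d.lmap_injOn hcb (g := g * g) (g' := ⟨z, hzL⟩)
      (R.mul_mem hg hg) hzR ?_)⟩
    rw [map_mul, e]
  · rintro y ⟨hy, hyL⟩ hyA w ⟨hw, hwL⟩ hyw
    set g : ↥(lift x L) := ⟨y, hyL⟩
    set k : ↥(lift x L) := ⟨w, hwL⟩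
    rcases d.loc.cent _ (d.lmap_mem_pbar (g := g) hy) (fun e => hyA ((hmemA g hy).2 e)) _
      (d.lmap_mem_pbar (g := k) hw) (by
        rw [← map_mul, ← map_mul]; exact congrArg (lmap x L) (Subtype.ext hyw)) with h1 | h1
    · exact Or.inl ((hmemA k hw).2 h1)
    · rw [← map_inv, ← map_mul] at h1
      exact Or.inr ((hmemA (g⁻¹ * k) (R.mul_mem (R.inv_mem hy) hw)).2 h1)
  · intro a ha
    obtain ⟨l, hl, c, hc, e⟩ := d.exists_decomp ha
    exact ⟨l, ⟨hl.1, hAR hl.1, hl.2⟩, c,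
      ⟨hc.1, ⟨⟨h.le hc.1, h.le_centralizer hc.1⟩, hc.2⟩⟩, e⟩

theorem mem_lift_cent_self (d : CompData x R F L q Z τ) :
    x ∈ lift x (Subgroup.centralizer (L : Set (CQ x))) := by
  refine mem_lift.2 ⟨Subgroup.mem_centralizer_singleton_iff.2 rfl, Subgroup.mem_centralizer_iff.2 ?_⟩
  intro m _
  obtain ⟨g, rfl⟩ := cmap_surjective x m
  rw [← map_mul, ← map_mul]
  exact congrArg (cmap x) (Subtype.ext (Subgroup.mem_centralizer_singleton_iff.1 g.2))

theorem mon (d : CompData x R A L q Z τ) (h : Closed G T A) (hx : x ∈ A) (hx1 : x ≠ 1)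
    (hTR : (T : Subgroup G) ⊓ Subgroup.centralizer ({x} : Set G) ≤ R) :
    Mon A (Closed.ra T A) (A ⊓ lift x L)
      (A ⊓ lift x (Subgroup.centralizer (L : Set (CQ x)))) := by
  refine ⟨q, _, _, d.eff h hx hTR, ?_, ?_, ?_⟩
  · rw [← inf_assoc, inf_eq_left.2 d.base.le]
  · rw [← inf_assoc, inf_eq_left.2 (le_inf h.le h.le_centralizer)]
  · intro e
    exact hx1 (Subgroup.mem_bot.1 (e ▸ Subgroup.mem_inf.2 ⟨hx, d.mem_lift_cent_self⟩))

end CompData

end Cfsg.Agent.Lib.Thompson3Prime33
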