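import Cfsg.Agent.Lib.Thompson3Prime33.Completion
import Cfsg.Agent.Lib.Thompson3Prime33.EffAt
import Cfsg.Agent.Lib.Involutions.StronglyEmbedded
import Cfsg.Agent.Lib.Coprime.Glauberman

/-!
# A proper subgroup containing the normaliser of `A` and the centralisers of its elements

Owner: helper33.
-/

set_option autoImplicit false
set_option linter.style.haveILetI false
set_option linter.unusedSectionVars false

namespace Cfsg.Agent.Lib.Thompson3Prime33

universe u

variable {G : Type u} [Group G] [Finite G]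

/-- An element whose image centralises the image of a `2`-group is corrected by the core. -/
theorem exists_fix {x : G} {E : Subgroup G} (hE : IsPGroup 2 E)
    (hEC : E ≤ Subgroup.centralizer ({x} : Set G)) {g : ↥(Subgroup.centralizer ({x} : Set G))}
    (hg : ∀ e (he : e ∈ E), cmap x g * cmap x ⟨e, hEC he⟩ = cmap x ⟨e, hEC he⟩ * cmap x g) :
    ∃ o ∈ Cfsg.centralizerPPrimeCore 2 x, o * (g : G) ∈ Subgroup.centralizer (E : Set G) := by
  haveI : Fact (Nat.Prime 2) := ⟨Nat.prime_two⟩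
  obtain ⟨k, hk⟩ := IsPGroup.iff_card.1 hE
  refine Coprime.exists_fixed_mul
    (hEC.trans (Balance.centralizer_le_normalizer_centralizerPPrimeCore x))
    (by rw [hk]; exact (Nat.coprime_two_left.2 (odd_core x)).pow_left k)
    (Or.inl (Coprime.isSolvable_of_isPGroup hE)) fun e he => ?_
  refine (cmap_eq_one (g := ⟨e, hEC he⟩ * g * (⟨e, hEC he⟩)⁻¹ * g⁻¹)).1 ?_
  simp only [map_mul, map_inv]
  rw [← hg e he]
  group

variable {T : Sylow 2 G} {A : Subgroup G}

/-- Some component of some `C(a) / O(C(a))`, `a ∈ A`, is not centralised by `A`. -/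
def Effective (T : Sylow 2 G) (A : Subgroup G) : Prop :=
  ∃ a ∈ A, a ≠ 1 ∧ ∃ R : Subgroup G, (T : Subgroup G) ⊓ Subgroup.centralizer ({a} : Set G) ≤ R ∧
    ∃ (L : Subgroup (CQ a)) (q : ℕ) (Z : Subgroup (↥L ⧸ Subgroup.center ↥L))
      (τ : ↥L ⧸ Subgroup.center ↥L), CompData a R A L q Z τ

/-- The centralisers of the elements of `A` normalise `A` modulo their cores. -/
def PlainCent (A : Subgroup G) : Prop :=
  ∀ a ∈ A, a ≠ 1 → ∀ g ∈ Subgroup.centralizer ({a} : Set G),
    ∃ w ∈ Cfsg.centralizerPPrimeCore 2 a, ∃ n ∈ Subgroup.centralizer ({a} : Set G),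
      n ∈ Subgroup.normalizer (A : Set G) ∧ g = w * n

namespace Closed

/-- Each component at `a` is not centralised by `A` only when it is effective. -/
theorem plainCent (h : Closed G T A) (he : ¬ Effective T A) : PlainCent A := by
  intro a ha ha1 g hg
  obtain ⟨R, hR, hTR⟩ := h.exists_loc ha ha1
  obtain ⟨Rb, hRb, hsc⟩ := hR.exists_sc
  have hcent : Cfsg.layer (CQ a) ≤ Subgroup.centralizer (qimg a A : Set (CQ a)) := by
    refine sSup_le fun L hL => Subgroup.le_centralizer_iff.1 ?_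
    by_contra hne
    obtain ⟨q, Z, τ, d⟩ := hR.exists_compData h.hyp hL hne
    exact he ⟨a, ha, ha1, R, hTR, L, q, Z, τ, d⟩
  obtain ⟨e, n, hee, hn, hgn⟩ := hR.decomp h.hyp ⟨g, hg⟩
  obtain ⟨o, ho, hon⟩ := exists_fix h.isPGroup (h.le_centralizer_elem ha) (g := e) fun b hb =>
    (Subgroup.mem_centralizer_iff.1 (hcent hee) _ ⟨⟨b, h.le_centralizer_elem ha hb⟩, hb, rfl⟩).symm
  have hoC := Balance.centralizerPPrimeCore_le (p := 2) a ho
  refine ⟨o⁻¹, inv_mem ho, o * e * n, mul_mem (mul_mem hoC e.2) n.2,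
    mul_mem (Subgroup.centralizer_le_normalizer _ hon) hn, ?_⟩
  rw [show g = (e : G) * n from congrArg Subtype.val hgn]
  group

/-- The centralisers of elements of `A` normalise the completion. -/
theorem centralizer_le_wcl (h : Closed G T A) {a : G} (ha : a ∈ A) (ha1 : a ≠ 1) :
    Subgroup.centralizer ({a} : Set G) ≤ Subgroup.normalizer (wcl A : Set G) := by
  intro g hg
  obtain ⟨R, hR, hTR⟩ := h.exists_loc ha ha1
  set M := Subgroup.normalizer (wcl A : Set G)
  have hker : Cfsg.centralizerPPrimeCore 2 a ≤ M :=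
    (h.core_le_wcl ha ha1).trans Subgroup.le_normalizer
  have hlay : Cfsg.layer (CQ a) ≤ (M.subgroupOf _).map (cmap a) := by
    refine sSup_le fun L hL => ?_
    obtain ⟨E, hEA, hE4, hEL⟩ : ∃ E ≤ A, 4 ≤ Nat.card E ∧
        ∀ e (he : e ∈ E) (heC : e ∈ Subgroup.centralizer ({a} : Set G)),
          cmap a ⟨e, heC⟩ ∈ Subgroup.centralizer (L : Set (CQ a)) := by
      by_cases hne : qimg a A ≤ Subgroup.centralizer (L : Set (CQ a))
      · exact ⟨A, le_rfl, le_trans (by norm_num) h.eight,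
          fun e he heC => hne ⟨⟨e, heC⟩, he, rfl⟩⟩
      obtain ⟨q, Z, τ, d⟩ := hR.exists_compData h.hyp hL hne
      have m := d.mon h ha ha1 hTR
      obtain ⟨Z', Q', m', hne'⟩ := m.exists_ne h
      refine ⟨_, inf_le_left, le_trans ?_ (Subgroup.card_le_of_le (m'.le_of_ne m h hne')), ?_⟩
      · obtain ⟨q', Pl, C, d', rfl, -, -⟩ := m'
        rw [d'.card_inf]
        exact le_trans (by norm_num) d'.eight_le
      · exact fun e he heC => mem_lift_coe (g := ⟨e, heC⟩) |>.1 he.2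
    intro l hl
    obtain ⟨k, rfl⟩ := cmap_surjective a l
    obtain ⟨o, ho, hok⟩ := exists_fix (h.isPGroup.to_le hEA) (hEA.trans (h.le_centralizer_elem ha))
      (g := k) fun e he => Subgroup.mem_centralizer_iff.1
        (hEL e he (h.le_centralizer_elem ha (hEA he))) _ hl
    have hoC := Balance.centralizerPPrimeCore_le (p := 2) a ho
    refine ⟨⟨o, hoC⟩ * k, h.mem_normalizer_wcl hEA hE4 ?_, ?_⟩
    · rintro _ ⟨e, he, rfl⟩
      show o * k * e * (o * k)⁻¹ ∈ A
      rw [conj_eq_of_commute (Subgroup.mem_centralizer_iff.1 hok e he).symm]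
      exact hEA he
    · rw [map_mul, cmap_eq_one.2 ho, one_mul]
  obtain ⟨e, n, hee, hn, hgn⟩ := hR.decomp h.hyp ⟨g, hg⟩
  obtain ⟨e', he', hee'⟩ := hlay hee
  have h1 : ((e * e'⁻¹ : ↥(Subgroup.centralizer ({a} : Set G))) : G) ∈
      Cfsg.centralizerPPrimeCore 2 a :=
    cmap_eq_one.1 (by rw [map_mul, map_inv, hee', mul_inv_cancel])
  have h2 := mul_mem (mul_mem (hker h1) (show (e' : G) ∈ M from he')) (h.normalizer_le_wcl hn)
  rw [show g = (e : G) * n from congrArg Subtype.val hgn]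
  simpa using h2

end Closed

/-- A proper subgroup containing `N(A)` and the centralisers of the elements of `A`. -/
structure Anchor (T : Sylow 2 G) (A M : Subgroup G) : Prop where
  closed : Closed G T A
  ne_top : M ≠ ⊤
  norm : Subgroup.normalizer (A : Set G) ≤ M
  cent : ∀ a ∈ A, a ≠ 1 → Subgroup.centralizer ({a} : Set G) ≤ M

theorem Closed.anchor_wcl (h : Closed G T A) (hW : wcl A ≠ ⊥) :
    Anchor T A (Subgroup.normalizer (wcl A : Set G)) := by
  refine ⟨h, h.hyp.normalizer_ne_top hW fun e => ?_, h.normalizer_le_wcl,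
    fun a ha ha1 => h.centralizer_le_wcl ha ha1⟩
  have := h.odd_wcl
  rw [e, Subgroup.card_top] at this
  exact Nat.not_even_iff_odd.2 this (even_iff_two_dvd.2 h.hyp.even)

theorem Closed.anchor_normalizer (h : Closed G T A) (he : ¬ Effective T A) (hW : wcl A = ⊥) :
    Anchor T A (Subgroup.normalizer (A : Set G)) := by
  refine ⟨h, h.ne_top, le_rfl, fun a ha ha1 g hg => ?_⟩
  obtain ⟨w, hw, n, -, hn, rfl⟩ := h.plainCent he a ha ha1 g hg
  have hw1 : w = 1 := Subgroup.mem_bot.1 (hW ▸ h.core_le_wcl ha ha1 hw)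
  rw [hw1, one_mul]; exact hn

namespace Anchor

variable {M : Subgroup G}

theorem sylow_le (h : Anchor T A M) : (T : Subgroup G) ≤ M := h.closed.sylow_le.trans h.norm

theorem a_le (h : Anchor T A M) : A ≤ M := h.closed.le.trans h.sylow_le

theorem exists_conj_le (h : Anchor T A M) {U : Subgroup G} (hU : IsPGroup 2 U) (hUM : U ≤ M) :
    ∃ m ∈ M, cj m U ≤ (T : Subgroup G) := by
  haveI : Fact (Nat.Prime 2) := ⟨Nat.prime_two⟩
  obtain ⟨S, hS⟩ := (hU.comap_subtype (K := M)).exists_le_sylow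
  obtain ⟨k, hk⟩ := MulAction.exists_smul_eq M S (T.subtype h.sylow_le)
  refine ⟨k, k.2, ?_⟩
  rintro _ ⟨x, hx, rfl⟩
  have h1 : (MulAut.conj k) ⟨x, hUM hx⟩ ∈ ((k • S : Sylow 2 M) : Subgroup M) :=
    ⟨⟨x, hUM hx⟩, hS hx, rfl⟩
  rw [hk, Sylow.coe_subtype, Subgroup.mem_subgroupOf] at h1
  exact h1

theorem exists_conj_mem (h : Anchor T A M) {t : G} (ht : t ∈ M) {i : ℕ} (h2 : t ^ 2 ^ i = 1) :
    ∃ m ∈ M, m * t * m⁻¹ ∈ (T : Subgroup G) := by
  obtain ⟨j, -, hj⟩ := (Nat.dvd_prime_pow Nat.prime_two).1 (orderOf_dvd_of_pow_eq_one h2)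
  obtain ⟨m, hm, hle⟩ := h.exists_conj_le (U := Subgroup.zpowers t)
    (IsPGroup.of_card (n := j) (by rw [Nat.card_zpowers, hj])) (Subgroup.zpowers_le.2 ht)
  exact ⟨m, hm, hle (conj_mem_cj (Subgroup.mem_zpowers t))⟩

/-- The point lemma: a conjugate of an element of `A` lies only in its own conjugate of `M`. -/
theorem point (h : Anchor T A M) {a : G} (ha : a ∈ A) (ha1 : a ≠ 1) {g : G}
    (hg : g * a * g⁻¹ ∈ M) : g ∈ M := by
  obtain ⟨m, hm, hmT⟩ := h.exists_conj_mem hg (i := 1) (by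
    rw [pow_one, conj_pow, pow_two, h.closed.sq ha, mul_one, mul_inv_cancel])
  have h1 : (m * g) * a * (m * g)⁻¹ ∈ (T : Subgroup G) := by simpa [mul_assoc] using hmT
  obtain ⟨n, hn, he⟩ := h.closed.control_one (h.closed.le ha) h1
  have h2 : n⁻¹ * (m * g) ∈ M := h.cent a ha ha1 (Subgroup.mem_centralizer_singleton_iff.2
    (commute_of_conj_eq (by
      calc n⁻¹ * (m * g) * a * (n⁻¹ * (m * g))⁻¹ = n⁻¹ * ((m * g) * a * (m * g)⁻¹) * n := by group
        _ = a := by rw [he]; group)))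
  have h3 := mul_mem (inv_mem hm) (mul_mem (h.norm hn) h2)
  simpa [mul_assoc] using h3

theorem odd_index (h : Anchor T A M) : Odd M.index := by
  rw [Nat.odd_iff, ← Nat.two_dvd_ne_zero]
  haveI : Fact (Nat.Prime 2) := ⟨Nat.prime_two⟩
  exact fun hd => T.not_dvd_index (hd.trans (Subgroup.index_dvd_of_le h.sylow_le))

theorem even_card (h : Anchor T A M) : Even (Nat.card M) := by
  rw [even_iff_two_dvd]
  obtain ⟨a, ha, ha1⟩ := A.bot_or_exists_ne_one.resolve_left h.closed.ne_bot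
  rw [← h.closed.order_two ha ha1]
  exact Subgroup.orderOf_dvd_natCard _ (h.a_le ha)

end Anchor

/-- An involution fixing at least two points of `G / M`. -/
def Bad (M : Subgroup G) (u : G) : Prop :=
  orderOf u = 2 ∧ ∃ g g' : G, g⁻¹ * g' ∉ M ∧ g⁻¹ * u * g ∈ M ∧ g'⁻¹ * u * g' ∈ M

theorem Bad.conj {M : Subgroup G} {u : G} (h : Bad M u) (k : G) : Bad M (k * u * k⁻¹) := by
  obtain ⟨ho, g, g', hne, h1, h2⟩ := h
  refine ⟨(orderOf_injective (MulAut.conj k).toMonoidHom (MulAut.conj k).injective u).trans ho, k * g,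
    k * g', ?_, ?_, ?_⟩
  · simpa [mul_assoc] using hne
  · simpa [mul_assoc] using h1
  · simpa [mul_assoc] using h2

theorem Bad.invol {M : Subgroup G} {u : G} (h : Bad M u) : orderOf u = 2 := h.1

/-- Without bad involutions the group is a Suzuki group. -/
theorem Anchor.suzuki_of_no_bad {M : Subgroup G} (h : Anchor T A M) (hb : ∀ u, ¬ Bad M u) :
    Cfsg.Lie.IsoSuzuki G := by
  refine h.closed.hyp.suzuki_of_stronglyEmbedded
    (Involutions.StronglyEmbedded.of_forall_conj h.ne_top h.even_card fun t htM ht g hg => ?_)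
  by_contra hgM
  exact hb t ⟨ht, 1, g⁻¹, by simpa using hgM, by simpa using htM, by simpa using hg⟩

end Cfsg.Agent.Lib.Thompson3Prime33
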