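import Cfsg.Agent.Lib.Thompson3Prime33.CountFibre

/-!
# The count of the involutions: `|A| = q` and `|G : M| = k (q ^ 3 - q ^ 2 + 1)`, `k = q ^ 2 + 1`

Every bad involution `v` is weighted by `|O(C(v))|`.

Owner: helper20.
-/

set_option autoImplicit false
set_option linter.style.haveILetI false
set_option linter.unusedSectionVars false
set_option linter.unusedVariables false

namespace Cfsg.Agent.Lib.Thompson3Prime33

universe u

open scoped Classical

variable {G : Type u} [Group G] [Finite G] {T : Sylow 2 G} {A M : Subgroup G}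

namespace Final

/-- Every bad involution is conjugate into `N(A)`. -/
theorem exists_conj_into (hf : Final T A M) {v : G} (hv : Bad M v) :
    ∃ g : G, g * v * g⁻¹ ∈ Subgroup.normalizer (A : Set G) := by
  obtain ⟨-, g, -, -, hg, -⟩ := id hv
  have h1 : Bad M (g⁻¹ * v * g) := by simpa using hv.conj g⁻¹
  obtain ⟨m, -, hm⟩ := hf.exists_conj_normalizer h1 hg
  exact ⟨m * g⁻¹, by simpa [mul_assoc] using hm⟩

/-- All the parameters at bad involutions are the same. -/
theorem exists_q (hf : Final T A M) :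
    ∃ q, (∃ m : ℕ, 1 ≤ m ∧ q = 2 ^ (2 * m + 1)) ∧ (Nat.card A = q ∨ Nat.card A = q ^ 2) ∧
      ∀ (u : G) (R : Subgroup G) (L : Subgroup (CQ u)) (q' : ℕ)
        (Z : Subgroup (↥L ⧸ Subgroup.center ↥L)) (τ : ↥L ⧸ Subgroup.center ↥L),
        BadData T A M u R L q' Z τ → q' = q := by
  obtain ⟨v, hv⟩ := hf.exists_bad
  obtain ⟨g, hg⟩ := hf.exists_conj_into hv
  obtain ⟨R, L, q, Z, τ, b⟩ := hf.anchor.exists_badData (hv.conj g) hg
  obtain ⟨m, hm, hq⟩ := b.comp.loc.q_eq
  refine ⟨q, ⟨m, hm, hq⟩, b.card_A_cases hf, fun u R' L' q' Z' τ' b' => ?_⟩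
  obtain ⟨m', -, hq'⟩ := b'.comp.loc.q_eq
  rcases b.card_A_cases hf with e | e <;> rcases b'.card_A_cases hf with e' | e' <;> rw [e] at e'
  · exact e'.symm
  · rw [hq, hq', ← pow_mul] at e'
    have := Nat.pow_right_injective le_rfl e'
    omega
  · rw [hq, hq', ← pow_mul] at e'
    have := Nat.pow_right_injective le_rfl e'
    omega
  · exact (Nat.pow_left_injective two_ne_zero e').symm

end Final

/-- All the parameters are `q`. -/
def UniformQ (T : Sylow 2 G) (A M : Subgroup G) (q : ℕ) : Prop :=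
  ∀ (u : G) (R : Subgroup G) (L : Subgroup (CQ u)) (q' : ℕ)
    (Z : Subgroup (↥L ⧸ Subgroup.center ↥L)) (τ : ↥L ⧸ Subgroup.center ↥L),
    BadData T A M u R L q' Z τ → q' = q

namespace UniformQ

variable {q : ℕ}

theorem exists_data (hq : UniformQ T A M q) (hf : Final T A M) {u : G} (hu : Bad M u)
    (huA : u ∈ Subgroup.normalizer (A : Set G)) : ∃ R L Z τ, BadData T A M u R L q Z τ := by
  obtain ⟨R, L, q', Z, τ, b⟩ := hf.anchor.exists_badData hu huA
  obtain rfl := hq _ _ _ _ _ _ b
  exact ⟨R, L, Z, τ, b⟩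

theorem card_inf (hq : UniformQ T A M q) (hf : Final T A M) {u : G} (hu : Bad M u)
    (huA : u ∈ Subgroup.normalizer (A : Set G)) :
    Nat.card (A ⊓ Subgroup.centralizer ({u} : Set G) : Subgroup G) = q := by
  obtain ⟨R, L, Z, τ, b⟩ := hq.exists_data hf hu huA
  exact b.card_inf

/-- A bad involution fixes `q ^ 2 + 1` points. -/
theorem card_fixed (hq : UniformQ T A M q) (hf : Final T A M) {v : G} (hv : Bad M v) :
    Nat.card {p : G ⧸ M // v • p = p} = q ^ 2 + 1 := by
  obtain ⟨g, hg⟩ := hf.exists_conj_into hv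
  set u := g * v * g⁻¹ with hu
  obtain ⟨R, L, Z, τ, b⟩ := hq.exists_data hf (hv.conj g) hg
  have hmul : v = g⁻¹ * u * g := by rw [hu]; group
  rw [Nat.card_congr (Equiv.subtypeEquiv (MulAction.toPerm g) (q := fun p : G ⧸ M => u • p = p)
    (fun p => by
      show v • p = p ↔ u • (g • p) = g • p
      rw [← mul_smul, hu, show g * v * g⁻¹ * g = g * v by group, mul_smul]
      exact ⟨fun h => by rw [h], fun h => smul_left_cancel g h⟩))]
  set C := Subgroup.centralizer ({u} : Set G)
  set pt : G ⧸ M := ((1 : G) : G ⧸ M)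
  have hst : MulAction.stabilizer ↥C pt = M.subgroupOf C := by
    ext c
    rw [MulAction.mem_stabilizer_iff, Subgroup.mem_subgroupOf]
    show (((c : G) * 1 : G) : G ⧸ M) = ((1 : G) : G ⧸ M) ↔ (c : G) ∈ M
    rw [QuotientGroup.eq, mul_one, mul_one, inv_mem_iff]
  have horb : {p : G ⧸ M | u • p = p} = MulAction.orbit ↥C pt := by
    ext p
    constructor
    · intro hp
      induction p using QuotientGroup.induction_on with
      | H x =>
        have h1 : x⁻¹ * u * x ∈ M := by
          have h2 : ((u * x : G) : G ⧸ M) = (x : G ⧸ M) := hp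
          have h3 := QuotientGroup.eq.1 h2.symm
          rwa [← mul_assoc] at h3
        obtain ⟨c, hc, hcx⟩ := b.exists_cent_mul h1
        refine ⟨⟨c, hc⟩, ?_⟩
        show ((c * 1 : G) : G ⧸ M) = (x : G ⧸ M)
        rw [mul_one]
        exact QuotientGroup.eq.2 hcx
    · rintro ⟨c, rfl⟩
      show ((u * ((c : G) * 1) : G) : G ⧸ M) = (((c : G) * 1 : G) : G ⧸ M)
      rw [QuotientGroup.eq, mul_one, mul_inv_rev, mul_assoc,
        show u⁻¹ * (c : G) = (c : G) * u⁻¹ from
          ((Commute.inv_right (show Commute (c : G) u from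
            Subgroup.mem_centralizer_singleton_iff.1 c.2)).eq).symm,
        inv_mul_cancel_left, inv_mem_iff]
      exact b.anchor.norm b.mem
  show Nat.card {p : G ⧸ M | u • p = p} = _
  rw [horb, Nat.card_coe_set_eq, ← MulAction.index_stabilizer, hst]
  exact b.borel_index

/-- The two ways of summing over the pairs of a bad involution and a fixed point. -/
theorem pairs (hq : UniformQ T A M q) (hf : Final T A M) :
    (q ^ 2 + 1) * (∑ v ∈ inSet M, cw v + ∑ v ∈ outSet M, cw v) =
      M.index * ∑ v ∈ inSet M, cw v := by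
  letI : Fintype (G ⧸ M) := Fintype.ofFinite _
  calc (q ^ 2 + 1) * (∑ v ∈ inSet M, cw v + ∑ v ∈ outSet M, cw v)
      = ∑ v ∈ badSet M, ∑ _p ∈ Finset.univ.filter (fun p : G ⧸ M => v • p = p), cw v := by
        rw [← sum_badSet, Finset.mul_sum]
        refine Finset.sum_congr rfl fun v hv => ?_
        rw [Finset.sum_const, smul_eq_mul, ← hq.card_fixed hf (mem_badSet.1 hv),
          Nat.card_eq_fintype_card, Fintype.card_subtype]
    _ = ∑ p : G ⧸ M, ∑ v ∈ (badSet M).filter (fun v => v • p = p), cw v := by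
        rw [Finset.sum_congr rfl fun v _ => Finset.sum_filter _ _, Finset.sum_comm]
        exact Finset.sum_congr rfl fun p _ => (Finset.sum_filter _ _).symm
    _ = M.index * ∑ v ∈ inSet M, cw v := by
        rw [Finset.sum_const_nat (m := ∑ v ∈ inSet M, cw v), Finset.card_univ,
          ← Nat.card_eq_fintype_card, Subgroup.index]
        intro p _
        induction p using QuotientGroup.induction_on with
        | H x =>
          have hiff : ∀ v : G, v • (x : G ⧸ M) = (x : G ⧸ M) ↔ x⁻¹ * v * x ∈ M := fun v => by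
            show ((v * x : G) : G ⧸ M) = (x : G ⧸ M) ↔ _
            rw [eq_comm, QuotientGroup.eq, mul_assoc]
          refine Finset.sum_nbij' (fun v => x⁻¹ * v * x) (fun v => x * v * x⁻¹) ?_ ?_ ?_ ?_ ?_
          · intro v hv
            obtain ⟨hvb, hvx⟩ := Finset.mem_filter.1 hv
            exact mem_inSet.2 ⟨by simpa using (mem_badSet.1 hvb).conj x⁻¹, (hiff v).1 hvx⟩
          · intro v hv
            obtain ⟨hvb, hvM⟩ := mem_inSet.1 hv
            refine Finset.mem_filter.2 ⟨mem_badSet.2 (hvb.conj x), (hiff _).2 ?_⟩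
            simpa [mul_assoc] using hvM
          · intro v _
            show x * (x⁻¹ * v * x) * x⁻¹ = v
            group
          · intro v _
            show x⁻¹ * (x * v * x⁻¹) * x = v
            group
          · intro v _
            rw [show x⁻¹ * v * x = x⁻¹ * v * x⁻¹⁻¹ by rw [inv_inv], cw_conj]

end UniformQ

namespace Final

/-- The sum over the bad involutions of `M`. -/
theorem sum_in (hf : Final T A M) :
    ∑ v ∈ inSet M, cw v = Nat.card (wcl A) * (classes A M).card := by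
  rw [classes, ← sum_fixed hf.closed.odd_wcl (S := inSet M)]
  · exact Finset.sum_congr rfl fun v hv => hf.cw_eq (mem_inSet.1 hv).1 (mem_inSet.1 hv).2
  · exact fun v hv => Involutions.Basic.invol_mul_self (mem_inSet.1 hv).1.invol
  · exact fun v hv => hf.le_norm (mem_inSet.1 hv).2
  · intro v hv x hx
    obtain ⟨hvb, hvM⟩ := mem_inSet.1 hv
    exact mem_inSet.2 ⟨hvb.conj x,
      mul_mem (mul_mem (hf.wcl_le hx) hvM) (inv_mem (hf.wcl_le hx))⟩

theorem centBad_subset (hf : Final T A M) {z : G} (hz : z ∈ A) (hz1 : z ≠ 1) {v : G}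
    (hv : v ∈ centBad M z) : v ∈ M :=
  hf.anchor.cent z hz hz1 (Subgroup.mem_centralizer_singleton_iff.2 (mem_centBad.1 hv).2.symm)

/-- The sum over the bad involutions outside `M`. -/
theorem sum_out (hf : Final T A M) (hs : SwapFacts T A M) {q : ℕ} (hq : UniformQ T A M q) {z : G}
    (hz : z ∈ A) (hz1 : z ≠ 1) :
    ∑ v ∈ outSet M, cw v = q ^ 2 * (q - 1) * Nat.card (wcl A) * (classesAt A M z).card := by
  set Wz := wcl A ⊓ Subgroup.centralizer ({z} : Set G) with hWz
  have hmaps : ∀ v ∈ outSet M, pairInvol z v ∈ centBad M z := by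
    intro v hv
    obtain ⟨hvb, hvM⟩ := mem_outSet.1 hv
    have hvv := Involutions.Basic.invol_mul_self hvb.invol
    have hev : Even (orderOf (z * v)) := by
      rw [← Nat.not_odd_iff_even]
      intro ho
      obtain ⟨d, -, hd⟩ := Involutions.Basic.exists_conj_of_odd (hf.closed.sq hz) hvv ho
      exact InD.not_bad hf.anchor ⟨z, hz, hz1, d, hd⟩ hvb
    obtain ⟨hw, hwz, hwv⟩ :=
      Involutions.Basic.central_invol (hf.closed.order_two hz hz1) hvb.invol hev
    set w := pairInvol z v
    have hwM : w ∈ M := hf.anchor.cent z hz hz1 (Subgroup.mem_centralizer_singleton_iff.2 hwz.eq)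
    refine mem_centBad.2 ⟨(hs.bad_or_inD w hw).resolve_left ?_, hwz.eq.symm⟩
    rintro ⟨a, ha, ha1, g, hga⟩
    have hgM : g ∈ M := hf.anchor.point ha ha1 (hga.symm ▸ hwM)
    have hca : g⁻¹ * v * g ∈ Subgroup.centralizer ({a} : Set G) := by
      rw [Subgroup.mem_centralizer_singleton_iff]
      have hwv' : w * v = v * w := hwv.eq
      rw [← hga] at hwv'
      calc g⁻¹ * v * g * a = g⁻¹ * (v * (g * a * g⁻¹)) * g := by group
        _ = a * (g⁻¹ * v * g) := by rw [← hwv']; group
    have := mul_mem (mul_mem hgM (hf.anchor.cent a ha ha1 hca)) (inv_mem hgM)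
    exact hvM (by simpa [mul_assoc] using this)
  have hfib : ∀ w ∈ centBad M z,
      (∑ v ∈ (outSet M).filter (fun v => pairInvol z v = w), cw v) * Nat.card Wz =
        q ^ 2 * (q - 1) * Nat.card (wcl A) *
          Nat.card (Wz ⊓ Subgroup.centralizer ({w} : Set G) : Subgroup G) := by
    intro w hw
    obtain ⟨hwb, hwz⟩ := mem_centBad.1 hw
    have hwM := hf.centBad_subset hz hz1 hw
    have hww := Involutions.Basic.invol_mul_self hwb.invol
    obtain ⟨w₀, hw₀N, hw₀2, hd, hcomm⟩ := hf.exists_rep hwM hww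
    have hw₀z := hcomm z hz hwz
    have hd' : w₀⁻¹ * w ∈ Wz := ⟨hd, Subgroup.mem_centralizer_singleton_iff.2 (by
      calc w₀⁻¹ * w * z = w₀⁻¹ * (z * w) := by rw [mul_assoc, hwz]
        _ = z * (w₀⁻¹ * w) := by
          rw [← mul_assoc, ← mul_assoc,
            (Commute.inv_left (show Commute w₀ z from hw₀z.symm)).eq])⟩
    obtain ⟨x, ⟨hxW, hxz⟩, hxe⟩ := exists_conj_of_coset
      (hf.closed.odd_wcl.of_dvd_nat (Subgroup.card_dvd_of_le (inf_le_left : Wz ≤ wcl A)))
      hw₀2 hww hd'
    replace hxz : x * z = z * x := Subgroup.mem_centralizer_singleton_iff.1 hxz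
    have hxz' : x⁻¹ * z = z * x⁻¹ := (Commute.inv_left (show Commute x z from hxz)).eq
    have hw₀b : Bad M w₀ := by
      have := hwb.conj x⁻¹
      rwa [← hxe, show x⁻¹ * (x * w₀ * x⁻¹) * x⁻¹⁻¹ = w₀ by group] at this
    obtain ⟨R, L, Z, τ, b⟩ := hq.exists_data hf hw₀b hw₀N
    have hxM : x ∈ M := hf.wcl_le hxW
    have htr : ∀ (y v w' : G), y ∈ M → y * z = z * y →
        v ∈ (outSet M).filter (fun v => pairInvol z v = w') →
        y * v * y⁻¹ ∈ (outSet M).filter (fun v => pairInvol z v = y * w' * y⁻¹) := by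
      intro y v w' hy hyz hv
      obtain ⟨hv', hp⟩ := Finset.mem_filter.1 hv
      obtain ⟨hvb, hvM⟩ := mem_outSet.1 hv'
      refine Finset.mem_filter.2 ⟨mem_outSet.2 ⟨hvb.conj y, fun h => hvM ?_⟩, ?_⟩
      · simpa [mul_assoc] using mul_mem (mul_mem (inv_mem hy) h) hy
      · rw [pairInvol_conj hyz, hp]
    have hsum : ∑ v ∈ (outSet M).filter (fun v => pairInvol z v = w), cw v =
        ∑ v ∈ (outSet M).filter (fun v => pairInvol z v = w₀), cw v := by
      refine Finset.sum_nbij' (fun v => x⁻¹ * v * x⁻¹⁻¹) (fun v => x * v * x⁻¹) ?_ ?_ ?_ ?_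
        fun v _ => (cw_conj _ _).symm
      · intro v hv
        have h1 := htr x⁻¹ v w (inv_mem hxM) hxz' hv
        rwa [← hxe, show x⁻¹ * (x * w₀ * x⁻¹) * x⁻¹⁻¹ = w₀ by group] at h1
      · intro v hv
        have h1 := htr x v w₀ hxM hxz hv
        rwa [hxe] at h1
      · intro v _
        show x * (x⁻¹ * v * x⁻¹⁻¹) * x⁻¹ = v
        group
      · intro v _
        show x⁻¹ * (x * v * x⁻¹) * x⁻¹⁻¹ = v
        group
    have hxN : x ∈ Subgroup.normalizer (Wz : Set G) := Subgroup.le_normalizer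
      ⟨hxW, Subgroup.mem_centralizer_singleton_iff.2 hxz⟩
    rw [hsum, b.fibre_sum hf hs hz hz1 hw₀z, ← hxe, card_inf_cent hxN, hWz, inf_right_comm]
  have hWzodd : Odd (Nat.card Wz) :=
    hf.closed.odd_wcl.of_dvd_nat (Subgroup.card_dvd_of_le inf_le_left)
  have hsum := sum_fixed hWzodd (S := centBad M z)
    (fun v hv => Involutions.Basic.invol_mul_self (mem_centBad.1 hv).1.invol)
    (fun v hv => mem_normalizer_of_conj_mem fun x hx =>
      ⟨normalizer_conj (hf.le_norm (hf.centBad_subset hz hz1 hv)) hx.1,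
        Subgroup.mul_mem _ (Subgroup.mul_mem _
          (Subgroup.mem_centralizer_singleton_iff.2 (mem_centBad.1 hv).2.symm) hx.2)
          (Subgroup.inv_mem _
            (Subgroup.mem_centralizer_singleton_iff.2 (mem_centBad.1 hv).2.symm))⟩)
    (fun v hv x hx => by
      obtain ⟨hvb, hvz⟩ := mem_centBad.1 hv
      have hxz : x * z = z * x := Subgroup.mem_centralizer_singleton_iff.1 hx.2
      exact mem_centBad.2 ⟨hvb.conj x, (((show Commute z x from hxz.symm).mul_right hvz).mul_right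
        (show Commute z x from hxz.symm).inv_right).eq⟩)
  have hcls : ((centBad M z).image (QuotientGroup.mk : G → G ⧸ Wz)).card =
      (classesAt A M z).card := by
    rw [classesAt]
    refine Finset.card_bij (fun β _ => Subgroup.quotientMapOfLE (inf_le_left : Wz ≤ wcl A) β) ?_ ?_ ?_
    · intro β hβ
      obtain ⟨v, hv, rfl⟩ := Finset.mem_image.1 hβ
      exact Finset.mem_image_of_mem _ hv
    · intro β hβ β' hβ' e
      obtain ⟨v, hv, rfl⟩ := Finset.mem_image.1 hβ
      obtain ⟨v', hv', rfl⟩ := Finset.mem_image.1 hβ'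
      refine QuotientGroup.eq.2 ⟨QuotientGroup.eq.1 e, ?_⟩
      exact Subgroup.mul_mem _ (Subgroup.inv_mem _
        (Subgroup.mem_centralizer_singleton_iff.2 (mem_centBad.1 hv).2.symm))
        (Subgroup.mem_centralizer_singleton_iff.2 (mem_centBad.1 hv').2.symm)
    · intro β hβ
      obtain ⟨v, hv, rfl⟩ := Finset.mem_image.1 hβ
      exact ⟨_, Finset.mem_image_of_mem _ hv, rfl⟩
  refine Nat.eq_of_mul_eq_mul_right (m := Nat.card Wz) Nat.card_pos ?_
  rw [← Finset.sum_fiberwise_of_maps_to hmaps, Finset.sum_mul, Finset.sum_congr rfl hfib,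
    ← Finset.mul_sum, hsum, hcls]
  ring

/-- Each class of bad involutions of `M` centralises `q - 1` elements of `A`. -/
theorem sum_classes (hf : Final T A M) {q : ℕ} (hq : UniformQ T A M q) :
    ∑ z ∈ nonOne A, (classesAt A M z).card = (q - 1) * (classes A M).card := by
  have hsub : ∀ z ∈ nonOne A, classesAt A M z ⊆ classes A M := by
    intro z hz β hβ
    obtain ⟨hzA, hz1⟩ := mem_nonOne.1 hz
    obtain ⟨v, hv, rfl⟩ := Finset.mem_image.1 hβ
    exact Finset.mem_image_of_mem _
      (mem_inSet.2 ⟨(mem_centBad.1 hv).1, hf.centBad_subset hzA hz1 hv⟩)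
  calc ∑ z ∈ nonOne A, (classesAt A M z).card
      = ∑ z ∈ nonOne A, ∑ β ∈ classes A M, if β ∈ classesAt A M z then 1 else 0 := by
        refine Finset.sum_congr rfl fun z hz => ?_
        rw [← Finset.sum_filter, Finset.filter_mem_eq_inter,
          Finset.inter_eq_right.2 (hsub z hz), Finset.card_eq_sum_ones]
    _ = ∑ β ∈ classes A M, ((nonOne A).filter (fun z => β ∈ classesAt A M z)).card := by
        rw [Finset.sum_comm]
        refine Finset.sum_congr rfl fun β _ => ?_
        rw [Finset.card_filter]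
    _ = (q - 1) * (classes A M).card := by
        rw [Finset.sum_const_nat (m := q - 1), mul_comm]
        intro β hβ
        obtain ⟨v, hv, rfl⟩ := Finset.mem_image.1 hβ
        obtain ⟨hvb, hvM⟩ := mem_inSet.1 hv
        obtain ⟨v₀, hv₀N, hv₀2, hd, hcomm⟩ :=
          hf.exists_rep hvM (Involutions.Basic.invol_mul_self hvb.invol)
        have hv₀b : Bad M v₀ := hf.bad_congr hvb hv₀2 (by simpa using inv_mem hd)
        rw [← hq.card_inf hf hv₀b hv₀N, ← card_nonOne]
        congr 1
        ext z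
        rw [Finset.mem_filter, mem_nonOne, mem_nonOne]
        constructor
        · rintro ⟨⟨hzA, hz1⟩, hzc⟩
          obtain ⟨w, hw, hwe⟩ := Finset.mem_image.1 hzc
          refine ⟨⟨hzA, Subgroup.mem_centralizer_singleton_iff.2 ?_⟩, hz1⟩
          have hwv : w⁻¹ * v ∈ wcl A := QuotientGroup.eq.1 hwe
          have hwM := hf.centBad_subset hzA hz1 hw
          obtain ⟨w₀, hw₀N, -, hd', hcomm'⟩ :=
            hf.exists_rep hwM (Involutions.Basic.invol_mul_self (mem_centBad.1 hw).1.invol)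
          have hzw₀ : z * w₀ = w₀ * z := hcomm' z hzA (mem_centBad.1 hw).2
          have hvw : v₀⁻¹ * w₀ ∈ wcl A := by
            rw [show v₀⁻¹ * w₀ = v₀⁻¹ * v * (w⁻¹ * v)⁻¹ * (w₀⁻¹ * w)⁻¹ by group]
            exact mul_mem (mul_mem hd (inv_mem hwv)) (inv_mem hd')
          set e := v₀⁻¹ * w₀ with he
          have heA : e ∈ Subgroup.normalizer (A : Set G) := mul_mem (inv_mem hv₀N) hw₀N
          have hze : z * e = e * z := by
            have h1 : z * e * z⁻¹ * e⁻¹ = 1 := hf.closed.inf_wcl (by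
              rw [show z * e * z⁻¹ * e⁻¹ = z * (e * z⁻¹ * e⁻¹) by group]
              exact mul_mem hzA (normalizer_conj heA (inv_mem hzA)))
              (mul_mem (normalizer_conj (hf.le_norm (hf.anchor.a_le hzA)) hvw) (inv_mem hvw))
            exact commute_of_conj_eq (mul_inv_eq_one.1 h1)
          rw [show v₀ = w₀ * e⁻¹ by rw [he]; group]
          exact ((show Commute z w₀ from hzw₀).mul_right
            (show Commute z e from hze).inv_right).eq
        · rintro ⟨⟨hzA, hzC⟩, hz1⟩
          refine ⟨⟨hzA, hz1⟩, Finset.mem_image.2 ⟨v₀, mem_centBad.2 ⟨hv₀b,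
            Subgroup.mem_centralizer_singleton_iff.1 hzC⟩, QuotientGroup.eq.2 hd⟩⟩

/-- The result of the involution count. -/
theorem counted (hf : Final T A M) (hs : SwapFacts T A M) : ∃ q, Counted T A M q := by
  obtain ⟨q, ⟨m, hm, hqm⟩, hA, hq⟩ := hf.exists_q
  replace hq : UniformQ T A M q := hq
  have hq8 : 8 ≤ q := by
    rw [hqm]
    calc 8 = 2 ^ 3 := rfl
      _ ≤ 2 ^ (2 * m + 1) := Nat.pow_le_pow_right (by norm_num) (by omega)
  set S := ∑ v ∈ inSet M, cw v with hS
  set So := ∑ v ∈ outSet M, cw v with hSo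
  have hpairs := hq.pairs hf
  have hout : (Nat.card A - 1) * So = q ^ 2 * (q - 1) * (q - 1) * S := by
    calc (Nat.card A - 1) * So = ∑ z ∈ nonOne A, So := by
          rw [Finset.sum_const, card_nonOne, smul_eq_mul]
      _ = ∑ z ∈ nonOne A, q ^ 2 * (q - 1) * Nat.card (wcl A) * (classesAt A M z).card :=
          Finset.sum_congr rfl fun z hz =>
            hf.sum_out hs hq (mem_nonOne.1 hz).1 (mem_nonOne.1 hz).2
      _ = q ^ 2 * (q - 1) * Nat.card (wcl A) * ((q - 1) * (classes A M).card) := by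
          rw [← Finset.mul_sum, hf.sum_classes hq]
      _ = _ := by rw [hS, hf.sum_in]; ring
  have hSpos : 0 < S := by
    obtain ⟨v, hv⟩ := hf.exists_bad
    obtain ⟨g, hg⟩ := hf.exists_conj_into hv
    refine Finset.sum_pos (fun x _ => Nat.card_pos) ⟨_, mem_inSet.2 ⟨hv.conj g, ?_⟩⟩
    exact hf.anchor.norm hg
  have hmain : (Nat.card A - 1) * M.index =
      (q ^ 2 + 1) * ((Nat.card A - 1) + q ^ 2 * (q - 1) * (q - 1)) := by
    refine Nat.eq_of_mul_eq_mul_right hSpos ?_
    calc (Nat.card A - 1) * M.index * S = (Nat.card A - 1) * (M.index * S) := by ring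
      _ = (q ^ 2 + 1) * ((Nat.card A - 1) * S + (Nat.card A - 1) * So) := by
          rw [← hpairs]; ring
      _ = _ := by rw [hout]; ring
  obtain ⟨r, rfl⟩ : ∃ r, q = r + 1 := ⟨q - 1, by omega⟩
  rcases hA with e | e
  · refine ⟨r + 1, hf, hs, ⟨m, hm, hqm⟩, e, ?_, fun u hu huA => ?_, fun u hu huA =>
      hf.core_eq hu (hf.anchor.norm huA)⟩
    · rw [e, Nat.add_sub_cancel] at hmain
      have hidx : M.index = ((r + 1) ^ 2 + 1) * (1 + (r + 1) ^ 2 * r) :=
        Nat.eq_of_mul_eq_mul_left (show 0 < r by omega) (by rw [hmain]; ring)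
      rw [hidx]; ring
    · have h1 : A ⊓ Subgroup.centralizer ({u} : Set G) = A :=
        Subgroup.eq_of_le_of_card_ge inf_le_left (by rw [hq.card_inf hf hu huA, e])
      exact h1.ge.trans inf_le_right
  · exfalso
    rw [e, Nat.add_sub_cancel, show (r + 1) ^ 2 - 1 = r * (r + 2) by
      rw [show (r + 1) ^ 2 = r * (r + 2) + 1 by ring, Nat.add_sub_cancel]] at hmain
    have h1 : (r + 2) * M.index = ((r + 1) ^ 2 + 1) * ((r + 2) + (r + 1) ^ 2 * r) :=
      Nat.eq_of_mul_eq_mul_left (show 0 < r by omega) (by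
        calc r * ((r + 2) * M.index) = r * (r + 2) * M.index := by ring
          _ = _ := by rw [hmain]; ring)
    have h2 : ((r : ℤ) + 2) * M.index =
        (((r : ℤ) + 1) ^ 2 + 1) * (((r : ℤ) + 2) + ((r : ℤ) + 1) ^ 2 * r) := by exact_mod_cast h1
    have h4 : ((r : ℤ) + 2) ∣ 4 :=
      ⟨((r : ℤ) + 1) ^ 4 - 2 * ((r : ℤ) + 1) ^ 3 + 3 * ((r : ℤ) + 1) ^ 2 - 4 * ((r : ℤ) + 1) + 4 -
        ((M.index : ℤ) - (((r : ℤ) + 1) ^ 2 + 1)), by linear_combination h2⟩
    have h5 := Int.le_of_dvd (by norm_num) h4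
    omega

end Final

end Cfsg.Agent.Lib.Thompson3Prime33
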