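import Cfsg.Agent.Lib.Thompson3Prime33.BadData

/-!
# Consequences of the data at a bad involution

Owner: helper33.
-/

set_option autoImplicit false
set_option linter.style.haveILetI false
set_option linter.unusedSectionVars false
set_option linter.unusedVariables false

namespace Cfsg.Agent.Lib.Thompson3Prime33

universe u

variable {G : Type u} [Group G] [Finite G] {T : Sylow 2 G} {A M : Subgroup G}

namespace BadData

variable {u : G} {R : Subgroup G} {L : Subgroup (CQ u)} {q : ℕ}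
  {Z : Subgroup (↥L ⧸ Subgroup.center ↥L)} {τ : ↥L ⧸ Subgroup.center ↥L}

theorem closed (b : BadData T A M u R L q Z τ) : Closed G T A := b.anchor.closed

theorem invol (b : BadData T A M u R L q Z τ) : orderOf u = 2 := b.bad.invol

theorem mul_self (b : BadData T A M u R L q Z τ) : u * u = 1 := by
  rw [← pow_two, ← b.invol, pow_orderOf_eq_one]

theorem ne_one (b : BadData T A M u R L q Z τ) : u ≠ 1 := b.comp.base.ne_one

theorem core_le (b : BadData T A M u R L q Z τ) : Cfsg.centralizerPPrimeCore 2 u ≤ M :=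
  b.anchor.core_le b.invol b.mem

theorem core_le_wcl (b : BadData T A M u R L q Z τ) :
    Cfsg.centralizerPPrimeCore 2 u ≤ wcl A :=
  b.closed.core_le_wcl' b.invol b.mem

theorem R_le_normalizer (b : BadData T A M u R L q Z τ) :
    R ≤ Subgroup.normalizer (A : Set G) := by
  obtain ⟨n, hn, hle⟩ := b.inT
  intro r hr
  have h1 := mul_mem (mul_mem (inv_mem hn) (b.closed.sylow_le (hle (conj_mem_cj hr)))) hn
  simpa [mul_assoc] using h1

theorem R_le (b : BadData T A M u R L q Z τ) : R ≤ M := b.R_le_normalizer.trans b.anchor.norm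

theorem cmap_eq_one_of_lmap (b : BadData T A M u R L q Z τ) {g : ↥(lift u L)}
    (hg : lmap u L g = 1) : cmap u ⟨g, lift_le u L g.2⟩ = 1 :=
  b.comp.cmap_eq_one_of_lmap_one b.simple hg

theorem mem_core_of_lmap (b : BadData T A M u R L q Z τ) {g : ↥(lift u L)}
    (hg : lmap u L g = 1) : (g : G) ∈ Cfsg.centralizerPPrimeCore 2 u :=
  cmap_eq_one.1 (b.cmap_eq_one_of_lmap hg)

/-- `F` maps bijectively onto `Z`. -/
theorem card_inf (b : BadData T A M u R L q Z τ) :
    Nat.card (A ⊓ Subgroup.centralizer ({u} : Set G) : Subgroup G) = q := by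
  rw [← b.comp.loc.card_Z]
  refine Nat.card_congr (Equiv.ofBijective
    (fun g => (⟨lmap u L ⟨g, b.le_lift g.2⟩, b.comp.lmap_mem_Z g.2⟩ : Z)) ⟨?_, ?_⟩)
  · intro g g' e
    have h1 := b.comp.lmap_injOn b.simple (g := ⟨g, b.le_lift g.2⟩) (g' := ⟨g', b.le_lift g'.2⟩)
      (b.comp.base.le g.2) (b.comp.base.le g'.2) (congrArg Subtype.val e)
    exact Subtype.ext (congrArg (fun v : ↥(lift u L) => (v : G)) h1)
  · rintro ⟨z, hz⟩
    obtain ⟨f, hf, e⟩ := b.comp.exists_F hz
    exact ⟨⟨f, hf⟩, Subtype.ext e⟩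

theorem mem_F_of_lmap (b : BadData T A M u R L q Z τ) {g : ↥(lift u L)} (hg : (g : G) ∈ R)
    (hz : lmap u L g ∈ Z) : (g : G) ∈ A ⊓ Subgroup.centralizer ({u} : Set G) := by
  obtain ⟨f, hf, e⟩ := b.comp.exists_F hz
  exact b.comp.lmap_injOn b.simple hg (b.comp.base.le hf) e.symm ▸ hf

/-- A torus element. -/
theorem exists_torus (b : BadData T A M u R L q Z τ) :
    ∃ t : ↥(lift u L), (t : G) ∈ Subgroup.normalizer
        ((A ⊓ Subgroup.centralizer ({u} : Set G) : Subgroup G) : Set G) ∧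
      (t : G) ∈ M ∧ lmap u L t = τ := by
  obtain ⟨t, htN, ht⟩ := b.comp.exists_torus
  exact ⟨t, htN, b.anchor.normalizer_inf_le b.invol b.mem htN, ht⟩

/-- The stabiliser in the component is the Borel subgroup. -/
theorem mem_M_iff (b : BadData T A M u R L q Z τ) (g : ↥(lift u L)) :
    (g : G) ∈ M ↔ lmap u L g ∈
      Subgroup.normalizer (pbar (qimg u R) L : Set (↥L ⧸ Subgroup.center ↥L)) := by
  set K := (M.subgroupOf (lift u L)).map (lmap u L) with hK
  have hiff : ∀ g : ↥(lift u L), (g : G) ∈ M ↔ lmap u L g ∈ K := by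
    refine fun g => ⟨fun hg => ⟨g, hg, rfl⟩, ?_⟩
    rintro ⟨k, hk, e⟩
    have h1 := b.core_le (b.mem_core_of_lmap (g := g * k⁻¹)
      (by rw [map_mul, map_inv, e, mul_inv_cancel]))
    have h2 := mul_mem h1 hk
    simpa using h2
  obtain ⟨t, -, htM, ht⟩ := b.exists_torus
  have hle : Subgroup.normalizer (pbar (qimg u R) L : Set (↥L ⧸ Subgroup.center ↥L)) ≤ K := by
    intro p hp
    obtain ⟨x, hx, n, rfl⟩ := (b.comp.loc.borel p).1 hp
    obtain ⟨r, hr, rfl⟩ := b.comp.exists_R hx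
    refine mul_mem ⟨r, b.R_le hr, rfl⟩ ⟨t ^ n, ?_, by rw [map_pow, ht]⟩
    show ((t ^ n : ↥(lift u L)) : G) ∈ M
    rw [Subgroup.coe_pow]
    exact pow_mem htM n
  rw [hiff]
  rcases b.comp.loc.borel_max K hle with e | e
  · rw [e]
  · exact absurd (fun g hg => (hiff ⟨g, hg⟩).2 (e ▸ Subgroup.mem_top _)) b.lift_not_le

theorem unique (b : BadData T A M u R L q Z τ) {L' : Subgroup (CQ u)} (hL' : Cfsg.IsComponent L')
    (hne : L' ≠ L) :
    qimg u (A ⊓ Subgroup.centralizer ({u} : Set G)) ≤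
      Subgroup.centralizer (L' : Set (CQ u)) := by
  rintro _ ⟨f, hf, rfl⟩
  exact Components.Component.le_centralizer_of_ne b.comp.comp hL' (Ne.symm hne)
    (mem_lift_coe.1 (b.le_lift hf))

theorem normalizes (b : BadData T A M u R L q Z τ) (x : CQ u) :
    x ∈ Subgroup.normalizer (L : Set (CQ u)) := by
  obtain ⟨Rb, hsc, -, -⟩ := b.comp.exists_sc
  obtain ⟨e, he, n, hn, rfl⟩ := b.comp.sec.exists_layer_mul hsc x
  refine mul_mem (Components.Layer.layer_le_normalizer b.comp.comp he) ?_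
  have hn' : cj n L = L := by
    by_contra hne
    apply b.comp.ne
    have h1 := b.unique (Components.Component.conj b.comp.comp n) hne
    intro f hf
    refine Subgroup.mem_centralizer_iff.2 fun l hl => ?_
    have h2 := Subgroup.mem_centralizer_iff.1 (h1 (normalizer_conj hn hf)) _ (conj_mem_cj hl)
    calc l * f = n⁻¹ * (n * l * n⁻¹ * (n * f * n⁻¹)) * n := by group
      _ = _ := by rw [h2]; group
  exact mem_normalizer_of_cj_le hn'.le

/-- `C(u)` is the product of the preimage of `L` and the stabiliser. -/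
theorem decomp (b : BadData T A M u R L q Z τ) {g : G}
    (hg : g ∈ Subgroup.centralizer ({u} : Set G)) :
    ∃ l ∈ lift u L, ∃ m ∈ Subgroup.centralizer ({u} : Set G), m ∈ M ∧ g = l * m := by
  set C := Subgroup.centralizer ({u} : Set G)
  have hLn : lift u L ≤ C := lift_le u L
  set K := (M.subgroupOf (Subgroup.centralizer ({u} : Set G))).map (cmap u) with hK
  obtain ⟨e, n, hee, hn, hgn⟩ := b.comp.base.decomp b.closed.hyp ⟨g, hg⟩
  have hlay : Cfsg.layer (CQ u) ≤ L ⊔ K := by
    refine sSup_le fun L' hL' => ?_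
    by_cases hne : L' = L
    · exact hne ▸ le_sup_left
    refine le_sup_of_le_right fun l hl => ?_
    obtain ⟨k, rfl⟩ := cmap_surjective u l
    obtain ⟨f, hf, hf1⟩ := (A ⊓ Subgroup.centralizer ({u} : Set G)).bot_or_exists_ne_one.resolve_left
      fun e0 => by
        have := b.closed.four_inf b.mul_self b.mem
        rw [e0, Subgroup.card_bot] at this
        omega
    obtain ⟨o, ho, hok⟩ := exists_fix (E := Subgroup.zpowers f)
      ((PGroups.elemAb_isPGroup b.comp.base.elem).to_le (Subgroup.zpowers_le.2 hf))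
      (Subgroup.zpowers_le.2 hf.2) (g := k) (fun e' he' => by
        refine Subgroup.mem_centralizer_iff.1 ?_ _ hl
        obtain ⟨i, rfl⟩ := Subgroup.mem_zpowers_iff.1 he'
        rw [show (⟨f ^ i, Subgroup.zpowers_le.2 hf.2 he'⟩ : ↥(Subgroup.centralizer ({u} : Set G))) =
          ⟨f, hf.2⟩ ^ i from Subtype.ext (by simp), map_zpow]
        exact Subgroup.zpow_mem _ (b.unique hL' hne ⟨⟨f, hf.2⟩, hf, rfl⟩) i)
    refine ⟨⟨o, Balance.centralizerPPrimeCore_le u ho⟩ * k, b.anchor.cent f hf.1 hf1 ?_, by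
      rw [map_mul, cmap_eq_one.2 ho, one_mul]⟩
    exact Subgroup.mem_centralizer_singleton_iff.2
      (Subgroup.mem_centralizer_iff.1 hok f (Subgroup.mem_zpowers f)).symm
  have hKn : K ≤ Subgroup.normalizer (L : Set (CQ u)) := fun x _ => b.normalizes x
  have h1 := hlay hee
  rw [← SetLike.mem_coe, Subgroup.coe_mul_of_right_le_normalizer_left _ _ hKn] at h1
  obtain ⟨l, hl, _, ⟨m, hm, rfl⟩, hlm⟩ := h1
  refine ⟨(e * m⁻¹ : ↥C), mem_lift_coe.2 ?_, (m * n : ↥C), (m * n).2,
    mul_mem hm (b.anchor.normalizer_inf_le b.invol b.mem hn), ?_⟩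
  · show cmap u (e * m⁻¹) ∈ L
    rw [map_mul, map_inv, ← hlm, mul_inv_cancel_right]
    exact hl
  · rw [show g = (e : G) * n from congrArg Subtype.val hgn]
    simp [mul_assoc]

/-- The fixed points of `u` form an orbit of `C(u)`. -/
theorem exists_cent_mul (b : BadData T A M u R L q Z τ) {g : G} (hg : g⁻¹ * u * g ∈ M) :
    ∃ c ∈ Subgroup.centralizer ({u} : Set G), c⁻¹ * g ∈ M := by
  have h := b.anchor
  obtain ⟨m, hm, hmT⟩ := h.exists_conj_mem hg (i := 1) (by
    rw [pow_one, pow_two, show g⁻¹ * u * g * (g⁻¹ * u * g) = g⁻¹ * (u * u) * g by group, b.mul_self,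
      mul_one, inv_mul_cancel])
  obtain ⟨n₁, hn₁, hn₁T⟩ := h.closed.exists_conj_mem b.mem (i := 1)
    (by rw [pow_one, pow_two, b.mul_self])
  obtain ⟨n₂, hn₂, he⟩ := h.closed.control_one hn₁T (g := m * g⁻¹ * n₁⁻¹)
    (by simpa [mul_assoc] using hmT)
  refine ⟨g * m⁻¹ * n₂ * n₁, Subgroup.mem_centralizer_singleton_iff.2 (commute_of_conj_eq ?_), ?_⟩
  · calc g * m⁻¹ * n₂ * n₁ * u * (g * m⁻¹ * n₂ * n₁)⁻¹
        = g * m⁻¹ * (n₂ * (n₁ * u * n₁⁻¹) * n₂⁻¹) * (g * m⁻¹)⁻¹ := by group
      _ = u := by rw [← he]; group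
  · have h1 := inv_mem (mul_mem (mul_mem (inv_mem hm) (h.norm hn₂)) (h.norm hn₁))
    simpa [mul_assoc] using h1

theorem borel_index (b : BadData T A M u R L q Z τ) :
    M.relIndex (Subgroup.centralizer ({u} : Set G)) = q ^ 2 + 1 := by
  have h1 : (M.subgroupOf (lift u L)).index = q ^ 2 + 1 := by
    have hK : M.subgroupOf (lift u L) =
        (Subgroup.normalizer (pbar (qimg u R) L : Set (↥L ⧸ Subgroup.center ↥L))).comap (lmap u L) := by
      ext g
      exact b.mem_M_iff g
    rw [hK, Subgroup.index_comap_of_surjective _ (lmap_surjective u L), b.comp.loc.borel_index]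
  rw [← h1, Subgroup.relIndex]
  refine (Nat.card_congr (Equiv.ofBijective
    (Quotient.map' (Subgroup.inclusion (lift_le u L)) fun a a' e => ?_) ⟨?_, ?_⟩)).symm
  · rw [QuotientGroup.leftRel_apply] at e ⊢
    exact e
  · intro x y
    induction x using QuotientGroup.induction_on with
    | H a =>
      induction y using QuotientGroup.induction_on with
      | H a' =>
        intro e
        rw [Quotient.map'_mk'', Quotient.map'_mk''] at e
        have h2 := Quotient.exact' e
        rw [QuotientGroup.leftRel_apply] at h2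
        exact QuotientGroup.eq.2 h2
  · intro y
    induction y using QuotientGroup.induction_on with
    | H c =>
      obtain ⟨l, hl, m, hmC, hm, e⟩ := b.decomp c.2
      refine ⟨((⟨l, hl⟩ : ↥(lift u L)) : ↥(lift u L) ⧸ M.subgroupOf (lift u L)), ?_⟩
      refine QuotientGroup.eq.2 ?_
      show (l : G)⁻¹ * (c : G) ∈ M
      rw [e, inv_mul_cancel_left]
      exact hm

/-- The torus is transitive on the non-trivial elements of `F`. -/
theorem exists_conj_F (b : BadData T A M u R L q Z τ) {f f' : G}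
    (hf : f ∈ A ⊓ Subgroup.centralizer ({u} : Set G)) (hf1 : f ≠ 1)
    (hf' : f' ∈ A ⊓ Subgroup.centralizer ({u} : Set G)) (hf'1 : f' ≠ 1) :
    ∃ t ∈ Subgroup.centralizer ({u} : Set G), t ∈ M ∧
      t ∈ Subgroup.normalizer ((A ⊓ Subgroup.centralizer ({u} : Set G) : Subgroup G) : Set G) ∧
      t * f * t⁻¹ = f' := by
  obtain ⟨t, htN, htM, ht⟩ := b.exists_torus
  have hne : ∀ (a : G) (ha : a ∈ A ⊓ Subgroup.centralizer ({u} : Set G)), a ≠ 1 →
      lmap u L ⟨a, b.le_lift ha⟩ ≠ 1 := fun a ha ha1 e => ha1 (congrArg Subtype.val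
        (b.comp.lmap_injOn b.simple (g := ⟨a, b.le_lift ha⟩) (g' := 1) (b.comp.base.le ha)
          R.one_mem (e.trans (map_one _).symm)))
  obtain ⟨n, hn⟩ := b.comp.loc.τ_trans _ (b.comp.lmap_mem_Z (g := ⟨f, b.le_lift hf⟩) hf) _
    (b.comp.lmap_mem_Z (g := ⟨f', b.le_lift hf'⟩) hf') (hne f hf hf1) (hne f' hf' hf'1)
  refine ⟨(t : G) ^ n, pow_mem (lift_le u L t.2) n, pow_mem htM n, pow_mem htN n, ?_⟩
  have h1 := b.comp.lmap_injOn b.simple (g := t ^ n * ⟨f, b.le_lift hf⟩ * (t ^ n)⁻¹)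
    (g' := ⟨f', b.le_lift hf'⟩) (b.comp.base.le (normalizer_conj (pow_mem htN n) hf))
    (b.comp.base.le hf') (by rw [map_mul, map_mul, map_inv, map_pow, ht]; exact hn)
  exact congrArg (fun v : ↥(lift u L) => (v : G)) h1

end BadData

end Cfsg.Agent.Lib.Thompson3Prime33
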