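import Cfsg.Agent.Lib.Thompson3Prime33.MonoAnchor
import Cfsg.Agent.Lib.Thompson3Prime33.BadBasic

/-!
# An effective component forces a Suzuki group

The subgroups `Z` of effective components decompose `A` monomially, so the non-trivial elements of
`C_A(u)` for a bad involution `u` cannot all be conjugate.

Owner: helper73 (piece P1 of the plan of helper33).
-/

set_option autoImplicit false
set_option linter.style.haveILetI false
set_option linter.unusedSectionVars false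
set_option linter.unusedVariables false

namespace Cfsg.Agent.Lib.Thompson3Prime33

universe u

variable {G : Type u} [Group G] [Finite G] {T : Sylow 2 G} {A : Subgroup G}

/-- The subgroups `Z` in which `a` has a non-trivial component. -/
def monSupp (T : Sylow 2 G) (A : Subgroup G) (a : G) : Set (Subgroup G) :=
  {Z | ∃ Q, Mon A (Closed.ra T A) Z Q ∧ a ∉ Q}

theorem monSupp_one : monSupp T A (1 : G) = ∅ :=
  Set.eq_empty_iff_forall_notMem.2 fun _ ⟨Q, _, h⟩ => h (one_mem Q)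

/-- Multiplying by a non-trivial element of a new `Z` adds `Z` to the support. -/
theorem monSupp_mul (h : Closed G T A) {Z Q : Subgroup G} (m : Mon A (Closed.ra T A) Z Q) {a z : G}
    (hz : z ∈ Z) (hz1 : z ≠ 1) (hZ : Z ∉ monSupp T A a) :
    monSupp T A (a * z) = insert Z (monSupp T A a) := by
  ext Y
  constructor
  · rintro ⟨R, mY, hn⟩
    rcases eq_or_ne Y Z with rfl | hne
    · exact Set.mem_insert _ _
    · exact Set.mem_insert_of_mem _ ⟨R, mY, fun ha => hn (mul_mem ha (m.le_of_ne mY h hne.symm hz))⟩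
  · rintro (rfl | hY)
    · refine ⟨Q, m, fun hn => hz1 ?_⟩
      have haQ : a ∈ Q := by
        by_contra ha
        exact hZ ⟨Q, m, ha⟩
      have hzQ : z ∈ Q := by
        have := mul_mem (inv_mem haQ) hn
        rwa [inv_mul_cancel_left] at this
      exact Subgroup.mem_bot.1 (m.inf_bot ▸ ⟨hz, hzQ⟩)
    · obtain ⟨R, mY, ha⟩ := hY
      have hne : Y ≠ Z := fun e => hZ (e ▸ ⟨R, mY, ha⟩)
      refine ⟨R, mY, fun hn => ha ?_⟩
      have := mul_mem hn (inv_mem (m.le_of_ne mY h hne.symm hz))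
      rwa [mul_inv_cancel_right] at this

theorem monSupp_conj (h : Closed G T A) {a n : G} (hn : n ∈ Subgroup.normalizer (A : Set G)) :
    monSupp T A (n * a * n⁻¹) = cj n '' monSupp T A a := by
  ext Y
  constructor
  · rintro ⟨Q, m, hnm⟩
    refine ⟨cj n⁻¹ Y, ⟨cj n⁻¹ Q, m.conj h (inv_mem hn), fun ha => hnm ?_⟩, ?_⟩
    · have := mem_cj.1 ha
      rwa [inv_inv] at this
    · rw [cj_cj, mul_inv_cancel, cj, map_one]
      exact Subgroup.map_id Y
  · rintro ⟨Y', ⟨Q, m, hnm⟩, rfl⟩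
    refine ⟨cj n Q, m.conj h hn, fun ha => hnm ?_⟩
    have h1 := mem_cj.1 ha
    simpa [mul_assoc] using h1

/-- An effective component leaves no bad involution. -/
theorem Effective.not_bad (he : Effective T A) {M : Subgroup G} (hM : Anchor T A M) (v : G) :
    ¬ Bad M v := by
  intro hv
  haveI : Fact (Nat.Prime 2) := ⟨Nat.prime_two⟩
  have h := hM.closed
  obtain ⟨u, huT, hb⟩ : ∃ u, u ∈ (T : Subgroup G) ∧ Bad M u := by
    obtain ⟨S, hS⟩ := (IsPGroup.of_card (p := 2) (n := 1) (G := Subgroup.zpowers v)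
      (by rw [Nat.card_zpowers, hv.invol, pow_one])).exists_le_sylow
    obtain ⟨g, hg⟩ := MulAction.exists_smul_eq G S T
    exact ⟨g * v * g⁻¹, hg ▸ ⟨v, hS (Subgroup.mem_zpowers v), rfl⟩, hv.conj g⟩
  have huA := h.sylow_le huT
  obtain ⟨R, L, q, Zb, τ, b⟩ := hM.exists_badData hb huA
  have huu : u * u = 1 := by rw [← pow_two, ← hb.invol, pow_orderOf_eq_one]
  have hui : u⁻¹ = u := inv_eq_of_mul_eq_one_right huu
  set F := A ⊓ Subgroup.centralizer ({u} : Set G) with hF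
  -- conjugate elements have supports of the same size
  have hcard : ∀ f ∈ F, f ≠ 1 → ∀ f' ∈ F, f' ≠ 1 →
      (monSupp T A f).ncard = (monSupp T A f').ncard := by
    intro f hf hf1 f' hf' hf'1
    obtain ⟨t, -, -, -, ht⟩ := b.exists_conj_F hf hf1 hf' hf'1
    obtain ⟨n, hn, hne⟩ := h.control_one (h.le hf.1) (g := t) (ht ▸ h.le hf'.1)
    rw [← ht, hne, monSupp_conj h hn,
      Set.ncard_image_of_injective _ (Subgroup.map_injective (MulAut.conj n).injective)]
  have hne1 : ∀ {a : G}, monSupp T A a ≠ ∅ → a ≠ 1 := fun hs e => hs (e ▸ monSupp_one)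
  -- the action of `u` on the subgroups `Z`
  have hfix : ∀ {Z Q : Subgroup G}, Mon A (Closed.ra T A) Z Q → cj u Z = Z → ∀ z ∈ Z, z ∈ F :=
    fun {Z Q} m e z hz => ⟨m.Z_le hz, Subgroup.mem_centralizer_singleton_iff.2
      (commute_of_conj_eq (he.fix_mon h m huA (i := 1) (by rw [pow_one, pow_two, huu]) e hz)).symm⟩
  have hcuu : ∀ Z : Subgroup G, cj u (cj u Z) = Z := fun Z => by
    rw [cj_cj, huu, cj, map_one]
    exact Subgroup.map_id Z
  have hpair : ∀ {Z Q : Subgroup G}, Mon A (Closed.ra T A) Z Q → ∀ z ∈ Z, z * (u * z * u⁻¹) ∈ F := by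
    intro Z Q m z hz
    have hzA := m.Z_le hz
    have hwA := normalizer_conj huA hzA
    refine ⟨mul_mem hzA hwA, Subgroup.mem_centralizer_singleton_iff.2 (commute_of_conj_eq ?_).symm⟩
    calc u * (z * (u * z * u⁻¹)) * u⁻¹ = u * z * u⁻¹ * ((u * u) * z * (u * u)⁻¹) := by group
      _ = u * z * u⁻¹ * z := by rw [huu]; group
      _ = z * (u * z * u⁻¹) := h.comm hwA hzA
  have hone : ∀ {Z Q : Subgroup G}, Mon A (Closed.ra T A) Z Q → ∀ z ∈ Z, z ≠ 1 →
      monSupp T A z = {Z} := fun {Z Q} m z hz hz1 => by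
    have h1 := monSupp_mul h m hz hz1 (a := 1) (by rw [monSupp_one]; exact Set.notMem_empty Z)
    rwa [one_mul, monSupp_one, insert_empty_eq] at h1
  have htwo : ∀ {Z Q Z' Q' : Subgroup G}, Mon A (Closed.ra T A) Z Q → Mon A (Closed.ra T A) Z' Q' →
      Z' ≠ Z → ∀ z ∈ Z, z ≠ 1 → ∀ z' ∈ Z', z' ≠ 1 → monSupp T A (z * z') = insert Z' {Z} :=
    fun {Z Q Z' Q'} m m' hne z hz hz1 z' hz' hz'1 => by
      rw [monSupp_mul h m' hz' hz'1 (by rw [hone m z hz hz1]; exact hne), hone m z hz hz1]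
  obtain ⟨a, ha, ha1, R', hTR, L', q', Zb', τ', d⟩ := id he
  set Z₀ := A ⊓ lift a L' with hZ₀
  have m₀ : Mon A (Closed.ra T A) Z₀ (A ⊓ lift a (Subgroup.centralizer (L' : Set (CQ a)))) :=
    d.mon h ha ha1 hTR
  by_cases hex : ∃ Z Q, Mon A (Closed.ra T A) Z Q ∧ cj u Z = Z
  · obtain ⟨Z, Q, m, e⟩ := hex
    obtain ⟨Z', Q', m', hne⟩ := m.exists_ne h
    obtain ⟨z, hz, hz1⟩ := Z.bot_or_exists_ne_one.resolve_left m.Z_ne_bot
    obtain ⟨z', hz', hz'1⟩ := Z'.bot_or_exists_ne_one.resolve_left m'.Z_ne_bot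
    have hzF := hfix m e z hz
    have key : ∀ f ∈ F, ∀ Y Y' : Subgroup G, Y' ≠ Y → monSupp T A f = insert Y' {Y} → False := by
      intro f hf Y Y' hY hs
      have := hcard z hzF hz1 f hf (hne1 (by rw [hs]; exact (Set.insert_nonempty _ _).ne_empty))
      rw [hone m z hz hz1, hs, Set.ncard_singleton, Set.ncard_pair hY] at this
      omega
    by_cases e' : cj u Z' = Z'
    · exact key _ (mul_mem hzF (hfix m' e' z' hz')) Z Z' hne (htwo m m' hne z hz hz1 z' hz' hz'1)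
    · exact key _ (hpair m' z' hz') Z' (cj u Z') e' (htwo m' (m'.conj h huA) e' z' hz' hz'1 _
        (conj_mem_cj hz') fun e1 => hz'1 (conj_eq_one_iff.1 e1))
  push Not at hex
  have hmove : cj u Z₀ ≠ Z₀ := hex _ _ m₀
  have m₁ := m₀.conj h huA
  obtain ⟨Z₂, Q₂, m₂, h20, h21⟩ := m₀.exists_third m₁ h
  have hmove₂ : cj u Z₂ ≠ Z₂ := hex _ _ m₂
  have m₃ := m₂.conj h huA
  have h30 : cj u Z₂ ≠ Z₀ := fun e => h21 (by rw [← e, hcuu])
  have h31 : cj u Z₂ ≠ cj u Z₀ := fun e => h20 (Subgroup.map_injective (MulAut.conj u).injective e)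
  obtain ⟨z, hz, hz1⟩ := Z₀.bot_or_exists_ne_one.resolve_left m₀.Z_ne_bot
  obtain ⟨z₂, hz₂, hz₂1⟩ := Z₂.bot_or_exists_ne_one.resolve_left m₂.Z_ne_bot
  have hs1 : monSupp T A (z * (u * z * u⁻¹)) = insert (cj u Z₀) {Z₀} :=
    htwo m₀ m₁ hmove z hz hz1 _ (conj_mem_cj hz) fun e1 => hz1 (conj_eq_one_iff.1 e1)
  have hn2 : Z₂ ∉ monSupp T A (z * (u * z * u⁻¹)) := by
    rw [hs1]
    rintro (e | e)
    exacts [h21 e, h20 e]
  have hs2 : monSupp T A (z * (u * z * u⁻¹) * z₂) = insert Z₂ (insert (cj u Z₀) {Z₀}) := by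
    rw [monSupp_mul h m₂ hz₂ hz₂1 hn2, hs1]
  have hn3 : cj u Z₂ ∉ monSupp T A (z * (u * z * u⁻¹) * z₂) := by
    rw [hs2]
    rintro (e | e | e)
    exacts [hmove₂ e, h31 e, h30 e]
  have hs3 : monSupp T A (z * (u * z * u⁻¹) * z₂ * (u * z₂ * u⁻¹)) =
      insert (cj u Z₂) (insert Z₂ (insert (cj u Z₀) {Z₀})) := by
    rw [monSupp_mul h m₃ (conj_mem_cj hz₂) (fun e1 => hz₂1 (conj_eq_one_iff.1 e1)) hn3, hs2]
  have hmem : z * (u * z * u⁻¹) * z₂ * (u * z₂ * u⁻¹) ∈ F := by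
    rw [mul_assoc (z * (u * z * u⁻¹))]
    exact mul_mem (hpair m₀ z hz) (hpair m₂ z₂ hz₂)
  have h4 := hcard _ (hpair m₀ z hz) (hne1 (by rw [hs1]; exact (Set.insert_nonempty _ _).ne_empty)) _ hmem
    (hne1 (by rw [hs3]; exact (Set.insert_nonempty _ _).ne_empty))
  rw [hs1, hs3, Set.ncard_pair hmove, Set.ncard_insert_of_notMem (hs2 ▸ hn3) (Set.toFinite _),
    Set.ncard_insert_of_notMem (hs1 ▸ hn2) (Set.toFinite _), Set.ncard_pair hmove] at h4
  omega

/-- An effective component forces a Suzuki group. -/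
theorem Closed.suzuki_of_effective (h : Closed G T A) (he : Effective T A) :
    Cfsg.Lie.IsoSuzuki G := by
  by_cases hW : wcl A = ⊥
  · obtain ⟨M, hM⟩ := he.anchor h hW
    exact hM.suzuki_of_no_bad (he.not_bad hM)
  · exact (h.anchor_wcl hW).suzuki_of_no_bad (he.not_bad (h.anchor_wcl hW))

end Cfsg.Agent.Lib.Thompson3Prime33
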