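import Cfsg.Agent.Lib.Thompson3Prime33.Interface

/-!
# The case without effective components

Without effective components `G` is a Suzuki group or `M = W N(A)` for the completion `W`.

Owner: helper61.
-/

set_option autoImplicit false
set_option linter.style.haveILetI false
set_option linter.unusedSectionVars false

namespace Cfsg.Agent.Lib.Thompson3Prime33

universe u

variable {G : Type u} [Group G] [Finite G] {T : Sylow 2 G} {A : Subgroup G}

namespace Closed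

/-- The quotient of the normaliser of the completion by the completion. -/
abbrev MQ (A : Subgroup G) : Type u :=
  ↥(Subgroup.normalizer (wcl A : Set G)) ⧸ Cfsg.pPrimeCore 2 ↥(Subgroup.normalizer (wcl A : Set G))

/-- The map onto the quotient. -/
abbrev mq (A : Subgroup G) : ↥(Subgroup.normalizer (wcl A : Set G)) →* MQ A :=
  QuotientGroup.mk' _

theorem mq_eq_one (h : Closed G T A) {g : ↥(Subgroup.normalizer (wcl A : Set G))} :
    mq A g = 1 ↔ (g : G) ∈ wcl A := by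
  haveI : Fact (Nat.Prime 2) := ⟨Nat.prime_two⟩
  let M := Subgroup.normalizer (wcl A : Set G)
  have hA : A ≤ M := (Subgroup.le_normalizer).trans h.normalizer_le_wcl
  rw [QuotientGroup.mk'_apply, QuotientGroup.eq_one_iff]
  set N := (Cfsg.pPrimeCore 2 ↥M).map M.subtype
  have hle : N ≤ wcl A := by
    have hcop := Cores.pPrimeCore_coprime (G := ↥M) 2
    have hodd : Odd (Nat.card N) := by
      rw [Subgroup.card_map_of_injective M.subtype_injective]
      exact Nat.coprime_two_right.1 hcop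
    have hnorm : ∀ x ∈ M, ∀ n ∈ N, x * n * x⁻¹ ∈ N := by
      rintro x hx _ ⟨n, hn, rfl⟩
      exact ⟨_, (inferInstance : (Cfsg.pPrimeCore 2 ↥M).Normal).conj_mem n hn ⟨x, hx⟩, rfl⟩
    refine h.le_iSup_fixed le_rfl (le_trans (by norm_num) h.eight) hodd
      (fun a ha => mem_normalizer_of_conj_mem fun n hn => hnorm a (hA ha) n hn) fun a ha ha1 => ?_
    refine le_trans ?_ (h.core_le_wcl ha ha1)
    set C := Subgroup.centralizer ({a} : Set G)
    have hCM : C ≤ M := h.centralizer_le_wcl ha ha1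
    haveI : ((N ⊓ C).subgroupOf C).Normal := Subgroup.normal_subgroupOf_of_le_normalizer fun x hx =>
      mem_normalizer_of_conj_mem fun n hn =>
        ⟨hnorm x (hCM hx) n hn.1, C.mul_mem (C.mul_mem hx hn.2) (C.inv_mem hx)⟩
    intro n hn
    refine ⟨⟨n, hn.2⟩, Cores.le_pPrimeCore (N := (N ⊓ C).subgroupOf C) ?_ hn, rfl⟩
    rw [Nat.card_congr (Subgroup.subgroupOfEquivOfLe (inf_le_right : N ⊓ C ≤ C)).toEquiv]
    exact (Nat.coprime_two_right.2 hodd).coprime_dvd_left (Subgroup.card_dvd_of_le inf_le_left)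
  refine ⟨fun hg => hle ⟨g, hg, rfl⟩, fun hg => ?_⟩
  haveI : ((wcl A).subgroupOf M).Normal := Subgroup.normal_in_normalizer
  refine Cores.le_pPrimeCore (N := (wcl A).subgroupOf M) ?_ hg
  rw [Nat.card_congr (Subgroup.subgroupOfEquivOfLe Subgroup.le_normalizer).toEquiv]
  exact Nat.coprime_two_right.2 h.odd_wcl

/-- An element normalising the image of `A` is in `W N(A)`. -/
theorem exists_mul_of_normalizes (h : Closed G T A) {g : ↥(Subgroup.normalizer (wcl A : Set G))}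
    (hg : mq A g ∈ Subgroup.normalizer
      ((A.subgroupOf (Subgroup.normalizer (wcl A : Set G))).map (mq A) : Set (MQ A))) :
    ∃ w ∈ wcl A, ∃ n ∈ Subgroup.normalizer (A : Set G), (g : G) = w * n := by
  haveI : Fact (Nat.Prime 2) := ⟨Nat.prime_two⟩
  have hAW := h.le_normalizer_wcl
  have hB : cj (g : G) A ≤ A ⊔ wcl A := by
    rintro _ ⟨a, ha, rfl⟩
    obtain ⟨b, hb, hbe⟩ := normalizer_conj hg
      (Subgroup.mem_map_of_mem (mq A) (show (⟨a, hAW ha⟩ : ↥(Subgroup.normalizer (wcl A : Set G))) ∈ A.subgroupOf _ from ha))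
    have h1 : (((g * ⟨a, hAW ha⟩ * g⁻¹) * b⁻¹ : ↥(Subgroup.normalizer (wcl A : Set G))) : G) ∈ wcl A :=
      h.mq_eq_one.1 (by rw [map_mul, map_mul, map_mul, map_inv, map_inv, hbe, mul_inv_cancel])
    have h2 := mul_mem (Subgroup.mem_sup_right (S := A) h1) (Subgroup.mem_sup_left (show (b : G) ∈ A from hb))
    simpa [mul_assoc] using h2
  obtain ⟨k, hk⟩ := IsPGroup.iff_card.1 h.isPGroup
  obtain ⟨w, hw, he⟩ := Coprime.exists_conj_eq_of_coprime hAW
    (by rw [hk]; exact (Nat.coprime_two_left.2 h.odd_wcl).pow_left k)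
    (Or.inl (Coprime.isSolvable_of_isPGroup h.isPGroup)) hB (card_cj _ _)
  refine ⟨w, hw, w⁻¹ * g, mem_normalizer_of_cj_le ?_, by group⟩
  rw [Coprime.conj_smul_eq_map] at he
  rw [← cj_cj, ← he]
  show cj w⁻¹ (cj w A) ≤ A
  rw [cj_cj, inv_mul_cancel, cj, map_one]
  exact (Subgroup.map_id A).le

/-- With a bad involution every element of the normaliser of the completion is in `W N(A)`. -/
theorem exists_split (h : Closed G T A) (he : ¬ Effective T A) (hW : wcl A ≠ ⊥)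
    (hswap : ∀ M, Anchor T A M → (∃ u, Bad M u) → SwapFacts T A M)
    (hb : ∃ u, Bad (Subgroup.normalizer (wcl A : Set G)) u)
    {g : G} (hg : g ∈ Subgroup.normalizer (wcl A : Set G)) :
    ∃ w ∈ wcl A, ∃ n ∈ Subgroup.normalizer (A : Set G), g = w * n := by
  haveI : Fact (Nat.Prime 2) := ⟨Nat.prime_two⟩
  set M := Subgroup.normalizer (wcl A : Set G) with hM
  have hanc := h.anchor_wcl hW
  have hAM : A ≤ M := h.le_normalizer_wcl
  have hTM : (T : Subgroup G) ≤ M := hanc.sylow_le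
  set π := mq A with hπ
  have hsec : Sec G (MQ A) := ⟨h.hyp,
    (small_subgroup hanc.ne_top).surj π (QuotientGroup.mk'_surjective _),
    Cores.pPrimeCore_quotient_pPrimeCore 2⟩
  have hSC : SC (T.subtype hTM) (A.subgroupOf M) := by
    refine ⟨PGroups.elemAb_mk (fun a ha b hb => Subtype.ext (h.comm ha hb))
      fun a ha => Subtype.ext (h.elem.2 (a : G) ha), ?_, ?_⟩
    · rw [Sylow.coe_subtype]; exact fun a ha => h.le ha
    · intro a ha x hx
      rw [Sylow.coe_subtype] at hx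
      exact h.mem_of_two T.2 h.le ha hx
  have hsc := hSC.map π (QuotientGroup.mk'_surjective _)
  set R := (T.subtype hTM).mapSurjective (QuotientGroup.mk'_surjective (Cfsg.pPrimeCore 2 ↥M)) with hR
  set F := (A.subgroupOf M).map π with hF
  have hAF : ∀ a (ha : a ∈ A), π ⟨a, hAM ha⟩ ∈ F := fun a ha => ⟨⟨a, hAM ha⟩, ha, rfl⟩
  have hinj : ∀ a (ha : a ∈ A), π ⟨a, hAM ha⟩ = 1 → a = 1 := fun a ha e =>
    eq_one_of_two_of_odd h.isPGroup ha h.odd_wcl (h.mq_eq_one.1 e)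
  -- no element of `A` centralises a component not centralised by `F`
  have hsplitC : ∀ a ∈ A, a ≠ 1 → ∀ x ∈ Subgroup.centralizer ({a} : Set G),
      ∃ w ∈ wcl A, ∃ n ∈ Subgroup.normalizer (A : Set G), x = w * n := by
    intro a ha ha1 x hx
    obtain ⟨w, hw, n, -, hn, e⟩ := h.plainCent he a ha ha1 x hx
    exact ⟨w, h.core_le_wcl ha ha1 hw, n, hn, e⟩
  have hnorm : ∀ {x : ↥M}, (∃ w ∈ wcl A, ∃ n ∈ Subgroup.normalizer (A : Set G), (x : G) = w * n) →
      π x ∈ Subgroup.normalizer (F : Set (MQ A)) := by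
    rintro ⟨x, hx⟩ ⟨w, hw, n, hn, rfl⟩
    have hwM : w ∈ M := Subgroup.le_normalizer hw
    have hnM : n ∈ M := h.normalizer_le_wcl hn
    have e : (⟨w * n, hx⟩ : ↥M) = ⟨w, hwM⟩ * ⟨n, hnM⟩ := rfl
    rw [e, map_mul, h.mq_eq_one.2 (show ((⟨w, hwM⟩ : ↥M) : G) ∈ wcl A from hw), one_mul]
    refine Subgroup.le_normalizer_map π ⟨⟨n, hnM⟩, ?_, rfl⟩
    exact mem_normalizer_of_conj_mem fun y hy => normalizer_conj hn (show (y : G) ∈ A from hy)
  have hlift : ∀ (a : G) (ha : a ∈ M), IsPGroup 2 (Subgroup.zpowers a) → ∀ {x : ↥M},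
      π x * π ⟨a, ha⟩ = π ⟨a, ha⟩ * π x →
      ∃ w ∈ wcl A, w * (x : G) ∈ Subgroup.centralizer ({a} : Set G) := by
    intro a ha h2 x hx
    obtain ⟨k, hk⟩ := IsPGroup.iff_card.1 h2
    obtain ⟨w, hw, hwc⟩ := Coprime.exists_fixed_mul (A := Subgroup.zpowers a) (N := wcl A)
      (Subgroup.zpowers_le.2 ha) (by rw [hk]; exact (Nat.coprime_two_left.2 h.odd_wcl).pow_left k)
      (Or.inl (Coprime.isSolvable_of_isPGroup h2)) (k := (x : G)) (fun b hb => by
        obtain ⟨i, rfl⟩ := Subgroup.mem_zpowers_iff.1 hb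
        have h3 : π ((⟨a, ha⟩ : ↥M) ^ i * x * ((⟨a, ha⟩ : ↥M) ^ i)⁻¹ * x⁻¹) = 1 := by
          rw [map_mul, map_mul, map_mul, map_inv, map_inv, map_zpow,
            ((show Commute (π x) (π ⟨a, ha⟩) from hx).zpow_right i).eq.symm]
          group
        have := h.mq_eq_one.1 h3
        simpa using this)
    exact ⟨w, hw, Subgroup.mem_centralizer_singleton_iff.2
      (Subgroup.mem_centralizer_iff.1 hwc a (Subgroup.mem_zpowers a)).symm⟩
  obtain ⟨e, hee, n, hn, hen⟩ := hsec.exists_layer_mul hsc (π ⟨g, hg⟩)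
  by_cases hcen : ∀ L : Subgroup (MQ A), Cfsg.IsComponent L →
      F ≤ Subgroup.centralizer (L : Set (MQ A))
  · refine h.exists_mul_of_normalizes (g := ⟨g, hg⟩) ?_
    rw [← hπ, hen]
    refine mul_mem ?_ hn
    have hlay : Cfsg.layer (MQ A) ≤ Subgroup.centralizer (F : Set (MQ A)) :=
      sSup_le fun L hL => Subgroup.le_centralizer_iff.1 (hcen L hL)
    exact Subgroup.centralizer_le_normalizer _ (hlay hee)
  exfalso
  push Not at hcen
  obtain ⟨L, hL, hne⟩ := hcen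
  obtain ⟨q, Z, τ, hloc⟩ := hsec.exists_local hL R
  obtain ⟨hsurj, hdec⟩ := hsec.dichotomy hsc hL hloc hne
  have hnotnorm : ¬ L ≤ Subgroup.normalizer (F : Set (MQ A)) := by
    intro hle
    obtain ⟨z, hz, hz1⟩ : ∃ z ∈ Z, z ≠ 1 := by
      refine Z.nontrivial_iff_exists_ne_one.1 (Finite.one_lt_card_iff_nontrivial.1 ?_)
      rw [hloc.card_Z]
      have := hloc.eight_le
      omega
    obtain ⟨l, hl, rfl⟩ := hsurj z hz
    have htop : Subgroup.normalizer (pbar (R : Subgroup (MQ A)) L : Set (↥L ⧸ Subgroup.center ↥L)) = ⊤ := by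
      rw [eq_top_iff]
      intro x _
      obtain ⟨k, rfl⟩ := sig_surjective L x
      refine hloc.borel_of_fuse _ _ hz hz1 ?_
      rw [← map_inv, ← map_mul, ← map_mul]
      exact hsec.sig_mem_Z hsc hL hloc (normalizer_conj (hle k.2) hl)
    have h1 := hloc.borel_index
    rw [htop, Subgroup.index_top] at h1
    have := Nat.one_le_pow 2 q (by have := hloc.eight_le; omega)
    omega
  have hfree : ∀ f ∈ F, f ∈ Subgroup.centralizer (L : Set (MQ A)) → f = 1 := by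
    rintro _ ⟨⟨a, haM⟩, ha, rfl⟩ hc
    by_contra hne1
    have ha1 : a ≠ 1 := fun e0 => hne1 (by
      rw [show (⟨a, haM⟩ : ↥M) = 1 from Subtype.ext e0, map_one])
    refine hnotnorm fun l hl => ?_
    obtain ⟨k, rfl⟩ := QuotientGroup.mk'_surjective (Cfsg.pPrimeCore 2 ↥M) l
    obtain ⟨w, hw, hwk⟩ := hlift a haM (h.isPGroup.to_le (Subgroup.zpowers_le.2 ha)) (x := k)
      (Subgroup.mem_centralizer_iff.1 hc _ hl)
    obtain ⟨w', hw', n', hn', e'⟩ := hsplitC a ha ha1 _ hwk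
    refine hnorm ⟨w⁻¹ * w', mul_mem (inv_mem hw) hw', n', hn', ?_⟩
    rw [mul_assoc, ← e', inv_mul_cancel_left]
  have hFL : F ≤ L := fun f hf => by
    obtain ⟨l, hl, hc⟩ := hdec f hf
    have := hfree _ (mul_mem (inv_mem hl) hf) hc
    rw [inv_mul_eq_one] at this
    exact this ▸ l.2
  have hconjL : ∀ x : MQ A, x ∈ Subgroup.normalizer (L : Set (MQ A)) := by
    intro x
    obtain ⟨e1, he1, n1, hn1, rfl⟩ := hsec.exists_layer_mul hsc x
    refine mul_mem (Components.Layer.layer_le_normalizer hL he1) ?_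
    by_contra hn1L
    have hne2 : cj n1 L ≠ L := fun e0 => hn1L (mem_normalizer_of_cj_le e0.le)
    refine hne fun f hf => ?_
    have hf' : f ∈ cj n1 L := mem_cj.2 (hFL (by
      have := normalizer_conj (inv_mem hn1) hf
      rwa [inv_inv] at this))
    exact Components.Component.le_centralizer_of_ne (Components.Component.conj hL n1) hL hne2 hf'
  -- a bad involution centralising `A` and `L`
  obtain ⟨v, hvT, hvbad, hvA, hvL⟩ : ∃ v, ∃ hvT : v ∈ (T : Subgroup G), Bad M v ∧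
      (∀ a ∈ A, v * a = a * v) ∧
      π ⟨v, hTM hvT⟩ ∈ Subgroup.centralizer (L : Set (MQ A)) := by
    obtain ⟨u₀, hu₀⟩ := hb
    obtain ⟨g₁, g₂, -, hg₁, -⟩ := hu₀.2
    obtain ⟨m, hm, hmT⟩ := hanc.exists_conj_mem hg₁ (i := 1) (by
      have h2 : u₀ ^ 2 = 1 := hu₀.invol ▸ pow_orderOf_eq_one u₀
      rw [pow_one, show g₁⁻¹ * u₀ * g₁ = g₁⁻¹ * u₀ * g₁⁻¹⁻¹ by rw [inv_inv], conj_pow, h2]
      group)
    set u := m * (g₁⁻¹ * u₀ * g₁) * m⁻¹ with hu
    have hub : Bad M u := by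
      have := (hu₀.conj g₁⁻¹).conj m
      rwa [inv_inv] at this
    have huu : u * u = 1 := by rw [← pow_two, ← hub.invol, pow_orderOf_eq_one]
    set u' : ↥(Subgroup.normalizer (L : Set (MQ A))) := ⟨π ⟨u, hTM hmT⟩, hconjL _⟩ with hu'
    have hu2 : u' * u' = 1 := Subtype.ext (by
      show π ⟨u, hTM hmT⟩ * π ⟨u, hTM hmT⟩ = 1
      rw [← map_mul, show (⟨u, hTM hmT⟩ : ↥M) * ⟨u, hTM hmT⟩ = 1 from Subtype.ext huu, map_one])
    obtain ⟨x, hx⟩ := hloc.aut_two (autOn L u') ⟨1, by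
      rw [pow_one, pow_two, ← map_mul, hu2, map_one]⟩
    have huR : π ⟨u, hTM hmT⟩ ∈ (R : Subgroup (MQ A)) := by
      rw [hR, Sylow.coe_mapSurjective]
      exact ⟨⟨u, hTM hmT⟩, by rw [Sylow.coe_subtype]; exact hmT, rfl⟩
    have hxZ : x ∈ Z := by
      refine hloc.invol_mem_Z ?_ (hloc.conj_injective ?_)
      · refine mem_normalizer_of_conj_mem ?_
        rintro _ ⟨s, hs, rfl⟩
        have h1 : (autOn L u') (sig L s) =
            sig L ⟨π ⟨u, hTM hmT⟩ * (s : MQ A) * (π ⟨u, hTM hmT⟩)⁻¹, normalizer_conj (hconjL _) s.2⟩ :=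
          autOn_apply (hconjL _) s
        rw [hx, MulAut.conj_apply] at h1
        rw [h1]
        exact ⟨⟨_, normalizer_conj (hconjL _) s.2⟩,
          (R : Subgroup (MQ A)).mul_mem ((R : Subgroup (MQ A)).mul_mem huR hs) ((R : Subgroup (MQ A)).inv_mem huR), rfl⟩
      · rw [map_mul, map_one, ← hx, ← map_mul, hu2, map_one]
    obtain ⟨l, hlF, hlx⟩ := hsurj x hxZ
    obtain ⟨⟨a, haM⟩, ha, hae⟩ := hlF
    replace ha : a ∈ A := ha
    have huA : ∀ b ∈ A, u * b = b * u := by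
      intro b hb
      have hub' : u * b * u⁻¹ ∈ A := normalizer_conj (h.sylow_le hmT) hb
      set lb : L := ⟨π ⟨b, hAM hb⟩, hFL (hAF b hb)⟩ with hlb
      have hbZ : sig L lb ∈ Z := hsec.sig_mem_Z hsc hL hloc (hAF b hb)
      set lu : L := ⟨π ⟨u, hTM hmT⟩ * π ⟨b, hAM hb⟩ * (π ⟨u, hTM hmT⟩)⁻¹,
        normalizer_conj (hconjL _) lb.2⟩ with hlu
      have h1 : sig L lu = sig L lb := by
        rw [← show autOn L u' (sig L lb) = sig L lu from autOn_apply (hconjL _) lb, hx,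
          MulAut.conj_apply, hloc.central _ hxZ _ (hloc.Z_le hbZ), mul_inv_cancel_right]
      have hc : ((lu * lb⁻¹ : L) : MQ A) ∈ Subgroup.centralizer (L : Set (MQ A)) := by
        have : lu * lb⁻¹ ∈ Subgroup.center L := by
          rw [← QuotientGroup.eq_one_iff]
          show sig L (lu * lb⁻¹) = 1
          rw [map_mul, map_inv, h1, mul_inv_cancel]
        refine Subgroup.mem_centralizer_iff.2 fun y hy => ?_
        exact congrArg Subtype.val (Subgroup.mem_center_iff.1 this ⟨y, hy⟩)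
      have heq : π ⟨u * b * u⁻¹ * b⁻¹, hAM (mul_mem hub' (inv_mem hb))⟩ = ((lu * lb⁻¹ : L) : MQ A) := by
        show π ((⟨u, hTM hmT⟩ : ↥M) * ⟨b, hAM hb⟩ * (⟨u, hTM hmT⟩ : ↥M)⁻¹ * (⟨b, hAM hb⟩ : ↥M)⁻¹) = _
        rw [map_mul, map_mul, map_mul, map_inv, map_inv]
        rfl
      have h2 : π ⟨u * b * u⁻¹ * b⁻¹, hAM (mul_mem hub' (inv_mem hb))⟩ = 1 :=
        hfree _ (hAF _ (mul_mem hub' (inv_mem hb))) (heq ▸ hc)
      exact commute_of_conj_eq (mul_inv_eq_one.1 (hinj _ (mul_mem hub' (inv_mem hb)) h2))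
    refine ⟨u * a, mul_mem hmT (h.le ha), ?_, fun b hb => ?_, ?_⟩
    · rcases eq_or_ne a 1 with e0 | e0
      · rw [e0, mul_one]; exact hub
      · exact (hswap M hanc ⟨u, hub⟩).bad_mul u hub a ⟨a, ha, e0, 1, by group⟩ (huA a ha)
    · rw [mul_assoc, h.comm ha hb, ← mul_assoc, huA b hb, mul_assoc]
    · have hmem : π ⟨u * a, hTM (mul_mem hmT (h.le ha))⟩ ∈ Subgroup.normalizer (L : Set (MQ A)) :=
        hconjL _
      refine centralizes_of_autOn hL.2.1 hmem ?_
      have e1 : (⟨_, hmem⟩ : ↥(Subgroup.normalizer (L : Set (MQ A)))) =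
          u' * ⟨(l : MQ A), Subgroup.le_normalizer l.2⟩ := Subtype.ext (by
        show π ⟨u * a, _⟩ = π ⟨u, hTM hmT⟩ * (l : MQ A)
        rw [← hae]
        exact map_mul π ⟨u, hTM hmT⟩ ⟨a, haM⟩)
      rw [e1, map_mul, hx, autOn_coe, hlx, ← map_mul, (hloc.mem_Z_iff.1 hxZ).2, map_one]
  -- so `L` normalises the image of `A`
  obtain ⟨Rv, Lv, qv, Zv, τv, b⟩ := hanc.exists_badData hvbad (h.sylow_le hvT)
  refine hnotnorm fun l hl => ?_
  obtain ⟨k, rfl⟩ := QuotientGroup.mk'_surjective (Cfsg.pPrimeCore 2 ↥M) l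
  obtain ⟨w, hw, hwk⟩ := hlift v (hTM hvT)
    (T.2.to_le (Subgroup.zpowers_le.2 hvT)) (x := k) (Subgroup.mem_centralizer_iff.1 hvL _ hl)
  have hwkM : w * (k : G) ∈ M := mul_mem (Subgroup.le_normalizer hw) k.2
  have hkey : π ⟨w * (k : G), hwkM⟩ ∈ Subgroup.normalizer (F : Set (MQ A)) := by
    refine mem_normalizer_of_conj_mem ?_
    rintro _ ⟨⟨c, hcM⟩, hc, rfl⟩
    replace hc : c ∈ A := hc
    have hcv : c ∈ Subgroup.centralizer ({v} : Set G) :=
      Subgroup.mem_centralizer_singleton_iff.2 (hvA c hc).symm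
    have hcLv : c ∈ lift v Lv := b.le_lift ⟨hc, hcv⟩
    set d := (w * (k : G)) * c * (w * (k : G))⁻¹ with hd
    have hdC : d ∈ Subgroup.centralizer ({v} : Set G) := mul_mem (mul_mem hwk hcv) (inv_mem hwk)
    have hdL : d ∈ lift v Lv := by
      refine mem_lift.2 ⟨hdC, ?_⟩
      rw [show (⟨d, hdC⟩ : ↥(Subgroup.centralizer ({v} : Set G))) = ⟨_, hwk⟩ * ⟨c, hcv⟩ * (⟨_, hwk⟩)⁻¹
        from rfl, map_mul, map_mul, map_inv]
      exact normalizer_conj (b.normalizes _) ((mem_lift_coe (g := ⟨c, hcv⟩)).1 hcLv)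
    have hdM : d ∈ M := mul_mem (mul_mem hwkM hcM) (inv_mem hwkM)
    have hd2 : (⟨d, hdL⟩ : ↥(lift v Lv)) * ⟨d, hdL⟩ = 1 := Subtype.ext (by
      show d * d = 1
      rw [hd, show w * (k : G) * c * (w * (k : G))⁻¹ * (w * (k : G) * c * (w * (k : G))⁻¹) =
        w * (k : G) * (c * c) * (w * (k : G))⁻¹ by group, h.sq hc, mul_one, mul_inv_cancel])
    have hdZ := b.comp.loc.invol_mem_Z ((b.mem_M_iff ⟨d, hdL⟩).1 hdM)
      (by rw [← map_mul, hd2, map_one])
    obtain ⟨f, hf, hfe⟩ := b.comp.exists_F hdZ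
    have hdf : d * (f : G)⁻¹ ∈ wcl A := b.core_le_wcl (b.mem_core_of_lmap (g := ⟨d, hdL⟩ * f⁻¹)
      (by rw [map_mul, map_inv, hfe, mul_inv_cancel]))
    refine ⟨⟨(f : G), hAM hf.1⟩, hf.1, ?_⟩
    have h1 : π ((⟨d, hdM⟩ : ↥M) * (⟨(f : G), hAM hf.1⟩ : ↥M)⁻¹) = 1 := h.mq_eq_one.2 hdf
    rw [map_mul, map_inv, mul_inv_eq_one] at h1
    rw [← h1, ← map_inv, ← map_mul, ← map_mul]
    rfl
  have hweq : π ⟨w * (k : G), hwkM⟩ = π k := by
    rw [show (⟨w * (k : G), hwkM⟩ : ↥M) = ⟨w, Subgroup.le_normalizer hw⟩ * k from rfl, map_mul,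
      h.mq_eq_one.2 (show ((⟨w, Subgroup.le_normalizer hw⟩ : ↥M) : G) ∈ wcl A from hw), one_mul]
  exact hweq ▸ hkey

/-- Without effective components `G` is a Suzuki group or the configuration is final. -/
theorem suzuki_or_final (h : Closed G T A) (he : ¬ Effective T A)
    (hswap : ∀ M, Anchor T A M → (∃ u, Bad M u) → SwapFacts T A M) :
    Cfsg.Lie.IsoSuzuki G ∨ ∃ M, Final T A M := by
  by_cases hW : wcl A = ⊥
  · have hanc := h.anchor_normalizer he hW
    by_cases hb : ∃ u, Bad (Subgroup.normalizer (A : Set G)) u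
    · refine Or.inr ⟨_, hanc, h.plainCent he, hW ▸ bot_le, fun g hg => ⟨1, one_mem _, g, hg, (one_mul g).symm⟩,
        h.normalizer_le_wcl, fun hne => absurd hW hne, hb⟩
    · exact Or.inl (hanc.suzuki_of_no_bad fun u hu => hb ⟨u, hu⟩)
  · have hanc := h.anchor_wcl hW
    by_cases hb : ∃ u, Bad (Subgroup.normalizer (wcl A : Set G)) u
    · exact Or.inr ⟨_, hanc, h.plainCent he, Subgroup.le_normalizer,
        fun g hg => h.exists_split he hW hswap hb hg, le_rfl, fun _ => rfl, hb⟩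
    · exact Or.inl (hanc.suzuki_of_no_bad fun u hu => hb ⟨u, hu⟩)

end Closed

end Cfsg.Agent.Lib.Thompson3Prime33
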