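import Cfsg.Agent.Lib.Thompson3Prime33.SzLocal
import Cfsg.Agent.Lib.BC77.Hall4.FourFormula
import Mathlib.Algebra.Module.ZMod
import Mathlib.FieldTheory.IsAlgClosed.AlgebraicClosure
import Mathlib.LinearAlgebra.Eigenspace.Triangularizable
import Mathlib.LinearAlgebra.Dual.Lemmas

/-!
# The support statements `FourFormula` and `FpfModuleBound`

Owner: helper20.
-/

set_option autoImplicit false
set_option linter.unusedSectionVars false
set_option linter.style.haveILetI false

namespace Cfsg.Agent.Lib.Thompson3Prime33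

universe u

/-- The support statement `FourFormula`. -/
theorem fourFormula : FourFormula.{u} := by
  intro G _ _ W a b hW ha hb hab _ _ _ hnA hnB
  have h := BC77.Hall4.card_four hW ha hb hab (fun x hx => (hnA x).1 hx) (fun x hx => (hnB x).1 hx)
  have e : W ⊓ Subgroup.centralizer ({a, b} : Set G) = BC77.Hall4.fx a W ⊓ BC77.Hall4.fx b W := by
    ext x
    simp only [BC77.Hall4.fx, Subgroup.mem_inf, Subgroup.mem_centralizer_iff, Set.mem_insert_iff,
      Set.mem_singleton_iff, forall_eq_or_imp, forall_eq]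
    tauto
  rw [e]
  exact h

section Dual

variable {K M : Type*} [Field K] [AddCommGroup M] [Module K M] [FiniteDimensional K M] [IsAlgClosed K]
  {ι : Type*} (op : ι → Module.End K M)

/-- Commuting operators have a common eigenvector in every invariant non-zero subspace. -/
theorem exists_eigen (hc : ∀ i j, op i * op j = op j * op i) (U : Submodule K M) (hU : U ≠ ⊥)
    (hinv : ∀ i, ∀ x ∈ U, op i x ∈ U) :
    ∃ f ∈ U, f ≠ 0 ∧ ∀ i, ∃ c : K, op i f = c • f := by
  classical
  obtain ⟨U', ⟨hU'0, hU'U, hU'inv⟩, hmin⟩ :=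
    wellFounded_lt.has_min {W : Submodule K M | W ≠ ⊥ ∧ W ≤ U ∧ ∀ i, ∀ x ∈ W, op i x ∈ W}
      ⟨U, hU, le_rfl, hinv⟩
  obtain ⟨f, hfU', hf0⟩ := U'.ne_bot_iff.1 hU'0
  refine ⟨f, hU'U hfU', hf0, fun i => ?_⟩
  let r : Module.End K U' := (op i).restrict (hU'inv i)
  haveI : Nontrivial U' := Submodule.nontrivial_iff_ne_bot.2 hU'0
  obtain ⟨c, hc'⟩ := Module.End.exists_eigenvalue r
  refine ⟨c, ?_⟩
  let W : Submodule K M := U' ⊓ LinearMap.ker (op i - c • (1 : Module.End K M))
  have hW : W ≠ ⊥ := by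
    obtain ⟨x, hx, hx0⟩ := hc'.exists_hasEigenvector
    rw [Module.End.mem_eigenspace_iff] at hx
    refine W.ne_bot_iff.2 ⟨x.1, ⟨x.2, ?_⟩, fun e => hx0 (Subtype.ext e)⟩
    have h1 : op i x.1 = c • x.1 := congrArg Subtype.val hx
    simp [h1]
  have hWinv : ∀ j, ∀ x ∈ W, op j x ∈ W := by
    rintro j x ⟨hxU, hxk⟩
    refine ⟨hU'inv j x hxU, ?_⟩
    have h1 : op i x = c • x := by simpa [sub_eq_zero] using hxk
    have h2 : op i (op j x) = op j (op i x) := congrArg (fun φ : Module.End K M => φ x) (hc i j)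
    simp [h2, h1]
  have hWU : W = U' := by
    by_contra hne
    exact hmin W ⟨hW, (inf_le_left : W ≤ U').trans hU'U, hWinv⟩ (lt_of_le_of_ne inf_le_left hne)
  have h1 : f ∈ LinearMap.ker (op i - c • (1 : Module.End K M)) := by
    rw [← hWU] at hfU'; exact hfU'.2
  simpa [sub_eq_zero] using h1

/-- Common eigenvectors with distinct eigencharacters are independent. -/
theorem independent {κ : Type*} [Fintype κ] (f : κ → M) (hf : ∀ k, f k ≠ 0) (χ : κ → ι → K)
    (he : ∀ k i, op i (f k) = χ k i • f k) (hd : ∀ k l, k ≠ l → ∃ i, χ k i ≠ χ l i) :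
    LinearIndependent K f := by
  classical
  rw [Fintype.linearIndependent_iff]
  suffices h : ∀ s : Finset κ, ∀ c : κ → K, ∑ k ∈ s, c k • f k = 0 → ∀ k ∈ s, c k = 0 from
    fun c hc k => h Finset.univ c hc k (Finset.mem_univ k)
  intro s
  induction s using Finset.induction_on with
  | empty => simp
  | @insert a s ha ih =>
    intro c hc
    rw [Finset.sum_insert ha] at hc
    have hs : ∀ k ∈ s, c k = 0 := by
      intro k hk
      obtain ⟨i, hi⟩ := hd k a (fun e => ha (e ▸ hk))
      have h1 : ∑ l ∈ s, (c l * (χ l i - χ a i)) • f l = 0 := by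
        have h2 := congrArg (fun x => op i x - χ a i • x) hc
        simp only [map_add, map_sum, map_smul, he, smul_add, Finset.smul_sum, map_zero,
          smul_zero, sub_zero, smul_smul] at h2
        rw [← h2, mul_comm (c a), add_sub_add_left_eq_sub, ← Finset.sum_sub_distrib]
        exact Finset.sum_congr rfl fun l _ => by rw [← sub_smul]; ring_nf
      exact (mul_eq_zero.1 (ih _ h1 k hk)).resolve_right (sub_ne_zero.2 hi)
    intro k hk
    rcases Finset.mem_insert.1 hk with rfl | hk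
    · rw [Finset.sum_eq_zero (fun l hl => by rw [hs l hl, zero_smul]), add_zero] at hc
      exact (smul_eq_zero.1 hc).resolve_right (hf k)
    · exact hs k hk

end Dual

/-- The support statement `FpfModuleBound`. -/
theorem fpfModuleBound : FpfModuleBound.{u} := by
  classical
  intro G _ _ V N t d hV hN hodd hNV hNC htV htN _ _ hfpf
  have hVc : ∀ a ∈ V, ∀ b ∈ V, a * b = b * a := by
    intro a ha b hb
    calc a * b = (a * b)⁻¹ := eq_inv_of_mul_eq_one_left (hV _ (mul_mem ha hb))
      _ = b * a := by rw [mul_inv_rev, inv_eq_of_mul_eq_one_right (hV b hb),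
          inv_eq_of_mul_eq_one_right (hV a ha)]
  letI : IsMulCommutative V := ⟨⟨fun a b => Subtype.ext (hVc _ a.2 _ b.2)⟩⟩
  letI : AddCommGroup (Additive V) :=
    { (inferInstance : AddGroup (Additive V)) with
      add_comm := fun a b => congrArg Additive.ofMul
        (Subtype.ext (hVc _ a.toMul.2 _ b.toMul.2) : a.toMul * b.toMul = b.toMul * a.toMul) }
  letI : Module (ZMod 2) (Additive V) := AddCommGroup.zmodModule fun x => by
    rw [two_nsmul]
    exact congrArg Additive.ofMul (Subtype.ext (hV _ x.toMul.2) : x.toMul * x.toMul = 1)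
  haveI : Fact (Nat.Prime 2) := ⟨Nat.prime_two⟩
  let K := AlgebraicClosure (ZMod 2)
  haveI : Module.Finite (ZMod 2) (Additive V) := Module.Finite.of_finite
  let Nr := Subgroup.normalizer (V : Set G)
  let cv : ↥Nr → (Additive V →ₗ[ZMod 2] Additive V) := fun g =>
    AddMonoidHom.toZModLinearMap 2
      { toFun := fun x => Additive.ofMul
          (⟨g.1 * x.toMul.1 * (g.1)⁻¹, (g.2 x.toMul.1).1 x.toMul.2⟩ : V)
        map_zero' := congrArg Additive.ofMul (Subtype.ext (by simp))
        map_add' := fun x y => congrArg Additive.ofMul (Subtype.ext (by simp [mul_assoc])) }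
  have cv_mul : ∀ g g' : ↥Nr, cv (g * g') = (cv g).comp (cv g') := fun g g' =>
    LinearMap.ext fun x => congrArg Additive.ofMul (Subtype.ext (by
      show (g * g' : ↥Nr).1 * x.toMul.1 * ((g * g' : ↥Nr).1)⁻¹ =
        g.1 * (g'.1 * x.toMul.1 * (g'.1)⁻¹) * (g.1)⁻¹
      simp [mul_assoc]))
  have cv_one : cv 1 = LinearMap.id :=
    LinearMap.ext fun x => congrArg Additive.ofMul (Subtype.ext (by
      show (1 : ↥Nr).1 * x.toMul.1 * ((1 : ↥Nr).1)⁻¹ = x.toMul.1
      simp))
  let W := Additive V →ₗ[ZMod 2] K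
  haveI : FiniteDimensional K W := inferInstance
  let op : ↥Nr → Module.End K W := fun g =>
    { toFun := fun f => f.comp (cv g)
      map_add' := fun f f' => rfl
      map_smul' := fun c f => rfl }
  have op_mul : ∀ g g' : ↥Nr, op (g * g') = op g' * op g := fun g g' =>
    LinearMap.ext fun f => by
      show f.comp (cv (g * g')) = (f.comp (cv g)).comp (cv g')
      rw [cv_mul, LinearMap.comp_assoc]
  have op_one : op 1 = 1 := LinearMap.ext fun f => by
    show f.comp (cv 1) = f
    rw [cv_one, LinearMap.comp_id]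
  let ιN : ↥N → ↥Nr := fun a => ⟨a.1, hNV a.2⟩
  have hcomm : ∀ a b : ↥N, op (ιN a) * op (ιN b) = op (ιN b) * op (ιN a) := fun a b => by
    rw [← op_mul, ← op_mul]
    exact congrArg op (Subtype.ext (hN _ b.2 _ a.2))
  -- an element of `N` acting non-trivially
  obtain ⟨n₀, hn₀N, v, hvV, hv⟩ : ∃ n₀ ∈ N, ∃ v ∈ V, n₀ * v * n₀⁻¹ ≠ v := by
    by_contra hall
    push Not at hall
    exact hNC fun a ha => Subgroup.mem_centralizer_iff.2 fun v hv =>
      (mul_inv_eq_iff_eq_mul.1 (hall a ha v hv)).symm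
  set T := op (ιN ⟨n₀, hn₀N⟩) with hT
  have hT1 : T ≠ 1 := by
    intro e
    set x : Additive V := Additive.ofMul ⟨v, hvV⟩
    have hx : cv (ιN ⟨n₀, hn₀N⟩) x - x ≠ 0 := by
      rw [sub_ne_zero]
      intro e'
      exact hv (congrArg (fun y : Additive V => (y.toMul : G)) e')
    obtain ⟨φ, hφ⟩ : ∃ φ : Module.Dual (ZMod 2) (Additive V), φ (cv (ιN ⟨n₀, hn₀N⟩) x - x) ≠ 0 := by
      by_contra hall
      push Not at hall
      exact hx ((Module.forall_dual_apply_eq_zero_iff (ZMod 2) _).1 hall)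
    apply hφ
    let f : W := (Algebra.linearMap (ZMod 2) K).comp φ
    have h1 : algebraMap (ZMod 2) K (φ (cv (ιN ⟨n₀, hn₀N⟩) x)) = algebraMap (ZMod 2) K (φ x) :=
      congrArg (fun g : W => g x) (LinearMap.congr_fun e f)
    rw [map_sub, (algebraMap (ZMod 2) K).injective h1, sub_self]
  -- the averaging operator
  set e := Nat.card N with he
  let g₀ := ιN ⟨n₀, hn₀N⟩
  have hpow : ∀ k : ℕ, T ^ k = op (g₀ ^ k) := by
    intro k
    induction k with
    | zero => rw [pow_zero, pow_zero, op_one]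
    | succ k ih => rw [pow_succ, ih, pow_succ', op_mul]
  have hTe : T ^ e = 1 := by
    have h1 : g₀ ^ e = 1 := Subtype.ext (by
      have h2 : (((⟨n₀, hn₀N⟩ : ↥N) ^ Nat.card N : ↥N) : G) = ((1 : ↥N) : G) :=
        congrArg Subtype.val pow_card_eq_one'
      show ((g₀ ^ e : ↥Nr) : G) = ((1 : ↥Nr) : G)
      rw [Subgroup.coe_pow] at h2 ⊢
      exact h2)
    rw [hpow, h1, op_one]
  let P : Module.End K W := ∑ k ∈ Finset.range e, T ^ k
  have hTP : T * P = P := by
    have h1 : (T - 1) * P = T ^ e - 1 := mul_geom_sum T e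
    rw [hTe] at h1
    have h2 : T * P - P = 0 := by
      calc T * P - P = (T - 1) * P := by ext x; simp
        _ = 1 - 1 := h1
        _ = 0 := by ext x; simp
    exact sub_eq_zero.1 h2
  have hPfix : ∀ f : W, T f = f → P f = f := by
    intro f hf
    have h1 : ∀ k : ℕ, (T ^ k) f = f := fun k => by
      induction k with
      | zero => rfl
      | succ k ih => rw [pow_succ, Module.End.mul_apply, hf, ih]
    have h2 : (e : K) = 1 := by
      obtain ⟨r, hr⟩ := hodd
      haveI : CharP K 2 := (Algebra.charP_iff (ZMod 2) K 2).1 inferInstance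
      rw [hr, Nat.cast_add, Nat.cast_mul, Nat.cast_one, Nat.cast_ofNat, (CharTwo.two_eq_zero : (2 : K) = 0),
        zero_mul, zero_add]
    simp only [P, LinearMap.sum_apply, h1, Finset.sum_const, Finset.card_range]
    rw [← Nat.cast_smul_eq_nsmul K, h2, one_smul]
  let U : Submodule K W := LinearMap.ker P
  have hU : U ≠ ⊥ := by
    obtain ⟨f, hf⟩ : ∃ f, T f ≠ f := by
      by_contra hall
      push Not at hall
      exact hT1 (LinearMap.ext hall)
    have hTPf : T (P f) = P f := congrArg (fun φ : Module.End K W => φ f) hTP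
    refine U.ne_bot_iff.2 ⟨f - P f, ?_, fun e0 => ?_⟩
    · show P (f - P f) = 0
      rw [map_sub, hPfix _ hTPf, sub_self]
    · rw [sub_eq_zero] at e0
      rw [e0] at hf
      exact hf hTPf
  have hUinv : ∀ a : ↥N, ∀ f ∈ U, op (ιN a) f ∈ U := by
    intro a f hf
    have hc : Commute (op (ιN a)) P :=
      Commute.sum_right _ _ _ fun k _ => (show Commute (op (ιN a)) T from hcomm a _).pow_right k
    show P (op (ιN a) f) = 0
    rw [← Module.End.mul_apply, ← hc.eq, Module.End.mul_apply, show P f = 0 from hf, map_zero]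
  obtain ⟨f, hfU, hf0, hfe⟩ := exists_eigen (fun a : ↥N => op (ιN a)) hcomm U hU hUinv
  choose χ hχ using hfe
  have hχn : χ ⟨n₀, hn₀N⟩ ≠ 1 := by
    intro e1
    have h1 : T f = f := by rw [hT, hχ, e1, one_smul]
    exact hf0 ((hPfix f h1).symm.trans hfU)
  have hχmul : ∀ a b : ↥N, χ (a * b) = χ a * χ b := by
    intro a b
    have h1 : op (ιN (a * b)) f = op (ιN b) (op (ιN a) f) :=
      congrArg (fun φ : Module.End K W => φ f) (op_mul (ιN a) (ιN b))
    rw [hχ, hχ, map_smul, hχ, smul_smul] at h1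
    exact smul_left_injective K hf0 h1
  -- its translates
  let t' : ↥Nr := ⟨t, htV⟩
  have htk : ∀ k : ℕ, ∀ a ∈ N, t ^ k * a * (t ^ k)⁻¹ ∈ N := fun k a ha =>
    ((pow_mem htN k) a).1 ha
  let tw : ℕ → ↥N → ↥N := fun k a => ⟨t ^ k * a.1 * (t ^ k)⁻¹, htk k a.1 a.2⟩
  have htw : ∀ (k : ℕ) (a : ↥N), op (ιN a) (op (t' ^ k) f) = χ (tw k a) • op (t' ^ k) f := by
    intro k a
    have h1 : t' ^ k * ιN a = ιN (tw k a) * t' ^ k := Subtype.ext (by simp [ιN, tw, t'])
    rw [← Module.End.mul_apply, ← op_mul, h1, op_mul, Module.End.mul_apply, hχ, map_smul]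
  have hne : ∀ k : ℕ, op (t' ^ k) f ≠ 0 := by
    intro k e0
    apply hf0
    have h1 : op ((t' ^ k) * (t' ^ k)⁻¹) f = 0 := by rw [op_mul, Module.End.mul_apply, e0, map_zero]
    rwa [mul_inv_cancel, op_one, Module.End.one_apply] at h1
  have hdist : ∀ i j : Fin d, i ≠ j → ∃ a : ↥N, χ (tw i a) ≠ χ (tw j a) := by
    suffices h : ∀ i j : Fin d, i.1 < j.1 → ∃ a : ↥N, χ (tw i a) ≠ χ (tw j a) by
      intro i j hij
      rcases Nat.lt_or_gt_of_ne (fun e0 => hij (Fin.ext e0)) with h' | h'
      · exact h i j h'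
      · obtain ⟨a, ha⟩ := h j i h'
        exact ⟨a, ha.symm⟩
    intro i j hij
    by_contra hall
    push Not at hall
    set n := j.1 - i.1 with hn
    have htwn : ∀ b : ↥N, χ (tw n b) = χ b := by
      intro b
      have hinv : (t ^ i.1)⁻¹ * b.1 * t ^ i.1 ∈ N := by
        simpa using ((inv_mem (pow_mem htN i.1)) b.1).1 b.2
      have h1 := hall ⟨_, hinv⟩
      have e1 : tw i.1 ⟨_, hinv⟩ = b := Subtype.ext (by simp [tw, mul_assoc])
      have e2 : tw j.1 ⟨_, hinv⟩ = tw n b := Subtype.ext (by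
        show t ^ j.1 * ((t ^ i.1)⁻¹ * b.1 * t ^ i.1) * (t ^ j.1)⁻¹ = t ^ n * b.1 * (t ^ n)⁻¹
        rw [show j.1 = n + i.1 by omega, pow_add]
        group)
      rw [e1, e2] at h1
      exact h1.symm
    -- `a ↦ a^(t^n) a⁻¹` is onto
    have hinj : Function.Injective fun a : ↥N => tw n a * a⁻¹ := by
      intro a b hab
      have hab' : tw n a * a⁻¹ = tw n b * b⁻¹ := hab
      have h1 : (tw n b)⁻¹ * tw n a = b⁻¹ * a := by
        have h3 : tw n a = tw n b * b⁻¹ * a := by rw [← hab', inv_mul_cancel_right]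
        rw [h3]; group
      have h2 : tw n (b⁻¹ * a) = b⁻¹ * a := by
        refine (Subtype.ext ?_).trans h1
        simp [tw, mul_assoc]
      have h4 := hfpf n (by omega) (by omega) _ (b⁻¹ * a).2 (congrArg Subtype.val h2)
      exact (eq_of_inv_mul_eq_one (Subtype.ext h4)).symm
    obtain ⟨a, ha⟩ := (Finite.injective_iff_surjective.1 hinj) ⟨n₀, hn₀N⟩
    apply hχn
    have h0 : χ 1 = 1 := by
      have h1 : op (ιN 1) f = χ 1 • f := hχ 1
      rw [show ιN 1 = 1 from rfl, op_one, Module.End.one_apply] at h1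
      exact (smul_left_injective K hf0 (by simpa using h1)).symm
    rw [← ha, hχmul, htwn, ← hχmul, mul_inv_cancel, h0]
  have hli := independent (fun a : ↥N => op (ιN a)) (fun i : Fin d => op (t' ^ i.1) f)
    (fun i => hne i) (fun i a => χ (tw i a)) (fun i a => htw i a) hdist
  have hle := hli.fintype_card_le_finrank
  rw [Fintype.card_fin, Module.finrank_linearMap_self] at hle
  calc 2 ^ d ≤ 2 ^ Module.finrank (ZMod 2) (Additive V) := Nat.pow_le_pow_right two_pos hle
    _ = Nat.card (Additive V) := by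
        rw [Module.natCard_eq_pow_finrank (K := ZMod 2), Nat.card_zmod]
    _ = Nat.card V := Nat.card_congr Additive.toMul

end Cfsg.Agent.Lib.Thompson3Prime33
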