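import Cfsg.Agent.Lib.Thompson3Prime33.Interface

/-!
# Every involution is bad or conjugate into `A`

The swap lemma: an involution not conjugate into `A` commutes with a conjugate of an element of `A`
such that the product is bad.

Owner: helper42 (piece P2).
-/

set_option autoImplicit false
set_option linter.style.haveILetI false
set_option linter.unusedSectionVars false
set_option linter.unusedVariables false

namespace Cfsg.Agent.Lib.Thompson3Prime33

universe u

variable {G : Type u} [Group G] [Finite G]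

/-- Two involutions with product of odd order are conjugate by an involution commuting with any
involution which interchanges them. -/
theorem exists_mid {d t : G} (hd : d * d = 1) (ht : t * t = 1)
    (ho : Odd (orderOf (d * (t * d * t)))) :
    ∃ e ∈ Subgroup.zpowers (d * (t * d * t)),
      t * (e * d * e⁻¹) = e * d * e⁻¹ * t ∧ e * d * e⁻¹ * d * (e * d * e⁻¹) = t * d * t := by
  have hti : t⁻¹ = t := inv_eq_of_mul_eq_one_right ht
  have hdi : d⁻¹ = d := inv_eq_of_mul_eq_one_right hd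
  set x := d * (t * d * t) with hx
  have hxi : x⁻¹ = t * d * t * d := by
    rw [hx, mul_inv_rev, mul_inv_rev, mul_inv_rev, hti, hdi]; group
  have hxd : ∀ j : ℕ, d * x ^ j * d⁻¹ = (x ^ j)⁻¹ := fun j => by
    rw [← conj_pow, ← inv_pow, hxi, hx]
    congr 1
    calc d * (d * (t * d * t)) * d⁻¹ = (d * d) * (t * d * t) * d⁻¹ := by group
      _ = _ := by rw [hd, hdi, one_mul]
  have hxt : ∀ j : ℕ, t * x ^ j * t⁻¹ = (x ^ j)⁻¹ := fun j => by
    rw [← conj_pow, ← inv_pow, hxi, hx]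
    congr 1
    group
  obtain ⟨m, hm⟩ := ho
  have hN : x ^ (2 * m + 1) = 1 := hm ▸ pow_orderOf_eq_one x
  have hk : x ^ (2 * (m + 1)) = x := by
    rw [show 2 * (m + 1) = (2 * m + 1) + 1 by ring, pow_add, hN, one_mul, pow_one]
  set j := (m + 1) * (m + 1)
  have hj : x ^ j * x ^ j = x ^ (m + 1) := by
    rw [← pow_add, show j + j = 2 * (m + 1) * (m + 1) by ring, pow_mul, hk]
  refine ⟨(x ^ j)⁻¹, inv_mem (pow_mem (Subgroup.mem_zpowers x) j), ?_⟩
  have hs : (x ^ j)⁻¹ * d * (x ^ j)⁻¹⁻¹ = d * x ^ (m + 1) := by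
    rw [inv_inv, ← hj, ← hxd j]; group
  rw [hs]
  constructor
  · calc t * (d * x ^ (m + 1)) = (t * d * t) * (t⁻¹ * t⁻¹) * (t * x ^ (m + 1) * t⁻¹) * t := by group
      _ = (d⁻¹ * x) * (x ^ (m + 1))⁻¹ * t := by rw [hxt, hti, ht, mul_one, hx, inv_mul_cancel_left]
      _ = d⁻¹ * (x ^ (2 * (m + 1)) * (x ^ (m + 1))⁻¹) * t := by rw [hk]; group
      _ = _ := by rw [two_mul, pow_add, mul_inv_cancel_right, hdi]
  · calc d * x ^ (m + 1) * d * (d * x ^ (m + 1))
        = d * x ^ (m + 1) * (d * d) * x ^ (m + 1) := by group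
      _ = d * x ^ (2 * (m + 1)) := by rw [hd, mul_one, mul_assoc, ← pow_add, ← two_mul]
      _ = _ := by rw [hk, hx, ← mul_assoc, hd, one_mul]

theorem SzLocal.mem_borel_of_normalizes {L : Type u} [Group L] [Finite L] {q : ℕ} {P Z : Subgroup L}
    {τ : L} (h : SzLocal L q P Z τ) {x : L}
    (hx : ∀ p ∈ Subgroup.normalizer (P : Set L),
      x * p * x⁻¹ ∈ Subgroup.normalizer (P : Set L)) : x ∈ Subgroup.normalizer (P : Set L) := by
  set B := Subgroup.normalizer (P : Set L) with hB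
  have hxN : x ∈ Subgroup.normalizer (B : Set L) := mem_normalizer_of_conj_mem hx
  rcases h.borel_max _ (Subgroup.le_normalizer (H := B)) with e | e
  · rw [e] at hxN; exact hxN
  · haveI := h.simple
    have h8 := h.eight_le
    have hi : B.index = q ^ 2 + 1 := h.borel_index
    rcases (Subgroup.normalizer_eq_top_iff.1 e).eq_bot_or_eq_top with e' | e'
    · have hc := h.borel_card
      rw [← hB, e', Subgroup.card_bot] at hc
      have h1 : q ^ 2 * 1 ≤ q ^ 2 * (q - 1) := Nat.mul_le_mul_left _ (by omega)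
      have h2 : 64 ≤ q ^ 2 := by nlinarith
      omega
    · rw [e']; exact Subgroup.mem_top x

variable {T : Sylow 2 G} {A M : Subgroup G}

/-- An element commuting with a conjugate of an element of `A` fixes its point. -/
theorem Anchor.fix_of_comm (h : Anchor T A M) {a : G} (ha : a ∈ A) (ha1 : a ≠ 1) {g y : G}
    (hy : y * (g * a * g⁻¹) = g * a * g⁻¹ * y) : g⁻¹ * y * g ∈ M := by
  refine h.point ha ha1 ?_
  have : g⁻¹ * y * g * a * (g⁻¹ * y * g)⁻¹ = a := by
    calc g⁻¹ * y * g * a * (g⁻¹ * y * g)⁻¹ = g⁻¹ * (y * (g * a * g⁻¹)) * y⁻¹ * g := by group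
      _ = a := by rw [hy]; group
  rw [this]; exact h.a_le ha

namespace BadData

variable {w : G} {R : Subgroup G} {L : Subgroup (CQ w)} {q : ℕ}
  {Z : Subgroup (↥L ⧸ Subgroup.center ↥L)} {τ : ↥L ⧸ Subgroup.center ↥L}

/-- An element of `C(w)` centralising the component fixes the point `M`. -/
theorem mem_M_of_centralizes (b : BadData T A M w R L q Z τ)
    (g : ↥(Subgroup.centralizer ({w} : Set G)))
    (hc : cmap w g ∈ Subgroup.centralizer (L : Set (CQ w))) : (g : G) ∈ M := by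
  obtain ⟨l, hl, m, hmC, hm, e⟩ := b.decomp g.2
  set ll : ↥(lift w L) := ⟨l, hl⟩
  have h1 : (lmap w L ll)⁻¹ ∈
      Subgroup.normalizer (pbar (qimg w R) L : Set (↥L ⧸ Subgroup.center ↥L)) := by
    refine b.comp.loc.mem_borel_of_normalizes fun p hp => ?_
    obtain ⟨k, rfl⟩ := lmap_surjective w L p
    have hkM := (b.mem_M_iff k).2 hp
    rw [inv_inv, ← map_inv, ← map_mul, ← map_mul, ← b.mem_M_iff]
    show l⁻¹ * (k : G) * l ∈ M
    set k' : ↥(Subgroup.centralizer ({w} : Set G)) := ⟨k, lift_le w L k.2⟩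
    set l' : ↥(Subgroup.centralizer ({w} : Set G)) := ⟨l, lift_le w L hl⟩
    have hk' : cmap w k' ∈ L := mem_lift_coe.1 k.2
    have ho : ((l'⁻¹ * (g * k' * g⁻¹ * k'⁻¹) * l' : ↥(Subgroup.centralizer ({w} : Set G))) : G) ∈
        Cfsg.centralizerPPrimeCore 2 w := by
      refine cmap_eq_one.1 ?_
      simp only [map_mul, map_inv]
      rw [← Subgroup.mem_centralizer_iff.1 hc _ hk']
      group
    have h2 := mul_mem (inv_mem (b.core_le ho)) (mul_mem (mul_mem hm hkM) (inv_mem hm))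
    have h3 : m = l⁻¹ * (g : G) := by rw [e, inv_mul_cancel_left]
    rw [h3] at h2
    simpa [k', l', mul_assoc] using h2
  have h4 := (b.mem_M_iff ll).2 (by simpa using inv_mem h1)
  rw [e]; exact mul_mem h4 hm

/-- An element of `C(w)` centralising the component fixes every fixed point of `w`. -/
theorem fix_all (b : BadData T A M w R L q Z τ) (y : ↥(Subgroup.centralizer ({w} : Set G)))
    (hc : cmap w y ∈ Subgroup.centralizer (L : Set (CQ w))) {g : G} (hg : g⁻¹ * w * g ∈ M) :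
    g⁻¹ * (y : G) * g ∈ M := by
  obtain ⟨c, hcC, hcM⟩ := b.exists_cent_mul hg
  set c' : ↥(Subgroup.centralizer ({w} : Set G)) := ⟨c, hcC⟩
  have h1 := b.mem_M_of_centralizes (c'⁻¹ * y * c') (Subgroup.mem_centralizer_iff.2 fun l hl => by
    have h2 := Subgroup.mem_centralizer_iff.1 hc _ (normalizer_conj (b.normalizes (cmap w c')) hl)
    simp only [map_mul, map_inv]
    calc l * ((cmap w c')⁻¹ * cmap w y * cmap w c')
        = (cmap w c')⁻¹ * (cmap w c' * l * (cmap w c')⁻¹ * cmap w y) * cmap w c' := by group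
      _ = _ := by rw [h2]; group)
  have h3 := mul_mem (mul_mem (inv_mem hcM) h1) hcM
  simpa [c', mul_assoc] using h3

/-- The swap at a bad involution. -/
theorem exists_mul_bad (b : BadData T A M w R L q Z τ) {t : G} (ht : orderOf t = 2)
    (htD : ¬ InD A t) (htC : t ∈ Subgroup.centralizer ({w} : Set G)) {g : G}
    (hgw : g⁻¹ * w * g ∈ M) (hgt : g⁻¹ * t * g ∉ M) :
    ∃ s, InD A s ∧ t * s = s * t ∧ Bad M (t * s) := by
  have htt : t * t = 1 := by rw [← pow_two, ← ht, pow_orderOf_eq_one]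
  set t' : ↥(Subgroup.centralizer ({w} : Set G)) := ⟨t, htC⟩
  have htt' : cmap w t' * cmap w t' = 1 := by
    rw [← map_mul, show t' * t' = 1 from Subtype.ext htt, map_one]
  have htN := b.normalizes (cmap w t')
  set φ := autOn L ⟨cmap w t', htN⟩ with hφ
  have hφ2 : φ ^ (2 : ℕ) = 1 := by
    rw [hφ, ← map_pow,
      show (⟨cmap w t', htN⟩ : ↥(Subgroup.normalizer (L : Set (CQ w)))) ^ 2 = 1 from
        Subtype.ext (by rw [Subgroup.coe_pow, pow_two]; exact htt'), map_one]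
  obtain ⟨x, hx⟩ := b.comp.loc.aut_two φ ⟨1, by rw [pow_one]; exact hφ2⟩
  have hxx : x * x = 1 := b.comp.loc.conj_injective (by rw [map_mul, ← hx, map_one, ← pow_two, hφ2])
  have hp := b.comp.comp.2.1
  have hx1 : x ≠ 1 := fun e =>
    hgt (b.fix_all t' (centralizes_of_autOn hp htN (by rw [← hφ, hx, e, map_one])) hgw)
  have hxo : orderOf x = 2 := orderOf_eq_prime (by rw [pow_two, hxx]) hx1
  obtain ⟨γ, hγ⟩ := b.comp.loc.invol_conj x hxo
  obtain ⟨f, hf, hfx⟩ := b.comp.exists_F hγ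
  obtain ⟨e, rfl⟩ := lmap_surjective w L γ
  set s₀ : ↥(lift w L) := e⁻¹ * f * e with hs₀
  have hs₀x : lmap w L s₀ = x := by rw [hs₀, map_mul, map_mul, map_inv, hfx]; group
  have hf1 : (f : G) ≠ 1 := fun e0 => hx1 (by
    rw [show f = 1 from Subtype.ext e0, map_one] at hfx
    exact conj_eq_one_iff.1 hfx.symm)
  have hs₀D : InD A (s₀ : G) :=
    ⟨f, hf.1, hf1, ((e : G))⁻¹, by rw [hs₀]; simp⟩
  have hs₀s : (s₀ : G) * s₀ = 1 := by rw [← pow_two, ← hs₀D.invol b.closed, pow_orderOf_eq_one]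
  set s₁ : ↥(Subgroup.centralizer ({w} : Set G)) := ⟨s₀, lift_le w L s₀.2⟩
  have hsig : sig L (toL w L s₀) = x := hs₀x
  have hcomm : cmap w t' * cmap w s₁ * (cmap w t')⁻¹ = cmap w s₁ := by
    have h1 : φ (sig L (toL w L s₀)) = sig L (toL w L s₀) := by
      rw [hsig, hx, MulAut.conj_apply, mul_inv_cancel_right]
    rw [hφ, autOn_apply] at h1
    have h2 := (QuotientGroup.eq (s := Subgroup.center ↥L)).1 h1
    rw [b.simple, Subgroup.mem_bot, inv_mul_eq_one] at h2
    exact congrArg Subtype.val h2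
  have hker : cmap w (s₁ * (t' * s₁ * t')) = 1 := by
    rw [map_mul, map_mul, map_mul]
    conv_lhs => enter [2, 2]; rw [← (inv_eq_of_mul_eq_one_right htt' : (cmap w t')⁻¹ = cmap w t')]
    rw [hcomm, ← map_mul, show s₁ * s₁ = 1 from Subtype.ext hs₀s, map_one]
  have hy : (s₀ : G) * (t * s₀ * t) ∈ Cfsg.centralizerPPrimeCore 2 w := cmap_eq_one.1 hker
  obtain ⟨e', he', hes, -⟩ := exists_mid hs₀s htt
    ((odd_core w).of_dvd_nat (Subgroup.orderOf_dvd_natCard _ hy))
  have he'O := (Subgroup.zpowers_le.2 hy) he'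
  set e₁ : ↥(Subgroup.centralizer ({w} : Set G)) :=
    ⟨e', Balance.centralizerPPrimeCore_le w he'O⟩
  refine ⟨_, hs₀D.conj e', hes, ?_⟩
  set y := t' * (e₁ * s₁ * e₁⁻¹) with hy'
  have hyc : cmap w y = cmap w t' * (toL w L s₀ : CQ w) := by
    rw [hy', map_mul, map_mul, map_mul, map_inv, show cmap w e₁ = 1 from cmap_eq_one.2 he'O,
      one_mul, inv_one, mul_one]
    rfl
  have hycen : cmap w y ∈ Subgroup.centralizer (L : Set (CQ w)) := by
    rw [hyc]
    refine centralizes_of_autOn hp (mul_mem htN (Subgroup.le_normalizer (toL w L s₀).2)) ?_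
    rw [show (⟨cmap w t' * (toL w L s₀ : CQ w), mul_mem htN (Subgroup.le_normalizer (toL w L s₀).2)⟩ :
        ↥(Subgroup.normalizer (L : Set (CQ w)))) = ⟨cmap w t', htN⟩ *
          ⟨(toL w L s₀ : CQ w), Subgroup.le_normalizer (toL w L s₀).2⟩ from rfl,
      map_mul, autOn_coe, ← hφ, hx, hsig, ← map_mul, hxx, map_one]
  obtain ⟨hw2, g₁, g₂, hne, h1, h2⟩ := b.bad
  refine ⟨orderOf_eq_prime ?_ ?_, g₁, g₂, hne, b.fix_all y hycen h1, b.fix_all y hycen h2⟩
  · rw [(show Commute t (e' * s₀ * e'⁻¹) from hes).mul_pow, pow_two, htt, one_mul, conj_pow,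
      pow_two, hs₀s, mul_one, mul_inv_cancel]
  · intro e1
    apply htD
    rw [show t = (e' * (s₀ : G) * e'⁻¹)⁻¹ from eq_inv_of_mul_eq_one_left e1,
      show (e' * (s₀ : G) * e'⁻¹)⁻¹ = e' * (s₀ : G)⁻¹ * e'⁻¹ by group,
      inv_eq_of_mul_eq_one_right hs₀s]
    exact hs₀D.conj e'

/-- The conjugates of elements of `A` commuting with `w` are conjugate in `C(w)` into `A`. -/
theorem exists_conj_inf (b : BadData T A M w R L q Z τ) {s : G} (hs : InD A s)
    (hc : w * s = s * w) :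
    ∃ c ∈ Subgroup.centralizer ({w} : Set G),
      c * s * c⁻¹ ∈ A ⊓ Subgroup.centralizer ({w} : Set G) := by
  haveI : Fact (Nat.Prime 2) := ⟨Nat.prime_two⟩
  obtain ⟨a, ha, ha1, g, hg⟩ := hs
  obtain ⟨c₀, hc₀, hc₀M⟩ := b.exists_cent_mul (b.anchor.fix_of_comm ha ha1 (g := g) (y := w)
    (by rw [hg]; exact hc))
  have hsC : s ∈ Subgroup.centralizer ({w} : Set G) :=
    Subgroup.mem_centralizer_singleton_iff.2 hc.symm
  set K := Subgroup.centralizer ({w} : Set G) ⊓ M
  have hs₁ : c₀⁻¹ * s * c₀ ∈ K := by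
    refine Subgroup.mem_inf.2 ⟨mul_mem (mul_mem (inv_mem hc₀) hsC) hc₀, ?_⟩
    have := mul_mem (mul_mem hc₀M (b.anchor.a_le ha)) (inv_mem hc₀M)
    rw [← hg]
    simpa [mul_assoc] using this
  obtain ⟨S, hS⟩ := b.comp.base.sylow.exists_sylow
  have hRK : R ≤ K := le_inf b.comp.base.sylow.le b.R_le
  have hKS : CosetGraph.SylowIn.IsSylowIn 2 R K := by
    refine ⟨hRK, le_antisymm ?_ ?_⟩
    · obtain ⟨k, hk⟩ := IsPGroup.iff_card.1 b.comp.base.sylow.isPGroup
      rw [hk]
      exact Nat.pow_le_pow_right two_pos ((Nat.Prime.pow_dvd_iff_le_factorization Nat.prime_two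
        Nat.card_pos.ne').1 (hk ▸ Subgroup.card_dvd_of_le hRK))
    · rw [b.comp.base.sylow.card_eq]
      exact Nat.pow_le_pow_right two_pos ((Nat.factorization_le_iff_dvd Nat.card_pos.ne'
        Nat.card_pos.ne').2 (Subgroup.card_dvd_of_le (inf_le_left :
          K ≤ Subgroup.centralizer ({w} : Set G))) 2)
  obtain ⟨S', hS'⟩ := hKS.exists_sylow
  have hsinv : orderOf (c₀⁻¹ * s * c₀) = 2 := by
    rw [show c₀⁻¹ * s * c₀ = (c₀⁻¹ * g) * a * (c₀⁻¹ * g)⁻¹ by rw [← hg]; group]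
    exact InD.invol b.closed ⟨a, ha, ha1, _, rfl⟩
  set s' : K := ⟨c₀⁻¹ * s * c₀, hs₁⟩
  obtain ⟨S₀, hS₀⟩ := (IsPGroup.of_card (G := Subgroup.zpowers s') (p := 2) (n := 1)
    (by rw [Nat.card_zpowers, pow_one, ← Subgroup.orderOf_coe]; exact hsinv)).exists_le_sylow
  obtain ⟨k, hk⟩ := MulAction.exists_smul_eq K S₀ S'
  have hkR : ((k * s' * k⁻¹ : K) : G) ∈ R := by
    rw [hS']
    refine ⟨k * s' * k⁻¹, ?_, rfl⟩
    rw [← hk]
    exact ⟨s', hS₀ (Subgroup.mem_zpowers s'), rfl⟩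
  obtain ⟨n, hn, hle⟩ := b.inT
  refine ⟨(k : G) * c₀⁻¹, mul_mem k.2.1 (inv_mem hc₀), ?_⟩
  have h5 : (k : G) * c₀⁻¹ * s * ((k : G) * c₀⁻¹)⁻¹ = ((k * s' * k⁻¹ : K) : G) := by
    simp [s', mul_assoc]
  rw [h5]
  refine ⟨?_, b.comp.base.sylow.le hkR⟩
  have h6 := hle (conj_mem_cj hkR)
  have h7 : n * ((k * s' * k⁻¹ : K) : G) * n⁻¹ =
      (n * k * c₀⁻¹ * g) * a * (n * k * c₀⁻¹ * g)⁻¹ := by
    simp [s', ← hg, mul_assoc]
  rw [h7] at h6
  have h8 := b.closed.closed.2 a ha _ h6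
  rw [← h7] at h8
  have := normalizer_conj (inv_mem hn) h8
  simpa [mul_assoc] using this

end BadData

namespace Anchor

theorem exists_conj_bad (h : Anchor T A M) {w : G} (hw : Bad M w) :
    ∃ k, Bad M (k * w * k⁻¹) ∧ k * w * k⁻¹ ∈ Subgroup.normalizer (A : Set G) := by
  haveI : Fact (Nat.Prime 2) := ⟨Nat.prime_two⟩
  obtain ⟨S, hS⟩ := (IsPGroup.of_card (G := Subgroup.zpowers w) (p := 2) (n := 1)
    (by rw [Nat.card_zpowers, pow_one, hw.invol])).exists_le_sylow
  obtain ⟨k, hk⟩ := MulAction.exists_smul_eq G S T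
  refine ⟨k, hw.conj k, h.closed.sylow_le ?_⟩
  rw [← hk]
  exact ⟨w, hS (Subgroup.mem_zpowers w), rfl⟩

theorem exists_moved (h : Anchor T A M) {t : G} (ht : t ≠ 1) : ∃ g, g⁻¹ * t * g ∉ M := by
  by_contra hc
  push Not at hc
  have hne : M.normalCore ≠ ⊤ := fun e => h.ne_top (top_le_iff.1 (e ▸ Subgroup.normalCore_le M))
  have hb := h.closed.hyp.eq_bot_of_normal inferInstance hne
  have : t ∈ M.normalCore := fun b => by simpa using hc b⁻¹
  rw [hb, Subgroup.mem_bot] at this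
  exact ht this

theorem swap_of_comm (h : Anchor T A M) {w t : G} (hw : Bad M w) (ht : orderOf t = 2)
    (htD : ¬ InD A t) (hc : t * w = w * t) {g : G} (hgw : g⁻¹ * w * g ∈ M)
    (hgt : g⁻¹ * t * g ∉ M) : ∃ s, InD A s ∧ t * s = s * t ∧ Bad M (t * s) := by
  obtain ⟨k, hkb, hkA⟩ := h.exists_conj_bad hw
  obtain ⟨R, L, q, Z, τ, b⟩ := h.exists_badData hkb hkA
  obtain ⟨s, hs, hcs, hbs⟩ := b.exists_mul_bad (t := k * t * k⁻¹) (g := k * g)
    ((orderOf_injective (MulAut.conj k).toMonoidHom (MulAut.conj k).injective t).trans ht)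
    (fun hD => htD (by have := hD.conj k⁻¹; simpa [mul_assoc] using this))
    (Subgroup.mem_centralizer_singleton_iff.2 (by
      calc k * t * k⁻¹ * (k * w * k⁻¹) = k * (t * w) * k⁻¹ := by group
        _ = _ := by rw [hc]; group))
    (by simpa [mul_assoc] using hgw) (by simpa [mul_assoc] using hgt)
  refine ⟨k⁻¹ * s * k⁻¹⁻¹, hs.conj _, ?_, ?_⟩
  · calc t * (k⁻¹ * s * k⁻¹⁻¹) = k⁻¹ * (k * t * k⁻¹ * s) * k := by group
      _ = _ := by rw [hcs]; group
  · have := hbs.conj k⁻¹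
    rwa [show k⁻¹ * (k * t * k⁻¹ * s) * k⁻¹⁻¹ = t * (k⁻¹ * s * k⁻¹⁻¹) by group] at this

theorem swap (h : Anchor T A M) {t : G} (ht : orderOf t = 2) (htD : ¬ InD A t) :
    ∃ s, InD A s ∧ t * s = s * t ∧ Bad M (t * s) := by
  have htt : t * t = 1 := by rw [← pow_two, ← ht, pow_orderOf_eq_one]
  have hti : t⁻¹ = t := inv_eq_of_mul_eq_one_right htt
  obtain ⟨g, hg⟩ := h.exists_moved (t := t) (fun e => by rw [e, orderOf_one] at ht; omega)
  obtain ⟨a, ha, ha1⟩ := A.bot_or_exists_ne_one.resolve_left h.closed.ne_bot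
  set d := g * a * g⁻¹ with hd
  have hdd : d * d = 1 := by
    rw [← pow_two, hd, conj_pow, pow_two, h.closed.sq ha, mul_one, mul_inv_cancel]
  have hd' : t * d * t = (t * g) * a * (t * g)⁻¹ := by
    rw [hd, mul_inv_rev, hti]; group
  rcases Nat.even_or_odd (orderOf (d * (t * d * t))) with hev | hodd
  · set x := d * (t * d * t) with hx
    obtain ⟨m, hm⟩ := hev
    have hpos := orderOf_pos x
    have hw2 : x ^ m * x ^ m = 1 := by rw [← pow_add, ← hm, pow_orderOf_eq_one]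
    have hwi : (x ^ m)⁻¹ = x ^ m := inv_eq_of_mul_eq_one_right hw2
    have hw1 : x ^ m ≠ 1 := fun e => by
      have := Nat.le_of_dvd (by omega) (orderOf_dvd_of_pow_eq_one e)
      omega
    have hdi : d⁻¹ = d := inv_eq_of_mul_eq_one_right hdd
    have hxi : x⁻¹ = t * d * t * d := inv_eq_of_mul_eq_one_right (by
      calc x * (t * d * t * d) = d * (t * (d * (t * t) * d) * t) * d := by rw [hx]; group
        _ = 1 := by rw [htt, mul_one, hdd, mul_one, htt, mul_one, hdd])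
    have hxd : d * x * d⁻¹ = x⁻¹ := by
      rw [hxi, hdi, hx]
      calc d * (d * (t * d * t)) * d = (d * d) * (t * d * t) * d := by group
        _ = _ := by rw [hdd]; group
    have hxt : t * x * t⁻¹ = x⁻¹ := by
      rw [hxi, hti, hx]
      calc t * (d * (t * d * t)) * t = (t * d * t) * d * (t * t) := by group
        _ = _ := by rw [htt]; group
    have hwd : x ^ m * d = d * x ^ m :=
      (commute_of_conj_eq (by rw [← conj_pow, hxd, inv_pow, hwi])).symm
    have hwt : t * x ^ m = x ^ m * t :=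
      commute_of_conj_eq (by rw [← conj_pow, hxt, inv_pow, hwi])
    have hwd' : x ^ m * (t * d * t) = t * d * t * x ^ m := by
      calc x ^ m * (t * d * t) = (x ^ m * t) * d * t := by group
        _ = t * (x ^ m * d) * t := by rw [← hwt]; group
        _ = t * d * (x ^ m * t) := by rw [hwd]; group
        _ = _ := by rw [← hwt]; group
    have h1 := h.fix_of_comm ha ha1 (g := g) (y := x ^ m) hwd
    have h2 := h.fix_of_comm ha ha1 (g := t * g) (y := x ^ m) (by rw [← hd']; exact hwd')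
    exact h.swap_of_comm ⟨orderOf_eq_prime (by rw [pow_two, hw2]) hw1, g, t * g,
      by simpa [mul_assoc] using hg, h1, h2⟩ ht htD hwt h1 hg
  · obtain ⟨e, -, hes, hsds⟩ := exists_mid hdd htt hodd
    set s := e * d * e⁻¹ with hs
    have hs' : s = (e * g) * a * (e * g)⁻¹ := by rw [hs, hd]; group
    have hss : s * s = 1 := by rw [← pow_two, hs, conj_pow, pow_two, hdd, mul_one, mul_inv_cancel]
    have hD : InD A s := ⟨a, ha, ha1, e * g, hs'.symm⟩
    refine ⟨s, hD, hes, orderOf_eq_prime ?_ ?_, g, e * g, ?_, ?_, ?_⟩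
    · rw [(show Commute t s from hes).mul_pow, pow_two, htt, one_mul, pow_two, hss]
    · intro e1
      rw [eq_inv_of_mul_eq_one_left e1, inv_eq_of_mul_eq_one_right hss] at htD
      exact htD hD
    · intro hmem
      apply hg
      have hsM : g⁻¹ * s * g ∈ M := by
        have := mul_mem (mul_mem hmem (h.a_le ha)) (inv_mem hmem)
        rw [hs']
        simpa [mul_assoc] using this
      refine h.point ha ha1 ?_
      have := mul_mem (mul_mem hsM (h.a_le ha)) hsM
      have h3 : g⁻¹ * s * g * a * (g⁻¹ * s * g) = g⁻¹ * (s * d * s) * g := by rw [hd]; group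
      rw [h3, hsds] at this
      rw [show (g⁻¹ * t * g)⁻¹ = g⁻¹ * t⁻¹ * g by group, hti]
      rw [show g⁻¹ * t * g * a * (g⁻¹ * t * g) = g⁻¹ * (t * d * t) * g by rw [hd]; group]
      exact this
    · refine h.fix_of_comm ha ha1 ?_
      rw [← hd]
      calc t * s * d = t * (s * d * s) * (s⁻¹) := by group
        _ = d * (t * s⁻¹) := by rw [hsds]; rw [← mul_assoc t, ← mul_assoc t, htt, one_mul, mul_assoc]
        _ = _ := by rw [inv_eq_of_mul_eq_one_right hss]
    · refine h.fix_of_comm ha ha1 ?_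
      rw [← hs', hes, mul_assoc, hes]

theorem swapFacts (h : Anchor T A M) (hb : ∃ u, Bad M u) : SwapFacts T A M := by
  have hmul : ∀ w : G, Bad M w → ∀ s : G, InD A s → w * s = s * w → Bad M (w * s) := by
    intro w hw s hs hc
    have hwD : ¬ InD A w := fun hD => hD.not_bad h hw
    obtain ⟨s₀, hs₀, hc₀, hb₀⟩ := h.swap hw.invol hwD
    obtain ⟨k, hkb, hkA⟩ := h.exists_conj_bad hw
    obtain ⟨R, L, q, Z, τ, b⟩ := h.exists_badData hkb hkA
    have hcomm : ∀ r : G, w * r = r * w →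
        k * w * k⁻¹ * (k * r * k⁻¹) = k * r * k⁻¹ * (k * w * k⁻¹) := fun r hr => by
      calc k * w * k⁻¹ * (k * r * k⁻¹) = k * (w * r) * k⁻¹ := by group
        _ = _ := by rw [hr]; group
    obtain ⟨c, hc1, hcA⟩ := b.exists_conj_inf (hs.conj k) (hcomm s hc)
    obtain ⟨c', hc1', hcA'⟩ := b.exists_conj_inf (hs₀.conj k) (hcomm s₀ hc₀)
    have hne : ∀ {r : G} (hr : InD A r) (z : G), z * r * z⁻¹ ≠ 1 := fun {r} hr z e => by
      have := (hr.conj z).invol h.closed
      rw [e, orderOf_one] at this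
      omega
    obtain ⟨t, ht, -, -, htc⟩ := b.exists_conj_F hcA' (hne (hs₀.conj k) c') hcA (hne (hs.conj k) c)
    set z := c⁻¹ * t * c'
    have hz : z ∈ Subgroup.centralizer ({k * w * k⁻¹} : Set G) :=
      mul_mem (mul_mem (inv_mem hc1) ht) hc1'
    have h1 : z * (k * s₀ * k⁻¹) * z⁻¹ = k * s * k⁻¹ := by
      calc z * (k * s₀ * k⁻¹) * z⁻¹ = c⁻¹ * (t * (c' * (k * s₀ * k⁻¹) * c'⁻¹) * t⁻¹) * c := by
            simp only [z]; group
        _ = _ := by rw [htc]; group
    have h2 := hb₀.conj (k⁻¹ * z * k)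
    have h3 := conj_eq_of_commute (Subgroup.mem_centralizer_singleton_iff.1 hz)
    have h4 : k⁻¹ * z * k * (w * s₀) * (k⁻¹ * z * k)⁻¹ = w * s := by
      calc k⁻¹ * z * k * (w * s₀) * (k⁻¹ * z * k)⁻¹
          = k⁻¹ * ((z * (k * w * k⁻¹) * z⁻¹) * (z * (k * s₀ * k⁻¹) * z⁻¹)) * k := by group
        _ = _ := by rw [h1, h3]; group
    rwa [h4] at h2
  refine ⟨hmul, fun u hu => ?_, ?_⟩
  · by_cases hD : InD A u
    · exact Or.inl hD
    obtain ⟨s, hs, hc, hbs⟩ := h.swap hu hD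
    have hss : s * s = 1 := by rw [← pow_two, ← hs.invol h.closed, pow_orderOf_eq_one]
    refine Or.inr ?_
    have := hmul _ hbs s hs (by rw [← mul_assoc, ← hc])
    rwa [mul_assoc, hss, mul_one] at this
  · rintro _ ⟨a, ha, -, g, rfl⟩ haT
    exact h.closed.closed.2 a ha g haT

end Anchor

end Cfsg.Agent.Lib.Thompson3Prime33
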