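import Cfsg.Agent.Lib.Thompson3Prime33.Semi
import Cfsg.Agent.Lib.Thompson3Prime33.Count
import Cfsg.Agent.Lib.Thompson3Prime33.Mono
import Cfsg.Agent.Lib.Thompson3Prime33.Plain
import Cfsg.Agent.Lib.Thompson3Prime33.Swap
import Cfsg.Agent.Lib.Thompson3Prime33.SzFacts
import Cfsg.Agent.Lib.Thompson3Prime33.Support
import Cfsg.Agent.Lib.Thompson3Prime33.SupportSz
import Cfsg.Agent.Lib.BenderOne.Final

/-!
# Assembly of the theorem on simple `3'`-groups

Owner: helper33.
-/

set_option autoImplicit false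
set_option linter.style.haveILetI false
set_option linter.unusedSectionVars false
set_option linter.unusedVariables false

namespace Cfsg.Agent.Lib.Thompson3Prime33

universe u

theorem deps : Deps.{u} :=
  ⟨szFacts, szExtTrivial, szExtInvol, fourFormula, fpfModuleBound, BenderOne.propPartOneFinal⟩

variable {G : Type u} [Group G] [Finite G]

/-- What the last three steps prove. -/
structure LastSteps (G : Type u) [Group G] [Finite G] : Prop where
  stable : ∀ {T : Sylow 2 G} {A M : Subgroup G} {q : ℕ} {u : G} {R : Subgroup G}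
    {L : Subgroup (CQ u)} {Z : Subgroup (↥L ⧸ Subgroup.center ↥L)}
    {τ : ↥L ⧸ Subgroup.center ↥L} {H : Subgroup (NX A)} {σ : NX A},
    Semi T A M q u R L Z τ H σ → Stable T A M q u R L Z τ H σ
  two : ∀ {T : Sylow 2 G} {A M : Subgroup G} {q : ℕ} {u : G} {R : Subgroup G}
    {L : Subgroup (CQ u)} {Z : Subgroup (↥L ⧸ Subgroup.center ↥L)}
    {τ : ↥L ⧸ Subgroup.center ↥L} {H : Subgroup (NX A)} {σ : NX A}
    (e : Stable T A M q u R L Z τ H σ), Nat.card e.toSemi.base.top.data.sPart ≤ 2 → False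
  big : ∀ {T : Sylow 2 G} {A M : Subgroup G} {q : ℕ} {u : G} {R : Subgroup G}
    {L : Subgroup (CQ u)} {Z : Subgroup (↥L ⧸ Subgroup.center ↥L)}
    {τ : ↥L ⧸ Subgroup.center ↥L} {H : Subgroup (NX A)} {σ : NX A}
    (e : Stable T A M q u R L Z τ H σ), 2 < Nat.card e.toSemi.base.top.data.sPart → False

theorem Hyp.suzuki_self (h : Hyp G) (hl : LastSteps G) : Cfsg.Lie.IsoSuzuki G := by
  obtain ⟨T, A, hC⟩ := h.exists_closed
  by_cases he : Effective T A
  · exact hC.suzuki_of_effective he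
  rcases hC.suzuki_or_final he (fun M hM hb => hM.swapFacts hb) with hS | ⟨M, hf⟩
  · exact hS
  exfalso
  obtain ⟨q, hc⟩ := hf.counted (hf.anchor.swapFacts hf.exists_bad)
  obtain ⟨u, R, L, Z, τ, ht⟩ := hc.exists_top
  obtain ⟨H, σ, e⟩ := ht.exists_tower.exists_endgame
  have hs := hl.stable e.exists_semi
  rcases le_or_gt (Nat.card hs.toSemi.base.top.data.sPart) 2 with hr | hr
  · exact hl.two hs hr
  · exact hl.big hs hr

theorem threePrimeSimple_of
    (hl : ∀ (G : Type u) [Group G] [Finite G], LastSteps G) : ThreePrimeSimple.{u} := by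
  suffices key : ∀ n : ℕ, ∀ (G : Type u) [Group G] [Finite G], Nat.card G = n → IsSimpleGroup G →
      (∃ a b : G, a * b ≠ b * a) → ¬ 3 ∣ Nat.card G → Cfsg.Lie.IsoSuzuki G from
    fun G _ _ => key _ G rfl
  intro n
  induction n using Nat.strong_induction_on with
  | _ n ih =>
    intro G _ _ hn hs hna h3
    exact (⟨deps, hs, hna, h3, fun X _ _ hX => ih _ (hn ▸ hX) X rfl⟩ : Hyp G).suzuki_self (hl G)

end Cfsg.Agent.Lib.Thompson3Prime33
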