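import Cfsg.Agent.Lib.Thompson3Prime33.Anchor

/-!
# The centraliser of a bad involution

A bad involution `u` normalising `A` has a unique component `L ≅ Sz(q)` in `C(u) / O(C(u))` not
centralised by `F = C_A(u)`; `F` is the centre of a Sylow subgroup of it and the stabiliser of a
point cuts it in a Borel subgroup.

Owner: helper33.
-/

set_option autoImplicit false
set_option linter.style.haveILetI false
set_option linter.unusedSectionVars false
set_option linter.unusedVariables false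

namespace Cfsg.Agent.Lib.Thompson3Prime33

universe u

variable {G : Type u} [Group G] [Finite G] {T : Sylow 2 G} {A M : Subgroup G}

theorem cj_inf_centralizer {n u : G} :
    cj n (Subgroup.centralizer ({u} : Set G)) = Subgroup.centralizer ({n * u * n⁻¹} : Set G) := by
  ext g
  rw [mem_cj, Subgroup.mem_centralizer_singleton_iff, Subgroup.mem_centralizer_singleton_iff]
  constructor <;> intro h
  · calc g * (n * u * n⁻¹) = n * (n⁻¹ * g * n * u) * n⁻¹ := by group
      _ = _ := by rw [h]; group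
  · calc n⁻¹ * g * n * u = n⁻¹ * (g * (n * u * n⁻¹)) * n := by group
      _ = _ := by rw [h]; group

/-- An involution is conjugate to one with a Sylow subgroup of its centraliser in `T`. -/
theorem exists_full (T : Sylow 2 G) (u : G) :
    ∃ g : G, CosetGraph.SylowIn.IsSylowIn 2
      ((T : Subgroup G) ⊓ Subgroup.centralizer ({g * u * g⁻¹} : Set G))
      (Subgroup.centralizer ({g * u * g⁻¹} : Set G)) := by
  haveI : Fact (Nat.Prime 2) := ⟨Nat.prime_two⟩
  obtain ⟨R, hR⟩ := CosetGraph.SylowIn.exists_isSylowIn (p := 2) (Subgroup.centralizer ({u} : Set G))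
  obtain ⟨S, hS⟩ := hR.isPGroup.exists_le_sylow
  obtain ⟨g, hg⟩ := MulAction.exists_smul_eq G S T
  refine ⟨g, inf_le_right, ?_⟩
  have h1 := hR.conj g
  rw [show (Subgroup.centralizer ({u} : Set G)).map (MulAut.conj g).toMonoidHom =
    Subgroup.centralizer ({g * u * g⁻¹} : Set G) from cj_inf_centralizer] at h1
  have h2 : R.map (MulAut.conj g).toMonoidHom ≤
      (T : Subgroup G) ⊓ Subgroup.centralizer ({g * u * g⁻¹} : Set G) := by
    refine le_inf ?_ h1.le
    rw [← hg]
    exact Subgroup.map_mono hS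
  refine le_antisymm ?_ (le_of_eq_of_le h1.card_eq.symm (Subgroup.card_le_of_le h2))
  obtain ⟨k, hk⟩ := IsPGroup.iff_card.1
    (T.2.to_le (inf_le_left :
      (T : Subgroup G) ⊓ Subgroup.centralizer ({g * u * g⁻¹} : Set G) ≤ (T : Subgroup G)))
  rw [hk]
  refine Nat.pow_le_pow_right two_pos ?_
  exact (Nat.Prime.pow_dvd_iff_le_factorization Nat.prime_two Nat.card_pos.ne').1
    (hk ▸ Subgroup.card_dvd_of_le inf_le_right)

/-- The data at a bad involution normalising `A`. -/
structure BadData (T : Sylow 2 G) (A M : Subgroup G) (u : G) (R : Subgroup G)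
    (L : Subgroup (CQ u)) (q : ℕ) (Z : Subgroup (↥L ⧸ Subgroup.center ↥L))
    (τ : ↥L ⧸ Subgroup.center ↥L) : Prop where
  anchor : Anchor T A M
  bad : Bad M u
  mem : u ∈ Subgroup.normalizer (A : Set G)
  inT : ∃ n ∈ Subgroup.normalizer (A : Set G), cj n R ≤ (T : Subgroup G)
  comp : CompData u R (A ⊓ Subgroup.centralizer ({u} : Set G)) L q Z τ
  le_lift : A ⊓ Subgroup.centralizer ({u} : Set G) ≤ lift u L
  simple : Subgroup.center ↥L = ⊥
  lift_not_le : ¬ lift u L ≤ M

theorem Anchor.core_le (h : Anchor T A M) {u : G} (hu : orderOf u = 2)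
    (huA : u ∈ Subgroup.normalizer (A : Set G)) : Cfsg.centralizerPPrimeCore 2 u ≤ M :=
  h.closed.odd_core_le hu huA fun a ha ha1 _ => inf_le_right.trans (h.cent a ha ha1)

theorem Anchor.normalizer_inf_le (h : Anchor T A M) {u : G}
    (hu : orderOf u = 2) (huA : u ∈ Subgroup.normalizer (A : Set G)) {g : G}
    (hg : g ∈ Subgroup.normalizer ((A ⊓ Subgroup.centralizer ({u} : Set G) : Subgroup G) : Set G)) :
    g ∈ M := by
  have huu : u * u = 1 := by rw [← pow_two, ← hu, pow_orderOf_eq_one]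
  obtain ⟨a, ha, ha1⟩ := (A ⊓ Subgroup.centralizer ({u} : Set G)).bot_or_exists_ne_one.resolve_left
    fun e => by
      have := h.closed.four_inf huu huA
      rw [e, Subgroup.card_bot] at this
      omega
  exact h.point ha.1 ha1 (h.a_le (normalizer_conj hg ha).1)

theorem Anchor.not_centralizer_le (h : Anchor T A M) {u : G} (hb : Bad M u) :
    ¬ Subgroup.centralizer ({u} : Set G) ≤ M := by
  intro hle
  obtain ⟨hu, g, g', hne, h1, h2⟩ := hb
  obtain ⟨k, hk, hku⟩ : ∃ k, k ∉ M ∧ k⁻¹ * u * k ∈ M := by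
    by_cases hg : g ∈ M
    · refine ⟨g', fun hg' => hne (mul_mem (inv_mem hg) hg'), h2⟩
    · exact ⟨g, hg, h1⟩
  have huu : u * u = 1 := by rw [← pow_two, ← hu, pow_orderOf_eq_one]
  obtain ⟨m, hm, hmT⟩ := h.exists_conj_mem hku (i := 1) (by
    rw [pow_one, pow_two, show k⁻¹ * u * k * (k⁻¹ * u * k) = k⁻¹ * (u * u) * k by group, huu,
      mul_one, inv_mul_cancel])
  have huu' : m * (k⁻¹ * u * k) * m⁻¹ * (m * (k⁻¹ * u * k) * m⁻¹) = 1 := by
    rw [show m * (k⁻¹ * u * k) * m⁻¹ * (m * (k⁻¹ * u * k) * m⁻¹) = m * k⁻¹ * (u * u) * (k * m⁻¹) by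
      group, huu]
    group
  obtain ⟨f, hf, hf1⟩ := (A ⊓ Subgroup.centralizer
      ({m * (k⁻¹ * u * k) * m⁻¹} : Set G)).bot_or_exists_ne_one.resolve_left fun e => by
    have := h.closed.four_inf huu' (h.closed.sylow_le hmT)
    rw [e, Subgroup.card_bot] at this
    omega
  have hcu : (k * m⁻¹) * f * (k * m⁻¹)⁻¹ ∈ Subgroup.centralizer ({u} : Set G) := by
    rw [Subgroup.mem_centralizer_singleton_iff]
    have h3 := Subgroup.mem_centralizer_singleton_iff.1 hf.2
    calc k * m⁻¹ * f * (k * m⁻¹)⁻¹ * u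
        = k * m⁻¹ * (f * (m * (k⁻¹ * u * k) * m⁻¹)) * (k * m⁻¹)⁻¹ := by group
      _ = _ := by rw [h3]; group
  have h4 := h.point hf.1 hf1 (hle hcu)
  exact hk (by simpa using mul_mem h4 hm)

/-- The data with a prescribed Sylow subgroup of the centraliser. -/
theorem Anchor.exists_badData_of (h : Anchor T A M) {u : G} (hb : Bad M u)
    (huA : u ∈ Subgroup.normalizer (A : Set G)) {R : Subgroup G}
    (hRS : CosetGraph.SylowIn.IsSylowIn 2 R (Subgroup.centralizer ({u} : Set G)))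
    {n : G} (hnA : n ∈ Subgroup.normalizer (A : Set G)) (hRn : cj n R ≤ (T : Subgroup G)) :
    ∃ L q Z τ, BadData T A M u R L q Z τ := by
  haveI : Fact (Nat.Prime 2) := ⟨Nat.prime_two⟩
  have hu := hb.invol
  have huu : u * u = 1 := by rw [← pow_two, ← hu, pow_orderOf_eq_one]
  have hRT : R ≤ cj n⁻¹ (T : Subgroup G) := fun r hr =>
    ⟨n * r * n⁻¹, hRn (conj_mem_cj hr), by simp [mul_assoc]⟩
  have hAT : A ≤ cj n⁻¹ (T : Subgroup G) := fun a ha =>
    ⟨n * a * n⁻¹, h.closed.le (normalizer_conj hnA ha), by simp [mul_assoc]⟩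
  have hT2 : IsPGroup 2 (cj n⁻¹ (T : Subgroup G)) := T.2.map _
  set F := A ⊓ Subgroup.centralizer ({u} : Set G) with hF
  have hFR : F ≤ R := by
    -- a `2`-subgroup of `C(u)` generated by `R` and `F`
    have hle : R ⊔ F ≤ Subgroup.centralizer ({u} : Set G) := sup_le hRS.le inf_le_right
    obtain ⟨j, hj⟩ := IsPGroup.iff_card.1
      (hT2.to_le (sup_le hRT (inf_le_left.trans hAT)) : IsPGroup 2 (R ⊔ F : Subgroup G))
    have : R ⊔ F = R := by
      refine (Subgroup.eq_of_le_of_card_ge le_sup_left ?_).symm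
      rw [hj, hRS.card_eq]
      exact Nat.pow_le_pow_right two_pos
        ((Nat.Prime.pow_dvd_iff_le_factorization Nat.prime_two Nat.card_pos.ne').1
          (hj ▸ Subgroup.card_dvd_of_le hle))
    exact le_sup_right.trans this.le
  have hloc : Loc u R F := ⟨hu, hRS, hFR, PGroups.elemAb_mono h.closed.elem inf_le_left,
    fun f hf g hg' hgf => ⟨h.closed.mem_of_two hT2 hAT hf.1 (hRT hgf),
      (Subgroup.centralizer ({u} : Set G)).mul_mem
        ((Subgroup.centralizer ({u} : Set G)).mul_mem hg' hf.2) (inv_mem hg')⟩⟩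
  have hcore := h.core_le hu huA
  set M' := (M.subgroupOf (Subgroup.centralizer ({u} : Set G))).map (cmap u) with hM'
  have hmem : ∀ g : ↥(Subgroup.centralizer ({u} : Set G)), cmap u g ∈ M' → (g : G) ∈ M := by
    rintro g ⟨k, hk, e⟩
    have h1 : ((g * k⁻¹ : ↥(Subgroup.centralizer ({u} : Set G))) : G) ∈ M :=
      hcore (cmap_eq_one.1 (by rw [map_mul, map_inv, e, mul_inv_cancel]))
    simpa using mul_mem h1 hk
  have hlift : ∀ L : Subgroup (CQ u), Cfsg.IsComponent L →
      F ⊓ lift u (Subgroup.centralizer (L : Set (CQ u))) ≠ ⊥ → L ≤ M' := by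
    intro L hL hne l hl
    obtain ⟨f, ⟨hfF, hfc⟩, hf1⟩ := (Subgroup.bot_or_exists_ne_one _).resolve_left hne
    obtain ⟨hfC, hfc'⟩ := mem_lift.1 hfc
    obtain ⟨k, rfl⟩ := cmap_surjective u l
    obtain ⟨o, ho, hok⟩ := exists_fix (E := Subgroup.zpowers f)
      ((PGroups.elemAb_isPGroup hloc.elem).to_le (Subgroup.zpowers_le.2 hfF))
      (Subgroup.zpowers_le.2 hfC) (g := k) (fun e he => by
        refine Subgroup.mem_centralizer_iff.1 ?_ _ hl
        obtain ⟨i, rfl⟩ := Subgroup.mem_zpowers_iff.1 he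
        rw [show (⟨f ^ i, Subgroup.zpowers_le.2 hfC he⟩ : ↥(Subgroup.centralizer ({u} : Set G))) =
          ⟨f, hfC⟩ ^ i from Subtype.ext (by simp), map_zpow]
        exact Subgroup.zpow_mem _ hfc' i)
    refine ⟨⟨o, Balance.centralizerPPrimeCore_le u ho⟩ * k, h.cent f hfF.1 hf1 ?_, by
      rw [map_mul, cmap_eq_one.2 ho, one_mul]⟩
    exact Subgroup.mem_centralizer_singleton_iff.2
      (Subgroup.mem_centralizer_iff.1 hok f (Subgroup.mem_zpowers f)).symm
  obtain ⟨L, hL, hLne⟩ : ∃ L : Subgroup (CQ u), Cfsg.IsComponent L ∧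
      F ⊓ lift u (Subgroup.centralizer (L : Set (CQ u))) = ⊥ := by
    by_contra hc
    push Not at hc
    refine h.not_centralizer_le hb fun g hg => ?_
    obtain ⟨e, k, hee, hk, hgk⟩ := hloc.decomp h.closed.hyp ⟨g, hg⟩
    rw [show g = (e : G) * k from congrArg Subtype.val hgk]
    exact mul_mem (hmem e (sSup_le (fun L hL => hlift L hL (hc L hL)) hee))
      (h.normalizer_inf_le hu huA hk)
  obtain ⟨a, ha, ha1⟩ := F.bot_or_exists_ne_one.resolve_left fun e => by
    have h4 : 4 ≤ Nat.card F := h.closed.four_inf huu huA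
    rw [e, Subgroup.card_bot] at h4
    omega
  obtain ⟨q, Z, τ, d⟩ := hloc.exists_compData h.closed.hyp hL fun hle => by
    refine ha1 (Subgroup.mem_bot.1 (hLne ▸ Subgroup.mem_inf.2 ⟨ha, ?_⟩))
    exact mem_lift.2 ⟨hloc.le_cent ha, hle ⟨⟨a, hloc.le_cent ha⟩, ha, rfl⟩⟩
  have hFL : F ≤ lift u L := fun f hf => by
    obtain ⟨l, hl, c, hc, rfl⟩ := d.exists_decomp hf
    rw [Subgroup.mem_bot.1 (hLne ▸ hc : c ∈ (⊥ : Subgroup G)), mul_one]
    exact hl.2
  refine ⟨L, q, Z, τ, h, hb, huA, ⟨n, hnA, hRn⟩, d, hFL, ?_, ?_⟩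
  · refine d.center_eq_bot fun r hr hrL f hf hfL => ?_
    have hrfr : r * f * r⁻¹ ∈ F := hloc.closed f hf r (hRS.le hr)
      (mul_mem (mul_mem hr (hloc.le hf)) (inv_mem hr))
    have hcomm : f⁻¹ * (r * f * r⁻¹) = 1 := by
      refine Subgroup.mem_bot.1 (hLne ▸ Subgroup.mem_inf.2 ⟨F.mul_mem (F.inv_mem hf) hrfr, ?_⟩)
      set g : ↥(lift u L) := ⟨f, hfL⟩
      set k : ↥(lift u L) := ⟨r, hrL⟩
      have h1 : lmap u L (g⁻¹ * (k * g * k⁻¹)) = 1 := by
        have hc' := d.loc.central _ (d.lmap_mem_Z (g := g) hf) _ (d.lmap_mem_pbar (g := k) hr)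
        rw [map_mul, map_mul, map_mul, map_inv, map_inv, ← hc', mul_inv_cancel_right,
          inv_mul_cancel]
      exact mem_lift.2 ⟨_, d.cmap_cent_of_lmap_one h1⟩
    exact commute_of_conj_eq (inv_mul_eq_one.1 hcomm).symm
  · intro hle
    refine h.not_centralizer_le hb fun g hg => ?_
    obtain ⟨e, k, hee, hk, hgk⟩ := hloc.decomp h.closed.hyp ⟨g, hg⟩
    rw [show g = (e : G) * k from congrArg Subtype.val hgk]
    have hlay : Cfsg.layer (CQ u) ≤ M' := sSup_le fun L' hL' => ?_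
    · exact mul_mem (hmem e (hlay hee)) (h.normalizer_inf_le hu huA hk)
    by_cases hLL : L' = L
    · subst hLL
      intro l hl
      obtain ⟨k, rfl⟩ := cmap_surjective u l
      exact ⟨k, hle (mem_lift_coe.2 hl), rfl⟩
    · refine hlift L' hL' fun e0 => ha1 (Subgroup.mem_bot.1 (e0 ▸ Subgroup.mem_inf.2 ⟨ha, ?_⟩))
      exact mem_lift.2 ⟨hloc.le_cent ha, Components.Component.le_centralizer_of_ne hL hL'
        (Ne.symm hLL) ((mem_lift_coe (g := ⟨a, hloc.le_cent ha⟩)).1 (hFL ha))⟩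


theorem Anchor.exists_badData (h : Anchor T A M) {u : G} (hb : Bad M u)
    (huA : u ∈ Subgroup.normalizer (A : Set G)) :
    ∃ R L q Z τ, BadData T A M u R L q Z τ := by
  haveI : Fact (Nat.Prime 2) := ⟨Nat.prime_two⟩
  have hu := hb.invol
  have huu : u * u = 1 := by rw [← pow_two, ← hu, pow_orderOf_eq_one]
  obtain ⟨n₁, hn₁, hn₁T⟩ := h.closed.exists_conj_mem huA (i := 1) (by rw [pow_one, pow_two, huu])
  obtain ⟨g, hg⟩ := exists_full T (n₁ * u * n₁⁻¹)
  obtain ⟨n₂, hn₂, he⟩ := h.closed.control_one hn₁T (g := g)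
    (show g * (n₁ * u * n₁⁻¹) * g⁻¹ ∈ (T : Subgroup G) by
      obtain ⟨k, hk⟩ := IsPGroup.iff_card.1 hg.isPGroup
      set v := g * (n₁ * u * n₁⁻¹) * g⁻¹ with hv
      have hvv : v * v = 1 := by
        rw [hv, show g * (n₁ * u * n₁⁻¹) * g⁻¹ * (g * (n₁ * u * n₁⁻¹) * g⁻¹) =
          g * n₁ * (u * u) * (g * n₁)⁻¹ by group, huu]
        group
      set R := (T : Subgroup G) ⊓ Subgroup.centralizer ({v} : Set G)
      have hRv : IsPGroup 2 (R ⊔ Subgroup.zpowers v : Subgroup G) := by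
        refine hg.isPGroup.to_sup_of_normal_right' ?_ ?_
        · obtain ⟨j, -, hj⟩ := (Nat.dvd_prime_pow Nat.prime_two).1
            (orderOf_dvd_of_pow_eq_one (x := v) (n := 2 ^ 1) (by rw [pow_one, pow_two, hvv]))
          exact IsPGroup.of_card (n := j) (by rw [Nat.card_zpowers, hj])
        · intro r hr
          refine Subgroup.centralizer_le_normalizer _ ?_
          rw [Subgroup.zpowers_eq_closure, Subgroup.centralizer_closure]
          exact hr.2
      obtain ⟨j, hj⟩ := IsPGroup.iff_card.1 hRv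
      have hle : R ⊔ Subgroup.zpowers v ≤ Subgroup.centralizer ({v} : Set G) :=
        sup_le inf_le_right (Subgroup.zpowers_le.2 (Subgroup.mem_centralizer_singleton_iff.2 rfl))
      have : R ⊔ Subgroup.zpowers v = R := by
        refine (Subgroup.eq_of_le_of_card_ge le_sup_left ?_).symm
        rw [hj, hg.card_eq]
        exact Nat.pow_le_pow_right two_pos
          ((Nat.Prime.pow_dvd_iff_le_factorization Nat.prime_two Nat.card_pos.ne').1
            (hj ▸ Subgroup.card_dvd_of_le hle))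
      exact ((le_sup_right.trans this.le) (Subgroup.mem_zpowers v)).1)
  rw [he] at hg
  set n := n₂ * n₁ with hn
  have hnA : n ∈ Subgroup.normalizer (A : Set G) := mul_mem hn₂ hn₁
  have hnu : n₂ * (n₁ * u * n₁⁻¹) * n₂⁻¹ = n * u * n⁻¹ := by rw [hn]; group
  rw [hnu] at hg
  set R := cj n⁻¹ ((T : Subgroup G) ⊓ Subgroup.centralizer ({n * u * n⁻¹} : Set G)) with hR
  have hRS : CosetGraph.SylowIn.IsSylowIn 2 R (Subgroup.centralizer ({u} : Set G)) := by
    have h1 := hg.conj n⁻¹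
    rwa [show (Subgroup.centralizer ({n * u * n⁻¹} : Set G)).map (MulAut.conj n⁻¹).toMonoidHom =
      Subgroup.centralizer ({u} : Set G) from by
        rw [← cj_inf_centralizer, ← cj, cj_cj, inv_mul_cancel, cj, map_one]
        exact Subgroup.map_id _] at h1
  obtain ⟨L, q, Z, τ, hd⟩ := h.exists_badData_of hb huA hRS hnA (by
    rw [hR, cj_cj, mul_inv_cancel, cj, map_one]
    exact (Subgroup.map_id _).le.trans inf_le_left)
  exact ⟨R, L, q, Z, τ, hd⟩

end Cfsg.Agent.Lib.Thompson3Prime33
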