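import Cfsg.Agent.Lib.Thompson3Prime33.Ctx
import Cfsg.Agent.Lib.PGroups.Automorphism
import Cfsg.Agent.Lib.SFourFree.Locals
import Cfsg.Agent.Lib.ZStar.UniqueCase
import Cfsg.Agent.S2796

/-!
# The strongly closed elementary abelian subgroup

`Closed G T A`: `A` is a minimal non-trivial strongly closed subgroup of the Sylow `2`-subgroup `T`
inside the subgroup of the theorem on groups without a section isomorphic to the symmetric group of
degree four.  It controls strong fusion, its normaliser acts irreducibly on it, it has order at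
least eight and its normaliser has no subgroup of index two.

Owner: helper33.
-/

set_option autoImplicit false
set_option linter.style.haveILetI false
set_option linter.unusedSectionVars false

open scoped commutatorElement
open Cfsg.Agent.Lib.Involutions Cfsg.Agent.Lib.Involutions.Basic

namespace Cfsg.Agent.Lib.Thompson3Prime33

universe u

variable {G : Type u} [Group G] [Finite G]

/-- The conjugate of a subgroup. -/
abbrev cj (g : G) (E : Subgroup G) : Subgroup G := E.map (MulAut.conj g).toMonoidHom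

theorem mem_cj {g : G} {E : Subgroup G} {x : G} : x ∈ cj g E ↔ g⁻¹ * x * g ∈ E := by
  constructor
  · rintro ⟨y, hy, rfl⟩
    simpa [mul_assoc] using hy
  · exact fun h => ⟨g⁻¹ * x * g, h, by simp [mul_assoc]⟩

theorem conj_mem_cj {g : G} {E : Subgroup G} {x : G} (h : x ∈ E) : g * x * g⁻¹ ∈ cj g E := ⟨x, h, rfl⟩

theorem cj_cj (g k : G) (E : Subgroup G) : cj g (cj k E) = cj (g * k) E := by
  rw [cj, cj, cj, Subgroup.map_map]
  congr 1
  ext x; simp [mul_assoc]

theorem card_cj (g : G) (E : Subgroup G) : Nat.card (cj g E) = Nat.card E :=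
  Subgroup.card_map_of_injective (MulAut.conj g).injective

theorem cj_mono {g : G} {E F : Subgroup G} (h : E ≤ F) : cj g E ≤ cj g F := Subgroup.map_mono h

theorem mem_normalizer_of_cj_le {g : G} {E : Subgroup G} (h : cj g E ≤ E) :
    g ∈ Subgroup.normalizer (E : Set G) := by
  rw [Subgroup.mem_normalizer_iff_map_conj_eq]
  exact Subgroup.eq_of_le_of_card_ge h (card_cj g E).ge

theorem mem_normalizer_of_conj_mem {g : G} {E : Subgroup G} (h : ∀ x ∈ E, g * x * g⁻¹ ∈ E) :
    g ∈ Subgroup.normalizer (E : Set G) :=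
  mem_normalizer_of_cj_le (by rintro _ ⟨x, hx, rfl⟩; exact h x hx)

theorem normalizer_conj {g : G} {E : Subgroup G} (h : g ∈ Subgroup.normalizer (E : Set G)) {x : G}
    (hx : x ∈ E) : g * x * g⁻¹ ∈ E :=
  (Subgroup.mem_normalizer_iff.1 h x).1 hx

theorem commute_of_conj_eq {g x : G} (h : g * x * g⁻¹ = x) : g * x = x * g :=
  mul_inv_eq_iff_eq_mul.1 h

theorem conj_eq_of_commute {g x : G} (h : g * x = x * g) : g * x * g⁻¹ = x :=
  mul_inv_eq_iff_eq_mul.2 h

/-- A `2`-group of automorphisms of a non-trivial elementary abelian `2`-group fixes a non-trivial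
element. -/
theorem exists_fixed {A K : Subgroup G} (hA : Cfsg.IsElementaryAbelian 2 A) (hne : A ≠ ⊥)
    (hK : K ≤ Subgroup.normalizer (A : Set G))
    (h2 : ∀ k ∈ K, ∃ i : ℕ, ∀ a ∈ A, k ^ (2 ^ i) * a = a * k ^ (2 ^ i)) :
    ∃ a ∈ A, a ≠ 1 ∧ ∀ k ∈ K, k * a * k⁻¹ = a := by
  haveI : Fact (Nat.Prime 2) := ⟨Nat.prime_two⟩
  set φ : K →* MulAut A := (A.normalizerMonoidHom).comp (Subgroup.inclusion hK) with hφ
  have happ : ∀ (k : K) (a : A), ((φ k a : A) : G) = (k : G) * a * (k : G)⁻¹ := fun k a => rfl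
  have hp : IsPGroup 2 φ.range := by
    rintro ⟨_, k, rfl⟩
    obtain ⟨i, hi⟩ := h2 k k.2
    refine ⟨i, Subtype.ext ?_⟩
    show (φ k) ^ 2 ^ i = 1
    rw [← map_pow]
    refine MulEquiv.ext fun a => Subtype.ext ?_
    rw [happ, MulAut.one_apply]
    exact conj_eq_of_commute (by simpa using hi a a.2)
  have hdvd : 2 ∣ Nat.card A := by
    obtain ⟨a, ha, ha1⟩ := A.bot_or_exists_ne_one.resolve_left hne
    rw [← PGroups.elemAb_orderOf hA ha ha1, ← Subgroup.orderOf_mk a ha]
    exact orderOf_dvd_natCard _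
  obtain ⟨b, hb, hb1⟩ := hp.exists_fixed_point_of_prime_dvd_card_of_fixed_point (α := A) hdvd
    (a := 1) (fun f => map_one (f : MulAut A))
  refine ⟨b, b.2, fun e => hb1 (Subtype.ext e.symm), fun k hk => ?_⟩
  exact congrArg Subtype.val (hb ⟨φ ⟨k, hk⟩, ⟨k, hk⟩, rfl⟩)

/-- The standing data of the proof. -/
structure Closed (G : Type u) [Group G] [Finite G] (T : Sylow 2 G) (A : Subgroup G) : Prop where
  hyp : Hyp G
  elem : Cfsg.IsElementaryAbelian 2 A
  closed : Cfsg.IsStronglyClosed A (T : Subgroup G)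
  ne_bot : A ≠ ⊥
  min : ∀ B ≤ A, B ≠ ⊥ → Cfsg.IsStronglyClosed B (T : Subgroup G) → B = A

theorem Hyp.exists_closed (h : Hyp G) : ∃ T A, Closed G T A := by
  classical
  haveI : Fact (Nat.Prime 2) := ⟨Nat.prime_two⟩
  obtain ⟨T⟩ := (inferInstance : Nonempty (Sylow 2 G))
  set N := Subgroup.normalizer (Cfsg.thompsonSubgroupOf 2 (T : Subgroup G) : Set G) with hN
  set Z := Cfsg.omegaOne 2 ((T : Subgroup G) ⊓ Subgroup.centralizer ((T : Subgroup G) : Set G))
  set A := (Subgroup.normalClosure ((Z.subgroupOf N : Subgroup ↥N) : Set ↥N)).map N.subtype with hA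
  obtain ⟨hAT, hel, hsc, -⟩ := Cfsg.Agent.S2796.result h.not_involves_four
    (fun K R hR hc => @Hyp.sections G _ _ h K R hR hc) T N rfl A hA
  have hTne : (T : Subgroup G) ≠ ⊥ := T.ne_bot_of_dvd_card h.even
  have hZne : Z ≠ ⊥ := SFourFree.omegaCenterOf_ne_bot T.2 hTne
  have hAne : A ≠ ⊥ := by
    obtain ⟨z, hzZ, hz1⟩ := Z.bot_or_exists_ne_one.resolve_left hZne
    intro e
    refine hz1 (Subgroup.mem_bot.1 (e ▸ ?_))
    have hzT : z ∈ (T : Subgroup G) := (PGroups.omegaOne_le 2 _ hzZ).1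
    exact ⟨⟨z, PGroups.normalizer_le_normalizer_thompson (T : Subgroup G)
      (Subgroup.le_normalizer hzT)⟩, Subgroup.subset_normalClosure (Subgroup.mem_subgroupOf.2 hzZ), rfl⟩
  obtain ⟨B, ⟨hBA, hB0, hBc⟩, hmin⟩ := (wellFounded_lt (α := Subgroup G)).has_min
    {B : Subgroup G | B ≤ A ∧ B ≠ ⊥ ∧ Cfsg.IsStronglyClosed B (T : Subgroup G)}
    ⟨A, le_rfl, hAne, hsc⟩
  refine ⟨T, B, h, PGroups.elemAb_mono hel hBA, hBc, hB0, fun C hC hC0 hCc => ?_⟩
  rcases hC.eq_or_lt with e | hlt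
  · exact e
  · exact absurd hlt (hmin C ⟨hC.trans hBA, hC0, hCc⟩)

namespace Closed

variable {T : Sylow 2 G} {A : Subgroup G}

theorem le (h : Closed G T A) : A ≤ (T : Subgroup G) := h.closed.1

theorem comm (h : Closed G T A) {a b : G} (ha : a ∈ A) (hb : b ∈ A) : a * b = b * a :=
  PGroups.elemAb_comm h.elem ha hb

theorem sq (h : Closed G T A) {a : G} (ha : a ∈ A) : a * a = 1 := by
  rw [← pow_two]; exact h.elem.2 a ha

theorem inv_eq (h : Closed G T A) {a : G} (ha : a ∈ A) : a⁻¹ = a :=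
  inv_eq_of_mul_eq_one_right (h.sq ha)

theorem order_two (h : Closed G T A) {a : G} (ha : a ∈ A) (ha1 : a ≠ 1) : orderOf a = 2 :=
  PGroups.elemAb_orderOf h.elem ha ha1

theorem isPGroup (h : Closed G T A) : IsPGroup 2 A := PGroups.elemAb_isPGroup h.elem

theorem le_centralizer (h : Closed G T A) : A ≤ Subgroup.centralizer (A : Set G) :=
  fun _ ha => Subgroup.mem_centralizer_iff.2 fun _ hb => h.comm hb ha

theorem sylow_le (h : Closed G T A) : (T : Subgroup G) ≤ Subgroup.normalizer (A : Set G) :=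
  fun s hs => mem_normalizer_of_conj_mem fun a ha =>
    h.closed.2 a ha s (mul_mem (mul_mem hs (h.le ha)) (inv_mem hs))

/-- `A` controls strong fusion. -/
theorem control (h : Closed G T A) {U : Set G} (hU : U ⊆ (T : Subgroup G)) {g : G}
    (hg : ∀ x ∈ U, g * x * g⁻¹ ∈ (T : Subgroup G)) :
    ∃ n ∈ Subgroup.normalizer (A : Set G), ∀ x ∈ U, g * x * g⁻¹ = n * x * n⁻¹ := by
  haveI : Fact (Nat.Prime 2) := ⟨Nat.prime_two⟩
  obtain ⟨n, hn, he⟩ := S2791.good_of_le A h.elem.1 T h.closed (Subgroup.closure U) g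
    ((Subgroup.closure_le _).2 hU) (by
      show (Subgroup.closure U).map (MulAut.conj g).toMonoidHom ≤ (T : Subgroup G)
      rw [MonoidHom.map_closure, Subgroup.closure_le]
      rintro _ ⟨x, hx, rfl⟩
      exact hg x hx)
  exact ⟨n, hn, fun x hx => he x (Subgroup.subset_closure hx)⟩

theorem control_one (h : Closed G T A) {x g : G} (hx : x ∈ (T : Subgroup G))
    (hg : g * x * g⁻¹ ∈ (T : Subgroup G)) :
    ∃ n ∈ Subgroup.normalizer (A : Set G), g * x * g⁻¹ = n * x * n⁻¹ := by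
  obtain ⟨n, hn, he⟩ := h.control (U := {x}) (Set.singleton_subset_iff.2 hx) (g := g)
    (fun y hy => by rw [Set.mem_singleton_iff.1 hy]; exact hg)
  exact ⟨n, hn, he x rfl⟩

/-- A `2`-subgroup of the normaliser of `A` is conjugate there into `T`. -/
theorem exists_conj_le (h : Closed G T A) {U : Subgroup G} (hU : IsPGroup 2 U)
    (hle : U ≤ Subgroup.normalizer (A : Set G)) :
    ∃ n ∈ Subgroup.normalizer (A : Set G), cj n U ≤ (T : Subgroup G) := by
  haveI : Fact (Nat.Prime 2) := ⟨Nat.prime_two⟩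
  set N := Subgroup.normalizer (A : Set G)
  obtain ⟨S, hS⟩ := (hU.comap_subtype (K := N)).exists_le_sylow
  obtain ⟨k, hk⟩ := MulAction.exists_smul_eq N S (T.subtype h.sylow_le)
  refine ⟨k, k.2, ?_⟩
  rintro _ ⟨x, hx, rfl⟩
  have h1 : (MulAut.conj k) ⟨x, hle hx⟩ ∈ ((k • S : Sylow 2 N) : Subgroup N) :=
    ⟨⟨x, hle hx⟩, hS hx, rfl⟩
  rw [hk, Sylow.coe_subtype, Subgroup.mem_subgroupOf] at h1
  exact h1

theorem exists_conj_mem (h : Closed G T A) {x : G} (hx : x ∈ Subgroup.normalizer (A : Set G))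
    {i : ℕ} (h2 : x ^ 2 ^ i = 1) :
    ∃ n ∈ Subgroup.normalizer (A : Set G), n * x * n⁻¹ ∈ (T : Subgroup G) := by
  haveI : Fact (Nat.Prime 2) := ⟨Nat.prime_two⟩
  obtain ⟨n, hn, hle⟩ := h.exists_conj_le (U := Subgroup.zpowers x)
    (by
      obtain ⟨j, -, hj⟩ := (Nat.dvd_prime_pow Nat.prime_two).1 (orderOf_dvd_of_pow_eq_one h2)
      exact IsPGroup.of_card (n := j) (by rw [Nat.card_zpowers, hj]))
    (Subgroup.zpowers_le.2 hx)
  exact ⟨n, hn, hle (conj_mem_cj (Subgroup.mem_zpowers x))⟩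

/-- If `A` lies in a conjugate of `T` the conjugating element normalises it. -/
theorem mem_normalizer_of_le (h : Closed G T A) {g : G}
    (hg : ∀ a ∈ A, g * a * g⁻¹ ∈ (T : Subgroup G)) : g ∈ Subgroup.normalizer (A : Set G) :=
  mem_normalizer_of_conj_mem fun a ha => h.closed.2 a ha g (hg a ha)

/-- A `2`-subgroup containing `A` normalises it. -/
theorem le_normalizer_of_two (h : Closed G T A) {R : Subgroup G} (hR : IsPGroup 2 R) (hAR : A ≤ R) :
    R ≤ Subgroup.normalizer (A : Set G) := by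
  haveI : Fact (Nat.Prime 2) := ⟨Nat.prime_two⟩
  obtain ⟨S, hS⟩ := hR.exists_le_sylow
  obtain ⟨g, hg⟩ := MulAction.exists_smul_eq G S T
  have hgT : ∀ x ∈ R, g * x * g⁻¹ ∈ (T : Subgroup G) := fun x hx => by
    rw [← hg]; exact ⟨x, hS hx, rfl⟩
  have hgN := h.mem_normalizer_of_le fun a ha => hgT a (hAR ha)
  intro x hx
  have := mul_mem (mul_mem (inv_mem hgN) (h.sylow_le (hgT x hx))) hgN
  simpa [mul_assoc] using this

/-- `A` is strongly closed in every `2`-subgroup containing it. -/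
theorem mem_of_two (h : Closed G T A) {R : Subgroup G} (hR : IsPGroup 2 R) (hAR : A ≤ R) {a g : G}
    (ha : a ∈ A) (hg : g * a * g⁻¹ ∈ R) : g * a * g⁻¹ ∈ A := by
  obtain ⟨n, hn, hle⟩ := h.exists_conj_le hR (h.le_normalizer_of_two hR hAR)
  have h1 : n * g * a * (n * g)⁻¹ ∈ (T : Subgroup G) := by
    have := hle (conj_mem_cj (g := n) hg)
    simpa [mul_assoc] using this
  have h2 := normalizer_conj (inv_mem hn) (h.closed.2 a ha _ h1)
  simpa [mul_assoc] using h2

/-- The normaliser of `A` acts irreducibly. -/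
theorem eq_of_invariant (h : Closed G T A) {B : Subgroup G} (hB : B ≤ A) (hne : B ≠ ⊥)
    (hinv : ∀ n ∈ Subgroup.normalizer (A : Set G), ∀ b ∈ B, n * b * n⁻¹ ∈ B) : B = A := by
  refine h.min B hB hne ⟨hB.trans h.le, fun x hx g hg => ?_⟩
  obtain ⟨n, hn, he⟩ := h.control_one (h.le (hB hx)) hg
  rw [he]
  exact hinv n hn x hx

/-- The automiser of `A` has no non-trivial normal `2`-subgroup. -/
theorem le_centralizer_of_two (h : Closed G T A) {K : Subgroup G}
    (hK : K ≤ Subgroup.normalizer (A : Set G))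
    (hinv : ∀ n ∈ Subgroup.normalizer (A : Set G), ∀ k ∈ K, n * k * n⁻¹ ∈ K)
    (h2 : ∀ k ∈ K, ∃ i : ℕ, ∀ a ∈ A, k ^ (2 ^ i) * a = a * k ^ (2 ^ i)) :
    K ≤ Subgroup.centralizer (A : Set G) := by
  obtain ⟨a, ha, ha1, hfix⟩ := exists_fixed h.elem h.ne_bot hK h2
  have hB : A ⊓ Subgroup.centralizer (K : Set G) = A := by
    refine h.eq_of_invariant inf_le_left ?_ fun n hn b hb => ⟨normalizer_conj hn hb.1, ?_⟩
    · intro e
      exact ha1 (Subgroup.mem_bot.1 (e ▸ ⟨ha, Subgroup.mem_centralizer_iff.2 fun k hk =>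
        commute_of_conj_eq (hfix k hk)⟩))
    · refine Subgroup.mem_centralizer_iff.2 fun k hk => ?_
      have h1 := Subgroup.mem_centralizer_iff.1 hb.2 _ (hinv n⁻¹ (inv_mem hn) k hk)
      calc k * (n * b * n⁻¹) = n * (n⁻¹ * k * n⁻¹⁻¹ * b) * n⁻¹ := by group
        _ = n * (b * (n⁻¹ * k * n⁻¹⁻¹)) * n⁻¹ := by rw [h1]
        _ = n * b * n⁻¹ * k := by group
  intro k hk
  refine Subgroup.mem_centralizer_iff.2 fun b hb => ?_
  exact (Subgroup.mem_centralizer_iff.1 (hB.symm ▸ hb : b ∈ A ⊓ _).2 k hk).symm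

/-- The normaliser of `A` has no normal subgroup of index two. -/
theorem relIndex_ne_two (h : Closed G T A) {K : Subgroup G}
    (hn : (K.subgroupOf (Subgroup.normalizer (A : Set G))).Normal) :
    K.relIndex (Subgroup.normalizer (A : Set G)) ≠ 2 := by
  haveI : Fact (Nat.Prime 2) := ⟨Nat.prime_two⟩
  set N := Subgroup.normalizer (A : Set G) with hN
  intro h2
  haveI := hn
  have hcm : ∀ x ∈ N, ∀ y ∈ N, x * y * x⁻¹ * y⁻¹ ∈ K := by
    intro x hx y hy
    have hc2 : Nat.card (N ⧸ K.subgroupOf N) = 2 := h2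
    haveI : IsCyclic (N ⧸ K.subgroupOf N) := isCyclic_of_prime_card hc2
    have := (IsCyclic.isMulCommutative (α := N ⧸ K.subgroupOf N)).is_comm.comm
      ((⟨x, hx⟩ : N) : N ⧸ K.subgroupOf N) ((⟨y, hy⟩ : N) : N ⧸ K.subgroupOf N)
    have h3 : (((⟨x, hx⟩ : N) * ⟨y, hy⟩ * (⟨x, hx⟩ : N)⁻¹ * (⟨y, hy⟩ : N)⁻¹ : N) :
        N ⧸ K.subgroupOf N) = 1 := by
      simp only [QuotientGroup.mk_mul, QuotientGroup.mk_inv]
      rw [this]; group
    exact Subgroup.mem_subgroupOf.1 ((QuotientGroup.eq_one_iff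
      ((⟨x, hx⟩ : N) * ⟨y, hy⟩ * (⟨x, hx⟩ : N)⁻¹ * (⟨y, hy⟩ : N)⁻¹)).1 h3)
  have hTK : (T : Subgroup G) ≤ K := by
    have hf : (T : Subgroup G).focalSubgroup = (T : Subgroup G) := by
      rw [← Subgroup.commutator_inf_eq_focalSubgroup T, h.hyp.commutator_eq_top, top_inf_eq]
    rw [← hf, Subgroup.focalSubgroup_def, Subgroup.closure_le]
    rintro g ⟨hg, x, hx, u, rfl⟩
    rw [commutatorElement_def] at hg ⊢
    have h1 : u * x * u⁻¹ ∈ (T : Subgroup G) := by
      have := inv_mem (mul_mem (inv_mem hx) hg)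
      simpa [mul_assoc] using this
    obtain ⟨n, hn', he⟩ := h.control_one hx h1
    have := hcm x (h.sylow_le hx) n hn'
    have e : x * u * x⁻¹ * u⁻¹ = x * n * x⁻¹ * n⁻¹ := by
      have h2 := congrArg (fun w => x * w⁻¹) he
      simpa [mul_assoc] using h2
    rw [e]
    exact this
  have h3 : K.relIndex N ∣ (T : Subgroup G).relIndex N := Subgroup.relIndex_dvd_of_le_left N hTK
  rw [h2] at h3
  exact T.not_dvd_index (h3.trans (Subgroup.relIndex_dvd_index_of_le h.sylow_le))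

/-- `A` has order at least eight. -/
theorem eight (h : Closed G T A) : 8 ≤ Nat.card A := by
  haveI : Fact (Nat.Prime 2) := ⟨Nat.prime_two⟩
  by_contra hlt
  obtain ⟨k, hk⟩ := IsPGroup.iff_card.1 h.isPGroup
  have hle4 : Nat.card A ≤ 4 := by
    rw [hk] at hlt ⊢
    rcases k with _ | _ | _ | k
    · norm_num
    · norm_num
    · norm_num
    · exact absurd (by
        calc 8 = 2 ^ 3 := rfl
          _ ≤ 2 ^ (k + 1 + 1 + 1) := Nat.pow_le_pow_right (by norm_num) (by omega)) hlt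
  set N := Subgroup.normalizer (A : Set G) with hN
  obtain ⟨z, hzA, hz1, hzT⟩ := exists_fixed h.elem h.ne_bot h.sylow_le fun s hs => by
    obtain ⟨i, hi⟩ := T.2 ⟨s, hs⟩
    exact ⟨i, fun a _ => by
      rw [show s ^ 2 ^ i = 1 from congrArg Subtype.val hi, one_mul, mul_one]⟩
  set C := (Subgroup.centralizer ({z} : Set G)).subgroupOf N
  have hidx : C.index = 1 := by
    by_contra hne
    obtain ⟨q, hq, hqd⟩ := Nat.exists_prime_and_dvd hne
    haveI := Fact.mk hq
    obtain ⟨Q⟩ := (inferInstance : Nonempty (Sylow q N))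
    by_cases hq2 : q = 2
    · subst hq2
      have h1 : ((T : Subgroup G).subgroupOf N).index ∣ (T : Subgroup G).index :=
        Subgroup.relIndex_dvd_index_of_le h.sylow_le
      have h2 : C.index ∣ ((T : Subgroup G).subgroupOf N).index :=
        Subgroup.index_dvd_of_le (Subgroup.comap_mono fun s hs =>
          Subgroup.mem_centralizer_singleton_iff.2 (commute_of_conj_eq (hzT s hs)))
      exact T.not_dvd_index (hqd.trans (h2.trans h1))
    · refine Q.not_dvd_index (hqd.trans (Subgroup.index_dvd_of_le fun y hy => ?_))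
      rw [Subgroup.mem_subgroupOf, Subgroup.mem_centralizer_singleton_iff]
      obtain ⟨j, hj⟩ := Q.2 ⟨y, hy⟩
      have hyj : (y : G) ^ q ^ j = 1 := congrArg (fun w : (Q : Subgroup N) => ((w : N) : G)) hj
      obtain ⟨i, -, hi⟩ := (Nat.dvd_prime_pow hq).1 (orderOf_dvd_of_pow_eq_one hyj)
      have hq3 : i = 0 ∨ q ≠ 3 := by
        by_contra hc
        push Not at hc
        obtain ⟨hi0, rfl⟩ := hc
        exact h.hyp.three ((dvd_pow_self 3 hi0).trans (hi ▸ orderOf_dvd_natCard (y : G)))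
      rcases hq3 with rfl | hq3
      · rw [pow_zero, orderOf_eq_one_iff] at hi
        rw [hi, one_mul, mul_one]
      letI : MulAction (Subgroup.zpowers (y : G)) {a : G // a ∈ A ∧ a ≠ 1} :=
        { smul := fun w a => ⟨(w : G) * a.1 * (w : G)⁻¹,
            normalizer_conj ((Subgroup.zpowers_le.2 y.2) w.2) a.2.1,
            fun e => a.2.2 (conj_eq_one_iff.1 e)⟩
          one_smul := fun a => Subtype.ext (by
            show (1 : G) * a.1 * (1 : G)⁻¹ = a.1
            simp)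
          mul_smul := fun v w a => Subtype.ext (by
            show ((v : G) * w) * a.1 * ((v : G) * w)⁻¹ = v * (w * a.1 * (w : G)⁻¹) * (v : G)⁻¹
            group) }
      have hpg : IsPGroup q (Subgroup.zpowers (y : G)) :=
        IsPGroup.of_card (n := i) (by rw [Nat.card_zpowers, hi])
      obtain ⟨m, hm⟩ := hpg.card_orbit (⟨z, hzA, hz1⟩ : {a : G // a ∈ A ∧ a ≠ 1})
      have hlt3 : Nat.card (MulAction.orbit (Subgroup.zpowers (y : G))
          (⟨z, hzA, hz1⟩ : {a : G // a ∈ A ∧ a ≠ 1})) ≤ 4 := by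
        refine le_trans ?_ hle4
        exact Nat.card_le_card_of_injective (fun a => (⟨a.1.1, a.1.2.1⟩ : A))
          fun a b e => Subtype.ext (Subtype.ext (congrArg (fun w : A => (w : G)) e))
      rw [hm] at hlt3
      have hm0 : m = 0 := by
        by_contra hm0
        have h5 : 5 ≤ q := by
          have := hq.two_le
          rcases Nat.lt_or_ge q 5 with hlt5 | h5
          · interval_cases q <;> first | exact absurd rfl hq2 | exact absurd rfl hq3 | exact absurd hq (by decide)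
          · exact h5
        have := Nat.le_trans (Nat.le_self_pow hm0 q) hlt3
        omega
      rw [hm0, pow_zero] at hm
      haveI := (Nat.card_eq_one_iff_unique.1 hm).1
      have := Subsingleton.elim
        (⟨(⟨(y : G), Subgroup.mem_zpowers _⟩ : Subgroup.zpowers (y : G)) • _,
          MulAction.mem_orbit _ _⟩ : MulAction.orbit (Subgroup.zpowers (y : G))
          (⟨z, hzA, hz1⟩ : {a : G // a ∈ A ∧ a ≠ 1}))
        ⟨_, MulAction.mem_orbit_self _⟩
      exact commute_of_conj_eq (congrArg (fun w : MulAction.orbit _ _ => (w.1.1 : G)) this)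
  have hfix : ∀ g ∈ N, g * z = z * g := fun g hg => Subgroup.mem_centralizer_singleton_iff.1
    (show (⟨g, hg⟩ : N) ∈ C from (Subgroup.index_eq_one.1 hidx).symm ▸ Subgroup.mem_top _)
  have hiso : ∀ g : G, g * z * g⁻¹ ∈ T → g * z * g⁻¹ = z := by
    intro g hg
    obtain ⟨n, hn, he⟩ := h.control_one (h.le hzA) hg
    rw [he]
    exact conj_eq_of_commute (hfix n hn)
  obtain ⟨M, hM, hodd, hcomm⟩ := ZStar.UniqueCase.zstar T z (h.order_two hzA hz1) (h.le hzA) hiso
  have hM1 : M = ⊥ := h.hyp.eq_bot_of_normal hM fun e => by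
    rw [e, Subgroup.card_top] at hodd
    exact Nat.not_odd_iff_even.2 (even_iff_two_dvd.2 h.hyp.even) hodd
  rw [hM1] at hcomm
  have hzc : z ∈ Subgroup.center G := Subgroup.mem_center_iff.2 fun g => by
    have h1 := Subgroup.mem_bot.1 (hcomm g)
    calc g * z = (z * g * z⁻¹ * g⁻¹) * (g * z) := by rw [h1, one_mul]
      _ = z * g := by group
  rw [h.hyp.center_eq_bot, Subgroup.mem_bot] at hzc
  exact hz1 hzc

theorem ne_top (h : Closed G T A) : Subgroup.normalizer (A : Set G) ≠ ⊤ :=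
  h.hyp.normalizer_ne_top h.ne_bot fun e => h.hyp.ne_comm
    ⟨⟨fun _ _ => h.comm (e ▸ Subgroup.mem_top _) (e ▸ Subgroup.mem_top _)⟩⟩

end Closed

end Cfsg.Agent.Lib.Thompson3Prime33
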