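import Cfsg.Agent.Lib.Thompson3Prime33.Translations

/-!
# No bad involution is the square of a `2`-element centralising `A`

Owner: helper33.
-/

set_option autoImplicit false
set_option linter.style.haveILetI false
set_option linter.unusedSectionVars false
set_option linter.unusedVariables false

namespace Cfsg.Agent.Lib.Thompson3Prime33

universe u

variable {G : Type u} [Group G] [Finite G] {T : Sylow 2 G} {A M : Subgroup G} {q : ℕ}

theorem sq_congr {X : Type*} [Group X] {P Z : Subgroup X} (hZP : Z ≤ P)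
    (hc : ∀ z ∈ Z, ∀ x ∈ P, z * x = x * z) (he : ∀ z ∈ Z, z * z = 1) {x y x' y' : X}
    (hx : x ∈ P) (hy : y ∈ P) (hx' : x⁻¹ * x' ∈ Z) (hy' : y⁻¹ * y' ∈ Z) :
    x' * y' * (x' * y') = x * y * (x * y) := by
  have h1 : x' * y' = x * y * (x⁻¹ * x' * (y⁻¹ * y')) := by
    calc x' * y' = x * ((x⁻¹ * x') * y) * (y⁻¹ * y') := by group
      _ = _ := by rw [hc _ hx' _ hy]; group
  have hw := mul_mem hx' hy'
  have hxy := mul_mem hx hy
  rw [h1]
  calc x * y * (x⁻¹ * x' * (y⁻¹ * y')) * (x * y * (x⁻¹ * x' * (y⁻¹ * y')))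
      = x * y * ((x⁻¹ * x' * (y⁻¹ * y')) * (x * y)) * (x⁻¹ * x' * (y⁻¹ * y')) := by group
    _ = x * y * (x * y) * ((x⁻¹ * x' * (y⁻¹ * y')) * (x⁻¹ * x' * (y⁻¹ * y'))) := by
        rw [hc _ hw _ hxy]; group
    _ = x * y * (x * y) := by rw [he _ hw, mul_one]

namespace BadData

variable {u : G} {R : Subgroup G} {L : Subgroup (CQ u)}
  {Z : Subgroup (↥L ⧸ Subgroup.center ↥L)} {τ : ↥L ⧸ Subgroup.center ↥L}

theorem normalizes_R (b : BadData T A M u R L q Z τ) (hc : Counted T A M q) {U : Subgroup G}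
    (hU : TransU A u R U q) {g r : G} (hg : g ∈ U) (hr : r ∈ R) : g * r * g⁻¹ ∈ R := by
  refine hU.fix _ (U.mul_mem (U.mul_mem hg (hU.le hr)) (U.inv_mem hg)) ?_
  obtain ⟨a, ha, he⟩ := hU.maps g hg
  set x := g * r * g⁻¹
  have hxU : x ∈ U := U.mul_mem (U.mul_mem hg (hU.le hr)) (U.inv_mem hg)
  have h1 : Commute x (u * a) := by
    show g * r * g⁻¹ * (u * a) = u * a * (g * r * g⁻¹)
    rw [← he]
    calc g * r * g⁻¹ * (g * u * g⁻¹) = g * (r * u) * g⁻¹ := by group
      _ = g * (u * r) * g⁻¹ := by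
          rw [Subgroup.mem_centralizer_singleton_iff.1 (b.comp.base.sylow.le hr)]
      _ = _ := by group
  have h2 : Commute x a := (Subgroup.mem_centralizer_iff.1 (hU.cent hxU) a ha).symm
  have h3 := h1.mul_right h2.inv_right
  rw [mul_inv_cancel_right] at h3
  exact h3

/-- The bad involution of the data is not the square of an element of `R`. -/
theorem not_sq (b : BadData T A M u R L q Z τ) (hc : Counted T A M q) {c : G} (hcR : c ∈ R) :
    c * c ≠ u := by
  intro hcc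
  obtain ⟨U, hU⟩ := b.exists_transU hc
  have hloc := b.comp.loc
  set P := pbar (qimg u R) L
  have hu1 : ∀ hu' : u ∈ R, b.proj ⟨u, hu'⟩ = 1 := fun hu' => b.proj_sPart _ b.self_mem_sPart
  have hsq : ∀ z ∈ Z, z * z = 1 := fun z hz => (hloc.sq_iff z (hloc.Z_le hz)).2 hz
  have hnorm : ∀ g ∈ U, ∀ r ∈ R, g * r * g⁻¹ ∈ R := fun g hg r hr => b.normalizes_R hc hU hg hr
  -- the map `f`
  let f : U → ↥L ⧸ Subgroup.center ↥L := fun g => b.proj ⟨g * c * (g : G)⁻¹, hnorm g g.2 c hcR⟩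
  have hsqv : ∀ (g : U) (a : G) (ha : a ∈ A), (g : G) * u * (g : G)⁻¹ = u * a →
      ∀ (s : G) (hs : s ∈ R), s * s = u →
        b.proj ⟨g * s * (g : G)⁻¹, hnorm g g.2 s hs⟩ * b.proj ⟨g * s * (g : G)⁻¹, hnorm g g.2 s hs⟩ =
          b.proj ⟨a, b.A_le_R hc ha⟩ := by
    intro g a ha he s hs hss
    rw [← map_mul, ← one_mul (b.proj ⟨a, b.A_le_R hc ha⟩), ← hu1 b.self_mem_R, ← map_mul]
    refine congrArg b.proj (Subtype.ext ?_)
    show g * s * (g : G)⁻¹ * (g * s * (g : G)⁻¹) = u * a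
    rw [← he, ← hss]; group
  have hfP : ∀ g, f g ∈ P := fun g => b.proj_mem _
  have hsurj : ∀ x ∈ P, ∃ g : U, (f g)⁻¹ * x ∈ Z := by
    intro x hx
    obtain ⟨w, hwA, hwe⟩ := b.comp.exists_F (hloc.sq_mem x hx)
    obtain ⟨g, hg, he⟩ := hU.surj (w : G) hwA.1
    refine ⟨⟨g, hg⟩, hloc.sq_inj _ (hfP _) x hx ?_⟩
    rw [hsqv ⟨g, hg⟩ (w : G) hwA.1 he c hcR hcc, b.proj_eq_lmap _ w.2, ← hwe]
  have hmul : ∀ g h : U, f h * f g * (f h * f g) = f g * f g * (f h * f h) := by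
    intro g h
    obtain ⟨ag, hag, heg⟩ := hU.maps g g.2
    obtain ⟨ah, hah, heh⟩ := hU.maps h h.2
    have hhc := hnorm h h.2 c hcR
    obtain ⟨p, hp, s, hs, hps, hcom⟩ := b.exists_split hhc
    have hpp := b.sq_mem_A hp
    have hss : s * s = u := by
      have h1 : u * ah = p * p * (s * s) := by
        rw [← heh, ← hcc]
        calc (h : G) * (c * c) * (h : G)⁻¹ = (h * c * (h : G)⁻¹) * (h * c * (h : G)⁻¹) := by group
          _ = p * (s * p) * s := by rw [hps]; group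
          _ = _ := by rw [← hcom]; group
      have h2 : (u⁻¹ * (s * s)) = (p * p)⁻¹ * ah := by
        have hcu : u * (p * p) = p * p * u :=
          (Subgroup.mem_centralizer_singleton_iff.1 (hc.le_cent u b.bad b.mem hpp)).symm
        calc u⁻¹ * (s * s) = u⁻¹ * ((p * p)⁻¹ * (p * p * (s * s))) := by group
          _ = (u⁻¹ * ((p * p)⁻¹ * u)) * ah := by rw [← h1]; group
          _ = (p * p)⁻¹ * ah := by
            rw [show u⁻¹ * ((p * p)⁻¹ * u) = (p * p)⁻¹ by
              calc u⁻¹ * ((p * p)⁻¹ * u) = (u⁻¹ * (p * p) * u)⁻¹ := by group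
                _ = _ := by rw [mul_assoc, ← hcu, inv_mul_cancel_left]]
      have h3 : u⁻¹ * (s * s) = 1 := b.A_inf_sPart hc (h2 ▸ A.mul_mem (A.inv_mem hpp) hah)
        (b.sPart.mul_mem (b.sPart.inv_mem b.self_mem_sPart) (b.sPart.mul_mem hs hs))
      exact (inv_mul_eq_one.1 h3).symm
    -- the two factors
    set X := b.proj ⟨g * p * (g : G)⁻¹, hnorm g g.2 p hp.1⟩ with hX
    set Y := b.proj ⟨g * s * (g : G)⁻¹, hnorm g g.2 s hs.1⟩ with hY
    have hfgh : f (g * h) = X * Y := by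
      rw [hX, hY, ← map_mul]
      refine congrArg b.proj (Subtype.ext ?_)
      show (g : G) * h * c * ((g : G) * h)⁻¹ = g * p * (g : G)⁻¹ * (g * s * (g : G)⁻¹)
      calc (g : G) * h * c * ((g : G) * h)⁻¹ = g * (h * c * (h : G)⁻¹) * (g : G)⁻¹ := by group
        _ = _ := by rw [hps]; group
    have hfh : f h = b.proj ⟨p, hp.1⟩ := by
      rw [← mul_one (b.proj ⟨p, hp.1⟩), ← b.proj_sPart ⟨s, hs.1⟩ hs, ← map_mul]
      exact congrArg b.proj (Subtype.ext hps)
    have hXh : (f h)⁻¹ * X ∈ Z := by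
      refine hloc.sq_inj _ (hfP _) _ (b.proj_mem _) ?_
      rw [hfh, hX, ← map_mul, ← map_mul]
      refine congrArg b.proj (Subtype.ext ?_)
      show p * p = g * p * (g : G)⁻¹ * (g * p * (g : G)⁻¹)
      calc p * p = g * (p * p) * (g : G)⁻¹ :=
            (conj_eq_of_commute (Subgroup.mem_centralizer_iff.1 (hU.cent g.2) _ hpp).symm).symm
        _ = _ := by group
    have hYg : (f g)⁻¹ * Y ∈ Z := by
      refine hloc.sq_inj _ (hfP _) _ (b.proj_mem _) ?_
      rw [hY, hsqv g ag hag heg s hs.1 hss]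
      exact hsqv g ag hag heg c hcR hcc
    have heq : ((g * h : U) : G) * u * ((g * h : U) : G)⁻¹ = u * (ag * ah) := by
      show (g : G) * h * u * ((g : G) * h)⁻¹ = u * (ag * ah)
      calc (g : G) * h * u * ((g : G) * h)⁻¹ = g * (h * u * (h : G)⁻¹) * (g : G)⁻¹ := by group
        _ = (g * u * (g : G)⁻¹) * (g * ah * (g : G)⁻¹) := by rw [heh]; group
        _ = u * (ag * ah) := by
            rw [heg, conj_eq_of_commute (Subgroup.mem_centralizer_iff.1 (hU.cent g.2) _ hah).symm,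
              mul_assoc]
    calc f h * f g * (f h * f g) = X * Y * (X * Y) :=
          (sq_congr hloc.Z_le hloc.central hsq (hfP h) (hfP g) hXh hYg).symm
      _ = f (g * h) * f (g * h) := by rw [hfgh]
      _ = b.proj ⟨ag * ah, b.A_le_R hc (A.mul_mem hag hah)⟩ :=
          hsqv (g * h) (ag * ah) (A.mul_mem hag hah) heq c hcR hcc
      _ = b.proj (⟨ag, b.A_le_R hc hag⟩ * ⟨ah, b.A_le_R hc hah⟩) := rfl
      _ = f g * f g * (f h * f h) := by
          rw [map_mul, ← hsqv g ag hag heg c hcR hcc, ← hsqv h ah hah heh c hcR hcc]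
  have hcomm : ∀ x ∈ P, ∀ y ∈ P, x * y = y * x := by
    intro x hx y hy
    obtain ⟨g, hg⟩ := hsurj x hx
    obtain ⟨h, hh⟩ := hsurj y hy
    have hx2 : x * x = f g * f g := by
      simpa using sq_congr hloc.Z_le hloc.central hsq (hfP g) (one_mem P) hg
        (show (1 : ↥L ⧸ Subgroup.center ↥L)⁻¹ * 1 ∈ Z by simp)
    have hy2 : y * y = f h * f h := by
      simpa using sq_congr hloc.Z_le hloc.central hsq (hfP h) (one_mem P) hh
        (show (1 : ↥L ⧸ Subgroup.center ↥L)⁻¹ * 1 ∈ Z by simp)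
    have h1 : y * x * (y * x) = y * y * (x * x) := by
      rw [sq_congr hloc.Z_le hloc.central hsq (hfP h) (hfP g) hh hg, hmul, ← hx2, ← hy2,
        hloc.central _ (hloc.sq_mem x hx) _ (mul_mem hy hy)]
    calc x * y = y⁻¹ * (y * x * (y * x)) * x⁻¹ := by group
      _ = y * x := by rw [h1]; group
  obtain ⟨z, hz, hz1⟩ : ∃ z ∈ Z, z ≠ 1 := by
    refine Z.nontrivial_iff_exists_ne_one.1 (Finite.one_lt_card_iff_nontrivial.1 ?_)
    rw [hloc.card_Z]; linarith [hc.eight_le]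
  obtain ⟨w, hw, hw1, hwz⟩ : ∃ w ∈ Z, w ≠ 1 ∧ w ≠ z := by
    by_contra hne
    push Not at hne
    have h2 : Nat.card Z ≤ 2 := by
      refine (Subgroup.card_le_of_le (K := Subgroup.zpowers z) fun w hw => ?_).trans
        (by rw [Nat.card_zpowers]
            exact Nat.le_of_dvd two_pos (orderOf_dvd_of_pow_eq_one (by rw [pow_two, hsq z hz])))
      by_cases hw1 : w = 1
      · exact hw1 ▸ one_mem _
      · exact hne w hw hw1 ▸ Subgroup.mem_zpowers z
    rw [hloc.card_Z] at h2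
    linarith [hc.eight_le]
  obtain ⟨x, hx, hxz⟩ := hloc.sq_surj z hz
  obtain ⟨y, hy, hyw⟩ := hloc.sq_surj w hw
  have hxy := hcomm x hx y hy
  rcases hloc.cent x hx (fun h => hz1 (hxz ▸ hsq x h)) y hy hxy with h | h
  · exact hw1 (hyw ▸ hsq y h)
  · refine hwz ?_
    have h2 := hsq _ h
    rw [show x⁻¹ * y * (x⁻¹ * y) = (x * x)⁻¹ * (y * y) by
      calc x⁻¹ * y * (x⁻¹ * y) = x⁻¹ * x⁻¹ * (x * y) * x⁻¹ * y := by group
        _ = _ := by rw [hxy]; group, hxz, hyw] at h2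
    exact (inv_mul_eq_one.1 h2).symm

end BadData

namespace Counted

theorem cent_le_normalizer {c : G} (hcA : c ∈ Subgroup.centralizer (A : Set G)) :
    c ∈ Subgroup.normalizer (A : Set G) := Subgroup.centralizer_le_normalizer _ hcA

theorem not_sq_bad (hc : Counted T A M q) {c : G} (hcA : c ∈ Subgroup.centralizer (A : Set G))
    {i : ℕ} (hc2 : c ^ 2 ^ i = 1) : ¬ Bad M (c * c) := by
  haveI : Fact (Nat.Prime 2) := ⟨Nat.prime_two⟩
  intro hb
  obtain ⟨R, L, Z, τ, b⟩ := hc.exists_data hb (mul_mem (cent_le_normalizer hcA) (cent_le_normalizer hcA))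
  set C := Subgroup.centralizer ({c * c} : Set G) ⊓ Subgroup.centralizer (A : Set G)
  have hRC : CosetGraph.SylowIn.IsSylowIn 2 R C :=
    b.comp.base.sylow.of_le_le (le_inf b.comp.base.sylow.le (b.R_cent hc)) inf_le_left
  obtain ⟨j, -, hj⟩ := (Nat.dvd_prime_pow Nat.prime_two).1 (orderOf_dvd_of_pow_eq_one hc2)
  obtain ⟨S, hS, hcS⟩ := CosetGraph.SylowIn.IsSylowIn.exists_le
    (P := Subgroup.zpowers c) (H := C) (IsPGroup.of_card (n := j) (by rw [Nat.card_zpowers, hj]))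
    (Subgroup.zpowers_le.2 ⟨Subgroup.mem_centralizer_singleton_iff.2 (mul_assoc c c c).symm, hcA⟩)
  obtain ⟨y, hy, he⟩ := hS.exists_conj hRC
  refine b.not_sq hc (c := y * c * y⁻¹) (he ▸ conj_mem_cj (hcS (Subgroup.mem_zpowers c))) ?_
  calc y * c * y⁻¹ * (y * c * y⁻¹) = y * (c * c) * y⁻¹ := by group
    _ = c * c := conj_eq_of_commute (Subgroup.mem_centralizer_singleton_iff.1 hy.1)

/-- The involution which is a power of a `2`-element centralising `A` and of order at least four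
lies in `A`. -/
theorem pow_mem_A (hc : Counted T A M q) {c : G} (hcA : c ∈ Subgroup.centralizer (A : Set G))
    {i : ℕ} (ho : orderOf c = 2 ^ (i + 2)) : c ^ 2 ^ (i + 1) ∈ A := by
  by_contra hne
  have hd : c ^ 2 ^ i * c ^ 2 ^ i = c ^ 2 ^ (i + 1) := by rw [← pow_add]; congr 1; ring
  refine hc.not_sq_bad (c := c ^ 2 ^ i) (Subgroup.pow_mem _ hcA _) (i := 2) ?_ ?_
  · rw [← pow_mul, ← pow_add, ← ho, pow_orderOf_eq_one]
  · rw [hd]
    refine hc.bad_of_not_mem ?_ (pow_mem (cent_le_normalizer hcA) _) hne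
    rw [orderOf_pow' _ (by positivity), ho, show 2 ^ (i + 2) = 2 * 2 ^ (i + 1) by ring,
      Nat.gcd_mul_left_left, Nat.mul_div_cancel _ (by positivity)]

end Counted

namespace BadData

variable {u : G} {R : Subgroup G} {L : Subgroup (CQ u)}
  {Z : Subgroup (↥L ⧸ Subgroup.center ↥L)} {τ : ↥L ⧸ Subgroup.center ↥L}

theorem sPart_sq (b : BadData T A M u R L q Z τ) (hc : Counted T A M q) {s : G} (hs : s ∈ b.sPart) :
    s * s = 1 := by
  haveI : Fact (Nat.Prime 2) := ⟨Nat.prime_two⟩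
  obtain ⟨k, hk⟩ := b.comp.base.sylow.isPGroup ⟨s, hs.1⟩
  obtain ⟨j, -, hj⟩ := (Nat.dvd_prime_pow Nat.prime_two).1
    (orderOf_dvd_of_pow_eq_one (show s ^ 2 ^ k = 1 from congrArg Subtype.val hk))
  by_contra hne
  match j, hj with
  | 0, hj => exact hne (by rw [orderOf_eq_one_iff.1 (hj.trans (pow_zero 2)), mul_one])
  | 1, hj => exact hne (by rw [← pow_two, ← pow_one 2, ← hj, pow_orderOf_eq_one])
  | i + 2, hj =>
    have h1 : s ^ 2 ^ (i + 1) = 1 :=
      b.A_inf_sPart hc (hc.pow_mem_A (b.R_cent hc hs.1) hj) (b.sPart.pow_mem hs _)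
    have h2 := Nat.le_of_dvd (by positivity) (orderOf_dvd_of_pow_eq_one h1)
    rw [hj] at h2
    exact absurd h2 (not_le.2 (Nat.pow_lt_pow_right one_lt_two (by omega)))

theorem sPart_inv (b : BadData T A M u R L q Z τ) (hc : Counted T A M q) {s : G} (hs : s ∈ b.sPart) :
    s⁻¹ = s := inv_eq_of_mul_eq_one_right (b.sPart_sq hc hs)

theorem sPart_comm (b : BadData T A M u R L q Z τ) (hc : Counted T A M q) {s t : G}
    (hs : s ∈ b.sPart) (ht : t ∈ b.sPart) : s * t = t * s := by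
  conv_lhs => rw [← b.sPart_inv hc (b.sPart.mul_mem hs ht), mul_inv_rev, b.sPart_inv hc hs,
    b.sPart_inv hc ht]

theorem sPart_le_cent (b : BadData T A M u R L q Z τ) (hc : Counted T A M q) {s : G}
    (hs : s ∈ b.sPart) : R ≤ Subgroup.centralizer ({s} : Set G) := by
  intro r hr
  rw [Subgroup.mem_centralizer_singleton_iff]
  obtain ⟨p, hp, s', hs', rfl, -⟩ := b.exists_split hr
  rw [mul_assoc, b.sPart_comm hc hs' hs, ← mul_assoc,
    b.comp.commute_lift_cent hp.1 hp.2 hs.1 hs.2, mul_assoc]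

theorem sq_R (b : BadData T A M u R L q Z τ) (hc : Counted T A M q) {r : G} (hr : r ∈ R) :
    r * r ∈ A := by
  obtain ⟨p, hp, s, hs, rfl, hcom⟩ := b.exists_split hr
  rw [show p * s * (p * s) = p * (s * p) * s by group, ← hcom,
    show p * (p * s) * s = p * p * (s * s) by group, b.sPart_sq hc hs, mul_one]
  exact b.sq_mem_A hp

theorem comm_R (b : BadData T A M u R L q Z τ) (hc : Counted T A M q) {x y : G} (hx : x ∈ R)
    (hy : y ∈ R) : x * y * x⁻¹ * y⁻¹ ∈ A := by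
  rw [show x * y * x⁻¹ * y⁻¹ = (x * y * (x * y)) * ((y⁻¹ * x⁻¹ * x⁻¹ * y) * (y * y)⁻¹) by group]
  refine A.mul_mem (b.sq_R hc (R.mul_mem hx hy)) (A.mul_mem ?_ (A.inv_mem (b.sq_R hc hy)))
  have h1 := normalizer_conj (b.R_le_normalizer (R.inv_mem hy)) (A.inv_mem (b.sq_R hc hx))
  simpa [mul_assoc] using h1

end BadData

end Cfsg.Agent.Lib.Thompson3Prime33
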