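import Cfsg.Agent.Lib.Thompson3Prime33.TopData

/-!
# The common component

When the part `S` of `R` centralising the component is not cyclic the completion is trivial, all
elements of `S` share the component, and `|S| ≤ q`.

Owner: helper33.
-/

set_option autoImplicit false
set_option linter.style.haveILetI false
set_option linter.unusedSectionVars false
set_option linter.unusedVariables false

namespace Cfsg.Agent.Lib.Thompson3Prime33

universe u

variable {G : Type u} [Group G] [Finite G] {T : Sylow 2 G} {A M : Subgroup G} {q : ℕ}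

namespace BadData

variable {u : G} {R : Subgroup G} {L : Subgroup (CQ u)}
  {Z : Subgroup (↥L ⧸ Subgroup.center ↥L)} {τ : ↥L ⧸ Subgroup.center ↥L}

theorem core_eq_bot (b : BadData T A M u R L q Z τ) (hc : Counted T A M q) (hW : wcl A = ⊥) :
    Cfsg.centralizerPPrimeCore 2 u = ⊥ := by
  rw [hc.core_eq u b.bad b.mem, hW, bot_inf_eq]

theorem cmap_injective (b : BadData T A M u R L q Z τ) (hc : Counted T A M q) (hW : wcl A = ⊥) :
    Function.Injective (cmap u) := by
  refine (injective_iff_map_eq_one _).2 fun g hg => ?_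
  have := cmap_eq_one.1 hg
  rw [b.core_eq_bot hc hW, Subgroup.mem_bot] at this
  exact Subtype.ext this

theorem commute_lift (b : BadData T A M u R L q Z τ) (hc : Counted T A M q) (hW : wcl A = ⊥) {l s : G}
    (hl : l ∈ lift u L) (hs : s ∈ lift u (Subgroup.centralizer (L : Set (CQ u)))) : l * s = s * l := by
  obtain ⟨h1, h2⟩ := mem_lift.1 hl
  obtain ⟨h3, h4⟩ := mem_lift.1 hs
  have := b.cmap_injective hc hW (a₁ := ⟨l, h1⟩ * ⟨s, h3⟩) (a₂ := ⟨s, h3⟩ * ⟨l, h1⟩)
    (by rw [map_mul, map_mul]; exact Subgroup.mem_centralizer_iff.1 h4 _ h2)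
  exact congrArg Subtype.val this

theorem mem_sPart_iff (b : BadData T A M u R L q Z τ) (hc : Counted T A M q) (hW : wcl A = ⊥) {s : G} :
    s ∈ b.sPart ↔ s ∈ R ∧ ∀ l ∈ lift u L, l * s = s * l := by
  refine ⟨fun hs => ⟨hs.1, fun l hl => b.commute_lift hc hW hl hs.2⟩, fun ⟨hs, hsl⟩ => ⟨hs, ?_⟩⟩
  refine mem_lift.2 ⟨b.comp.base.sylow.le hs, Subgroup.mem_centralizer_iff.2 fun x hx => ?_⟩
  obtain ⟨g, rfl⟩ := cmap_surjective u x
  rw [← map_mul, ← map_mul]
  exact congrArg _ (Subtype.ext (hsl g (mem_lift_coe.2 hx)))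

theorem isSimple_lift (b : BadData T A M u R L q Z τ) (hc : Counted T A M q) (hW : wcl A = ⊥) :
    IsSimpleGroup ↥(lift u L) := by
  refine (MulEquiv.ofBijective (lmap u L) ⟨?_, lmap_surjective u L⟩).isSimpleGroup_congr.2
    b.comp.loc.simple
  refine (injective_iff_map_eq_one _).2 fun g hg => Subtype.ext ?_
  exact congrArg (fun v : ↥(Subgroup.centralizer ({u} : Set G)) => (v : G))
    ((injective_iff_map_eq_one _).1 (b.cmap_injective hc hW) _ (b.cmap_eq_one_of_lmap hg))

theorem card_lift (b : BadData T A M u R L q Z τ) (hc : Counted T A M q) (hW : wcl A = ⊥) :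
    Nat.card (lift u L) = q ^ 2 * (q ^ 2 + 1) * (q - 1) := by
  rw [← b.comp.loc.card]
  refine Nat.card_congr (Equiv.ofBijective (lmap u L) ⟨?_, lmap_surjective u L⟩)
  refine (injective_iff_map_eq_one _).2 fun g hg => Subtype.ext ?_
  exact congrArg (fun v : ↥(Subgroup.centralizer ({u} : Set G)) => (v : G))
    ((injective_iff_map_eq_one _).1 (b.cmap_injective hc hW) _ (b.cmap_eq_one_of_lmap hg))

theorem conj_mem_lift (b : BadData T A M u R L q Z τ) {g l : G}
    (hg : g ∈ Subgroup.centralizer ({u} : Set G)) (hl : l ∈ lift u L) : g * l * g⁻¹ ∈ lift u L := by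
  obtain ⟨h1, h2⟩ := mem_lift.1 hl
  refine mem_lift.2 ⟨Subgroup.mul_mem _ (Subgroup.mul_mem _ hg h1) (Subgroup.inv_mem _ hg), ?_⟩
  rw [show (⟨g * l * g⁻¹, _⟩ : ↥(Subgroup.centralizer ({u} : Set G))) = ⟨g, hg⟩ * ⟨l, h1⟩ * ⟨g, hg⟩⁻¹
    from rfl, map_mul, map_mul, map_inv]
  exact normalizer_conj (b.normalizes _) h2

/-- A simple subgroup of the centraliser containing `A` lies in the component. -/
theorem simple_le_lift (b : BadData T A M u R L q Z τ) (hc : Counted T A M q) {K : Subgroup G}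
    [IsSimpleGroup ↥K] (hK : K ≤ Subgroup.centralizer ({u} : Set G)) (hA : A ≤ K) :
    K ≤ lift u L := by
  set N := (lift u L).subgroupOf K
  haveI hN : N.Normal := ⟨fun n hn g => b.conj_mem_lift (hK g.2) hn⟩
  rcases hN.eq_bot_or_eq_top with e | e
  · obtain ⟨a, ha, ha1⟩ := A.bot_or_exists_ne_one.resolve_left hc.closed.ne_bot
    have : (⟨a, hA ha⟩ : K) ∈ N := b.A_le_lift hc ha
    rw [e, Subgroup.mem_bot] at this
    exact absurd (congrArg Subtype.val this) ha1
  · exact Subgroup.subgroupOf_eq_top.1 e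

end BadData

namespace Top

variable {u : G} {R : Subgroup G} {L : Subgroup (CQ u)}
  {Z : Subgroup (↥L ⧸ Subgroup.center ↥L)} {τ : ↥L ⧸ Subgroup.center ↥L}

/-- With more than two elements in `S` the completion is trivial. -/
theorem wcl_eq_bot (h : Top T A M q u R L Z τ) (hr : 2 < Nat.card h.data.sPart) : wcl A = ⊥ := by
  haveI : Fact (Nat.Prime 2) := ⟨Nat.prime_two⟩
  by_contra hne
  have b := h.data
  have hc := h.counted
  set S := b.sPart
  have hSN : S ≤ Subgroup.normalizer (A : Set G) := inf_le_left.trans b.R_le_normalizer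
  have hSe : Cfsg.IsElementaryAbelian 2 S := PGroups.elemAb_mk (fun x hx y hy => b.sPart_comm hc hx hy)
    fun x hx => by rw [pow_two]; exact b.sPart_sq hc hx
  haveI := hSe.1
  obtain ⟨k, hk⟩ := IsPGroup.iff_card.1 (PGroups.elemAb_isPGroup hSe)
  have hncyc : ¬ IsCyclic S := fun hcyc => by
    have := Nat.le_of_dvd two_pos (PGroups.elemAb_card_dvd_of_isCyclic hSe)
    omega
  have hgen := Coprime.iSup_centralizer_eq hncyc (hSN.trans hc.closed.normalizer_le_wcl)
    (by rw [hk]; exact (Nat.coprime_two_left.2 hc.closed.odd_wcl).pow_left k)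
  apply b.lift_not_le
  intro l hl
  obtain ⟨hlC, hlL⟩ := mem_lift.1 hl
  have hSC : S ≤ Subgroup.centralizer ({u} : Set G) := inf_le_left.trans b.comp.base.sylow.le
  obtain ⟨o, ho, hol⟩ := exists_fix (E := S) (PGroups.elemAb_isPGroup hSe) hSC (g := ⟨l, hlC⟩)
    fun e he => by
      obtain ⟨_, he'⟩ := mem_lift.1 he.2
      exact Subgroup.mem_centralizer_iff.1 he' _ hlL
  have hnorm : o * l ∈ Subgroup.normalizer (wcl A : Set G) := by
    refine mem_normalizer_of_cj_le (Subgroup.map_le_iff_le_comap.2 (hgen.ge.trans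
      (iSup₂_le fun s hs => ?_)))
    rw [← Subgroup.map_le_iff_le_comap]
    rintro _ ⟨w, hw, rfl⟩
    obtain ⟨hsS, hs1⟩ := hs
    have hb := h.bad_sPart hsS hs1
    have hsN := hSN hsS
    have hcore := hc.core_eq s hb hsN
    have hw' : w ∈ Cfsg.centralizerPPrimeCore 2 s := hcore ▸ hw
    have hlS : o * l ∈ Subgroup.centralizer ({s} : Set G) := Subgroup.mem_centralizer_singleton_iff.2
      (Subgroup.mem_centralizer_iff.1 hol s hsS).symm
    have h1 := normalizer_conj
      (Balance.centralizer_le_normalizer_centralizerPPrimeCore s hlS) hw'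
    exact (hcore ▸ h1 : o * l * w * (o * l)⁻¹ ∈ wcl A ⊓ Subgroup.centralizer ({s} : Set G)).1
  rw [← hc.final.norm_eq hne] at hnorm
  simpa using mul_mem (inv_mem (b.core_le ho)) hnorm

/-- The elements of `S` share the component. -/
theorem lift_eq (h : Top T A M q u R L Z τ) (hW : wcl A = ⊥) {v : G} (hv : v ∈ h.data.sPart)
    {R' : Subgroup G} {L' : Subgroup (CQ v)} {Z' : Subgroup (↥L' ⧸ Subgroup.center ↥L')}
    {τ' : ↥L' ⧸ Subgroup.center ↥L'} (b : BadData T A M v R' L' q Z' τ') :
    lift v L' = lift u L := by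
  haveI := h.data.isSimple_lift h.counted hW
  have hle : lift u L ≤ lift v L' := b.simple_le_lift h.counted (fun l hl =>
    Subgroup.mem_centralizer_singleton_iff.2 (h.data.commute_lift h.counted hW hl hv.2))
    (h.data.A_le_lift h.counted)
  exact (Subgroup.eq_of_le_of_card_ge hle
    (by rw [b.card_lift h.counted hW, h.data.card_lift h.counted hW])).symm

/-- `S` has at most `q` elements. -/
theorem card_sPart_le_q (h : Top T A M q u R L Z τ) : Nat.card h.data.sPart ≤ q := by
  haveI : Fact (Nat.Prime 2) := ⟨Nat.prime_two⟩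
  have b := h.data
  have hc := h.counted
  rcases le_or_gt (Nat.card b.sPart) 2 with hr | hr
  · exact hr.trans (le_trans (by norm_num) hc.eight_le)
  have hW := h.wcl_eq_bot hr
  obtain ⟨a, ha, ha1⟩ := A.bot_or_exists_ne_one.resolve_left hc.closed.ne_bot
  obtain ⟨g, hg, hga⟩ := h.trans.surj a ha
  have hnR : ∀ r ∈ R, g * r * g⁻¹ ∈ R := fun r hr => b.normalizes_R hc h.trans hg hr
  -- a homomorphism of `S` into `Z`
  let f : b.sPart →* ↥L ⧸ Subgroup.center ↥L := MonoidHom.mk'
    (fun s => b.proj ⟨g * s * g⁻¹, hnR s s.2.1⟩) fun s t => by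
      rw [← map_mul]
      exact congrArg b.proj (Subtype.ext (by simp))
  have hrange : f.range ≤ Z := by
    rintro _ ⟨s, rfl⟩
    refine (b.comp.loc.sq_iff _ (b.proj_mem _)).1 ?_
    show b.proj _ * b.proj _ = 1
    rw [← map_mul, ← map_one b.proj]
    refine congrArg b.proj (Subtype.ext ?_)
    show g * (s : G) * g⁻¹ * (g * (s : G) * g⁻¹) = 1
    rw [show g * (s : G) * g⁻¹ * (g * (s : G) * g⁻¹) = g * ((s : G) * s) * g⁻¹ by group,
      b.sPart_sq hc s.2, mul_one, mul_inv_cancel]
  have hinj : Function.Injective f := by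
    refine (injective_iff_map_eq_one _).2 fun s hs => ?_
    by_contra hs1
    set s' := g * (s : G) * g⁻¹ with hs'
    have hs'S : s' ∈ b.sPart := ⟨hnR s s.2.1, (b.proj_eq_one_iff _).1 hs⟩
    have hs'1 : s' ≠ 1 := fun e => hs1 (Subtype.ext (conj_eq_one_iff.1 e))
    -- `g` normalises the component
    obtain ⟨L₁, Z₁, τ₁, b₁⟩ := h.exists_data_sPart hs'S hs'1
    haveI := b.isSimple_lift hc hW
    set K := cj g (lift u L)
    haveI : IsSimpleGroup ↥K :=
      ((lift u L).equivMapOfInjective _ (MulAut.conj g).injective).isSimpleGroup_congr.1 inferInstance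
    have hgA := h.trans.cent hg
    have hK : K ≤ lift u L := by
      rw [← h.lift_eq hW hs'S b₁]
      refine b₁.simple_le_lift hc ?_ fun x hx => ⟨x, b.A_le_lift hc hx, ?_⟩
      · rintro _ ⟨l, hl, rfl⟩
        refine Subgroup.mem_centralizer_singleton_iff.2 ?_
        show g * l * g⁻¹ * s' = s' * (g * l * g⁻¹)
        rw [hs']
        calc g * l * g⁻¹ * (g * (s : G) * g⁻¹) = g * (l * s) * g⁻¹ := by group
          _ = g * (s * l) * g⁻¹ := by rw [b.commute_lift hc hW hl s.2.2]
          _ = _ := by group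
      · exact conj_eq_of_commute (Subgroup.mem_centralizer_iff.1 hgA x hx).symm
    have hKe : K = lift u L := Subgroup.eq_of_le_of_card_ge hK (by rw [card_cj])
    have hgu : g * u * g⁻¹ ∈ b.sPart := by
      refine (b.mem_sPart_iff hc hW).2 ⟨hnR u b.self_mem_R, fun l hl => ?_⟩
      obtain ⟨l', hl', rfl⟩ := hKe.ge hl
      show g * l' * g⁻¹ * (g * u * g⁻¹) = g * u * g⁻¹ * (g * l' * g⁻¹)
      calc g * l' * g⁻¹ * (g * u * g⁻¹) = g * (l' * u) * g⁻¹ := by group
        _ = g * (u * l') * g⁻¹ := by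
            rw [Subgroup.mem_centralizer_singleton_iff.1 (lift_le u L hl')]
        _ = _ := by group
    rw [hga] at hgu
    refine ha1 (b.A_inf_sPart hc ha ?_)
    have := b.sPart.mul_mem (b.sPart.inv_mem b.self_mem_sPart) hgu
    rwa [inv_mul_cancel_left] at this
  calc Nat.card b.sPart = Nat.card f.range := Nat.card_congr (MonoidHom.ofInjective hinj).toEquiv
    _ ≤ Nat.card Z := Subgroup.card_le_of_le hrange
    _ = q := b.comp.loc.card_Z

end Top

end Cfsg.Agent.Lib.Thompson3Prime33
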