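import Cfsg.Agent.Lib.Thompson3Prime33.SzLocal
import Cfsg.Agent.Lib.CosetGraph.SylowIn
import Cfsg.Agent.Lib.Balance.LocalBalance

/-!
# Consequences of the local data of a Suzuki group

Owner: helper33.
-/

set_option autoImplicit false
set_option linter.style.haveILetI false
set_option linter.unusedSectionVars false

namespace Cfsg.Agent.Lib.Thompson3Prime33

universe u

variable {L : Type u} [Group L] {q : ℕ} {P Z : Subgroup L} {τ : L}

namespace SzLocal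

theorem eight_le (h : SzLocal L q P Z τ) : 8 ≤ q := by
  obtain ⟨m, hm, rfl⟩ := h.q_eq
  calc 8 = 2 ^ 3 := rfl
    _ ≤ 2 ^ (2 * m + 1) := Nat.pow_le_pow_right (by norm_num) (by omega)

theorem q_even (h : SzLocal L q P Z τ) : Even q := by
  obtain ⟨m, -, rfl⟩ := h.q_eq
  exact Nat.even_pow.2 ⟨even_two, by omega⟩

theorem one_lt_sub (h : SzLocal L q P Z τ) : 1 < q - 1 := by have := h.eight_le; omega

theorem mem_Z_iff (h : SzLocal L q P Z τ) {x : L} : x ∈ Z ↔ x ∈ P ∧ x * x = 1 :=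
  ⟨fun hx => ⟨h.Z_le hx, (h.sq_iff x (h.Z_le hx)).2 hx⟩, fun hx => (h.sq_iff x hx.1).1 hx.2⟩

theorem isPGroup_P (h : SzLocal L q P Z τ) : IsPGroup 2 P := by
  obtain ⟨m, -, hq⟩ := h.q_eq
  exact IsPGroup.of_card (n := (2 * m + 1) * 2) (by rw [h.card_P, hq, pow_mul])

theorem center_eq_bot (h : SzLocal L q P Z τ) : Subgroup.center L = ⊥ := by
  haveI := h.simple
  refine (inferInstance : (Subgroup.center L).Normal).eq_bot_or_eq_top.resolve_right fun htop => ?_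
  have h1 : ∀ x : L, τ * x * τ⁻¹ = x := fun x =>
    mul_inv_eq_iff_eq_mul.2 (Subgroup.mem_center_iff.1 (htop ▸ Subgroup.mem_top x) τ)
  have hZ : 1 < Nat.card Z := by rw [h.card_Z]; have := h.eight_le; omega
  haveI : Finite Z := Nat.finite_of_card_ne_zero (by omega)
  obtain ⟨z, hz, hz1⟩ := Z.nontrivial_iff_exists_ne_one.1 (Finite.one_lt_card_iff_nontrivial.1 hZ)
  refine hz1 (h.τ_fpf 1 (fun hd => ?_) z (h.Z_le hz) (by rw [pow_one]; exact h1 z))
  have := Nat.le_of_dvd one_pos hd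
  have := h.one_lt_sub
  omega

theorem conj_injective (h : SzLocal L q P Z τ) {a b : L}
    (hab : MulAut.conj a = MulAut.conj b) : a = b := by
  have h1 : a⁻¹ * b ∈ Subgroup.center L := Subgroup.mem_center_iff.2 fun x => by
    have h2 : a * x * a⁻¹ = b * x * b⁻¹ := by
      simpa using DFunLike.congr_fun hab x
    calc x * (a⁻¹ * b) = a⁻¹ * (a * x * a⁻¹) * b := by group
      _ = a⁻¹ * (b * x * b⁻¹) * b := by rw [h2]
      _ = a⁻¹ * b * x := by group
  rw [h.center_eq_bot, Subgroup.mem_bot] at h1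
  exact inv_mul_eq_one.1 h1

theorem borel_card (h : SzLocal L q P Z τ) :
    Nat.card (Subgroup.normalizer (P : Set L)) = q ^ 2 * (q - 1) := by
  have h1 := (Subgroup.normalizer (P : Set L)).card_mul_index
  rw [h.borel_index, h.card, mul_right_comm] at h1
  exact Nat.eq_of_mul_eq_mul_right (Nat.succ_pos _) h1

/-- A `2`-element of the Borel subgroup lies in `P`. -/
theorem mem_P_of_pow (h : SzLocal L q P Z τ) [Finite L] {g : L}
    (hg : g ∈ Subgroup.normalizer (P : Set L)) {i : ℕ} (h2 : g ^ 2 ^ i = 1) : g ∈ P := by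
  obtain ⟨x, hx, n, rfl⟩ := (h.borel g).1 hg
  set N := Subgroup.normalizer (P : Set L)
  haveI : (P.subgroupOf N).Normal := Subgroup.normal_in_normalizer
  let π := QuotientGroup.mk' (P.subgroupOf N)
  have ht : π ⟨x * τ ^ n, hg⟩ = π ⟨τ, h.τ_P⟩ ^ n := by
    rw [← map_pow]
    refine QuotientGroup.eq.2 ?_
    rw [Subgroup.mem_subgroupOf]
    have hn := (Subgroup.mem_normalizer_iff.1 (Subgroup.inv_mem _ (N.pow_mem h.τ_P n)) x⁻¹).1
      (P.inv_mem hx)
    show (x * τ ^ n)⁻¹ * τ ^ n ∈ P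
    simpa [mul_assoc] using hn
  have hd1 : orderOf (π ⟨x * τ ^ n, hg⟩) ∣ 2 ^ i := orderOf_dvd_of_pow_eq_one (by
    rw [← map_pow, show (⟨x * τ ^ n, hg⟩ : N) ^ 2 ^ i = 1 from Subtype.ext h2, map_one])
  have hd2 : orderOf (π ⟨x * τ ^ n, hg⟩) ∣ q - 1 := by
    rw [ht]
    refine orderOf_dvd_of_pow_eq_one ?_
    rw [← map_pow, ← map_pow, ← pow_mul, mul_comm, pow_mul,
      show (⟨τ, h.τ_P⟩ : N) ^ (q - 1) = 1 from Subtype.ext (by
        show τ ^ (q - 1) = 1
        rw [← h.τ_order]; exact pow_orderOf_eq_one τ), one_pow, map_one]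
  have hodd : Odd (q - 1) := by
    obtain ⟨k, hk⟩ := h.q_even
    have := h.eight_le
    exact ⟨k - 1, by omega⟩
  have h1 : orderOf (π ⟨x * τ ^ n, hg⟩) = 1 :=
    Nat.eq_one_of_dvd_coprimes ((Nat.coprime_two_left.2 hodd).pow_left i) hd1 hd2
  rw [orderOf_eq_one_iff] at h1
  exact Subgroup.mem_subgroupOf.1 ((QuotientGroup.eq_one_iff _).1 h1)

theorem invol_mem_Z (h : SzLocal L q P Z τ) [Finite L] {g : L}
    (hg : g ∈ Subgroup.normalizer (P : Set L)) (h2 : g * g = 1) : g ∈ Z :=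
  h.mem_Z_iff.2 ⟨h.mem_P_of_pow hg (i := 1) (by rw [pow_one, pow_two, h2]), h2⟩

theorem not_commutative (h : SzLocal L q P Z τ) : ¬ IsMulCommutative L := fun hc => by
  have h1 : (⊤ : Subgroup L) ≤ Subgroup.center L := fun x _ =>
    Subgroup.mem_center_iff.2 fun y => hc.is_comm.comm y x
  rw [h.center_eq_bot] at h1
  haveI := h.simple
  obtain ⟨x, hx⟩ := exists_ne (1 : L)
  exact hx (Subgroup.mem_bot.1 (h1 (Subgroup.mem_top x)))

end SzLocal

/-- A finite Suzuki group is locally balanced. -/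
theorem isLocallyBalanced (facts : SzFacts.{u}) {L : Type u} [Group L] [Finite L]
    (hL : Cfsg.Lie.IsoSuzuki L) : Cfsg.IsLocallyBalanced L := by
  intro H hH x hx
  haveI : Fact (Nat.Prime 2) := ⟨Nat.prime_two⟩
  obtain ⟨P₀⟩ := (inferInstance : Nonempty (Sylow 2 L))
  obtain ⟨q₀, Z₀, τ₀, h₀⟩ := facts L hL P₀
  obtain ⟨x₀, hx₀⟩ := h₀.aut_two (x : MulAut L) ⟨1, by
    rw [pow_one, ← hx, ← Subgroup.orderOf_coe]
    exact pow_orderOf_eq_one _⟩
  have hxx : x₀ * x₀ = 1 := h₀.conj_injective (by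
    have hp := pow_orderOf_eq_one x
    rw [hx] at hp
    have hp' : (x : MulAut L) ^ 2 = 1 := congrArg Subtype.val hp
    rw [map_mul, map_one, ← hx₀, ← pow_two, hp'])
  obtain ⟨P, hP⟩ : ∃ P : Sylow 2 L, Subgroup.zpowers x₀ ≤ (P : Subgroup L) := by
    obtain ⟨j, -, hj⟩ := (Nat.dvd_prime_pow Nat.prime_two).1
      (orderOf_dvd_of_pow_eq_one (x := x₀) (n := 2 ^ 1) (by rw [pow_one, pow_two, hxx]))
    exact (IsPGroup.of_card (G := Subgroup.zpowers x₀) (n := j)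
      (by rw [Nat.card_zpowers, hj])).exists_le_sylow
  obtain ⟨q, Z, τ, h⟩ := facts L hL P
  have hx₀P : x₀ ∈ (P : Subgroup L) := hP (Subgroup.mem_zpowers x₀)
  have hx₀Z : x₀ ∈ Z := h.mem_Z_iff.2 ⟨hx₀P, hxx⟩
  have hx₀1 : x₀ ≠ 1 := fun e => by
    have : x = 1 := Subtype.ext (by rw [hx₀, e, map_one]; rfl)
    rw [this, orderOf_one] at hx
    exact absurd hx (by norm_num)
  rw [eq_bot_iff]
  set C := Subgroup.centralizer ({x} : Set ↥H) with hC
  set D := Cfsg.pPrimeCore 2 ↥C with hD'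
  rintro _ ⟨y, hy, rfl⟩
  rw [Subgroup.mem_bot]
  have hD : (Nat.card D).Coprime 2 := Cores.pPrimeCore_coprime 2
  replace hy : y ∈ D := hy
  have hyo : Odd (orderOf y) := Nat.coprime_two_right.1
    (hD.coprime_dvd_left (Subgroup.orderOf_dvd_natCard _ hy))
  set φ : MulAut L := ((y : ↥H) : MulAut L) with hφ
  have hcomm : φ * (x : MulAut L) = (x : MulAut L) * φ :=
    congrArg Subtype.val (Subgroup.mem_centralizer_singleton_iff.1 y.2)
  have hfix : φ x₀ = x₀ := h.conj_injective (by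
    have e : MulAut.conj (φ x₀) = φ * MulAut.conj x₀ * φ⁻¹ := by
      ext z; simp
    rw [e, ← hx₀, hcomm, mul_inv_cancel_right])
  have hPy : ∀ p ∈ (P : Subgroup L), φ p ∈ (P : Subgroup L) := fun p hp => by
    rw [← h.centralizer_eq x₀ hx₀Z hx₀1] at hp ⊢
    rw [Subgroup.mem_centralizer_singleton_iff] at hp ⊢
    rw [← hfix, ← map_mul, ← map_mul, hp]
  have hpfix : ∀ p ∈ (P : Subgroup L), φ p = p := by
    intro p hp
    set cp : ↥H := ⟨MulAut.conj p, hH ⟨p, rfl⟩⟩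
    have hcp : cp ∈ C := by
      refine Subgroup.mem_centralizer_singleton_iff.2 (Subtype.ext ?_)
      show MulAut.conj p * (x : MulAut L) = (x : MulAut L) * MulAut.conj p
      rw [hx₀, ← map_mul, ← map_mul, h.central x₀ hx₀Z p hp]
    have hmem : y * ⟨cp, hcp⟩ * y⁻¹ * (⟨cp, hcp⟩ : C)⁻¹ ∈ D := by
      have h1 := (inferInstance : D.Normal).conj_mem _ (D.inv_mem hy) ⟨cp, hcp⟩
      have h2 := D.mul_mem hy h1
      simpa [mul_assoc] using h2
    obtain ⟨i, hi⟩ := h.isPGroup_P ⟨φ p * p⁻¹, mul_mem (hPy p hp) (inv_mem hp)⟩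
    have hi' : (φ p * p⁻¹) ^ 2 ^ i = 1 := congrArg Subtype.val hi
    have heq : (((y * ⟨cp, hcp⟩ * y⁻¹ * (⟨cp, hcp⟩ : C)⁻¹ : C) : ↥H) : MulAut L) =
        MulAut.conj (φ p * p⁻¹) := by
      rw [map_mul, map_inv]
      have e : MulAut.conj (φ p) = φ * MulAut.conj p * φ⁻¹ := by
        ext z; simp
      rw [e]; rfl
    have h1 : y * ⟨cp, hcp⟩ * y⁻¹ * (⟨cp, hcp⟩ : C)⁻¹ = 1 := by
      refine orderOf_eq_one_iff.1 (Nat.eq_one_of_dvd_coprimes
        (Nat.Coprime.pow_right i hD) (Subgroup.orderOf_dvd_natCard _ hmem) ?_)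
      refine orderOf_dvd_of_pow_eq_one (Subtype.ext (Subtype.ext ?_))
      rw [Subgroup.coe_pow, Subgroup.coe_pow, heq, ← map_pow, hi', map_one]; rfl
    rw [h1] at heq
    have h3 : φ p * p⁻¹ = 1 := h.conj_injective (by rw [← heq, map_one]; rfl)
    exact mul_inv_eq_one.1 h3
  obtain ⟨w, hw, hφw⟩ := h.aut_fix φ fun z hz => hpfix z (h.Z_le hz)
  obtain ⟨i, hi⟩ := h.isPGroup_P ⟨w, hw⟩
  have hw' : w ^ 2 ^ i = 1 := congrArg Subtype.val hi
  refine congrArg Subtype.val (show y = 1 from ?_)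
  refine orderOf_eq_one_iff.1 (Nat.eq_one_of_dvd_coprimes
    ((Nat.coprime_two_right.2 hyo).pow_right i) dvd_rfl ?_)
  refine orderOf_dvd_of_pow_eq_one (Subtype.ext (Subtype.ext ?_))
  rw [Subgroup.coe_pow, Subgroup.coe_pow, ← hφ, hφw, ← map_pow, hw', map_one]; rfl

end Cfsg.Agent.Lib.Thompson3Prime33
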