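import Cfsg.Agent.Lib.Thompson3Prime33.Basic
import Cfsg.Agent.Lib.Thompson3Prime33.SzExtra
import Cfsg.Agent.Lib.GlaubermanTwo54.Pair

/-!
# Components of small sections and balance

Owner: helper33.
-/

set_option autoImplicit false
set_option linter.style.haveILetI false
set_option linter.unusedSectionVars false

namespace Cfsg.Agent.Lib.Thompson3Prime33

universe u

variable {G : Type u} [Group G] [Finite G]

/-- A small group with trivial odd core. -/
structure Sec (G : Type u) [Group G] [Finite G] (X : Type u) [Group X] [Finite X] : Prop where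
  hyp : Hyp G
  small : Small G X
  core : Cfsg.pPrimeCore 2 X = ⊥

namespace Sec

variable {X : Type u} [Group X] [Finite X]

theorem center_two (h : Sec G X) {L : Subgroup X} (hL : Cfsg.IsComponent L) :
    IsPGroup 2 (Subgroup.center L) := by
  haveI : Fact (Nat.Prime 2) := ⟨Nat.prime_two⟩
  set Z := Subgroup.center L
  have key : ∀ q : ℕ, q.Prime → q ∣ Nat.card Z → q = 2 := by
    intro q hq hd
    by_contra hne
    haveI := Fact.mk hq
    obtain ⟨z, hz⟩ := exists_prime_orderOf_dvd_card' (G := Z) q hd
    have h1 : (((Subgroup.zpowers (z : L))).map L.subtype).IsSubnormal := by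
      refine Subgroup.IsSubnormal.trans' (Subgroup.Normal.isSubnormal ⟨fun x hx g => ?_⟩) hL.1
      obtain ⟨n, rfl⟩ := Subgroup.mem_zpowers_iff.1 hx
      have : g * (z : L) ^ n = (z : L) ^ n * g :=
        Subgroup.mem_center_iff.1 (Z.zpow_mem z.2 n) g
      rw [this, mul_inv_cancel_right]
      exact Subgroup.zpow_mem _ (Subgroup.mem_zpowers _) n
    have hc : (Nat.card ((Subgroup.zpowers (z : L)).map L.subtype)).Coprime 2 := by
      rw [Subgroup.card_map_of_injective L.subtype_injective, Nat.card_zpowers, Subgroup.orderOf_coe,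
        hz]
      exact (Nat.coprime_primes hq Nat.prime_two).2 hne
    have h2 := Components.PComponent.subnormal_coprime_le (p := 2) h1 hc
    rw [h.core, le_bot_iff, Subgroup.map_eq_bot_iff_of_injective _ L.subtype_injective,
      Subgroup.zpowers_eq_bot] at h2
    rw [← Subgroup.orderOf_coe, h2, orderOf_one] at hz
    exact hq.ne_one hz.symm
  refine IsPGroup.iff_card.2 ⟨(Nat.card Z).primeFactorsList.length, ?_⟩
  exact Nat.eq_prime_pow_of_unique_prime_dvd Nat.card_pos.ne' fun {d} hd hdd => key d hd hdd

theorem suzuki (h : Sec G X) {L : Subgroup X} (hL : Cfsg.IsComponent L) :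
    Cfsg.Lie.IsoSuzuki (L ⧸ Subgroup.center L) := by
  refine h.hyp.suzuki ((h.small.subgroup L).surj (QuotientGroup.mk' (Subgroup.center L))
    (QuotientGroup.mk'_surjective _)) hL.2.2 fun hc => ?_
  haveI := hL.2.2
  haveI := hL.2.1
  haveI : Group.IsPerfect (L ⧸ Subgroup.center L) :=
    Group.IsPerfect.ofSurjective (QuotientGroup.mk'_surjective (Subgroup.center L))
  exact Group.IsPerfect.not_isSolvable (L ⧸ Subgroup.center L)
    (IsSimpleGroup.comm_iff_isSolvable.1 fun a b => hc.is_comm.comm a b)

end Sec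

theorem Hyp.sec_centralizer (h : Hyp G) {x : G} (hx : x ≠ 1) :
    Sec G (↥(Subgroup.centralizer ({x} : Set G)) ⧸
      Cfsg.pPrimeCore 2 ↥(Subgroup.centralizer ({x} : Set G))) := by
  haveI : Fact (Nat.Prime 2) := ⟨Nat.prime_two⟩
  exact ⟨h, (small_subgroup (h.centralizer_ne_top hx)).surj _ (QuotientGroup.mk'_surjective _),
    Cores.pPrimeCore_quotient_pPrimeCore 2⟩

/-- The group is balanced. -/
theorem Hyp.balanced (h : Hyp G) : Cfsg.IsBalanced G := by
  haveI : Fact (Nat.Prime 2) := ⟨Nat.prime_two⟩
  rw [Balance.isBalanced_iff_isKBalanced]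
  refine Balance.isKBalanced_of_components le_rfl fun x hx K hK => ?_
  exact Balance.isLocallyKBalanced_of_isLocallyBalanced (isLocallyBalanced h.deps.facts
    ((h.sec_centralizer fun e => by rw [e, orderOf_one] at hx; omega).suzuki hK))

theorem Hyp.balance (h : Hyp G) {a b : G} (ha : orderOf a = 2) (hb : orderOf b = 2)
    (hab : a * b = b * a) :
    Cfsg.centralizerPPrimeCore 2 a ⊓ Subgroup.centralizer ({b} : Set G) ≤
      Cfsg.centralizerPPrimeCore 2 b :=
  (h.balanced a b ha hb hab).le.trans inf_le_left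

end Cfsg.Agent.Lib.Thompson3Prime33
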