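import Cfsg.Agent.Lib.Thompson3Prime33.Loc

/-!
# A component of an involution centraliser which is not centralised by `F`

Owner: helper33.
-/

set_option autoImplicit false
set_option linter.style.haveILetI false
set_option linter.unusedSectionVars false
set_option linter.unusedVariables false

namespace Cfsg.Agent.Lib.Thompson3Prime33

universe u

variable {G : Type u} [Group G] [Finite G]

/-- The preimage in `G` of a subgroup of `C(x) / O(C(x))`. -/
def lift (x : G) (K : Subgroup (CQ x)) : Subgroup G :=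
  (K.comap (cmap x)).map (Subgroup.centralizer ({x} : Set G)).subtype

theorem lift_le (x : G) (K : Subgroup (CQ x)) : lift x K ≤ Subgroup.centralizer ({x} : Set G) :=
  Subgroup.map_subtype_le _

theorem mem_lift {x : G} {K : Subgroup (CQ x)} {g : G} :
    g ∈ lift x K ↔ ∃ hg : g ∈ Subgroup.centralizer ({x} : Set G), cmap x ⟨g, hg⟩ ∈ K :=
  ⟨fun ⟨g', hg', e⟩ => by subst e; exact ⟨g'.2, hg'⟩, fun ⟨hg, h⟩ => ⟨⟨g, hg⟩, h, rfl⟩⟩

theorem mem_lift_coe {x : G} {K : Subgroup (CQ x)} {g : ↥(Subgroup.centralizer ({x} : Set G))} :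
    (g : G) ∈ lift x K ↔ cmap x g ∈ K :=
  mem_lift.trans ⟨fun ⟨_, h⟩ => h, fun h => ⟨g.2, h⟩⟩

theorem core_le_lift (x : G) (K : Subgroup (CQ x)) : Cfsg.centralizerPPrimeCore 2 x ≤ lift x K := by
  rintro _ ⟨g, hg, rfl⟩
  refine mem_lift_coe.2 ?_
  rw [show cmap x g = 1 from cmap_eq_one.2 ⟨g, hg, rfl⟩]
  exact one_mem _

/-- The inclusion of the preimage into `C(x)`. -/
def liftIncl (x : G) (L : Subgroup (CQ x)) : ↥(lift x L) →* ↥(Subgroup.centralizer ({x} : Set G)) :=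
  Subgroup.inclusion (lift_le x L)

theorem cmap_liftIncl_mem {x : G} {L : Subgroup (CQ x)} (g : ↥(lift x L)) :
    cmap x (liftIncl x L g) ∈ L :=
  (mem_lift_coe (g := liftIncl x L g)).1 g.2

/-- The map of the preimage onto a subgroup of `C(x) / O(C(x))`. -/
noncomputable def toL (x : G) (L : Subgroup (CQ x)) : ↥(lift x L) →* ↥L :=
  ((cmap x).comp (liftIncl x L)).codRestrict L cmap_liftIncl_mem

theorem coe_toL {x : G} {L : Subgroup (CQ x)} (g : ↥(lift x L)) :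
    (toL x L g : CQ x) = cmap x ⟨g, lift_le x L g.2⟩ := rfl

/-- The map to the central quotient of a subgroup of `C(x) / O(C(x))`. -/
noncomputable def lmap (x : G) (L : Subgroup (CQ x)) : ↥(lift x L) →* ↥L ⧸ Subgroup.center ↥L :=
  (sig L).comp (toL x L)

theorem lmap_apply {x : G} {L : Subgroup (CQ x)} (g : ↥(lift x L)) :
    lmap x L g = sig L (toL x L g) := rfl

theorem lmap_eq_sig {x : G} {L : Subgroup (CQ x)} (g : ↥(lift x L)) (l : L)
    (h : cmap x ⟨g, lift_le x L g.2⟩ = (l : CQ x)) : lmap x L g = sig L l :=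
  congrArg (sig L) (Subtype.ext (show (toL x L g : CQ x) = l from h))

theorem lmap_surjective (x : G) (L : Subgroup (CQ x)) : Function.Surjective (lmap x L) := by
  intro y
  obtain ⟨l, rfl⟩ := sig_surjective L y
  obtain ⟨g, hg⟩ := cmap_surjective x l
  exact ⟨⟨g, mem_lift_coe.2 (hg ▸ l.2)⟩, lmap_eq_sig _ l hg⟩

theorem exists_lmap {x : G} (L : Subgroup (CQ x)) (l : L) :
    ∃ g : ↥(lift x L), cmap x ⟨g, lift_le x L g.2⟩ = (l : CQ x) ∧ lmap x L g = sig L l := by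
  obtain ⟨g, hg⟩ := cmap_surjective x (l : CQ x)
  exact ⟨⟨g, mem_lift_coe.2 (hg ▸ l.2)⟩, hg, lmap_eq_sig _ l hg⟩

/-- The data of a component not centralised by `F`. -/
structure CompData (x : G) (R F : Subgroup G) (L : Subgroup (CQ x)) (q : ℕ)
    (Z : Subgroup (↥L ⧸ Subgroup.center ↥L)) (τ : ↥L ⧸ Subgroup.center ↥L) : Prop where
  hyp : Hyp G
  base : Loc x R F
  comp : Cfsg.IsComponent L
  ne : ¬ qimg x F ≤ Subgroup.centralizer (L : Set (CQ x))
  loc : SzLocal (↥L ⧸ Subgroup.center ↥L) q (pbar (qimg x R) L) Z τ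

theorem Loc.exists_compData {x : G} {R F : Subgroup G} (h : Loc x R F) (hh : Hyp G)
    {L : Subgroup (CQ x)} (hL : Cfsg.IsComponent L)
    (hne : ¬ qimg x F ≤ Subgroup.centralizer (L : Set (CQ x))) :
    ∃ q Z τ, CompData x R F L q Z τ := by
  obtain ⟨Rb, hRb, -⟩ := h.exists_sc
  obtain ⟨q, Z, τ, hloc⟩ := (h.sec hh).exists_local hL Rb
  rw [hRb] at hloc
  exact ⟨q, Z, τ, hh, h, hL, hne, hloc⟩

namespace CompData

variable {x : G} {R F : Subgroup G} {L : Subgroup (CQ x)} {q : ℕ}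
  {Z : Subgroup (↥L ⧸ Subgroup.center ↥L)} {τ : ↥L ⧸ Subgroup.center ↥L}

theorem sec (d : CompData x R F L q Z τ) : Sec G (CQ x) := d.base.sec d.hyp

theorem exists_sc (d : CompData x R F L q Z τ) :
    ∃ Rb : Sylow 2 (CQ x), SC Rb (qimg x F) ∧ (Rb : Subgroup (CQ x)) = qimg x R ∧
      SzLocal (↥L ⧸ Subgroup.center ↥L) q (pbar (Rb : Subgroup (CQ x)) L) Z τ := by
  obtain ⟨Rb, hRb, hsc⟩ := d.base.exists_sc
  exact ⟨Rb, hsc, hRb, hRb.symm ▸ d.loc⟩

theorem lmap_mem_pbar (d : CompData x R F L q Z τ) {g : ↥(lift x L)} (hg : (g : G) ∈ R) :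
    lmap x L g ∈ pbar (qimg x R) L :=
  ⟨toL x L g, ⟨⟨g, lift_le x L g.2⟩, hg, (coe_toL g).symm⟩, rfl⟩

theorem exists_R (d : CompData x R F L q Z τ) {p : ↥L ⧸ Subgroup.center ↥L}
    (hp : p ∈ pbar (qimg x R) L) : ∃ g : ↥(lift x L), (g : G) ∈ R ∧ lmap x L g = p := by
  obtain ⟨l, ⟨r, hr, hrl⟩, rfl⟩ := hp
  exact ⟨⟨r, mem_lift_coe.2 (hrl ▸ l.2)⟩, hr, lmap_eq_sig _ l hrl⟩

/-- An element of `F` in the preimage of `L` maps into `Z`. -/
theorem lmap_mem_Z (d : CompData x R F L q Z τ) {g : ↥(lift x L)} (hg : (g : G) ∈ F) :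
    lmap x L g ∈ Z := by
  obtain ⟨Rb, hsc, -, hloc⟩ := d.exists_sc
  exact d.sec.sig_mem_Z hsc d.comp hloc (l := toL x L g) ⟨⟨g, lift_le x L g.2⟩, hg, (coe_toL g).symm⟩

theorem exists_F (d : CompData x R F L q Z τ) {z : ↥L ⧸ Subgroup.center ↥L} (hz : z ∈ Z) :
    ∃ g : ↥(lift x L), (g : G) ∈ F ∧ lmap x L g = z := by
  obtain ⟨Rb, hsc, -, hloc⟩ := d.exists_sc
  obtain ⟨l, ⟨f, hf, hfl⟩, rfl⟩ := (d.sec.dichotomy hsc d.comp hloc d.ne).1 z hz
  exact ⟨⟨f, mem_lift_coe.2 (hfl ▸ l.2)⟩, hf, lmap_eq_sig _ l hfl⟩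

/-- `F` is the product of its part in `L` and its part centralising `L`. -/
theorem exists_decomp (d : CompData x R F L q Z τ) {f : G} (hf : f ∈ F) :
    ∃ l ∈ F ⊓ lift x L, ∃ c ∈ F ⊓ lift x (Subgroup.centralizer (L : Set (CQ x))), f = l * c := by
  obtain ⟨Rb, hsc, -, hloc⟩ := d.exists_sc
  obtain ⟨l, ⟨g, hg, hgl⟩, hc⟩ := (d.sec.dichotomy hsc d.comp hloc d.ne).2
    (cmap x ⟨f, d.base.le_cent hf⟩) ⟨_, hf, rfl⟩
  have hgf : (g : G) ∈ F := hg
  refine ⟨g, ⟨hgf, mem_lift_coe.2 (hgl ▸ l.2)⟩, (g : G)⁻¹ * f, ⟨F.mul_mem (F.inv_mem hgf) hf,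
    mem_lift.2 ⟨mul_mem (inv_mem g.2) (d.base.le_cent hf), ?_⟩⟩, (mul_inv_cancel_left _ _).symm⟩
  rw [← hgl, ← map_inv, ← map_mul] at hc
  exact hc

theorem inf_center (d : CompData x R F L q Z τ) {g : ↥(lift x L)}
    (hg : (g : G) ∈ lift x (Subgroup.centralizer (L : Set (CQ x)))) : lmap x L g = 1 := by
  rw [lmap_apply, QuotientGroup.mk'_apply, QuotientGroup.eq_one_iff, Subgroup.mem_center_iff]
  obtain ⟨hgC, hc⟩ := mem_lift.1 hg
  exact fun m => Subtype.ext (show (m : CQ x) * toL x L g = toL x L g * m from by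
    rw [coe_toL]; exact Subgroup.mem_centralizer_iff.1 hc m m.2)

/-- A torus element normalising `F`. -/
theorem exists_torus (d : CompData x R F L q Z τ) :
    ∃ t : ↥(lift x L), (t : G) ∈ Subgroup.normalizer (F : Set G) ∧ lmap x L t = τ := by
  obtain ⟨Rb, hsc, -, hloc⟩ := d.exists_sc
  obtain ⟨l, hl⟩ := sig_surjective L τ
  have hN : (l : CQ x) ∈ Subgroup.normalizer (qimg x F : Set (CQ x)) :=
    mem_normalizer_of_conj_mem fun f hf =>
      (d.sec.conj_lift hsc d.comp hloc (g := l) (hl ▸ hloc.τ_P) hf).1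
  obtain ⟨g, hg⟩ := cmap_surjective x (l : CQ x)
  obtain ⟨o, ho, hon⟩ := d.base.exists_lift_normalizer (g := g) (hg ▸ hN)
  have hog : cmap x (o * g) = l := by rw [map_mul, ho, one_mul, hg]
  refine ⟨⟨(o * g : ↥(Subgroup.centralizer ({x} : Set G))), mem_lift_coe.2 (hog ▸ l.2)⟩, hon, ?_⟩
  rw [← hl]
  exact lmap_eq_sig _ l hog

/-- If `R ∩ L` centralises `F ∩ L` then `L` is simple. -/
theorem center_eq_bot (d : CompData x R F L q Z τ)
    (hcent : ∀ r ∈ R, r ∈ lift x L → ∀ f ∈ F, f ∈ lift x L → r * f = f * r) :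
    Subgroup.center ↥L = ⊥ := by
  haveI : Fact (Nat.Prime 2) := ⟨Nat.prime_two⟩
  obtain ⟨Rb, hsc, hRb, hloc⟩ := d.exists_sc
  obtain ⟨S, hS⟩ := (LAEven54.SylowJoin.isSylowIn_inf Rb d.comp.1).exists_sylow
  have hS' : (S : Subgroup L) = (Rb : Subgroup (CQ x)).subgroupOf L := by
    apply Subgroup.map_injective L.subtype_injective
    rw [← hS, Subgroup.subgroupOf_map_subtype]
  haveI := d.comp.2.1
  have h := d.hyp.deps.extTrivial _ (d.sec.suzuki d.comp) (S.mapSurjective (sig_surjective L))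
    L (sig L) (sig_surjective L) (QuotientGroup.ker_mk' _).le
    ((d.sec.center_two d.comp).of_equiv (MulEquiv.subgroupCongr (QuotientGroup.ker_mk' _).symm))
    (Group.IsPerfect.commutator_eq_top (G := L)) (fun a b ha ha2 hb => ?_)
  · rwa [QuotientGroup.ker_mk'] at h
  rw [Sylow.coe_mapSurjective, hS'] at ha hb
  have haZ : sig L a ∈ Z := hloc.mem_Z_iff.2 ⟨ha, ha2⟩
  have hbR : (b : CQ x) ∈ qimg x R := hRb ▸ d.sec.mem_of_sig_mem d.comp Rb hb
  obtain ⟨f, hf, hfa⟩ := d.exists_F haZ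
  have hfa' : sig L (toL x L f) = sig L a := hfa
  rw [QuotientGroup.mk'_apply, QuotientGroup.mk'_apply, QuotientGroup.eq] at hfa'
  obtain ⟨r, hr, hrb⟩ := hbR
  have hc := hcent r hr (mem_lift_coe.2 (hrb ▸ b.2)) f hf f.2
  set f' : L := toL x L f with hf'
  have h2 : f' * b = b * f' := by
    refine Subtype.ext ?_
    show (toL x L f : CQ x) * (b : CQ x) = (b : CQ x) * toL x L f
    rw [coe_toL, ← hrb, ← map_mul, ← map_mul]
    exact congrArg (cmap x) (Subtype.ext hc.symm)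
  have h3 := Subgroup.mem_center_iff.1 hfa' b
  calc a * b = f' * ((f'⁻¹ * a) * b) := by group
    _ = f' * (b * (f'⁻¹ * a)) := by rw [h3]
    _ = (f' * b) * (f'⁻¹ * a) := by group
    _ = (b * f') * (f'⁻¹ * a) := by rw [h2]
    _ = b * a := by group

end CompData

end Cfsg.Agent.Lib.Thompson3Prime33
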