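import Cfsg.Agent.Lib.Thompson3Prime33.Comp
import Cfsg.Agent.Lib.Signalizer.Complete
import Cfsg.Agent.Lib.PGroups.ElemAb

/-!
# The completion of the cores of the centralisers of elements of `A`

Owner: helper33.
-/

set_option autoImplicit false
set_option linter.style.haveILetI false
set_option linter.unusedSectionVars false

namespace Cfsg.Agent.Lib.Thompson3Prime33

universe u

variable {G : Type u} [Group G] [Finite G] {T : Sylow 2 G} {A : Subgroup G}

/-- The completion. -/
def wcl (A : Subgroup G) : Subgroup G :=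
  Cfsg.signalizerClosure A (fun x : G => Cfsg.centralizerPPrimeCore 2 x)

namespace Closed

theorem functor (h : Closed G T A) :
    Cfsg.IsSolvableSignalizerFunctor 2 A (fun x : G => Cfsg.centralizerPPrimeCore 2 x) := by
  haveI : Fact (Nat.Prime 2) := ⟨Nat.prime_two⟩
  refine ⟨⟨fun b _ _ => Balance.centralizerPPrimeCore_le b,
    fun b _ _ => Balance.not_dvd_card_centralizerPPrimeCore b, fun b hb _ c hc x hx => ?_,
    fun b hb hb1 c hc hc1 => h.hyp.balance (h.order_two hb hb1) (h.order_two hc hc1) (h.comm hb hc)⟩,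
    fun b _ _ => OddOrder.FeitThompson.isSolvable_of_odd_card ?_⟩
  · exact (Subgroup.mem_normalizer_iff.1 (Balance.centralizer_le_normalizer_centralizerPPrimeCore b
      (Subgroup.mem_centralizer_singleton_iff.2 (h.comm hc hb))) x).1 hx
  · rw [← Nat.not_even_iff_odd, even_iff_two_dvd]
    exact Balance.not_dvd_card_centralizerPPrimeCore b

theorem wcl_spec (h : Closed G T A) :
    wcl A ∈ Cfsg.signalizerFamily 2 A (fun x : G => Cfsg.centralizerPPrimeCore 2 x) ∧
      ∀ a ∈ A, a ≠ 1 → wcl A ⊓ Subgroup.centralizer ({a} : Set G) =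
        Cfsg.centralizerPPrimeCore 2 a :=
  haveI : Fact (Nat.Prime 2) := ⟨Nat.prime_two⟩
  Signalizer.Completes.closure h.elem h.eight h.functor.1
    (Signalizer.completes_two h.elem h.eight h.functor)

theorem odd_wcl (h : Closed G T A) : Odd (Nat.card (wcl A)) := by
  rw [← Nat.not_even_iff_odd, even_iff_two_dvd]
  exact h.wcl_spec.1.2.1

theorem wcl_inf (h : Closed G T A) {a : G} (ha : a ∈ A) (ha1 : a ≠ 1) :
    wcl A ⊓ Subgroup.centralizer ({a} : Set G) = Cfsg.centralizerPPrimeCore 2 a :=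
  h.wcl_spec.2 a ha ha1

theorem core_le_wcl (h : Closed G T A) {a : G} (ha : a ∈ A) (ha1 : a ≠ 1) :
    Cfsg.centralizerPPrimeCore 2 a ≤ wcl A :=
  le_iSup (fun b : {b : G // b ∈ A ∧ b ≠ 1} => Cfsg.centralizerPPrimeCore 2 (b : G)) ⟨a, ha, ha1⟩

theorem four_not_cyclic (h : Closed G T A) {E : Subgroup G} (hE : E ≤ A) (h4 : 4 ≤ Nat.card E) :
    ¬ IsCyclic E := fun hcyc => by
  have := Nat.le_of_dvd two_pos
    (PGroups.elemAb_card_dvd_of_isCyclic (PGroups.elemAb_mono h.elem hE))
  omega

/-- An odd group normalised by a four subgroup of `A` is generated by the fixed points. -/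
theorem le_iSup_fixed (h : Closed G T A) {E W : Subgroup G} (hE : E ≤ A) (h4 : 4 ≤ Nat.card E)
    (hW : Odd (Nat.card W)) (hEW : E ≤ Subgroup.normalizer (W : Set G)) {B : Subgroup G}
    (hB : ∀ e ∈ E, e ≠ 1 → W ⊓ Subgroup.centralizer ({e} : Set G) ≤ B) : W ≤ B := by
  haveI : Fact (Nat.Prime 2) := ⟨Nat.prime_two⟩
  have hEe := PGroups.elemAb_mono h.elem hE
  haveI := hEe.1
  obtain ⟨k, hk⟩ := IsPGroup.iff_card.1 (PGroups.elemAb_isPGroup hEe)
  rw [← Coprime.iSup_centralizer_eq (h.four_not_cyclic hE h4) hEW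
    (by rw [hk]; exact (Nat.coprime_two_left.2 hW).pow_left k)]
  exact iSup₂_le fun e he => hB e he.1 he.2

theorem le_normalizer_wcl (h : Closed G T A) : A ≤ Subgroup.normalizer (wcl A : Set G) :=
  fun a ha => mem_normalizer_of_conj_mem fun x hx => h.wcl_spec.1.2.2.1 a ha x hx

/-- The completion is generated by the cores attached to a four subgroup. -/
theorem wcl_le (h : Closed G T A) {E : Subgroup G} (hE : E ≤ A) (h4 : 4 ≤ Nat.card E) {B : Subgroup G}
    (hB : ∀ e ∈ E, e ≠ 1 → Cfsg.centralizerPPrimeCore 2 e ≤ B) : wcl A ≤ B :=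
  h.le_iSup_fixed hE h4 h.odd_wcl (hE.trans h.le_normalizer_wcl) fun e he he1 =>
    (h.wcl_inf (hE he) he1).le.trans (hB e he he1)

theorem mem_normalizer_wcl (h : Closed G T A) {E : Subgroup G} (hE : E ≤ A) (h4 : 4 ≤ Nat.card E)
    {g : G} (hg : cj g E ≤ A) : g ∈ Subgroup.normalizer (wcl A : Set G) := by
  refine mem_normalizer_of_cj_le (Subgroup.map_le_iff_le_comap.2 (h.wcl_le hE h4 fun e he he1 => ?_))
  rw [← Subgroup.map_le_iff_le_comap, ← Balance.centralizerPPrimeCore_conj]
  exact h.core_le_wcl (hg (conj_mem_cj he)) fun e' => he1 (conj_eq_one_iff.1 e')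

theorem normalizer_le_wcl (h : Closed G T A) :
    Subgroup.normalizer (A : Set G) ≤ Subgroup.normalizer (wcl A : Set G) := fun g hg =>
  h.mem_normalizer_wcl le_rfl (le_trans (by norm_num) h.eight)
    (Subgroup.mem_normalizer_iff_map_conj_eq.1 hg).le

/-- An involution normalising `A` centralises a four subgroup of it. -/
theorem four_inf (h : Closed G T A) {u : G} (hu : u * u = 1)
    (huA : u ∈ Subgroup.normalizer (A : Set G)) :
    4 ≤ Nat.card (A ⊓ Subgroup.centralizer ({u} : Set G) : Subgroup G) := by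
  set F := A ⊓ Subgroup.centralizer ({u} : Set G)
  have hui : u⁻¹ = u := inv_eq_of_mul_eq_one_right hu
  let φ : A →* A :=
    { toFun := fun a => ⟨(a : G) * (u * (a : G) * u⁻¹), mul_mem a.2 (normalizer_conj huA a.2)⟩
      map_one' := Subtype.ext (by simp)
      map_mul' := fun a b => Subtype.ext (by
        show (a : G) * b * (u * ((a : G) * b) * u⁻¹) =
          (a : G) * (u * a * u⁻¹) * ((b : G) * (u * b * u⁻¹))
        have h1 : (b : G) * (u * a * u⁻¹) = u * a * u⁻¹ * b :=
          h.comm b.2 (normalizer_conj huA a.2)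
        calc (a : G) * b * (u * ((a : G) * b) * u⁻¹)
            = a * ((b : G) * (u * a * u⁻¹)) * (u * b * u⁻¹) := by group
          _ = _ := by rw [h1]; group) }
  have hker : ∀ a ∈ φ.ker, (a : G) ∈ F := by
    intro a ha
    refine ⟨a.2, Subgroup.mem_centralizer_singleton_iff.2 (commute_of_conj_eq ?_).symm⟩
    exact mul_left_cancel ((congrArg Subtype.val (MonoidHom.mem_ker.1 ha)).trans (h.sq a.2).symm)
  have hran : ∀ a ∈ φ.range, (a : G) ∈ F := by
    rintro _ ⟨a, rfl⟩
    refine ⟨mul_mem a.2 (normalizer_conj huA a.2), Subgroup.mem_centralizer_singleton_iff.2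
      (commute_of_conj_eq ?_).symm⟩
    show u * ((a : G) * (u * a * u⁻¹)) * u⁻¹ = (a : G) * (u * a * u⁻¹)
    rw [h.comm a.2 (normalizer_conj huA a.2), hui]
    calc u * (u * (a : G) * u * a) * u = (u * u) * ((a : G) * (u * a * u)) := by group
      _ = _ := by rw [hu, one_mul]; exact h.comm a.2 (by simpa [hui] using normalizer_conj huA a.2)
  have h1 : Nat.card φ.ker ≤ Nat.card F :=
    Nat.card_le_card_of_injective (fun a => (⟨(a.1 : G), hker a.1 a.2⟩ : F))
      fun a b e' => Subtype.ext (Subtype.ext (congrArg (fun w : F => (w : G)) e'))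
  have h2 : Nat.card φ.range ≤ Nat.card F :=
    Nat.card_le_card_of_injective (fun a => (⟨(a.1 : G), hran a.1 a.2⟩ : F))
      fun a b e' => Subtype.ext (Subtype.ext (congrArg (fun w : F => (w : G)) e'))
  have h3 : Nat.card φ.range * Nat.card φ.ker = Nat.card A := by
    rw [← Subgroup.index_ker, mul_comm, φ.ker.card_mul_index]
  obtain ⟨k, hk⟩ := IsPGroup.iff_card.1 (PGroups.elemAb_isPGroup
    (PGroups.elemAb_mono h.elem (inf_le_left : F ≤ A)))
  have h8 := h.eight
  have h9 : 8 ≤ Nat.card F * Nat.card F := le_trans (h3 ▸ h8) (Nat.mul_le_mul h2 h1)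
  rw [hk] at h9 ⊢
  rcases k with _ | _ | k
  · norm_num at h9
  · norm_num at h9
  · calc 4 = 2 ^ 2 := rfl
      _ ≤ 2 ^ (k + 1 + 1) := Nat.pow_le_pow_right (by norm_num) (by omega)

theorem odd_core_le (h : Closed G T A) {u : G} (hu : orderOf u = 2)
    (huA : u ∈ Subgroup.normalizer (A : Set G)) {B : Subgroup G}
    (hB : ∀ a ∈ A, a ≠ 1 → a * u = u * a →
      Cfsg.centralizerPPrimeCore 2 u ⊓ Subgroup.centralizer ({a} : Set G) ≤ B) :
    Cfsg.centralizerPPrimeCore 2 u ≤ B := by
  have huu : u * u = 1 := by rw [← pow_two, ← hu, pow_orderOf_eq_one]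
  refine h.le_iSup_fixed (E := A ⊓ Subgroup.centralizer ({u} : Set G)) inf_le_left
    (h.four_inf huu huA) ?_ (inf_le_right.trans
      (Balance.centralizer_le_normalizer_centralizerPPrimeCore u)) fun e he he1 => hB e he.1 he1 (Subgroup.mem_centralizer_singleton_iff.1 he.2)
  rw [← Nat.not_even_iff_odd, even_iff_two_dvd]
  haveI : Fact (Nat.Prime 2) := ⟨Nat.prime_two⟩
  exact Balance.not_dvd_card_centralizerPPrimeCore u

theorem core_le_wcl' (h : Closed G T A) {u : G} (hu : orderOf u = 2)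
    (huA : u ∈ Subgroup.normalizer (A : Set G)) : Cfsg.centralizerPPrimeCore 2 u ≤ wcl A := by
  exact h.odd_core_le hu huA fun a ha ha1 hau =>
    (h.hyp.balance hu (h.order_two ha ha1) hau.symm).trans (h.core_le_wcl ha ha1)

end Closed

end Cfsg.Agent.Lib.Thompson3Prime33
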