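import Cfsg.Agent.Lib.Thompson3Prime33.CountSets

/-!
# The bad involutions `v` outside `M` whose product with `z` determines a given involution `w`

They are the `w s` with `s` an involution of the preimage of the component at `w` outside `M`.

Owner: helper20.
-/

set_option autoImplicit false
set_option linter.style.haveILetI false
set_option linter.unusedSectionVars false
set_option linter.unusedVariables false

namespace Cfsg.Agent.Lib.Thompson3Prime33

universe u

open scoped Classical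

variable {G : Type u} [Group G] [Finite G] {T : Sylow 2 G} {A M : Subgroup G}

theorem pow_odd_eq_self {X : Type*} [Group X] {x : X} (h : x * x = 1) {n : ℕ} (hn : Odd n) :
    x ^ n = x := by
  obtain ⟨k, rfl⟩ := hn
  rw [pow_succ, pow_mul, pow_two, h, one_pow, one_mul]

/-- Two commuting elements have the common fixed subgroup as intersection. -/
theorem inf_cent_pair (H : Subgroup G) (a b : G) :
    H ⊓ Subgroup.centralizer ({a, b} : Set G) =
      H ⊓ Subgroup.centralizer ({a} : Set G) ⊓ Subgroup.centralizer ({b} : Set G) := by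
  ext x
  simp only [Subgroup.mem_inf, Subgroup.mem_centralizer_iff, Set.mem_insert_iff,
    Set.mem_singleton_iff, forall_eq_or_imp, forall_eq]
  tauto

namespace BadData

variable {w : G} {R : Subgroup G} {L : Subgroup (CQ w)} {q : ℕ}
  {Z : Subgroup (↥L ⧸ Subgroup.center ↥L)} {τ : ↥L ⧸ Subgroup.center ↥L}

/-- The involutions of the preimage of the component outside `M`. -/
noncomputable def outer (b : BadData T A M w R L q Z τ) : Finset G :=
  (Set.toFinite {s : G | s ∈ lift w L ∧ s * s = 1 ∧ s ∉ M}).toFinset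

theorem mem_outer (b : BadData T A M w R L q Z τ) {s : G} :
    s ∈ b.outer ↔ s ∈ lift w L ∧ s * s = 1 ∧ s ∉ M :=
  Set.Finite.mem_toFinset _

section

variable {z : G}

theorem mem_F (b : BadData T A M w R L q Z τ) (hz : z ∈ A) (hzw : z * w = w * z) :
    z ∈ A ⊓ Subgroup.centralizer ({w} : Set G) :=
  ⟨hz, Subgroup.mem_centralizer_singleton_iff.2 hzw⟩

theorem lmap_z_mem (b : BadData T A M w R L q Z τ) (hz : z ∈ A) (hzw : z * w = w * z) :
    lmap w L ⟨z, b.le_lift (b.mem_F hz hzw)⟩ ∈ Z :=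
  b.comp.lmap_mem_Z (b.mem_F hz hzw)

theorem lmap_z_ne (b : BadData T A M w R L q Z τ) (hz : z ∈ A) (hz1 : z ≠ 1)
    (hzw : z * w = w * z) : lmap w L ⟨z, b.le_lift (b.mem_F hz hzw)⟩ ≠ 1 := fun e =>
  hz1 (congrArg Subtype.val (b.comp.lmap_injOn b.simple
    (g := ⟨z, b.le_lift (b.mem_F hz hzw)⟩) (g' := 1) (b.comp.base.le (b.mem_F hz hzw))
    R.one_mem (e.trans (map_one _).symm)))

/-- Every involution of the component lifts to a conjugate of `z`. -/
theorem exists_lift_invol (b : BadData T A M w R L q Z τ) (hz : z ∈ A) (hz1 : z ≠ 1)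
    (hzw : z * w = w * z) {t : ↥L ⧸ Subgroup.center ↥L} (ht : orderOf t = 2) :
    ∃ g : ↥(lift w L), lmap w L (g * ⟨z, b.le_lift (b.mem_F hz hzw)⟩ * g⁻¹) = t := by
  obtain ⟨h, hh⟩ := b.comp.loc.invol_conj t ht
  have hne : h * t * h⁻¹ ≠ 1 := fun e => by
    rw [conj_eq_one_iff.1 e, orderOf_one] at ht
    omega
  obtain ⟨n, hn⟩ := b.comp.loc.τ_trans _ (b.lmap_z_mem hz hzw) _ hh (b.lmap_z_ne hz hz1 hzw) hne
  obtain ⟨g, hg⟩ := lmap_surjective w L (h⁻¹ * τ ^ n)
  refine ⟨g, ?_⟩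
  rw [map_mul, map_mul, map_inv, hg, mul_inv_rev, inv_inv]
  calc h⁻¹ * τ ^ n * lmap w L ⟨z, b.le_lift (b.mem_F hz hzw)⟩ * ((τ ^ n)⁻¹ * h)
      = h⁻¹ * (τ ^ n * lmap w L ⟨z, b.le_lift (b.mem_F hz hzw)⟩ * (τ ^ n)⁻¹) * h := by group
    _ = t := by rw [hn]; group

theorem lmap_outer (b : BadData T A M w R L q Z τ) {s : G} (hs : s ∈ b.outer) :
    orderOf (lmap w L ⟨s, (b.mem_outer.1 hs).1⟩) = 2 ∧
      lmap w L ⟨s, (b.mem_outer.1 hs).1⟩ ∉
        Subgroup.normalizer (pbar (qimg w R) L : Set (↥L ⧸ Subgroup.center ↥L)) := by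
  obtain ⟨hsL, hss, hsM⟩ := b.mem_outer.1 hs
  have hnot : lmap w L ⟨s, hsL⟩ ∉
      Subgroup.normalizer (pbar (qimg w R) L : Set (↥L ⧸ Subgroup.center ↥L)) :=
    fun h => hsM ((b.mem_M_iff ⟨s, hsL⟩).2 h)
  refine ⟨Involutions.Basic.invol_iff.2 ⟨?_, fun e => hnot ?_⟩, hnot⟩
  · rw [← map_mul, show (⟨s, hsL⟩ : ↥(lift w L)) * ⟨s, hsL⟩ = 1 from Subtype.ext hss, map_one]
  · rw [e]; exact one_mem _

theorem exists_conj_outer (b : BadData T A M w R L q Z τ) (hz : z ∈ A) (hz1 : z ≠ 1)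
    (hzw : z * w = w * z) {s : G} (hs : s ∈ b.outer) :
    ∃ c ∈ Subgroup.centralizer ({w} : Set G), c * z * c⁻¹ = s := by
  obtain ⟨hsL, hss, hsM⟩ := b.mem_outer.1 hs
  obtain ⟨g, hg⟩ := b.exists_lift_invol hz hz1 hzw (b.lmap_outer hs).1
  set s₀ := g * ⟨z, b.le_lift (b.mem_F hz hzw)⟩ * g⁻¹ with hs₀
  have hs₀2 : (s₀ : G) * s₀ = 1 := by
    show (g : G) * z * (g : G)⁻¹ * ((g : G) * z * (g : G)⁻¹) = 1
    rw [show (g : G) * z * (g : G)⁻¹ * ((g : G) * z * (g : G)⁻¹) =
      (g : G) * (z * z) * (g : G)⁻¹ by group, b.closed.sq hz, mul_one, mul_inv_cancel]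
  have hcore : ((s₀⁻¹ * ⟨s, hsL⟩ : ↥(lift w L)) : G) ∈ Cfsg.centralizerPPrimeCore 2 w :=
    b.mem_core_of_lmap (by rw [map_mul, map_inv, hg, inv_mul_cancel])
  obtain ⟨x, hx, hxe⟩ := exists_conj_of_coset (odd_core w) hs₀2 hss hcore
  refine ⟨x * g, mul_mem (Balance.centralizerPPrimeCore_le w hx) (lift_le w L g.2), ?_⟩
  rw [← hxe, show (s₀ : G) = (g : G) * z * (g : G)⁻¹ from rfl]
  group

/-- The number of involutions of the preimage outside `M`. -/
theorem card_outer (b : BadData T A M w R L q Z τ) (hz : z ∈ A) (hz1 : z ≠ 1)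
    (hzw : z * w = w * z) :
    b.outer.card * Nat.card (Cfsg.centralizerPPrimeCore 2 w ⊓
        Subgroup.centralizer ({z} : Set G) : Subgroup G) =
      Nat.card (Cfsg.centralizerPPrimeCore 2 w) * (q ^ 2 * (q - 1)) := by
  set U := Cfsg.centralizerPPrimeCore 2 w with hU
  have hCN : Subgroup.centralizer ({w} : Set G) ≤ Subgroup.normalizer (U : Set G) :=
    Balance.centralizer_le_normalizer_centralizerPPrimeCore w
  have hUL : U ≤ lift w L := core_le_lift w L
  have hUM : U ≤ M := b.core_le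
  have hstab : ∀ s ∈ b.outer, ∀ x ∈ U, x * s * x⁻¹ ∈ b.outer := by
    intro s hs x hx
    obtain ⟨hsL, hss, hsM⟩ := b.mem_outer.1 hs
    refine b.mem_outer.2 ⟨mul_mem (mul_mem (hUL hx) hsL) (inv_mem (hUL hx)), ?_, fun h => hsM ?_⟩
    · rw [show x * s * x⁻¹ * (x * s * x⁻¹) = x * (s * s) * x⁻¹ by group, hss, mul_one,
        mul_inv_cancel]
    · have := mul_mem (mul_mem (inv_mem (hUM hx)) h) (hUM hx)
      simpa [mul_assoc] using this
  have h1 := sum_fixed (odd_core w) (S := b.outer) (fun s hs => (b.mem_outer.1 hs).2.1)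
    (fun s hs => hCN (lift_le w L (b.mem_outer.1 hs).1)) hstab
  rw [Finset.sum_const_nat (m := Nat.card (U ⊓ Subgroup.centralizer ({z} : Set G) : Subgroup G))
    (fun s hs => by
      obtain ⟨c, hc, rfl⟩ := b.exists_conj_outer hz hz1 hzw hs
      exact card_inf_cent (hCN hc) z)] at h1
  rw [h1]
  congr 1
  set T0 := (Set.toFinite {t : ↥L ⧸ Subgroup.center ↥L | orderOf t = 2 ∧
      t ∉ Subgroup.normalizer (pbar (qimg w R) L : Set (↥L ⧸ Subgroup.center ↥L))}).toFinset
    with hT0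
  have hT : T0.card = q ^ 2 * (q - 1) := by
    rw [hT0, ← Set.ncard_eq_toFinset_card, ← Nat.card_coe_set_eq, ← b.comp.loc.count_outside]
    rfl
  rw [← hT]
  symm
  have hmem : ∀ t ∈ T0, orderOf t = 2 ∧
      t ∉ Subgroup.normalizer (pbar (qimg w R) L : Set (↥L ⧸ Subgroup.center ↥L)) :=
    fun t ht => by rw [hT0, Set.Finite.mem_toFinset] at ht; exact ht
  choose g hg using fun t ht => b.exists_lift_invol hz hz1 hzw (hmem t ht).1
  have hin : ∀ t ht, ((g t ht * ⟨z, b.le_lift (b.mem_F hz hzw)⟩ * (g t ht)⁻¹ : ↥(lift w L)) : G) ∈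
      b.outer := by
    intro t ht
    refine b.mem_outer.2 ⟨SetLike.coe_mem _, ?_, fun h => (hmem t ht).2 ?_⟩
    · show (g t ht : G) * z * (g t ht : G)⁻¹ * ((g t ht : G) * z * (g t ht : G)⁻¹) = 1
      rw [show (g t ht : G) * z * (g t ht : G)⁻¹ * ((g t ht : G) * z * (g t ht : G)⁻¹) =
        (g t ht : G) * (z * z) * (g t ht : G)⁻¹ by group, b.closed.sq hz, mul_one, mul_inv_cancel]
    · rw [← hg t ht, ← b.mem_M_iff]
      exact h
  have hsame : ∀ (x y : ↥(lift w L)), ((x : G) : G ⧸ U) = ((y : G) : G ⧸ U) →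
      lmap w L x = lmap w L y := by
    intro x y e
    have h2 : lmap w L (x⁻¹ * y) = 1 := by
      rw [lmap_eq_sig _ 1 (by rw [OneMemClass.coe_one]; exact cmap_eq_one.2 (QuotientGroup.eq.1 e)),
        map_one]
    rwa [map_mul, map_inv, inv_mul_eq_one] at h2
  refine Finset.card_bij (fun t ht => (((g t ht * ⟨z, b.le_lift (b.mem_F hz hzw)⟩ * (g t ht)⁻¹ :
      ↥(lift w L)) : G) : G ⧸ U)) (fun t ht => Finset.mem_image_of_mem _ (hin t ht)) ?_ ?_
  · intro t ht t' ht' e
    rw [← hg t ht, ← hg t' ht']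
    exact hsame _ _ e
  · intro β hβ
    obtain ⟨s, hs, rfl⟩ := Finset.mem_image.1 hβ
    have hsT : lmap w L ⟨s, (b.mem_outer.1 hs).1⟩ ∈ T0 := by
      rw [hT0, Set.Finite.mem_toFinset]
      exact b.lmap_outer hs
    refine ⟨_, hsT, QuotientGroup.eq.2 ?_⟩
    exact b.mem_core_of_lmap (g := (g _ hsT * ⟨z, b.le_lift (b.mem_F hz hzw)⟩ * (g _ hsT)⁻¹)⁻¹ *
      ⟨s, (b.mem_outer.1 hs).1⟩) (by rw [map_mul _ _ (⟨s, _⟩ : ↥(lift w L)), map_inv, hg _ hsT,
        inv_mul_cancel])

/-- A bad involution outside `M` attached to `w` is `w` times an outer involution. -/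
theorem mul_mem_outer (b : BadData T A M w R L q Z τ) (hz : z ∈ A) (hz1 : z ≠ 1)
    (hzw : z * w = w * z) {v : G} (hv : Bad M v) (hvM : v ∉ M) (hp : pairInvol z v = w) :
    w * v ∈ b.outer := by
  haveI : Fact (Nat.Prime 2) := ⟨Nat.prime_two⟩
  set C := Subgroup.centralizer ({w} : Set G)
  have hvv := Involutions.Basic.invol_mul_self hv.invol
  have hev : Even (orderOf (z * v)) := by
    rw [← Nat.not_odd_iff_even]
    intro ho
    obtain ⟨d, -, hd⟩ := Involutions.Basic.exists_conj_of_odd (b.closed.sq hz) hvv ho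
    exact InD.not_bad b.anchor ⟨z, hz, hz1, d, hd⟩ hv
  obtain ⟨-, -, hwv⟩ := Involutions.Basic.central_invol (b.closed.order_two hz hz1) hv.invol hev
  replace hwv : w * v = v * w := by
    rw [← hp]
    exact hwv.eq
  have hvC : v ∈ C := Subgroup.mem_centralizer_singleton_iff.2 hwv.symm
  have hwC : w ∈ C := Subgroup.mem_centralizer_singleton_iff.2 rfl
  set vc : ↥C := ⟨v, hvC⟩
  set wc : ↥C := ⟨w, hwC⟩
  set zL : ↥(lift w L) := ⟨z, b.le_lift (b.mem_F hz hzw)⟩ with hzL
  have hzZ : lmap w L zL ∈ Z := b.lmap_z_mem hz hzw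
  have hzne : lmap w L zL ≠ 1 := b.lmap_z_ne hz hz1 hzw
  obtain ⟨l, hl⟩ := b.comp.loc.aut_two (b.act vc) ⟨1, by
    rw [pow_one, pow_two, ← map_mul, show vc * vc = 1 from Subtype.ext hvv, map_one]⟩
  have hll : l * l = 1 := b.comp.loc.conj_injective (by
    rw [map_mul, map_one, ← hl, ← map_mul, show vc * vc = 1 from Subtype.ext hvv, map_one])
  have hlN : l ∉ Subgroup.normalizer (pbar (qimg w R) L : Set (↥L ⧸ Subgroup.center ↥L)) := by
    intro hlN
    refine hvM (b.mem_M_of_act (c := vc) hzZ hzne ?_)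
    rw [hl, MulAut.conj_apply]
    exact mul_mem (mul_mem (b.comp.loc.invol_mem_Z hlN hll) hzZ)
      (inv_mem (b.comp.loc.invol_mem_Z hlN hll))
  have hl1 : l ≠ 1 := fun e => hlN (e ▸ one_mem _)
  obtain ⟨g, rfl⟩ := lmap_surjective w L l
  set gc : ↥C := ⟨g, lift_le w L g.2⟩ with hgc
  set zc : ↥C := ⟨z, lift_le w L zL.2⟩ with hzc
  set a := cmap w zc with ha
  set l' := cmap w gc with hl'
  set c₀ := l'⁻¹ * cmap w vc with hc₀
  have haL : a ∈ L := (mem_lift_coe (g := zc)).1 zL.2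
  have hlL : l' ∈ L := (mem_lift_coe (g := gc)).1 g.2
  have hc₀L : c₀ ∈ Subgroup.centralizer (L : Set (CQ w)) := by
    rw [hc₀, hl', ← map_inv, ← map_mul]
    refine b.cent_of_act ?_
    rw [map_mul, map_inv, hl, show b.act gc = MulAut.conj (lmap w L g) from b.act_lift g,
      inv_mul_cancel]
  have hvb : cmap w vc = l' * c₀ := by rw [hc₀, mul_inv_cancel_left]
  have hcl : Commute c₀ l' := (Subgroup.mem_centralizer_iff.1 hc₀L l' hlL).symm
  have hca : Commute c₀ a := (Subgroup.mem_centralizer_iff.1 hc₀L a haL).symm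
  have hll' : l' * l' = 1 := by
    have h2 := b.cmap_eq_one_of_lmap (g := g * g) (by rw [map_mul, hll])
    rw [hl', ← map_mul]
    exact h2
  have hcc : c₀ * c₀ = 1 := by
    have h2 : cmap w vc * cmap w vc = 1 := by
      rw [← map_mul, show vc * vc = 1 from Subtype.ext hvv, map_one]
    rw [hvb] at h2
    calc c₀ * c₀ = l' * l' * (c₀ * c₀) := by rw [hll', one_mul]
      _ = l' * (l' * c₀) * c₀ := by group
      _ = l' * (c₀ * l') * c₀ := by rw [hcl.eq]
      _ = l' * c₀ * (l' * c₀) := by group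
      _ = 1 := h2
  have hpo := b.comp.loc.pair_odd (lmap w L zL) (lmap w L g)
    (Involutions.Basic.invol_iff.2 ⟨(b.comp.loc.mem_Z_iff.1 hzZ).2, hzne⟩)
    (Involutions.Basic.invol_iff.2 ⟨hll, hl1⟩) (fun e => hlN (Subgroup.le_normalizer (by
      rw [← b.comp.loc.centralizer_eq _ hzZ hzne, Subgroup.mem_centralizer_singleton_iff]
      exact e.symm)))
  set j := orderOf (lmap w L zL * lmap w L g) with hj
  have hal : (a * l') ^ j = 1 := by
    have h2 := b.cmap_eq_one_of_lmap (g := (zL * g) ^ j)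
      (by rw [map_pow, map_mul, hj, pow_orderOf_eq_one])
    rw [ha, hl', ← map_mul, ← map_pow]
    exact h2
  set h := orderOf (z * v) / 2 with hh
  have hwb : cmap w wc = (a * l') ^ h * c₀ ^ h := by
    rw [← (hca.mul_right hcl).symm.mul_pow, mul_assoc, ← hvb, ha, ← map_mul, ← map_pow]
    refine congrArg (cmap w) (Subtype.ext ?_)
    show w = (z * v) ^ h
    exact hp.symm
  have hwne : cmap w wc ≠ 1 := fun e => b.ne_one (eq_one_of_two_of_odd
    (U := Subgroup.zpowers w) (IsPGroup.of_card (n := 1) (by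
      rw [Nat.card_zpowers, b.invol, pow_one]))
    (Subgroup.mem_zpowers w) (odd_core w) (cmap_eq_one.1 e))
  have hwb2 : cmap w wc * cmap w wc = 1 := by
    rw [← map_mul, show wc * wc = 1 from Subtype.ext b.mul_self, map_one]
  have hwc : cmap w wc = c₀ := by
    have h2 : cmap w wc = c₀ ^ (h * j) := by
      rw [← pow_odd_eq_self hwb2 hpo, hwb,
        (((hca.mul_right hcl).symm).pow_pow h h).mul_pow, ← pow_mul, ← pow_mul, mul_comm h j,
        pow_mul, hal, one_pow, one_mul]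
    rw [h2]
    rcases Nat.even_or_odd (h * j) with ⟨k, hk⟩ | ho
    · exact absurd (by rw [h2, hk, ← two_mul, pow_mul, pow_two, hcc, one_pow]) hwne
    · exact pow_odd_eq_self hcc ho
  refine b.mem_outer.2 ⟨(mem_lift_coe (g := wc * vc)).2 ?_, ?_, fun hm => hvM ?_⟩
  · rw [map_mul, hwc, hvb, ← mul_assoc, hcl.eq, mul_assoc, hcc, mul_one]
    exact hlL
  · calc w * v * (w * v) = w * (v * w) * v := by group
      _ = (w * w) * (v * v) := by rw [← hwv]; group
      _ = 1 := by rw [b.mul_self, hvv, mul_one]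
  · have := mul_mem (inv_mem (b.anchor.norm b.mem)) hm
    rwa [inv_mul_cancel_left] at this

/-- Conversely. -/
theorem mul_outer (b : BadData T A M w R L q Z τ) (hsw : SwapFacts T A M) (hz : z ∈ A)
    (hz1 : z ≠ 1) (hzw : z * w = w * z) {s : G} (hs : s ∈ b.outer) :
    Bad M (w * s) ∧ w * s ∉ M ∧ pairInvol z (w * s) = w := by
  obtain ⟨hsL, hss, hsM⟩ := b.mem_outer.1 hs
  obtain ⟨c, hc, hcs⟩ := b.exists_conj_outer hz hz1 hzw hs
  have hws : w * s = s * w := (Subgroup.mem_centralizer_singleton_iff.1 (lift_le w L hsL)).symm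
  refine ⟨hsw.bad_mul w b.bad s ⟨z, hz, hz1, c, hcs⟩ hws, fun hm => hsM ?_, ?_⟩
  · have := mul_mem (inv_mem (b.anchor.norm b.mem)) hm
    rwa [inv_mul_cancel_left] at this
  obtain ⟨ht, htN⟩ := b.lmap_outer hs
  set zL : ↥(lift w L) := ⟨z, b.le_lift (b.mem_F hz hzw)⟩
  set sL : ↥(lift w L) := ⟨s, hsL⟩
  have hzZ : lmap w L zL ∈ Z := b.lmap_z_mem hz hzw
  have hzne : lmap w L zL ≠ 1 := b.lmap_z_ne hz hz1 hzw
  have hpo := b.comp.loc.pair_odd (lmap w L zL) (lmap w L sL)
    (Involutions.Basic.invol_iff.2 ⟨(b.comp.loc.mem_Z_iff.1 hzZ).2, hzne⟩)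
    ht (fun e => htN (Subgroup.le_normalizer (by
      rw [← b.comp.loc.centralizer_eq _ hzZ hzne, Subgroup.mem_centralizer_singleton_iff]
      exact e.symm)))
  set j := orderOf (lmap w L zL * lmap w L sL) with hj
  have hcore := b.mem_core_of_lmap (g := (zL * sL) ^ j)
    (by rw [map_pow, map_mul, hj, pow_orderOf_eq_one])
  have hodd : Odd (orderOf (z * s)) := by
    refine (hpo.mul (odd_core w)).of_dvd_nat (orderOf_dvd_of_pow_eq_one ?_)
    rw [pow_mul]
    exact pow_card_eq_one_of_mem hcore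
  have e : z * (w * s) = w * (z * s) := by rw [← mul_assoc, hzw, mul_assoc]
  have hcm : Commute w (z * s) := Commute.mul_right (show Commute w z from hzw.symm) hws
  rw [pairInvol, e, hcm.orderOf_mul_eq_mul_orderOf_of_coprime
    (by rw [b.invol]; exact Nat.coprime_two_left.2 hodd), b.invol,
    Nat.mul_div_cancel_left _ two_pos, hcm.mul_pow, pow_odd_eq_self b.mul_self hodd,
    pow_orderOf_eq_one, mul_one]

/-- The sum over the bad involutions attached to `z` and `w`. -/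
theorem fibre_sum (b : BadData T A M w R L q Z τ) (hf : Final T A M) (hsw : SwapFacts T A M)
    (hz : z ∈ A) (hz1 : z ≠ 1) (hzw : z * w = w * z) :
    (∑ v ∈ (outSet M).filter (fun v => pairInvol z v = w), cw v) *
        Nat.card (wcl A ⊓ Subgroup.centralizer ({z} : Set G) : Subgroup G) =
      q ^ 2 * (q - 1) * Nat.card (wcl A) *
        Nat.card (wcl A ⊓ Subgroup.centralizer ({w} : Set G) ⊓
          Subgroup.centralizer ({z} : Set G) : Subgroup G) := by
  set S := ∑ v ∈ (outSet M).filter (fun v => pairInvol z v = w), cw v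
  have hwz : Bad M (w * z) := hsw.bad_mul w b.bad z ⟨z, hz, hz1, 1, by group⟩ hzw.symm
  have hwzM : w * z ∈ M := mul_mem (b.anchor.norm b.mem) (b.anchor.a_le hz)
  have hS : S = b.outer.card * cw (w * z) := by
    refine Eq.trans (Finset.sum_nbij' (fun v => w * v) (fun s => w * s) ?_ ?_ ?_ ?_
      (g := fun s => cw (w * s)) ?_) (Finset.sum_const_nat fun s hs => ?_)
    · intro v hv
      obtain ⟨hv', hp⟩ := Finset.mem_filter.1 hv
      obtain ⟨hvb, hvM⟩ := mem_outSet.1 hv'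
      exact b.mul_mem_outer hz hz1 hzw hvb hvM hp
    · intro s hs
      obtain ⟨h1, h2, h3⟩ := b.mul_outer hsw hz hz1 hzw hs
      exact Finset.mem_filter.2 ⟨mem_outSet.2 ⟨h1, h2⟩, h3⟩
    · intro v _
      show w * (w * v) = v
      rw [← mul_assoc, b.mul_self, one_mul]
    · intro s _
      show w * (w * s) = s
      rw [← mul_assoc, b.mul_self, one_mul]
    · intro v _
      rw [← mul_assoc, b.mul_self, one_mul]
    · obtain ⟨c, hc, rfl⟩ := b.exists_conj_outer hz hz1 hzw hs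
      rw [show w * (c * z * c⁻¹) = c * (w * z) * c⁻¹ by
        calc w * (c * z * c⁻¹) = (w * c) * z * c⁻¹ := by group
          _ = _ := by rw [← Subgroup.mem_centralizer_singleton_iff.1 hc]; group, cw_conj]
  have hfour := b.closed.hyp.deps.four G (wcl A) w z b.closed.odd_wcl b.mul_self (b.closed.sq hz)
    hzw.symm b.ne_one hz1 (hf.bad_ne b.bad hz) (hf.le_norm (b.anchor.norm b.mem))
    (hf.le_norm (b.anchor.a_le hz))
  rw [inf_cent_pair] at hfour
  have hcard := b.card_outer hz hz1 hzw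
  rw [b.core_eq hf] at hcard
  rw [hS, hf.cw_eq hwz hwzM]
  refine Nat.eq_of_mul_eq_mul_right (m := Nat.card (wcl A ⊓ Subgroup.centralizer ({w} : Set G) ⊓
    Subgroup.centralizer ({z} : Set G) : Subgroup G)) Nat.card_pos ?_
  generalize Nat.card (wcl A ⊓ Subgroup.centralizer ({w} : Set G) ⊓
    Subgroup.centralizer ({z} : Set G) : Subgroup G) = Uz at hfour hcard ⊢
  generalize Nat.card (wcl A ⊓ Subgroup.centralizer ({w} : Set G) : Subgroup G) = U at hfour hcard ⊢
  generalize Nat.card (wcl A ⊓ Subgroup.centralizer ({z} : Set G) : Subgroup G) = Wz at hfour ⊢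
  generalize Nat.card (wcl A ⊓ Subgroup.centralizer ({w * z} : Set G) : Subgroup G) = Wp at hfour ⊢
  generalize Nat.card (wcl A) = W at hfour ⊢
  calc b.outer.card * Wp * Wz * Uz = (b.outer.card * Uz) * (Wp * Wz) := by ring
    _ = U * (q ^ 2 * (q - 1)) * (Wp * Wz) := by rw [hcard]
    _ = q ^ 2 * (q - 1) * (U * Wz * Wp) := by ring
    _ = q ^ 2 * (q - 1) * (W * Uz ^ 2) := by rw [hfour]
    _ = q ^ 2 * (q - 1) * W * Uz * Uz := by ring

end

end BadData

end Cfsg.Agent.Lib.Thompson3Prime33
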