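import Cfsg.Agent.Lib.Thompson3Prime33.Interface

/-!
# The local structure at a bad involution when `M = W N(A)`

The odd core of `C(u)` is `C_W(u)`, the torus of the component is found in `N(A)`, so `A` has
order `q` or `q ^ 2`.

Owner: helper20.
-/

set_option autoImplicit false
set_option linter.style.haveILetI false
set_option linter.unusedSectionVars false
set_option linter.unusedVariables false

namespace Cfsg.Agent.Lib.Thompson3Prime33

universe u

variable {G : Type u} [Group G] [Finite G] {T : Sylow 2 G} {A M : Subgroup G}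

theorem eq_one_of_odd {X : Type*} [Group X] {x : X} {e : ℕ} (he : Odd e) (h : x ^ e = 1)
    {i : ℕ} (h2 : x ^ 2 ^ i = 1) : x = 1 :=
  orderOf_eq_one_iff.1 (Nat.eq_one_of_dvd_coprimes ((Nat.coprime_two_left.2 he).pow_left i)
    (orderOf_dvd_of_pow_eq_one h2) (orderOf_dvd_of_pow_eq_one h))

theorem pow_card_eq_one_of_mem {H : Subgroup G} {x : G} (hx : x ∈ H) : x ^ Nat.card H = 1 :=
  orderOf_dvd_iff_pow_eq_one.1 (Subgroup.orderOf_dvd_natCard _ hx)

theorem Closed.inf_wcl (h : Closed G T A) {a : G} (ha : a ∈ A) (haW : a ∈ wcl A) : a = 1 :=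
  eq_one_of_two_of_odd h.isPGroup ha h.odd_wcl haW

namespace BadData

variable {u : G} {R : Subgroup G} {L : Subgroup (CQ u)} {q : ℕ}
  {Z : Subgroup (↥L ⧸ Subgroup.center ↥L)} {τ : ↥L ⧸ Subgroup.center ↥L}

/-- The action of `C(u)` on the component. -/
noncomputable def act (b : BadData T A M u R L q Z τ) :
    ↥(Subgroup.centralizer ({u} : Set G)) →* MulAut (↥L ⧸ Subgroup.center ↥L) :=
  (autOn L).comp ((cmap u).codRestrict (Subgroup.normalizer (L : Set (CQ u)))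
    fun c => b.normalizes _)

theorem act_lift (b : BadData T A M u R L q Z τ) (g : ↥(lift u L)) :
    b.act ⟨g, lift_le u L g.2⟩ = MulAut.conj (lmap u L g) := by
  rw [lmap_apply, ← autOn_coe]
  rfl

theorem cent_of_act (b : BadData T A M u R L q Z τ) {c : ↥(Subgroup.centralizer ({u} : Set G))}
    (hc : b.act c = 1) : cmap u c ∈ Subgroup.centralizer (L : Set (CQ u)) :=
  centralizes_of_autOn b.comp.comp.2.1 (b.normalizes _) hc

theorem conj_lift_mem (b : BadData T A M u R L q Z τ)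
    (c : ↥(Subgroup.centralizer ({u} : Set G))) (g : ↥(lift u L)) :
    (c : G) * g * (c : G)⁻¹ ∈ lift u L := by
  refine (mem_lift_coe (g := c * ⟨g, lift_le u L g.2⟩ * c⁻¹)).2 ?_
  rw [map_mul, map_mul, map_inv]
  exact normalizer_conj (b.normalizes _) (mem_lift_coe.1 g.2)

theorem act_lmap (b : BadData T A M u R L q Z τ) (c : ↥(Subgroup.centralizer ({u} : Set G)))
    (g : ↥(lift u L)) :
    b.act c (lmap u L g) = lmap u L ⟨(c : G) * g * (c : G)⁻¹, b.conj_lift_mem c g⟩ := by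
  rw [lmap_apply g]
  refine Eq.trans (autOn_apply (b.normalizes _) (toL u L g)) (Eq.symm (lmap_eq_sig _ _ ?_))
  show cmap u (c * ⟨g, lift_le u L g.2⟩ * c⁻¹) =
    cmap u c * (toL u L g : CQ u) * (cmap u c)⁻¹
  rw [coe_toL, map_mul, map_mul, map_inv]

theorem act_mem_P (b : BadData T A M u R L q Z τ) {c : ↥(Subgroup.centralizer ({u} : Set G))}
    (hc : (c : G) ∈ M) {x : ↥L ⧸ Subgroup.center ↥L} (hx : x ∈ pbar (qimg u R) L) :
    b.act c x ∈ pbar (qimg u R) L := by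
  obtain ⟨i, hi⟩ := b.comp.loc.isPGroup_P ⟨x, hx⟩
  obtain ⟨r, hr, rfl⟩ := b.comp.exists_R hx
  refine b.comp.loc.mem_P_of_pow (i := i) ?_ ?_
  · rw [act_lmap, ← b.mem_M_iff]
    exact mul_mem (mul_mem hc (b.R_le hr)) (inv_mem hc)
  · rw [← map_pow, show lmap u L r ^ 2 ^ i = 1 from congrArg Subtype.val hi, map_one]

theorem act_mem_Z (b : BadData T A M u R L q Z τ) {c : ↥(Subgroup.centralizer ({u} : Set G))}
    (hc : (c : G) ∈ M) {z : ↥L ⧸ Subgroup.center ↥L} (hz : z ∈ Z) : b.act c z ∈ Z := by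
  refine b.comp.loc.mem_Z_iff.2 ⟨b.act_mem_P hc (b.comp.loc.Z_le hz), ?_⟩
  rw [← map_mul, (b.comp.loc.mem_Z_iff.1 hz).2, map_one]

theorem mem_M_of_act (b : BadData T A M u R L q Z τ) {c : ↥(Subgroup.centralizer ({u} : Set G))}
    {z : ↥L ⧸ Subgroup.center ↥L} (hz : z ∈ Z) (hz1 : z ≠ 1) (hc : b.act c z ∈ Z) :
    (c : G) ∈ M := by
  obtain ⟨l, hl, m, hmC, hmM, hcm⟩ := b.decomp c.2
  obtain rfl : c = ⟨l, lift_le u L hl⟩ * ⟨m, hmC⟩ := Subtype.ext hcm
  set z' := b.act ⟨m, hmC⟩ z with hz'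
  have h1 : lmap u L ⟨l, hl⟩ * z' * (lmap u L ⟨l, hl⟩)⁻¹ ∈ Z := by
    rw [map_mul, MulAut.mul_apply] at hc
    rw [← MulAut.conj_apply, ← b.act_lift ⟨l, hl⟩]
    exact hc
  have h2 : z' ≠ 1 := fun e => hz1 ((b.act ⟨m, hmC⟩).injective (e.trans (map_one _).symm))
  exact mul_mem ((b.mem_M_iff ⟨l, hl⟩).2
    (b.comp.loc.borel_of_fuse _ z' (b.act_mem_Z hmM hz) h2 h1)) hmM

/-- The odd core of the centraliser of a bad involution is cut out by `W`. -/
theorem core_eq (b : BadData T A M u R L q Z τ) (hf : Final T A M) :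
    Cfsg.centralizerPPrimeCore 2 u = wcl A ⊓ Subgroup.centralizer ({u} : Set G) := by
  haveI : Fact (Nat.Prime 2) := ⟨Nat.prime_two⟩
  refine le_antisymm (le_inf b.core_le_wcl (Balance.centralizerPPrimeCore_le u)) ?_
  set C := Subgroup.centralizer ({u} : Set G)
  set K := (wcl A).subgroupOf C with hK
  set Kb := K.map (cmap u) with hKb
  have hodd : ∀ w : C, w ∈ K → (w : G) ^ Nat.card (wcl A) = 1 := fun w hw =>
    pow_card_eq_one_of_mem hw
  have hact : ∀ w ∈ K, b.act w = 1 := by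
    intro w hw
    have hwM : (w : G) ∈ M := hf.wcl_le hw
    have hfix : ∀ z ∈ Z, b.act w z = z := by
      intro z hz
      obtain ⟨f, hf', rfl⟩ := b.comp.exists_F hz
      rw [← mul_inv_eq_one]
      set g : ↥(lift u L) := ⟨(w : G) * f * (w : G)⁻¹, b.conj_lift_mem w f⟩ * f⁻¹ with hg
      have hgZ : b.act w (lmap u L f) * (lmap u L f)⁻¹ ∈ Z :=
        mul_mem (b.act_mem_Z hwM hz) (inv_mem hz)
      have hgW : (g : G) ∈ wcl A := by
        show (w : G) * f * (w : G)⁻¹ * (f : G)⁻¹ ∈ wcl A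
        rw [show (w : G) * f * (w : G)⁻¹ * (f : G)⁻¹ =
          (w : G) * ((f : G) * (w : G)⁻¹ * (f : G)⁻¹) by group]
        exact mul_mem hw (normalizer_conj (hf.le_norm (b.R_le (b.comp.base.le hf'))) (inv_mem hw))
      have hgl : lmap u L g = b.act w (lmap u L f) * (lmap u L f)⁻¹ := by
        rw [hg, map_mul, map_inv, act_lmap]
      rw [← hgl]
      refine eq_one_of_odd (b.closed.odd_wcl) (i := 1) ?_ ?_
      · rw [← map_pow, show g ^ Nat.card (wcl A) = 1 from Subtype.ext (by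
          rw [Subgroup.coe_pow, Subgroup.coe_one]; exact pow_card_eq_one_of_mem hgW), map_one]
      · rw [pow_one, pow_two, hgl]
        exact (b.comp.loc.mem_Z_iff.1 hgZ).2
    obtain ⟨p, hp, hpe⟩ := b.comp.loc.aut_fix _ hfix
    obtain ⟨i, hi⟩ := b.comp.loc.isPGroup_P ⟨p, hp⟩
    refine eq_one_of_odd b.closed.odd_wcl (i := i) ?_ ?_
    · rw [← map_pow, show w ^ Nat.card (wcl A) = 1 from Subtype.ext (by
        rw [Subgroup.coe_pow, Subgroup.coe_one]; exact hodd w hw), map_one]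
    · rw [hpe, ← map_pow, show p ^ 2 ^ i = 1 from congrArg Subtype.val hi, map_one]
  haveI : Kb.Normal := by
    refine ⟨fun x hx g => ?_⟩
    obtain ⟨w, hw, rfl⟩ := hx
    obtain ⟨g, rfl⟩ := cmap_surjective u g
    obtain ⟨l, hl, m, hmC, hmM, hgm⟩ := b.decomp g.2
    obtain rfl : g = ⟨l, lift_le u L hl⟩ * ⟨m, hmC⟩ := Subtype.ext hgm
    have hmem : (⟨m, hmC⟩ : C) * w * (⟨m, hmC⟩ : C)⁻¹ ∈ K := by
      rw [hK, Subgroup.mem_subgroupOf]
      exact normalizer_conj (hf.le_norm hmM) hw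
    refine ⟨_, hmem, ?_⟩
    have h1 := b.cent_of_act (hact _ hmem)
    have h2 := conj_eq_of_commute (Subgroup.mem_centralizer_iff.1 h1
      (cmap u ⟨l, lift_le u L hl⟩) ((mem_lift_coe (g := ⟨l, lift_le u L hl⟩)).1 hl))
    simp only [map_mul, map_inv] at h2 ⊢
    refine h2.symm.trans ?_
    group
  have hKodd : Odd (Nat.card Kb) := by
    refine (b.closed.odd_wcl.of_dvd_nat ?_)
    refine (Subgroup.card_map_dvd _ _).trans ?_
    rw [← Subgroup.card_map_of_injective C.subtype_injective, hK]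
    exact Subgroup.card_dvd_of_le (by rw [Subgroup.subgroupOf_map_subtype]; exact inf_le_left)
  have hbot : Kb ≤ ⊥ := b.comp.sec.core ▸
    Cores.le_pPrimeCore (Nat.coprime_two_right.2 hKodd)
  intro w hw
  exact cmap_eq_one.1 (Subgroup.mem_bot.1 (hbot ⟨⟨w, hw.2⟩, hw.1, rfl⟩) :
    cmap u ⟨w, hw.2⟩ = 1)

/-- `C(u) ∩ M` is the product of the core and `C(u) ∩ N(A)`. -/
theorem exists_cent_normalizer (b : BadData T A M u R L q Z τ) (hf : Final T A M) {m : G}
    (hmC : m ∈ Subgroup.centralizer ({u} : Set G)) (hmM : m ∈ M) :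
    ∃ o ∈ Cfsg.centralizerPPrimeCore 2 u, ∃ n ∈ Subgroup.centralizer ({u} : Set G),
      n ∈ Subgroup.normalizer (A : Set G) ∧ m = o * n := by
  obtain ⟨w, hw, n, hn, rfl⟩ := hf.split m hmM
  have huM : u ∈ M := b.anchor.norm b.mem
  set N := wcl A ⊓ Subgroup.normalizer (A : Set G) with hN
  have hu2 : u ∈ Subgroup.normalizer (N : Set G) := mem_normalizer_of_conj_mem fun x hx =>
    ⟨normalizer_conj (hf.le_norm huM) hx.1,
      Subgroup.mul_mem _ (Subgroup.mul_mem _ b.mem hx.2) (Subgroup.inv_mem _ b.mem)⟩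
  have hcop : (Nat.card (Subgroup.zpowers u)).Coprime (Nat.card N) := by
    rw [Nat.card_zpowers, b.invol]
    exact Nat.coprime_two_left.2 (b.closed.odd_wcl.of_dvd_nat (Subgroup.card_dvd_of_le inf_le_left))
  have hk : ∀ a ∈ Subgroup.zpowers u, w⁻¹ * (a * w * a⁻¹) ∈ N := by
    intro a ha
    obtain ⟨j, rfl⟩ := mem_powers_iff_mem_zpowers.2 ha
    show w⁻¹ * (u ^ j * w * (u ^ j)⁻¹) ∈ N
    rcases Nat.mod_two_eq_zero_or_one j with e | e <;>
      rw [← pow_mod_orderOf, b.invol, e]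
    · simp
    rw [pow_one]
    refine ⟨(wcl A).mul_mem ((wcl A).inv_mem hw) (normalizer_conj (hf.le_norm huM) hw), ?_⟩
    have h1 := Subgroup.mem_centralizer_singleton_iff.1 hmC
    have h2 : w⁻¹ * (u * w * u⁻¹) = n * (u * n * u⁻¹)⁻¹ := by
      calc w⁻¹ * (u * w * u⁻¹) = w⁻¹ * (u * (w * n) * u⁻¹) * (u * n * u⁻¹)⁻¹ := by group
        _ = w⁻¹ * (w * n) * (u * n * u⁻¹)⁻¹ := by rw [← h1]; group
        _ = _ := by group
    show w⁻¹ * (u * w * u⁻¹) ∈ Subgroup.normalizer (A : Set G)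
    rw [h2]
    exact mul_mem hn (inv_mem (mul_mem (mul_mem b.mem hn) (inv_mem b.mem)))
  obtain ⟨c, hc, hwc⟩ := Coprime.exists_mul_fixed (Subgroup.zpowers_le.2 hu2) hcop
    (Or.inl (Coprime.isSolvable_zpowers u)) hk
  have hwcC : w * c ∈ Subgroup.centralizer ({u} : Set G) :=
    Subgroup.mem_centralizer_singleton_iff.2
      (Subgroup.mem_centralizer_iff.1 hwc u (Subgroup.mem_zpowers u)).symm
  refine ⟨w * c, ?_, c⁻¹ * n, ?_, mul_mem (inv_mem hc.2) hn, by group⟩
  · rw [b.core_eq hf]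
    exact ⟨mul_mem hw hc.1, hwcC⟩
  · have := mul_mem (inv_mem hwcC) hmC
    rwa [show (w * c)⁻¹ * (w * n) = c⁻¹ * n by group] at this

/-- A torus element normalising `A`. -/
theorem exists_torus_A (b : BadData T A M u R L q Z τ) (hf : Final T A M) :
    ∃ n : ↥(lift u L), (n : G) ∈ Subgroup.normalizer (A : Set G) ∧ lmap u L n = τ := by
  obtain ⟨t, -, htM, ht⟩ := b.exists_torus
  obtain ⟨o, ho, n, hnC, hnA, he⟩ := b.exists_cent_normalizer hf (lift_le u L t.2) htM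
  have hoL := core_le_lift u L ho
  have hnL : n ∈ lift u L := by
    have := mul_mem (inv_mem hoL) t.2
    rwa [he, inv_mul_cancel_left] at this
  refine ⟨⟨n, hnL⟩, hnA, ?_⟩
  have h1 : lmap u L ⟨o, hoL⟩ = 1 := by
    rw [lmap_eq_sig _ 1 (by rw [OneMemClass.coe_one]; exact cmap_eq_one.2 ho), map_one]
  rw [← ht, show t = ⟨o, hoL⟩ * ⟨n, hnL⟩ from Subtype.ext he, map_mul, h1, one_mul]

/-- `A` has order `q` or `q ^ 2`. -/
theorem card_A_cases (b : BadData T A M u R L q Z τ) (hf : Final T A M) :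
    Nat.card A = q ∨ Nat.card A = q ^ 2 := by
  have h := b.closed
  set F := A ⊓ Subgroup.centralizer ({u} : Set G)
  have hui : u⁻¹ = u := inv_eq_of_mul_eq_one_right b.mul_self
  let φ : A →* G :=
    { toFun := fun a => (a : G) * (u * a * u⁻¹)
      map_one' := by simp
      map_mul' := fun a c => by
        show (a : G) * c * (u * ((a : G) * c) * u⁻¹) =
          (a : G) * (u * a * u⁻¹) * ((c : G) * (u * c * u⁻¹))
        calc (a : G) * c * (u * ((a : G) * c) * u⁻¹)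
            = a * ((c : G) * (u * a * u⁻¹)) * (u * c * u⁻¹) := by group
          _ = _ := by rw [h.comm c.2 (normalizer_conj b.mem a.2)]; group }
  have happ : ∀ a : A, φ a = (a : G) * (u * a * u⁻¹) := fun a => rfl
  have hker : ∀ a : A, φ a = 1 ↔ (a : G) ∈ F := by
    intro a
    rw [happ]
    constructor
    · intro e
      refine ⟨a.2, Subgroup.mem_centralizer_singleton_iff.2 (commute_of_conj_eq ?_).symm⟩
      exact mul_left_cancel (e.trans (h.sq a.2).symm)
    · intro ha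
      rw [conj_eq_of_commute (Subgroup.mem_centralizer_singleton_iff.1 ha.2).symm, h.sq a.2]
  have hran : φ.range ≤ F := by
    rintro _ ⟨a, rfl⟩
    have hm := normalizer_conj b.mem a.2
    refine ⟨mul_mem a.2 hm, Subgroup.mem_centralizer_singleton_iff.2
      (commute_of_conj_eq ?_).symm⟩
    rw [happ, h.comm a.2 hm]
    calc u * (u * (a : G) * u⁻¹ * a) * u⁻¹ = (u * u) * ((a : G) * (u⁻¹ * a * u⁻¹)) := by group
      _ = (a : G) * (u * a * u⁻¹) := by rw [b.mul_self, one_mul]; congr 2; rw [hui]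
      _ = _ := h.comm a.2 hm
  have hk : Nat.card φ.ker = q := by
    rw [← b.card_inf]
    refine Nat.card_congr (Equiv.ofBijective
      (fun a : φ.ker => (⟨((a : A) : G), (hker a).1 a.2⟩ : F)) ⟨?_, ?_⟩)
    · exact fun a c e => Subtype.ext (Subtype.ext (congrArg (fun v : F => (v : G)) e))
    · exact fun f => ⟨⟨⟨f, f.2.1⟩, (hker ⟨f, f.2.1⟩).2 f.2⟩, rfl⟩
  have hA : Nat.card A = q * Nat.card φ.range := by
    rw [← hk, ← Subgroup.index_ker, φ.ker.card_mul_index]
  rcases eq_or_ne φ.range ⊥ with e | e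
  · left
    rw [hA, e, Subgroup.card_bot, mul_one]
  right
  rw [hA, pow_two]
  congr 1
  rw [← b.card_inf]
  suffices hle : φ.range = F by rw [hle]
  refine le_antisymm hran fun f hfF => ?_
  rcases eq_or_ne f 1 with rfl | hf1
  · exact one_mem _
  obtain ⟨f0, hf0, hf01⟩ := φ.range.bot_or_exists_ne_one.resolve_left e
  obtain ⟨n, hnA, hn⟩ := b.exists_torus_A hf
  have hne : ∀ (a : G) (ha : a ∈ F), a ≠ 1 → lmap u L ⟨a, b.le_lift ha⟩ ≠ 1 :=
    fun a ha ha1 e => ha1 (congrArg Subtype.val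
      (b.comp.lmap_injOn b.simple (g := ⟨a, b.le_lift ha⟩) (g' := 1) (b.comp.base.le ha)
        R.one_mem (e.trans (map_one _).symm)))
  obtain ⟨j, hj⟩ := b.comp.loc.τ_trans _
    (b.comp.lmap_mem_Z (g := ⟨f0, b.le_lift (hran hf0)⟩) (hran hf0))
    _ (b.comp.lmap_mem_Z (g := ⟨f, b.le_lift hfF⟩) hfF) (hne f0 (hran hf0) hf01) (hne f hfF hf1)
  have hjA := pow_mem hnA j
  have hju : (n : G) ^ j * u = u * (n : G) ^ j :=
    Subgroup.mem_centralizer_singleton_iff.1 (pow_mem (lift_le u L n.2) j)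
  have hmem : (n : G) ^ j * f0 * ((n : G) ^ j)⁻¹ ∈ φ.range := by
    obtain ⟨a, rfl⟩ := hf0
    refine ⟨⟨_, normalizer_conj hjA a.2⟩, ?_⟩
    rw [happ, happ]
    calc (n : G) ^ j * a * ((n : G) ^ j)⁻¹ * (u * ((n : G) ^ j * a * ((n : G) ^ j)⁻¹) * u⁻¹)
        = (n : G) ^ j * a * ((n : G) ^ j)⁻¹ * ((u * (n : G) ^ j) * a * (u * (n : G) ^ j)⁻¹) := by group
      _ = _ := by rw [← hju]; group
  have h1 := b.comp.lmap_injOn b.simple (g := n ^ j * ⟨f0, b.le_lift (hran hf0)⟩ * (n ^ j)⁻¹)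
    (g' := ⟨f, b.le_lift hfF⟩) (b.comp.base.le (hran hmem)) (b.comp.base.le hfF)
    (by rw [map_mul, map_mul, map_inv, map_pow, hn]; exact hj)
  rw [← show (n : G) ^ j * f0 * ((n : G) ^ j)⁻¹ = f from
    congrArg (fun v : ↥(lift u L) => (v : G)) h1]
  exact hmem

end BadData

end Cfsg.Agent.Lib.Thompson3Prime33
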