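import Cfsg.Agent.Lib.Thompson3Prime33.CountLocal

/-!
# The sets of bad involutions and the sums over a coset of an odd normal subgroup

Owner: helper20.
-/

set_option autoImplicit false
set_option linter.style.haveILetI false
set_option linter.unusedSectionVars false
set_option linter.unusedVariables false

namespace Cfsg.Agent.Lib.Thompson3Prime33

universe u

open scoped Classical

variable {G : Type u} [Group G] [Finite G] {T : Sylow 2 G} {A M : Subgroup G}

/-- Two involutions in one coset of an odd subgroup are conjugate in it. -/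
theorem exists_conj_of_coset {U : Subgroup G} (hU : Odd (Nat.card U)) {v v' : G} (hv : v * v = 1)
    (hv' : v' * v' = 1) (h : v⁻¹ * v' ∈ U) : ∃ x ∈ U, x * v * x⁻¹ = v' := by
  have hvi : v⁻¹ = v := inv_eq_of_mul_eq_one_right hv
  rw [hvi] at h
  obtain ⟨d, hd, he⟩ := Involutions.Basic.exists_conj_of_odd hv hv'
    (hU.of_dvd_nat (Subgroup.orderOf_dvd_natCard _ h))
  obtain ⟨k, rfl | rfl⟩ := (Involutions.Basic.mem_closure_pair hv hv').1 hd
  · exact ⟨_, U.zpow_mem h k, he⟩
  · refine ⟨(v * v') ^ (-k), U.zpow_mem h _, ?_⟩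
    conv_rhs => rw [← he]
    rw [← Involutions.Basic.invert_zpow hv (Involutions.Basic.invert_mul hv hv') k]
    group

theorem cj_inf (g : G) (H K : Subgroup G) : cj g (H ⊓ K) = cj g H ⊓ cj g K :=
  Subgroup.map_inf _ _ _ (MulAut.conj g).injective

theorem card_inf_cent {g : G} {H : Subgroup G} (hg : g ∈ Subgroup.normalizer (H : Set G)) (v : G) :
    Nat.card (H ⊓ Subgroup.centralizer ({g * v * g⁻¹} : Set G) : Subgroup G) =
      Nat.card (H ⊓ Subgroup.centralizer ({v} : Set G) : Subgroup G) := by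
  rw [← card_cj g (H ⊓ Subgroup.centralizer ({v} : Set G)), cj_inf, cj_inf_centralizer,
    show cj g H = H from Subgroup.mem_normalizer_iff_map_conj_eq.1 hg]

/-- Summing the orders of the fixed subgroups over the involutions of cosets of an odd subgroup. -/
theorem sum_fixed {U : Subgroup G} (hU : Odd (Nat.card U)) {S : Finset G}
    (h2 : ∀ v ∈ S, v * v = 1) (hN : ∀ v ∈ S, v ∈ Subgroup.normalizer (U : Set G))
    (hc : ∀ v ∈ S, ∀ x ∈ U, x * v * x⁻¹ ∈ S) :
    ∑ v ∈ S, Nat.card (U ⊓ Subgroup.centralizer ({v} : Set G) : Subgroup G) =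
      Nat.card U * (S.image (QuotientGroup.mk : G → G ⧸ U)).card := by
  letI : Fintype U := Fintype.ofFinite _
  rw [← Finset.sum_fiberwise_of_maps_to
    (t := S.image (QuotientGroup.mk : G → G ⧸ U)) (g := (QuotientGroup.mk : G → G ⧸ U))
    (fun v hv => Finset.mem_image_of_mem _ hv), Finset.sum_const_nat (m := Nat.card U), mul_comm]
  intro β hβ
  obtain ⟨v0, hv0, rfl⟩ := Finset.mem_image.1 hβ
  have hmaps : ∀ x ∈ (Finset.univ : Finset U),
      (x : G) * v0 * (x : G)⁻¹ ∈ S.filter fun v : G => (v : G ⧸ U) = (v0 : G ⧸ U) := by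
    intro x _
    refine Finset.mem_filter.2 ⟨hc v0 hv0 x x.2, (QuotientGroup.eq.2 ?_)⟩
    rw [show ((x : G) * v0 * (x : G)⁻¹)⁻¹ * v0 = (x : G) * (v0⁻¹ * (x : G)⁻¹ * v0⁻¹⁻¹) by group]
    exact mul_mem x.2 (normalizer_conj (inv_mem (hN v0 hv0)) (inv_mem x.2))
  rw [Nat.card_eq_fintype_card, ← Finset.card_univ,
    Finset.card_eq_sum_card_fiberwise (f := fun x : U => (x : G) * v0 * (x : G)⁻¹) hmaps]
  refine Finset.sum_congr rfl fun v hv => ?_
  obtain ⟨hvS, hvc⟩ := Finset.mem_filter.1 hv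
  obtain ⟨y, hy, hye⟩ := exists_conj_of_coset hU (h2 v0 hv0) (h2 v hvS)
    (QuotientGroup.eq.1 hvc.symm)
  rw [← Fintype.card_subtype, ← Nat.card_eq_fintype_card]
  have key : ∀ a c : G, a * v0 * a⁻¹ = v → c * v0 * c⁻¹ = v →
      a * c⁻¹ * v * (a * c⁻¹)⁻¹ = v := fun a c ha hc' => by
    calc a * c⁻¹ * v * (a * c⁻¹)⁻¹ = a * c⁻¹ * (c * v0 * c⁻¹) * (a * c⁻¹)⁻¹ := by rw [hc']
      _ = a * v0 * a⁻¹ := by group
      _ = v := ha
  refine Nat.card_congr
    { toFun := fun g => ⟨⟨(g : G) * y, mul_mem g.2.1 hy⟩, ?_⟩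
      invFun := fun x => ⟨((x : U) : G) * y⁻¹, U.mul_mem (x : U).2 (U.inv_mem hy),
        Subgroup.mem_centralizer_singleton_iff.2 (commute_of_conj_eq ?_)⟩
      left_inv := fun g => Subtype.ext (by simp)
      right_inv := fun x => Subtype.ext (Subtype.ext (by simp)) }
  · show (g : G) * y * v0 * ((g : G) * y)⁻¹ = v
    rw [show (g : G) * y * v0 * ((g : G) * y)⁻¹ = (g : G) * (y * v0 * y⁻¹) * (g : G)⁻¹ by group, hye]
    exact conj_eq_of_commute (Subgroup.mem_centralizer_singleton_iff.1 g.2.2)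
  · exact key _ _ x.2 hye

/-- The order of the odd core of the centraliser. -/
noncomputable def cw (v : G) : ℕ := Nat.card (Cfsg.centralizerPPrimeCore 2 v)

theorem cw_conj (g v : G) : cw (g * v * g⁻¹) = cw v := by
  rw [cw, cw, Balance.centralizerPPrimeCore_conj]
  exact card_cj g _

/-- The bad involutions. -/
noncomputable def badSet (M : Subgroup G) : Finset G := (Set.toFinite {v : G | Bad M v}).toFinset

theorem mem_badSet {v : G} : v ∈ badSet M ↔ Bad M v := Set.Finite.mem_toFinset _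

/-- The bad involutions in the point stabiliser. -/
noncomputable def inSet (M : Subgroup G) : Finset G := (badSet M).filter fun v => v ∈ M

theorem mem_inSet {v : G} : v ∈ inSet M ↔ Bad M v ∧ v ∈ M := by
  rw [inSet, Finset.mem_filter, mem_badSet]

/-- The bad involutions outside the point stabiliser. -/
noncomputable def outSet (M : Subgroup G) : Finset G := (badSet M).filter fun v => ¬ v ∈ M

theorem mem_outSet {v : G} : v ∈ outSet M ↔ Bad M v ∧ v ∉ M := by
  rw [outSet, Finset.mem_filter, mem_badSet]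

theorem sum_badSet (f : G → ℕ) :
    ∑ v ∈ badSet M, f v = ∑ v ∈ inSet M, f v + ∑ v ∈ outSet M, f v :=
  (Finset.sum_filter_add_sum_filter_not _ _ _).symm

/-- The bad involutions commuting with `z`. -/
noncomputable def centBad (M : Subgroup G) (z : G) : Finset G :=
  (badSet M).filter fun v => z * v = v * z

theorem mem_centBad {z v : G} : v ∈ centBad M z ↔ Bad M v ∧ z * v = v * z := by
  rw [centBad, Finset.mem_filter, mem_badSet]

/-- The classes modulo `W` of the bad involutions of `M`. -/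
noncomputable def classes (A M : Subgroup G) : Finset (G ⧸ wcl A) :=
  (inSet M).image (QuotientGroup.mk : G → G ⧸ wcl A)

/-- The classes modulo `W` of the bad involutions commuting with `z`. -/
noncomputable def classesAt (A M : Subgroup G) (z : G) : Finset (G ⧸ wcl A) :=
  (centBad M z).image (QuotientGroup.mk : G → G ⧸ wcl A)

/-- The elements different from one. -/
noncomputable def nonOne (H : Subgroup G) : Finset G :=
  (Set.toFinite {a : G | a ∈ H ∧ a ≠ 1}).toFinset

theorem mem_nonOne {H : Subgroup G} {a : G} : a ∈ nonOne H ↔ a ∈ H ∧ a ≠ 1 :=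
  Set.Finite.mem_toFinset _

theorem card_nonOne (H : Subgroup G) : (nonOne H).card = Nat.card H - 1 := by
  rw [nonOne, ← Set.ncard_eq_toFinset_card, show {a : G | a ∈ H ∧ a ≠ 1} = (H : Set G) \ {1} from rfl,
    Set.ncard_sdiff_singleton_of_mem H.one_mem]
  exact congrArg (· - 1) (Nat.card_coe_set_eq (H : Set G)).symm

/-- The involution attached to two involutions with product of even order. -/
noncomputable def pairInvol (z v : G) : G := (z * v) ^ (orderOf (z * v) / 2)

theorem pairInvol_conj {x z v : G} (hxz : x * z = z * x) :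
    pairInvol z (x * v * x⁻¹) = x * pairInvol z v * x⁻¹ := by
  have e : z * (x * v * x⁻¹) = x * (z * v) * x⁻¹ := by
    calc z * (x * v * x⁻¹) = (z * x) * v * x⁻¹ := by group
      _ = _ := by rw [← hxz]; group
  rw [pairInvol, pairInvol, e, Involutions.Basic.orderOf_conj_eq, conj_pow]

namespace Final

theorem closed (hf : Final T A M) : Closed G T A := hf.anchor.closed

theorem exists_conj_normalizer (hf : Final T A M) {v : G} (hv : Bad M v) (hvM : v ∈ M) :
    ∃ m ∈ M, m * v * m⁻¹ ∈ Subgroup.normalizer (A : Set G) := by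
  obtain ⟨m, hm, hmT⟩ := hf.anchor.exists_conj_mem hvM (i := 1)
    (by rw [pow_one, ← hv.invol, pow_orderOf_eq_one])
  exact ⟨m, hm, hf.closed.sylow_le hmT⟩

/-- The odd core at every bad involution of `M`. -/
theorem core_eq (hf : Final T A M) {v : G} (hv : Bad M v) (hvM : v ∈ M) :
    Cfsg.centralizerPPrimeCore 2 v = wcl A ⊓ Subgroup.centralizer ({v} : Set G) := by
  obtain ⟨m, hm, hmN⟩ := hf.exists_conj_normalizer hv hvM
  obtain ⟨R, L, q, Z, τ, b⟩ := hf.anchor.exists_badData (hv.conj m) hmN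
  have h1 := congrArg (cj m⁻¹) (b.core_eq hf)
  rw [cj_inf, cj_inf_centralizer, cj, ← Balance.centralizerPPrimeCore_conj,
    show cj m⁻¹ (wcl A) = wcl A from
      Subgroup.mem_normalizer_iff_map_conj_eq.1 (hf.le_norm (inv_mem hm)),
    show m⁻¹ * (m * v * m⁻¹) * m⁻¹⁻¹ = v by group] at h1
  exact h1

theorem cw_eq (hf : Final T A M) {v : G} (hv : Bad M v) (hvM : v ∈ M) :
    cw v = Nat.card (wcl A ⊓ Subgroup.centralizer ({v} : Set G) : Subgroup G) := by
  rw [cw, hf.core_eq hv hvM]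

/-- An involution of `M` is congruent modulo `W` to one normalising `A`. -/
theorem exists_rep (hf : Final T A M) {v : G} (hvM : v ∈ M) (hv : v * v = 1) :
    ∃ v₀ ∈ Subgroup.normalizer (A : Set G), v₀ * v₀ = 1 ∧ v₀⁻¹ * v ∈ wcl A ∧
      ∀ a ∈ A, a * v = v * a → a * v₀ = v₀ * a := by
  obtain ⟨x, hx, n, hn, he⟩ := hf.split v hvM
  have hvi : v⁻¹ = v := inv_eq_of_mul_eq_one_right hv
  have hn1 : n⁻¹ * v ∈ wcl A := by
    have hne : n = x⁻¹ * v := by rw [he]; group
    rw [show n⁻¹ * v = v⁻¹ * x * v⁻¹⁻¹ by rw [hne]; group]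
    exact normalizer_conj (inv_mem (hf.le_norm hvM)) hx
  have hne : n = x⁻¹ * v := by rw [he]; group
  have hn2 : n * n ∈ wcl A := by
    rw [show n * n = x⁻¹ * (v * x⁻¹ * v⁻¹) by
      rw [hne, show x⁻¹ * v * (x⁻¹ * v) = x⁻¹ * (v * x⁻¹ * v) by group, hvi]]
    exact mul_mem (inv_mem hx) (normalizer_conj (hf.le_norm hvM) (inv_mem hx))
  obtain ⟨j, hj⟩ : Odd (orderOf (n * n)) :=
    hf.closed.odd_wcl.of_dvd_nat (Subgroup.orderOf_dvd_natCard _ hn2)
  have h2 : n * (n * n) ^ j * (n * (n * n) ^ j) = 1 := by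
    have e := pow_orderOf_eq_one (n * n)
    rw [hj] at e
    have hc : Commute n ((n * n) ^ j) := ((Commute.refl n).mul_right (Commute.refl n)).pow_right j
    calc n * (n * n) ^ j * (n * (n * n) ^ j) = n * ((n * n) ^ j * n) * (n * n) ^ j := by group
      _ = (n * n) ^ (2 * j + 1) := by
          rw [← hc.eq, ← mul_assoc, pow_succ', two_mul, pow_add, mul_assoc]
      _ = 1 := e
  have hv₀ : n * (n * n) ^ j ∈ Subgroup.normalizer (A : Set G) :=
    mul_mem hn (pow_mem (mul_mem hn hn) j)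
  have hd : (n * (n * n) ^ j)⁻¹ * v ∈ wcl A := by
    rw [show (n * (n * n) ^ j)⁻¹ * v = ((n * n) ^ j)⁻¹ * (n⁻¹ * v) by group]
    exact mul_mem (inv_mem (pow_mem hn2 j)) hn1
  refine ⟨_, hv₀, h2, hd, fun a ha hav => ?_⟩
  set v₀ := n * (n * n) ^ j
  have hvd : v₀ = v * (v₀⁻¹ * v)⁻¹ := by group
  set d := (v₀⁻¹ * v)⁻¹ with hd'
  have hy : a * v₀ * a⁻¹ * v₀⁻¹ = 1 := by
    refine hf.closed.inf_wcl ?_ ?_
    · rw [show a * v₀ * a⁻¹ * v₀⁻¹ = a * (v₀ * a⁻¹ * v₀⁻¹) by group]
      exact mul_mem ha (normalizer_conj hv₀ (inv_mem ha))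
    · have e : a * v₀ * a⁻¹ * v₀⁻¹ = v * (a * d * a⁻¹ * d⁻¹) * v⁻¹ := by
        rw [hvd]
        calc a * (v * d) * a⁻¹ * (v * d)⁻¹ = (a * v) * d * a⁻¹ * d⁻¹ * v⁻¹ := by group
          _ = _ := by rw [hav]; group
      rw [e]
      exact normalizer_conj (hf.le_norm hvM) (mul_mem
        (normalizer_conj (hf.le_norm (hf.anchor.a_le ha)) (inv_mem hd)) (inv_mem (inv_mem hd)))
  exact commute_of_conj_eq (mul_inv_eq_one.1 hy)

theorem bad_congr (hf : Final T A M) {v v' : G} (hv : Bad M v) (hv' : v' * v' = 1)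
    (h : v⁻¹ * v' ∈ wcl A) : Bad M v' := by
  obtain ⟨x, -, rfl⟩ := exists_conj_of_coset hf.closed.odd_wcl
    (Involutions.Basic.invol_mul_self hv.invol) hv' h
  exact hv.conj x

theorem bad_ne (hf : Final T A M) {v a : G} (hv : Bad M v) (ha : a ∈ A) : v ≠ a := by
  rintro rfl
  exact InD.not_bad hf.anchor ⟨v, ha, Involutions.Basic.invol_ne_one hv.invol, 1, by group⟩ hv

end Final

end Cfsg.Agent.Lib.Thompson3Prime33
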