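import Cfsg.Agent.Lib.Thompson3Prime33.SzLocal
import Cfsg.Agent.Lib.Thompson3Prime33.Statement
import Cfsg.Agent.Lib.BenderConsumers23.Simple
import Cfsg.Agent.Lib.BenderSuzuki.Main
import Cfsg.Agent.Lib.OddOrder.FeitThompson
import Cfsg.Agent.Lib.Cores.Basic
import Cfsg.Prelude.Def_LocalEven
import Cfsg.Agent.Lib.CITReduce.SuzukiGraph
import Cfsg.Agent.Lib.Unitary.Transvection
import Mathlib.GroupTheory.Focal

/-!
# The minimal simple `3'`-group which is not a Suzuki group: basic consequences

`Hyp G`: `G` is simple non-abelian of order prime to three and every smaller such group is a Suzuki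
group. The facts on Suzuki groups and the theorems quoted are collected in `Deps`.

Owner: helper33.
-/

set_option autoImplicit false
set_option linter.style.haveILetI false
set_option linter.unusedSectionVars false

open scoped commutatorElement

namespace Cfsg.Agent.Lib.Thompson3Prime33

universe u

/-- The results used. -/
structure Deps : Prop where
  facts : SzFacts.{u}
  extTrivial : SzExtTrivial.{u}
  extInvol : SzExtInvol.{u}
  four : FourFormula.{u}
  fpf : FpfModuleBound.{u}
  partOne : BenderConsumers23.PropPartOne.{u}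

/-- The standing hypothesis. -/
structure Hyp (G : Type u) [Group G] [Finite G] : Prop where
  deps : Deps.{u}
  simple : IsSimpleGroup G
  nonab : ∃ a b : G, a * b ≠ b * a
  three : ¬ 3 ∣ Nat.card G
  ih : ∀ (X : Type u) [Group X] [Finite X], Nat.card X < Nat.card G → IsSimpleGroup X →
    (∃ a b : X, a * b ≠ b * a) → ¬ 3 ∣ Nat.card X → Cfsg.Lie.IsoSuzuki X

/-- `Y` has the order of a proper section of `G`. -/
def Small (G : Type u) [Group G] (Y : Type u) [Group Y] : Prop :=
  Nat.card Y ∣ Nat.card G ∧ Nat.card Y < Nat.card G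

variable {G : Type u} [Group G] [Finite G]

theorem Small.subgroup {Y : Type u} [Group Y] (h : Small G Y) (H : Subgroup Y) : Small G H := by
  haveI : Finite Y := Nat.finite_of_card_ne_zero fun e => by
    have := h.1; rw [e, Nat.zero_dvd] at this; exact Nat.card_pos.ne' this
  exact ⟨H.card_subgroup_dvd_card.trans h.1, lt_of_le_of_lt (Subgroup.card_le_card_group H) h.2⟩

theorem Small.surj {Y Z : Type u} [Group Y] [Group Z] (h : Small G Y) (f : Y →* Z)
    (hf : Function.Surjective f) : Small G Z := by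
  haveI : Finite Y := Nat.finite_of_card_ne_zero fun e => by
    have := h.1; rw [e, Nat.zero_dvd] at this; exact Nat.card_pos.ne' this
  exact ⟨(Subgroup.card_dvd_of_surjective f hf).trans h.1,
    lt_of_le_of_lt (Nat.card_le_card_of_surjective f hf) h.2⟩

theorem small_subgroup {H : Subgroup G} (hH : H ≠ ⊤) : Small G H :=
  ⟨H.card_subgroup_dvd_card, lt_of_le_of_ne (Subgroup.card_le_card_group H) fun e =>
    hH (Subgroup.eq_top_of_card_eq H e)⟩

theorem three_dvd_card_psu3 (F : Type) [Field F] [Fintype F] (n : ℕ)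
    (hF : Fintype.card F = (2 ^ n) ^ 2) : 3 ∣ Nat.card (Cfsg.PSU 3 F (2 ^ n)) := by
  have h1 := Unitary.card_PSU (F := F) hF (by norm_num : 2 ≤ 3)
  have h2 := Unitary.card_SU (F := F) hF (by norm_num : 1 ≤ 3)
  rw [← h1, Unitary.card_GU (F := F) hF 3] at h2
  simp only [Finset.prod_range_succ, Finset.prod_range_zero, show 3 * (3 - 1) / 2 = 3 from rfl,
    Nat.even_iff, if_true, show 1 % 2 = 1 from rfl,
    show 2 % 2 = 0 from rfl, one_ne_zero, if_false, one_mul, zero_add, pow_one] at h2
  generalize Nat.card (Cfsg.PSU 3 F (2 ^ n)) = c at h2 ⊢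
  generalize hq : 2 ^ n = q at h2 ⊢
  by_contra hc
  have hq3 : ¬ 3 ∣ q := fun h => by
    rw [← hq] at h
    exact absurd (Nat.prime_three.dvd_of_dvd_pow h) (by norm_num)
  have hqpos : 0 < q := hq ▸ Nat.two_pow_pos n
  have key : ∀ (P : Prop), (∀ a b : ZMod 9, a = (q : ZMod 9) → b = (c : ZMod 9) → P) → P :=
    fun P h => h _ _ rfl rfl
  refine key _ fun a b ha hb => ?_
  rw [show q ^ 3 * ((q + 1) * (q ^ 2 - 1) * (q ^ 3 + 1)) =
    (q + 1) * (q ^ 3 * ((q ^ 2 - 1) * (q ^ 3 + 1))) by ring] at h2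
  replace h2 := Nat.eq_of_mul_eq_mul_left (Nat.succ_pos q) h2
  have h3 := congrArg (Nat.cast : ℕ → ZMod 9) h2
  push_cast [Nat.one_le_iff_ne_zero.2 (pow_ne_zero _ hqpos.ne'),
    Nat.one_le_pow 2 q hqpos] at h3
  rw [← ha, ← hb] at h3
  have hg : Nat.gcd 3 (q + 1) = if (q + 1) % 3 = 0 then 3 else 1 := by
    split_ifs with h
    · exact Nat.gcd_eq_left (Nat.dvd_of_mod_eq_zero h)
    · exact (Nat.prime_three.coprime_iff_not_dvd).2 fun hd => h (Nat.mod_eq_zero_of_dvd hd)
  have ha' : a.val = q % 9 := by rw [ha, ZMod.val_natCast]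
  have hb' : b.val = c % 9 := by rw [hb, ZMod.val_natCast]
  rw [hg] at h3
  have hA : a.val % 3 ≠ 0 := by rw [ha']; omega
  have hB : b.val % 3 ≠ 0 := by rw [hb']; omega
  split_ifs at h3 with h
  · have hA2 : a.val % 3 = 2 := by rw [ha']; omega
    push_cast at h3
    clear hA ha' hb' hg ha hb
    revert a b
    decide
  · have hA2 : a.val % 3 = 1 := by rw [ha']; omega
    push_cast at h3
    clear hA ha' hb' hg ha hb
    revert a b
    decide

namespace Hyp

theorem suzuki (h : Hyp G) {X : Type u} [Group X] [Finite X] (hX : Small G X)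
    (hs : IsSimpleGroup X) (hn : ¬ IsMulCommutative X) : Cfsg.Lie.IsoSuzuki X :=
  h.ih X hX.2 hs (by
    by_contra hc; push Not at hc; exact hn ⟨⟨hc⟩⟩) fun h3 => h.three (h3.trans hX.1)

theorem ne_comm (h : Hyp G) : ¬ IsMulCommutative G := fun hc => by
  obtain ⟨a, b, hab⟩ := h.nonab
  exact hab (hc.is_comm.comm a b)

theorem eq_bot_of_normal (h : Hyp G) {N : Subgroup G} (hN : N.Normal) (hne : N ≠ ⊤) : N = ⊥ :=
  haveI := h.simple
  hN.eq_bot_or_eq_top.resolve_right hne

theorem not_solvable (h : Hyp G) : ¬ Group.IsSolvable G := fun hs => by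
  obtain ⟨a, b, hab⟩ := h.nonab
  haveI := h.simple
  exact hab (IsSimpleGroup.comm_iff_isSolvable.2 hs a b)

theorem even (h : Hyp G) : 2 ∣ Nat.card G := by
  by_contra hne
  exact h.not_solvable (OddOrder.FeitThompson.isSolvable_of_odd_card
    (Nat.odd_iff.2 (Nat.two_dvd_ne_zero.1 hne)))

theorem center_eq_bot (h : Hyp G) : Subgroup.center G = ⊥ :=
  h.eq_bot_of_normal inferInstance fun e => h.ne_comm
    ⟨⟨fun a b => (Subgroup.mem_center_iff.1 (e ▸ Subgroup.mem_top b) a)⟩⟩

theorem commutator_eq_top (h : Hyp G) : commutator G = ⊤ := by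
  haveI := h.simple
  refine (inferInstance : (commutator G).Normal).eq_bot_or_eq_top.resolve_left fun e => h.ne_comm ?_
  refine ⟨⟨fun a b => ?_⟩⟩
  have : (⁅a, b⁆ : G) ∈ commutator G :=
    Subgroup.commutator_mem_commutator (Subgroup.mem_top a) (Subgroup.mem_top b)
  rw [e, Subgroup.mem_bot] at this
  exact commutatorElement_eq_one_iff_mul_comm.1 this

theorem centralizer_ne_top (h : Hyp G) {x : G} (hx : x ≠ 1) :
    Subgroup.centralizer ({x} : Set G) ≠ ⊤ := fun e => hx (by
  rw [← Subgroup.mem_bot, ← h.center_eq_bot, Subgroup.mem_center_iff]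
  intro g
  exact Subgroup.mem_centralizer_singleton_iff.1 (e ▸ Subgroup.mem_top g))

theorem normalizer_ne_top (h : Hyp G) {R : Subgroup G} (h1 : R ≠ ⊥) (h2 : R ≠ ⊤) :
    Subgroup.normalizer (R : Set G) ≠ ⊤ := fun e =>
  h1 (h.eq_bot_of_normal (Subgroup.normalizer_eq_top_iff.1 e) h2)

theorem not_involves_four (h : Hyp G) : ¬ Cfsg.Involves (Equiv.Perm (Fin 4)) G := by
  rintro ⟨K, R, hn, ⟨e⟩⟩
  haveI := hn
  refine h.three ?_
  have h1 : Nat.card (K ⧸ R.subgroupOf K) = 24 := by
    rw [Nat.card_congr e.toEquiv, Nat.card_perm, Nat.card_fin]; rfl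
  exact ((show 3 ∣ 24 by norm_num).trans (h1 ▸ Subgroup.card_quotient_dvd_card _)).trans
    K.card_subgroup_dvd_card

/-- The section hypothesis of the theorem on strongly closed abelian subgroups. -/
theorem sections (h : Hyp G) (K R : Subgroup G) [hR : (R.subgroupOf K).Normal]
    (hc : Subgroup.centralizer (Cfsg.pCore 2 (K ⧸ R.subgroupOf K) : Set (K ⧸ R.subgroupOf K)) ≤
      Cfsg.pCore 2 (K ⧸ R.subgroupOf K)) :
    Cfsg.IsCompositionKGroupWith Cfsg.IsSuzukiOrPSL2OddPowerThree (K ⧸ R.subgroupOf K) := by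
  intro H _ N _ hsimple hnc
  by_cases hK : K = ⊤
  · subst hK
    exfalso
    haveI : IsSimpleGroup ↥(⊤ : Subgroup G) := by
      haveI := h.simple
      exact Subgroup.topEquiv.isSimpleGroup
    haveI := hsimple
    rcases hR.eq_bot_or_eq_top with hb | ht
    · let e : G ≃* (↥(⊤ : Subgroup G) ⧸ R.subgroupOf ⊤) :=
        Subgroup.topEquiv.symm.trans (QuotientGroup.quotientBot.symm.trans
          (QuotientGroup.quotientMulEquivOfEq hb.symm))
      haveI : Fact (Nat.Prime 2) := ⟨Nat.prime_two⟩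
      have hO : Cfsg.pCore 2 G = ⊥ := h.eq_bot_of_normal inferInstance fun et => h.not_solvable (by
        have hG : IsPGroup 2 G := Cores.pCore_eq_top_iff.1 et
        haveI := hG.isNilpotent
        infer_instance)
      rw [← Cores.map_pCore_equiv e, hO, Subgroup.map_bot] at hc
      refine h.ne_comm ⟨⟨fun a b => ?_⟩⟩
      have : ∀ x : G, x = 1 := fun x => e.injective (by
        rw [map_one]
        exact Subgroup.mem_bot.1 (hc (Subgroup.mem_centralizer_iff.2 fun y hy => by
          rw [Subgroup.mem_bot.1 hy, one_mul, mul_one])))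
      rw [this a, this b]
    · haveI : Subsingleton (↥(⊤ : Subgroup G) ⧸ R.subgroupOf ⊤) := by
        rw [ht]; exact QuotientGroup.subsingleton_quotient_top
      haveI : Subsingleton (H ⧸ N) := QuotientGroup.mk_surjective.subsingleton
      exact not_subsingleton (H ⧸ N) inferInstance
  · exact Or.inl (h.suzuki ((((small_subgroup hK).surj (QuotientGroup.mk' (R.subgroupOf K))
      (QuotientGroup.mk'_surjective _)).subgroup H).surj (QuotientGroup.mk' N)
        (QuotientGroup.mk'_surjective N)) hsimple hnc)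

/-- A group of order prime to three with a strongly embedded subgroup is a Suzuki group. -/
theorem suzuki_of_stronglyEmbedded (h : Hyp G) {M : Subgroup G}
    (hM : Cfsg.IsStronglyEmbedded M) : Cfsg.Lie.IsoSuzuki G := by
  haveI := h.simple
  obtain ⟨hT, -⟩ := BenderConsumers23.simple_case h.deps.partOne BenderSuzuki.propMain h.nonab hM
  rcases hT with ⟨F, i, j, n, hn, hF, ⟨e⟩⟩ | hS | ⟨F, i, j, n, hn, hF, ⟨e⟩⟩
  · exfalso
    refine h.three ?_
    rw [Nat.card_congr e.toEquiv]
    exact CITReduce.SuzukiGraph.three_dvd_psl2 F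
  · exact hS
  · exfalso
    refine h.three ?_
    rw [Nat.card_congr e.toEquiv]
    exact three_dvd_card_psu3 F n hF

end Hyp

end Cfsg.Agent.Lib.Thompson3Prime33
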