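import Cfsg.Agent.Lib.Thompson3Prime33.NormalT
import Cfsg.Agent.Lib.Coprime.Commutator
import Cfsg.Agent.Lib.Coprime.Conjugacy
import Mathlib.GroupTheory.SchurZassenhaus

/-!
# The complement and the torus in `N(A) / O(N(A))`

`N(A) / O(N(A))` is `T H` for an odd subgroup `H` containing the image `σ` of a torus element; the
powers of `σ` which are not trivial fix only the part `S` of `T`.

Owner: helper33.
-/

set_option autoImplicit false
set_option linter.style.haveILetI false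
set_option linter.unusedSectionVars false
set_option linter.unusedVariables false

open scoped commutatorElement

namespace Cfsg.Agent.Lib.Thompson3Prime33

universe u

variable {G : Type u} [Group G] [Finite G] {T : Sylow 2 G} {A M : Subgroup G} {q : ℕ}

/-- An element of odd order of `N(A)` whose image lies in that of a `2`-group has trivial image. -/
theorem nx_eq_one_of_odd {n : ↥(Subgroup.normalizer (A : Set G))} {K : Subgroup G}
    (hK : Odd (Nat.card K)) (hn : (n : G) ∈ K) {H : Subgroup G} (hH : IsPGroup 2 H)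
    (h : nx A n ∈ nimg A H) : nx A n = 1 := by
  obtain ⟨d, hd, e⟩ := h
  obtain ⟨i, hi⟩ := hH ⟨d, hd⟩
  have h1 : (nx A n) ^ 2 ^ i = 1 := by
    rw [← e, ← map_pow, show d ^ 2 ^ i = 1 from Subtype.ext (congrArg Subtype.val hi :), map_one]
  refine orderOf_eq_one_iff.1 (Nat.eq_one_of_dvd_coprimes ((Nat.coprime_two_left.2 hK).pow_left i)
    (orderOf_dvd_of_pow_eq_one h1) ((orderOf_map_dvd (nx A) n).trans ?_))
  rw [← Subgroup.orderOf_coe]
  exact Subgroup.orderOf_dvd_natCard _ hn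

namespace Tower

variable {u : G} {R : Subgroup G} {L : Subgroup (CQ u)}
  {Z : Subgroup (↥L ⧸ Subgroup.center ↥L)} {τ : ↥L ⧸ Subgroup.center ↥L}

theorem T_le (h : Tower T A M q u R L Z τ) : (T : Subgroup G) ≤ Subgroup.normalizer (A : Set G) :=
  h.top.counted.closed.sylow_le

theorem nimg_T_normal (h : Tower T A M q u R L Z τ) : (nimg A (T : Subgroup G)).Normal :=
  h.normal ▸ inferInstance

theorem cent_T (h : Tower T A M q u R L Z τ) :
    Subgroup.centralizer (nimg A (T : Subgroup G) : Set (NX A)) ≤ nimg A (T : Subgroup G) := by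
  rw [← h.normal]
  exact h.top.cent_pCore

theorem exists_conj_mem_T (h : Tower T A M q u R L Z τ) (x : NX A) {d : G}
    (hd : d ∈ (T : Subgroup G)) :
    ∃ d', ∃ hd' : d' ∈ (T : Subgroup G),
      x * nx A ⟨d, h.T_le hd⟩ * x⁻¹ = nx A ⟨d', h.T_le hd'⟩ := by
  haveI := h.nimg_T_normal
  obtain ⟨g, hg, e⟩ := Subgroup.Normal.conj_mem (H := nimg A (T : Subgroup G)) inferInstance _
    (mem_nimg h.T_le hd) x
  exact ⟨g, hg, e.symm⟩

/-- Every element of the quotient has a preimage normalising `T`. -/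
theorem exists_lift_T (h : Tower T A M q u R L Z τ) (x : NX A) :
    ∃ n : ↥(Subgroup.normalizer (A : Set G)),
      nx A n = x ∧ (n : G) ∈ Subgroup.normalizer ((T : Subgroup G) : Set G) := by
  haveI : Fact (Nat.Prime 2) := ⟨Nat.prime_two⟩
  obtain ⟨n, rfl⟩ := nx_surjective A x
  set K := (T : Subgroup G) ⊔ nO A
  have hTn : (T : Subgroup G) ≤ Subgroup.normalizer (nO A : Set G) := fun t ht =>
    mem_normalizer_of_conj_mem fun o ho => nO_conj (h.T_le ht) ho
  have hKT : CosetGraph.SylowIn.IsSylowIn 2 (T : Subgroup G) K := by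
    refine ⟨le_sup_left, le_antisymm ?_ ?_⟩
    · obtain ⟨k, hk⟩ := IsPGroup.iff_card.1 T.2
      rw [hk]
      exact Nat.pow_le_pow_right two_pos
        ((Nat.Prime.pow_dvd_iff_le_factorization Nat.prime_two Nat.card_pos.ne').1
          (hk ▸ Subgroup.card_dvd_of_le le_sup_left))
    · rw [T.card_eq_multiplicity]
      exact Nat.le_of_dvd (by positivity)
        (Nat.ordProj_dvd_ordProj_of_dvd Nat.card_pos.ne' K.card_subgroup_dvd_card 2)
  have hconj : CosetGraph.SylowIn.IsSylowIn 2 (cj (n : G) (T : Subgroup G)) K := by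
    refine ⟨?_, by rw [card_cj]; exact hKT.card_eq⟩
    rintro _ ⟨d, hd, rfl⟩
    obtain ⟨d', hd', e⟩ := h.exists_conj_mem_T (nx A n) hd
    rw [← map_inv, ← map_mul, ← map_mul] at e
    have h1 := nx_eq_iff.1 e
    show (n : G) * d * (n : G)⁻¹ ∈ K
    have h2 : (n : G) * d * (n : G)⁻¹ * d'⁻¹ ∈ nO A := h1
    simpa using K.mul_mem ((le_sup_right : nO A ≤ K) h2) ((le_sup_left : (T : Subgroup G) ≤ K) hd')
  obtain ⟨g, hg, he⟩ := hconj.exists_conj hKT
  rw [← SetLike.mem_coe, Subgroup.coe_mul_of_left_le_normalizer_right (T : Subgroup G) (nO A) hTn]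
    at hg
  obtain ⟨t, ht, o, ho, rfl⟩ := hg
  refine ⟨⟨o, nO_le A ho⟩ * n, ?_, mem_normalizer_of_cj_le (le_of_eq ?_)⟩
  · rw [map_mul, nx_eq_one.2 ho, one_mul]
  · have e : cj (t * (o * (n : G))) (T : Subgroup G) = (T : Subgroup G) := by
      rw [← mul_assoc, ← cj_cj]; exact he
    calc cj (o * (n : G)) (T : Subgroup G) = cj t⁻¹ (cj (t * (o * (n : G))) (T : Subgroup G)) := by
          rw [cj_cj, inv_mul_cancel_left]
      _ = (T : Subgroup G) := by
          rw [e]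
          exact CosetGraph.SylowIn.conj_map_eq_self
            (Subgroup.le_normalizer ((T : Subgroup G).inv_mem ht))

/-- Conjugation by an element of the component centralising `u` acts on `R` as on `P`. -/
theorem proj_conj (h : Tower T A M q u R L Z τ) (g : ↥(lift u L))
    (hgN : (g : G) ∈ Subgroup.normalizer (A : Set G)) {d d' : G} (hd : d ∈ R) (hd' : d' ∈ R)
    (e : nx A ⟨g, hgN⟩ * nx A ⟨d, h.top.data.R_le_normalizer hd⟩ * (nx A ⟨g, hgN⟩)⁻¹ =
      nx A ⟨d', h.top.data.R_le_normalizer hd'⟩) :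
    h.top.data.proj ⟨d', hd'⟩ = lmap u L g * h.top.data.proj ⟨d, hd⟩ * (lmap u L g)⁻¹ := by
  have b := h.top.data
  rw [← map_inv, ← map_mul, ← map_mul] at e
  have ho : (g : G) * d * (g : G)⁻¹ * d'⁻¹ ∈ Cfsg.centralizerPPrimeCore 2 u := by
    rw [h.top.counted.core_eq u b.bad b.mem]
    refine ⟨h.top.counted.nO_le_wcl (nx_eq_iff.1 e), ?_⟩
    have hgu := lift_le u L g.2
    exact Subgroup.mul_mem _ (Subgroup.mul_mem _ (Subgroup.mul_mem _ hgu (b.comp.base.sylow.le hd))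
      (Subgroup.inv_mem _ hgu)) (Subgroup.inv_mem _ (b.comp.base.sylow.le hd'))
  set gc : ↥(Subgroup.centralizer ({u} : Set G)) := ⟨g, lift_le u L g.2⟩
  set dc : ↥(Subgroup.centralizer ({u} : Set G)) := ⟨d, b.comp.base.sylow.le hd⟩
  set dc' : ↥(Subgroup.centralizer ({u} : Set G)) := ⟨d', b.comp.base.sylow.le hd'⟩
  have hcm : cmap u dc' = cmap u gc * cmap u dc * (cmap u gc)⁻¹ := by
    have h2 := cmap_eq_one.2
      (show ((gc * dc * gc⁻¹ * dc'⁻¹ : ↥(Subgroup.centralizer ({u} : Set G))) : G) ∈ _ from ho)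
    rw [map_mul, map_mul, map_mul, map_inv, map_inv, mul_inv_eq_one] at h2
    exact h2.symm
  refine b.comp.loc.conj_injective ?_
  have hg : MulAut.conj (lmap u L g) = autOn L ⟨cmap u gc, b.normalizes _⟩ := by
    rw [lmap_apply, ← autOn_coe]
    exact congrArg (autOn L) (Subtype.ext (coe_toL g))
  rw [map_mul, map_mul, map_inv, ← b.proj_spec ⟨d', hd'⟩, ← b.proj_spec ⟨d, hd⟩, hg,
    ← map_inv, ← map_mul, ← map_mul]
  exact congrArg (autOn L) (Subtype.ext hcm)

/-- The shift of a conjugate by an element fixing `u`. -/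
theorem shift_conj (h : Tower T A M q u R L Z τ) {n : ↥(Subgroup.normalizer (A : Set G))}
    (hn : nx A n * nx A ⟨u, h.top.data.mem⟩ = nx A ⟨u, h.top.data.mem⟩ * nx A n) {d d' a : G}
    (hd : d ∈ (T : Subgroup G)) (hd' : d' ∈ (T : Subgroup G)) (ha : a ∈ A)
    (e : nx A n * nx A ⟨d, h.T_le hd⟩ * (nx A n)⁻¹ = nx A ⟨d', h.T_le hd'⟩)
    (hda : d * u * d⁻¹ = u * a) : d' * u * d'⁻¹ = u * ((n : G) * a * (n : G)⁻¹) := by
  have huT : u ∈ (T : Subgroup G) := h.top.trans.le h.top.data.self_mem_R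
  have ha' := normalizer_conj n.2 ha
  refine h.top.eq_of_nx ((T : Subgroup G).mul_mem ((T : Subgroup G).mul_mem hd' huT)
    ((T : Subgroup G).inv_mem hd')) ((T : Subgroup G).mul_mem huT (h.top.counted.closed.le ha')) ?_
  set uu : ↥(Subgroup.normalizer (A : Set G)) := ⟨u, h.top.data.mem⟩
  set dd : ↥(Subgroup.normalizer (A : Set G)) := ⟨d, h.T_le hd⟩
  set aa : ↥(Subgroup.normalizer (A : Set G)) := ⟨a, Subgroup.le_normalizer ha⟩
  have hu' : (nx A n)⁻¹ * nx A uu * nx A n = nx A uu := by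
    rw [mul_assoc, ← hn, inv_mul_cancel_left]
  have hda' : nx A dd * nx A uu * (nx A dd)⁻¹ = nx A uu * nx A aa := by
    rw [← map_mul, ← map_inv, ← map_mul, ← map_mul]
    exact congrArg (nx A) (Subtype.ext hda)
  calc nx A ⟨d' * u * d'⁻¹, _⟩
      = nx A ⟨d', h.T_le hd'⟩ * nx A uu * (nx A ⟨d', h.T_le hd'⟩)⁻¹ := rfl
    _ = nx A n * nx A dd * ((nx A n)⁻¹ * nx A uu * nx A n) * (nx A dd)⁻¹ * (nx A n)⁻¹ := by
        rw [← e]; group
    _ = nx A n * (nx A dd * nx A uu * (nx A dd)⁻¹) * (nx A n)⁻¹ := by rw [hu']; group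
    _ = (nx A n * nx A uu) * nx A aa * (nx A n)⁻¹ := by rw [hda']; group
    _ = nx A uu * (nx A n * nx A aa * (nx A n)⁻¹) := by rw [hn]; group
    _ = _ := rfl

end Tower

/-- The complement `H` and the torus element `σ`. -/
structure Endgame (T : Sylow 2 G) (A M : Subgroup G) (q : ℕ) (u : G) (R : Subgroup G)
    (L : Subgroup (CQ u)) (Z : Subgroup (↥L ⧸ Subgroup.center ↥L))
    (τ : ↥L ⧸ Subgroup.center ↥L) (H : Subgroup (NX A)) (σ : NX A) : Prop where
  tower : Tower T A M q u R L Z τ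
  odd : Odd (Nat.card H)
  mul : ∀ x : NX A, ∃ d ∈ nimg A (T : Subgroup G), ∃ k ∈ H, x = d * k
  mem : σ ∈ H
  pow : σ ^ (q - 1) = 1
  torus : ∃ t : ↥(lift u L), lmap u L t = τ ∧
    ∃ htN : (t : G) ∈ Subgroup.normalizer (A : Set G), nx A ⟨t, htN⟩ = σ

namespace Tower

variable {u : G} {R : Subgroup G} {L : Subgroup (CQ u)}
  {Z : Subgroup (↥L ⧸ Subgroup.center ↥L)} {τ : ↥L ⧸ Subgroup.center ↥L}

theorem odd_q_sub_one (h : Tower T A M q u R L Z τ) : Odd (q - 1) := by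
  obtain ⟨m, -, rfl⟩ := h.top.counted.q_eq
  refine Nat.Even.sub_odd (Nat.one_le_two_pow) ?_ odd_one
  exact ⟨2 ^ (2 * m), by rw [pow_succ]; ring⟩

/-- An element centralising the image of `R` and acting on `A` trivially, of odd order in the
quotient, has trivial image. -/
theorem eq_one_of_chain (h : Tower T A M q u R L Z τ) {x : NX A} (hx : Odd (orderOf x))
    (hA : x ∈ Subgroup.centralizer (nimg A A : Set (NX A)))
    (hR : ∀ d, ∀ hd : d ∈ R,
      x * nx A ⟨d, h.top.data.R_le_normalizer hd⟩ = nx A ⟨d, h.top.data.R_le_normalizer hd⟩ * x) :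
    x = 1 := by
  haveI : Fact (Nat.Prime 2) := ⟨Nat.prime_two⟩
  have b := h.top.data
  have hc := h.top.counted
  set N₀ := nimg A R
  set K₀ := nimg A (T : Subgroup G) with hK₀
  set Z₀ := Subgroup.zpowers x
  have hZ₀ : Odd (Nat.card Z₀) := by rw [Nat.card_zpowers]; exact hx
  have hxu : x * nx A ⟨u, b.mem⟩ = nx A ⟨u, b.mem⟩ * x := hR u b.self_mem_R
  have hcom : ⁅K₀, Z₀⁆ ≤ N₀ := by
    rw [Subgroup.commutator_le]
    rintro _ ⟨d, hd, rfl⟩ z hz
    have hd : (d : G) ∈ (T : Subgroup G) := hd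
    obtain ⟨m, rfl⟩ := nx_surjective A z
    have hmu : nx A m * nx A ⟨u, b.mem⟩ = nx A ⟨u, b.mem⟩ * nx A m := by
      obtain ⟨i, hi⟩ := Subgroup.mem_zpowers_iff.1 hz
      rw [← hi]; exact Commute.zpow_left hxu i
    have hmA : nx A m ∈ Subgroup.centralizer (nimg A A : Set (NX A)) :=
      (Subgroup.zpowers_le.2 hA) hz
    obtain ⟨d', hd', e⟩ := h.exists_conj_mem_T (nx A m) (d := (d : G)) hd
    obtain ⟨a, ha, hda⟩ := h.top.trans.maps d hd
    have hma : (m : G) * a * (m : G)⁻¹ = a :=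
      conj_eq_of_commute (Subgroup.mem_centralizer_iff.1 (cent_of_nx hc.closed hmA) a ha).symm
    have h4 := h.shift_conj hmu hd hd' ha e hda
    rw [hma] at h4
    have h5 : (d : G) * d'⁻¹ ∈ R := by
      refine h.top.trans.fix _ ((T : Subgroup G).mul_mem hd ((T : Subgroup G).inv_mem hd'))
        (commute_of_conj_eq ?_)
      have hd'a : d'⁻¹ * u * d' = u * a⁻¹ := by
        have hc' := (Subgroup.mem_centralizer_iff.1 (h.top.trans.cent hd') a ha)
        calc d'⁻¹ * u * d' = d'⁻¹ * (d' * u * d'⁻¹) * a⁻¹ * d' := by rw [h4]; group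
          _ = u * (d'⁻¹ * (a⁻¹ * d')) := by group
          _ = u * a⁻¹ := by
              rw [show a⁻¹ * d' = d' * a⁻¹ by
                rw [hc.closed.inv_eq ha]; exact hc', inv_mul_cancel_left]
      calc (d : G) * d'⁻¹ * u * ((d : G) * d'⁻¹)⁻¹ = (d : G) * (d'⁻¹ * u * d') * (d : G)⁻¹ := by group
        _ = ((d : G) * u * (d : G)⁻¹) * ((d : G) * a⁻¹ * (d : G)⁻¹) := by rw [hd'a]; group
        _ = u := by
            rw [hda, hc.closed.inv_eq ha, conj_eq_of_commute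
              (Subgroup.mem_centralizer_iff.1 (h.top.trans.cent hd) a ha).symm, mul_assoc,
              hc.closed.sq ha, mul_one]
    rw [commutatorElement_def, show nx A d * nx A m * (nx A d)⁻¹ * (nx A m)⁻¹ =
      nx A d * (nx A m * nx A d * (nx A m)⁻¹)⁻¹ by group, e, ← map_inv, ← map_mul]
    exact ⟨_, h5, rfl⟩
  have hN : ⁅N₀, Z₀⁆ = ⊥ := by
    rw [Subgroup.commutator_eq_bot_iff_le_centralizer]
    rintro _ ⟨d, hd, rfl⟩
    refine Subgroup.mem_centralizer_iff.2 fun z hz => ?_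
    obtain ⟨i, rfl⟩ := Subgroup.mem_zpowers_iff.1 hz
    exact Commute.zpow_left (hR d hd) i
  have hcop : (Nat.card Z₀).Coprime (Nat.card N₀) := by
    obtain ⟨k, hk⟩ := IsPGroup.iff_card.1 b.comp.base.sylow.isPGroup
    rw [h.top.card_nimg h.top.trans.le, hk]
    exact ((Nat.coprime_two_left.2 hZ₀).pow_left k).symm
  obtain ⟨d, hd, e⟩ := h.cent_T
    (Coprime.le_centralizer_of_series hcop hcom hN (Subgroup.mem_zpowers x))
  obtain ⟨i, hi⟩ := T.2 ⟨d, hd⟩
  refine orderOf_eq_one_iff.1 (Nat.eq_one_of_dvd_coprimes ((Nat.coprime_two_left.2 hx).pow_left i)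
    (orderOf_dvd_of_pow_eq_one ?_) dvd_rfl)
  rw [← e, ← map_pow, show d ^ 2 ^ i = 1 from Subtype.ext (congrArg Subtype.val hi :), map_one]

/-- The elements of the core of `u` normalising `A` have trivial image. -/
theorem nx_core_eq_one (h : Tower T A M q u R L Z τ) {n : ↥(Subgroup.normalizer (A : Set G))}
    (hn : (n : G) ∈ Cfsg.centralizerPPrimeCore 2 u) : nx A n = 1 := by
  have b := h.top.data
  have hc := h.top.counted
  have hodd := odd_core u
  have huC : ∀ {x : G}, x ∈ Subgroup.centralizer ({u} : Set G) →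
      ∀ {y}, y ∈ Cfsg.centralizerPPrimeCore 2 u → x * y * x⁻¹ ∈ Cfsg.centralizerPPrimeCore 2 u :=
    fun {x} hx {y} hy =>
      normalizer_conj (Balance.centralizer_le_normalizer_centralizerPPrimeCore u hx) hy
  refine h.eq_one_of_chain (hodd.of_dvd_nat ((orderOf_map_dvd _ _).trans ?_)) ?_ fun d hd => ?_
  · rw [← Subgroup.orderOf_coe]
    exact Subgroup.orderOf_dvd_natCard _ hn
  · refine h.top.nx_cent_A (Subgroup.mem_centralizer_iff.2 fun a ha => ?_)
    refine (commute_of_conj_eq (mul_inv_eq_one.1 (eq_one_of_two_of_odd hc.closed.isPGroup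
      (A.mul_mem (normalizer_conj n.2 ha) (A.inv_mem ha)) hodd ?_))).symm
    rw [mul_assoc, mul_assoc]
    refine Subgroup.mul_mem _ hn ?_
    rw [← mul_assoc]
    exact huC (hc.le_cent u b.bad b.mem ha) (inv_mem hn)
  · have hdT := h.top.trans.le hd
    set k : ↥(Subgroup.normalizer (A : Set G)) :=
      n * ⟨d, b.R_le_normalizer hd⟩ * n⁻¹ * ⟨d, b.R_le_normalizer hd⟩⁻¹
    have h1 : (k : G) ∈ Cfsg.centralizerPPrimeCore 2 u := by
      show (n : G) * d * (n : G)⁻¹ * d⁻¹ ∈ _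
      rw [mul_assoc, mul_assoc]
      refine Subgroup.mul_mem _ hn ?_
      rw [← mul_assoc]
      exact huC (b.comp.base.sylow.le hd) (inv_mem hn)
    obtain ⟨d', hd', e⟩ := h.exists_conj_mem_T (nx A n) hdT
    have h2 : nx A k ∈ nimg A (T : Subgroup G) := by
      show nx A (n * ⟨d, b.R_le_normalizer hd⟩ * n⁻¹ * ⟨d, b.R_le_normalizer hd⟩⁻¹) ∈ _
      rw [map_mul, map_mul, map_mul, map_inv, map_inv, e]
      exact Subgroup.mul_mem _ (mem_nimg h.T_le hd') (Subgroup.inv_mem _ (mem_nimg h.T_le hdT))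
    have h3 := nx_eq_one_of_odd hodd h1 T.2 h2
    simp only [k, map_mul, map_inv] at h3
    exact commute_of_conj_eq (mul_inv_eq_one.1 h3)

theorem torus_pow (h : Tower T A M q u R L Z τ) {t : ↥(lift u L)} (ht : lmap u L t = τ)
    (htN : (t : G) ∈ Subgroup.normalizer (A : Set G)) : (nx A ⟨t, htN⟩) ^ (q - 1) = 1 := by
  have b := h.top.data
  rw [← map_pow]
  refine h.nx_core_eq_one ?_
  rw [Subgroup.coe_pow, show (t : G) ^ (q - 1) = ((t ^ (q - 1) : ↥(lift u L)) : G) by simp]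
  exact b.mem_core_of_lmap (by rw [map_pow, ht, ← b.comp.loc.τ_order, pow_orderOf_eq_one])

theorem exists_endgame (h : Tower T A M q u R L Z τ) :
    ∃ H σ, Endgame T A M q u R L Z τ H σ := by
  haveI : Fact (Nat.Prime 2) := ⟨Nat.prime_two⟩
  haveI := h.nimg_T_normal
  obtain ⟨t, ht, htN, -⟩ := h.top.exists_torus_tcore
  set σ := nx A ⟨t, htN⟩ with hσ
  obtain ⟨S, hS⟩ := h.top.exists_sylow_nx
  obtain ⟨k, hk⟩ := IsPGroup.iff_card.1 S.2
  have hodd : Odd (nimg A (T : Subgroup G)).index := by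
    rw [← hS, Nat.odd_iff]
    exact Nat.two_dvd_ne_zero.1 S.not_dvd_index
  have hcop : (Nat.card (nimg A (T : Subgroup G))).Coprime (nimg A (T : Subgroup G)).index := by
    rw [← hS, hk]
    exact (Nat.coprime_two_left.2 (hS ▸ hodd)).pow_left k
  obtain ⟨H₀, hH₀⟩ := Subgroup.exists_right_complement'_of_coprime hcop
  have hH₀odd : Odd (Nat.card H₀) := hH₀.symm.index_eq_card ▸ hodd
  -- conjugate the complement onto one containing `σ`
  have hpow := h.torus_pow ht htN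
  have hσodd : Odd (Nat.card (Subgroup.zpowers σ)) := by
    rw [Nat.card_zpowers]
    exact h.odd_q_sub_one.of_dvd_nat (orderOf_dvd_of_pow_eq_one hpow)
  set Tb := nimg A (T : Subgroup G) with hTb
  set B := H₀ ⊓ (Subgroup.zpowers σ ⊔ Tb) with hB
  have hcT : Nat.card Tb = 2 ^ k := hS ▸ hk
  have hd1 : Disjoint (Subgroup.zpowers σ) Tb := disjoint_iff.2 (Coprime.inf_eq_bot_of_coprime
    (by rw [hcT]; exact ((Nat.coprime_two_left.2 hσodd).pow_left k).symm))
  have hsup : B ⊔ Tb = Subgroup.zpowers σ ⊔ Tb := by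
    refine le_antisymm (sup_le inf_le_right le_sup_right) fun x hx => ?_
    have hx' : x ∈ H₀ ⊔ Tb := by
      rw [hH₀.symm.sup_eq_top]; exact Subgroup.mem_top x
    rw [← SetLike.mem_coe, Subgroup.mul_normal] at hx'
    obtain ⟨a, ha, c, hc, rfl⟩ := hx'
    have haB : a ∈ B := ⟨ha, by
      simpa using (Subgroup.zpowers σ ⊔ Tb).mul_mem hx
        ((Subgroup.zpowers σ ⊔ Tb).inv_mem ((le_sup_right : Tb ≤ _) hc))⟩
    exact mul_mem ((le_sup_left : B ≤ B ⊔ Tb) haB) ((le_sup_right : Tb ≤ B ⊔ Tb) hc)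
  have hcardB : Nat.card B = Nat.card (Subgroup.zpowers σ) := by
    have h2 := Coprime.card_sup_of_disjoint (A := B) (K := Tb) Subgroup.le_normalizer_of_normal
      (hH₀.disjoint.symm.mono_left inf_le_left)
    rw [hsup, Coprime.card_sup_of_disjoint Subgroup.le_normalizer_of_normal hd1] at h2
    exact (Nat.eq_of_mul_eq_mul_right Nat.card_pos h2).symm
  obtain ⟨n, hn, he⟩ := Coprime.exists_conj_eq_of_coprime (A := Subgroup.zpowers σ) (B := B) (K := Tb)
    Subgroup.le_normalizer_of_normal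
    (by rw [hcT]; exact ((Nat.coprime_two_left.2 hσodd).pow_left k).symm)
    (Or.inl (Coprime.isSolvable_zpowers σ)) inf_le_right hcardB
  refine ⟨cj n⁻¹ H₀, σ, h, by rwa [card_cj], fun x => ?_, ?_, hpow, t, ht, htN, rfl⟩
  · have hx' : n * x * n⁻¹ ∈ Tb ⊔ H₀ := by
      rw [hH₀.sup_eq_top]; exact Subgroup.mem_top _
    rw [← SetLike.mem_coe, Subgroup.normal_mul] at hx'
    obtain ⟨c, hc, a, ha, e⟩ := hx'
    refine ⟨n⁻¹ * c * n⁻¹⁻¹, Subgroup.Normal.conj_mem inferInstance c hc n⁻¹, n⁻¹ * a * n⁻¹⁻¹,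
      conj_mem_cj ha, ?_⟩
    calc x = n⁻¹ * (c * a) * n := by rw [show c * a = n * x * n⁻¹ from e]; group
      _ = _ := by group
  · rw [mem_cj, inv_inv]
    have h1 : n * σ * n⁻¹ ∈ B := by
      rw [← he, Subgroup.mem_pointwise_smul_iff_inv_smul_mem]
      simp [mul_assoc]
    exact h1.1

end Tower

namespace Endgame

variable {u : G} {R : Subgroup G} {L : Subgroup (CQ u)}
  {Z : Subgroup (↥L ⧸ Subgroup.center ↥L)} {τ : ↥L ⧸ Subgroup.center ↥L}
  {H : Subgroup (NX A)} {σ : NX A}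

theorem top (e : Endgame T A M q u R L Z τ H σ) : Top T A M q u R L Z τ := e.tower.top

/-- `σ` centralises the image of `S`. -/
theorem comm_sPart (e : Endgame T A M q u R L Z τ H σ) {s : NX A}
    (hs : s ∈ nimg A e.top.data.sPart) : σ * s = s * σ := by
  obtain ⟨s, hsS, rfl⟩ := hs
  have hsS : (s : G) ∈ e.top.data.sPart := hsS
  obtain ⟨t, ht, htN, rfl⟩ := e.torus
  set tn : ↥(Subgroup.normalizer (A : Set G)) := ⟨t, htN⟩
  have hsT := e.top.sPart_le_T hsS
  obtain ⟨d', hd', ed⟩ := e.tower.exists_conj_mem_T (nx A tn) hsT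
  have h1 : ((tn * s * tn⁻¹ * s⁻¹ : ↥(Subgroup.normalizer (A : Set G))) : G) ∈
      Cfsg.centralizerPPrimeCore 2 u := by
    obtain ⟨hsC, hsL⟩ := mem_lift.1 hsS.2
    obtain ⟨htC, htL⟩ := mem_lift.1 t.2
    refine (cmap_eq_one (g := ⟨(t : G), htC⟩ * ⟨(s : G), hsC⟩ * (⟨(t : G), htC⟩ : ↥(Subgroup.centralizer ({u} : Set G)))⁻¹ * (⟨(s : G), hsC⟩ : ↥(Subgroup.centralizer ({u} : Set G)))⁻¹)).1 ?_
    rw [map_mul, map_mul, map_mul, map_inv, map_inv, Subgroup.mem_centralizer_iff.1 hsL _ htL,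
      mul_inv_cancel_right, mul_inv_cancel]
  have h2 : nx A (tn * s * tn⁻¹ * s⁻¹) ∈ nimg A (T : Subgroup G) := by
    rw [map_mul, map_mul, map_mul, map_inv, map_inv,
      show nx A tn * nx A s * (nx A tn)⁻¹ = nx A ⟨d', e.tower.T_le hd'⟩ from ed]
    exact Subgroup.mul_mem _ (mem_nimg e.tower.T_le hd')
      (Subgroup.inv_mem _ (mem_nimg e.tower.T_le hsT))
  have h3 := nx_eq_one_of_odd (odd_core u) h1 T.2 h2
  rw [map_mul, map_mul, map_mul, map_inv, map_inv] at h3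
  exact commute_of_conj_eq (mul_inv_eq_one.1 h3)

/-- The non-trivial powers of `σ` fix only the image of `S` in that of `T`. -/
theorem fix (e : Endgame T A M q u R L Z τ H σ) {n : ℕ} (hn : ¬ (q - 1) ∣ n) {d : NX A}
    (hd : d ∈ nimg A (T : Subgroup G)) (hfix : σ ^ n * d * (σ ^ n)⁻¹ = d) :
    d ∈ nimg A e.top.data.sPart := by
  obtain ⟨d, hdT, rfl⟩ := hd
  obtain ⟨t, ht, htN, hσ⟩ := e.torus
  have b := e.top.data
  have hc := e.top.counted
  set m : ↥(Subgroup.normalizer (A : Set G)) := (⟨t, htN⟩ : ↥(Subgroup.normalizer (A : Set G))) ^ n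
  have hm : nx A m = σ ^ n := by rw [map_pow, hσ]
  have hmt : (m : G) = ((t ^ n : ↥(lift u L)) : G) := by simp [m]
  have hmu : nx A m * nx A ⟨u, b.mem⟩ = nx A ⟨u, b.mem⟩ * nx A m := by
    rw [← map_mul, ← map_mul]
    refine congrArg (nx A) (Subtype.ext ?_)
    show (m : G) * u = u * m
    rw [hmt]
    exact Subgroup.mem_centralizer_singleton_iff.1 (lift_le u L (t ^ n).2)
  obtain ⟨a, ha, hda⟩ := e.top.trans.maps d hdT
  have h1 := e.tower.shift_conj hmu hdT hdT ha (by rw [hm]; exact hfix) hda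
  have haL := b.A_le_lift hc
  have hZ := b.comp.lmap_mem_Z (g := ⟨a, haL ha⟩) ((hc.inf_cent b.bad b.mem).ge ha)
  have ha1 : a = 1 := by
    have h2 : a = (m : G) * a * (m : G)⁻¹ := mul_left_cancel (hda.symm.trans h1)
    rw [hmt] at h2
    have h3 : (⟨a, haL ha⟩ : ↥(lift u L)) = t ^ n * ⟨a, haL ha⟩ * (t ^ n)⁻¹ := Subtype.ext h2
    have h4 := congrArg (lmap u L) h3
    rw [map_mul, map_mul, map_inv, map_pow, ht] at h4
    have h5 := b.comp.loc.τ_fpf n hn _ (b.comp.loc.Z_le hZ) h4.symm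
    exact congrArg Subtype.val (b.comp.lmap_injOn b.simple (g := ⟨a, haL ha⟩) (g' := 1)
      (b.A_le_R hc ha) R.one_mem (h5.trans (map_one _).symm))
  rw [ha1, mul_one] at hda
  have hdR : (d : G) ∈ R := e.top.trans.fix _ hdT (commute_of_conj_eq hda)
  have hmN : ((t ^ n : ↥(lift u L)) : G) ∈ Subgroup.normalizer (A : Set G) := hmt ▸ m.2
  have h2 := e.tower.proj_conj (t ^ n) hmN hdR hdR (by
    rw [show (⟨((t ^ n : ↥(lift u L)) : G), hmN⟩ : ↥(Subgroup.normalizer (A : Set G))) = m from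
      Subtype.ext hmt.symm, hm]
    exact hfix)
  rw [map_pow, ht] at h2
  have h3 := b.comp.loc.τ_fpf n hn _ (b.proj_mem _) h2.symm
  exact ⟨d, ⟨hdR, (b.proj_eq_one_iff _).1 h3⟩, rfl⟩

theorem orderOf_eq (e : Endgame T A M q u R L Z τ H σ) : orderOf σ = q - 1 := by
  refine Nat.dvd_antisymm (orderOf_dvd_of_pow_eq_one e.pow) ?_
  by_contra hn
  have h1 : nimg A (T : Subgroup G) ≤ nimg A e.top.data.sPart := fun d hd =>
    e.fix hn hd (by rw [pow_orderOf_eq_one]; group)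
  have h2 := Subgroup.card_le_of_le h1
  rw [e.top.card_nimg le_rfl, e.top.card_nimg e.top.sPart_le_T, e.top.card_T] at h2
  have h3 : 1 < q ^ 3 := Nat.one_lt_pow (by norm_num) (by linarith [e.top.counted.eight_le])
  exact absurd h2 (not_le.2 (lt_mul_of_one_lt_left Nat.card_pos h3))

/-- The powers of `σ` are transitive on the non-trivial elements of `A`. -/
theorem trans_A (e : Endgame T A M q u R L Z τ H σ) {a b : G} (ha : a ∈ A) (ha1 : a ≠ 1)
    (hb : b ∈ A) (hb1 : b ≠ 1) :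
    ∃ n : ℕ, σ ^ n * nx A ⟨a, Subgroup.le_normalizer ha⟩ * (σ ^ n)⁻¹ =
      nx A ⟨b, Subgroup.le_normalizer hb⟩ := by
  obtain ⟨t, ht, htN, rfl⟩ := e.torus
  have bd := e.top.data
  have hc := e.top.counted
  have haL := bd.A_le_lift hc
  have hinj : ∀ {x : G} (hx : x ∈ A), x ≠ 1 → lmap u L ⟨x, haL hx⟩ ≠ 1 := fun {x} hx hx1 he => hx1
    (congrArg Subtype.val (bd.comp.lmap_injOn bd.simple (g := ⟨x, haL hx⟩) (g' := 1)
      (bd.A_le_R hc hx) R.one_mem (he.trans (map_one _).symm)))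
  obtain ⟨n, hn⟩ := bd.comp.loc.τ_trans _
    (bd.comp.lmap_mem_Z (g := ⟨a, haL ha⟩) ((hc.inf_cent bd.bad bd.mem).ge ha)) _
    (bd.comp.lmap_mem_Z (g := ⟨b, haL hb⟩) ((hc.inf_cent bd.bad bd.mem).ge hb))
    (hinj ha ha1) (hinj hb hb1)
  refine ⟨n, ?_⟩
  rw [← map_pow, ← map_inv, ← map_mul, ← map_mul]
  refine congrArg (nx A) (Subtype.ext ?_)
  have h1 := bd.comp.lmap_injOn bd.simple (g := t ^ n * ⟨a, haL ha⟩ * (t ^ n)⁻¹) (g' := ⟨b, haL hb⟩)
    (bd.A_le_R hc (normalizer_conj (pow_mem htN n) ha)) (bd.A_le_R hc hb)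
    (by rw [map_mul, map_mul, map_inv, map_pow, ht]; exact hn)
  exact congrArg (fun v : ↥(lift u L) => (v : G)) h1

theorem inf_T (e : Endgame T A M q u R L Z τ H σ) : H ⊓ nimg A (T : Subgroup G) = ⊥ := by
  haveI : Fact (Nat.Prime 2) := ⟨Nat.prime_two⟩
  obtain ⟨k, hk⟩ := IsPGroup.iff_card.1 T.2
  refine Coprime.inf_eq_bot_of_coprime ?_
  rw [e.top.card_nimg le_rfl, hk]
  exact ((Nat.coprime_two_left.2 e.odd).pow_left k).symm

/-- `H` acts faithfully on the image of `T`. -/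
theorem faithful (e : Endgame T A M q u R L Z τ H σ) {k : NX A} (hk : k ∈ H)
    (h : ∀ d ∈ nimg A (T : Subgroup G), k * d = d * k) : k = 1 := by
  rw [← Subgroup.mem_bot, ← e.inf_T]
  exact ⟨hk, e.tower.cent_T (Subgroup.mem_centralizer_iff.2 fun d hd => (h d hd).symm)⟩

end Endgame

end Cfsg.Agent.Lib.Thompson3Prime33
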