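import Cfsg.Agent.Lib.Thompson3Prime33.EndBase

/-!
# Interfaces of the last steps

`Semi`: the stabiliser of the image of `S` in `H` acts semilinearly and faithfully on `A`.
`Stable`: it is the whole of `H`.

Owner: helper33.
-/

set_option autoImplicit false
set_option linter.style.haveILetI false
set_option linter.unusedSectionVars false
set_option linter.unusedVariables false

namespace Cfsg.Agent.Lib.Thompson3Prime33

universe u

variable {G : Type u} [Group G] [Finite G] {T : Sylow 2 G} {A M : Subgroup G} {q : ℕ}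

/-- The stabiliser of the image of `S` acts semilinearly and faithfully on `A`. -/
structure Semi (T : Sylow 2 G) (A M : Subgroup G) (q : ℕ) (u : G) (R : Subgroup G)
    (L : Subgroup (CQ u)) (Z : Subgroup (↥L ⧸ Subgroup.center ↥L))
    (τ : ↥L ⧸ Subgroup.center ↥L) (H : Subgroup (NX A)) (σ : NX A) : Prop where
  base : Endgame T A M q u R L Z τ H σ
  kernel : ∀ k ∈ H, k ∈ Subgroup.normalizer (nimg A base.top.data.sPart : Set (NX A)) →
    k ∈ Subgroup.centralizer (nimg A A : Set (NX A)) → k = 1
  semi : ∀ k ∈ H, k ∈ Subgroup.normalizer (nimg A base.top.data.sPart : Set (NX A)) →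
    ∃ i : ℕ, k * σ * k⁻¹ = σ ^ (2 ^ i)
  norm_of_fix : ∀ k ∈ H, ∀ s ∈ nimg A base.top.data.sPart, s ≠ 1 → k * s = s * k →
    k ∈ Subgroup.normalizer (nimg A base.top.data.sPart : Set (NX A))

/-- `H` normalises the image of `S`. -/
structure Stable (T : Sylow 2 G) (A M : Subgroup G) (q : ℕ) (u : G) (R : Subgroup G)
    (L : Subgroup (CQ u)) (Z : Subgroup (↥L ⧸ Subgroup.center ↥L))
    (τ : ↥L ⧸ Subgroup.center ↥L) (H : Subgroup (NX A)) (σ : NX A) : Prop where
  toSemi : Semi T A M q u R L Z τ H σ
  stab : H ≤ Subgroup.normalizer (nimg A toSemi.base.top.data.sPart : Set (NX A))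

end Cfsg.Agent.Lib.Thompson3Prime33
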