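import Cfsg.Agent.Lib.Thompson3Prime33.EndInterface

/-!
# The normaliser of the common component

Facts used when `S` has more than two elements: which elements normalise the component, and the orders
of the normaliser and of the parts of `R` in the component.

Owner: helper61.
-/

set_option autoImplicit false
set_option linter.style.haveILetI false
set_option linter.unusedSectionVars false
set_option linter.unusedVariables false

namespace Cfsg.Agent.Lib.Thompson3Prime33

universe u

/-- When `K = H I` with `I ≤ K` the indices of `I` in `K` and of `H ∩ I` in `H` agree. -/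
theorem relIndex_eq_of_mul {X : Type*} [Group X] {H I K : Subgroup X} (hI : I ≤ K) (hH : H ≤ K)
    (hmul : ∀ k ∈ K, ∃ a ∈ H, ∃ i ∈ I, k = a * i) : I.relIndex K = I.relIndex H := by
  rw [Subgroup.relIndex, Subgroup.relIndex]
  refine (Nat.card_congr (Equiv.ofBijective
    (Quotient.map' (Subgroup.inclusion hH) fun a a' e => ?_) ⟨?_, ?_⟩)).symm
  · rw [QuotientGroup.leftRel_apply] at e ⊢
    exact e
  · intro x y
    induction x using QuotientGroup.induction_on with
    | H a =>
      induction y using QuotientGroup.induction_on with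
      | H a' =>
        intro e
        rw [Quotient.map'_mk'', Quotient.map'_mk''] at e
        have h2 := Quotient.exact' e
        rw [QuotientGroup.leftRel_apply] at h2
        exact QuotientGroup.eq.2 h2
  · intro y
    induction y using QuotientGroup.induction_on with
    | H c =>
      obtain ⟨a, ha, i, hi, e⟩ := hmul c c.2
      refine ⟨((⟨a, ha⟩ : H) : H ⧸ I.subgroupOf H), QuotientGroup.eq.2 ?_⟩
      show a⁻¹ * (c : X) ∈ I
      rw [e, inv_mul_cancel_left]
      exact hi

variable {G : Type u} [Group G] [Finite G] {T : Sylow 2 G} {A M : Subgroup G} {q : ℕ}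
  {u : G} {R : Subgroup G} {L : Subgroup (CQ u)}
  {Z : Subgroup (↥L ⧸ Subgroup.center ↥L)} {τ : ↥L ⧸ Subgroup.center ↥L}

namespace BadData

theorem lmap_injective (b : BadData T A M u R L q Z τ) (hc : Counted T A M q) (hW : wcl A = ⊥) :
    Function.Injective (lmap u L) := by
  refine (injective_iff_map_eq_one _).2 fun g hg => Subtype.ext ?_
  exact congrArg (fun v : ↥(Subgroup.centralizer ({u} : Set G)) => (v : G))
    ((injective_iff_map_eq_one _).1 (b.cmap_injective hc hW) _ (b.cmap_eq_one_of_lmap hg))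

/-- The involutions of `R ∩ L` lie in `A`. -/
theorem mem_A_of_sq (b : BadData T A M u R L q Z τ) {p : G} (hp : p ∈ R ⊓ lift u L)
    (h2 : p * p = 1) : p ∈ A := by
  refine b.mem_A_of_proj ⟨p, hp.1⟩ hp.2 ((b.comp.loc.sq_iff _ (b.proj_mem _)).1 ?_)
  rw [← map_mul, show (⟨p, hp.1⟩ : R) * ⟨p, hp.1⟩ = 1 from Subtype.ext h2, map_one]

theorem card_R_inf_lift (b : BadData T A M u R L q Z τ) (hc : Counted T A M q) (hW : wcl A = ⊥) :
    Nat.card (R ⊓ lift u L : Subgroup G) = q ^ 2 := by
  rw [← b.comp.loc.card_P]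
  refine Nat.card_congr (Equiv.ofBijective
    (fun g => (⟨lmap u L ⟨g, g.2.2⟩, by
      rw [← b.proj_eq_lmap ⟨g, g.2.1⟩ g.2.2]; exact b.proj_mem _⟩ : pbar (qimg u R) L)) ⟨?_, ?_⟩)
  · intro a a' e
    exact Subtype.ext (congrArg (fun v : ↥(lift u L) => (v : G))
      (b.lmap_injective hc hW (congrArg Subtype.val e)))
  · intro p
    obtain ⟨g, hg, e⟩ := b.comp.exists_R p.2
    exact ⟨⟨g, hg, g.2⟩, Subtype.ext e⟩

/-- A simple subgroup of the centraliser meeting the component lies in it. -/
theorem simple_le_lift_of_mem (b : BadData T A M u R L q Z τ) {K : Subgroup G} [IsSimpleGroup ↥K]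
    (hK : K ≤ Subgroup.centralizer ({u} : Set G)) {y : G} (hy : y ∈ lift u L) (hy1 : y ≠ 1)
    (hyK : y ∈ K) : K ≤ lift u L := by
  set N := (lift u L).subgroupOf K
  haveI hN : N.Normal := ⟨fun n hn g => b.conj_mem_lift (hK g.2) hn⟩
  rcases hN.eq_bot_or_eq_top with e | e
  · have : (⟨y, hyK⟩ : K) ∈ N := hy
    rw [e, Subgroup.mem_bot] at this
    exact absurd (congrArg Subtype.val this) hy1
  · exact Subgroup.subgroupOf_eq_top.1 e

end BadData

namespace Top

theorem nO_eq_bot (h : Top T A M q u R L Z τ) (hW : wcl A = ⊥) : nO A = ⊥ :=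
  le_bot_iff.1 (hW ▸ h.counted.nO_le_wcl)

theorem nx_injective (h : Top T A M q u R L Z τ) (hW : wcl A = ⊥) : Function.Injective (nx A) := by
  refine (injective_iff_map_eq_one _).2 fun g hg => Subtype.ext ?_
  have h1 := nx_eq_one.1 hg
  rw [h.nO_eq_bot hW, Subgroup.mem_bot] at h1
  exact h1

theorem M_eq (h : Top T A M q u R L Z τ) (hW : wcl A = ⊥) : M = Subgroup.normalizer (A : Set G) := by
  refine le_antisymm (fun g hg => ?_) h.counted.final.anchor.norm
  obtain ⟨w, hw, n, hn, rfl⟩ := h.counted.final.split g hg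
  rw [hW, Subgroup.mem_bot] at hw
  rw [hw, one_mul]
  exact hn

theorem conj_lift_mem (h : Top T A M q u R L Z τ) (hW : wcl A = ⊥) {s : G} (hs : s ∈ h.data.sPart)
    (hs1 : s ≠ 1) {g : G} (hg : g ∈ Subgroup.centralizer ({s} : Set G)) :
    g ∈ Subgroup.normalizer (lift u L : Set G) := by
  obtain ⟨L', Z', τ', b⟩ := h.exists_data_sPart hs hs1
  rw [← h.lift_eq hW hs b]
  exact mem_normalizer_of_conj_mem fun l hl => b.conj_mem_lift hg hl

/-- An element normalising `S` and carrying some element of the component into it normalises it. -/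
theorem normalizes_lift (h : Top T A M q u R L Z τ) (hW : wcl A = ⊥) {n : G}
    (hn : ∀ s ∈ h.data.sPart, n * s * n⁻¹ ∈ h.data.sPart) {x : G} (hx : x ∈ lift u L) (hx1 : x ≠ 1)
    (hx' : n * x * n⁻¹ ∈ lift u L) : n ∈ Subgroup.normalizer (lift u L : Set G) := by
  haveI := h.data.isSimple_lift h.counted hW
  set v := n * u * n⁻¹
  have hv : v ∈ h.data.sPart := hn u h.data.self_mem_sPart
  have hv1 : v ≠ 1 := fun e => h.data.ne_one (conj_eq_one_iff.1 e)
  obtain ⟨L', Z', τ', b⟩ := h.exists_data_sPart hv hv1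
  have he := h.lift_eq hW hv b
  haveI : IsSimpleGroup ↥(cj n (lift u L)) :=
    ((lift u L).equivMapOfInjective _ (MulAut.conj n).injective).isSimpleGroup_congr.1 inferInstance
  refine mem_normalizer_of_cj_le (le_of_le_of_eq
    (b.simple_le_lift_of_mem (y := n * x * n⁻¹) ?_ (he.symm ▸ hx') (fun e => hx1 (conj_eq_one_iff.1 e))
      (conj_mem_cj hx)) he)
  rintro _ ⟨l, hl, rfl⟩
  refine Subgroup.mem_centralizer_singleton_iff.2 ?_
  show n * l * n⁻¹ * (n * u * n⁻¹) = n * u * n⁻¹ * (n * l * n⁻¹)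
  calc n * l * n⁻¹ * (n * u * n⁻¹) = n * (l * u) * n⁻¹ := by group
    _ = n * (u * l) * n⁻¹ := by
        rw [Subgroup.mem_centralizer_singleton_iff.1 (lift_le u L hl)]
    _ = _ := by group

theorem normalizes_lift_A (h : Top T A M q u R L Z τ) (hW : wcl A = ⊥) {n : G}
    (hnA : n ∈ Subgroup.normalizer (A : Set G))
    (hn : ∀ s ∈ h.data.sPart, n * s * n⁻¹ ∈ h.data.sPart) :
    n ∈ Subgroup.normalizer (lift u L : Set G) := by
  obtain ⟨a, ha, ha1⟩ := A.bot_or_exists_ne_one.resolve_left h.counted.closed.ne_bot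
  exact h.normalizes_lift hW hn (h.data.A_le_lift h.counted ha) ha1
    (h.data.A_le_lift h.counted (normalizer_conj hnA ha))

theorem inf_normalizer_lift (h : Top T A M q u R L Z τ) (hW : wcl A = ⊥) :
    (T : Subgroup G) ⊓ Subgroup.normalizer (lift u L : Set G) = R := by
  refine le_antisymm (fun d hd => ?_) (le_inf h.trans.le fun r hr => ?_)
  · obtain ⟨hdT, hdL⟩ := hd
    obtain ⟨a, ha, e⟩ := h.trans.maps d hdT
    have hu : d * u * d⁻¹ ∈ h.data.sPart := by
      refine (h.data.mem_sPart_iff h.counted hW).2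
        ⟨h.data.normalizes_R h.counted h.trans hdT h.data.self_mem_R, fun l hl => ?_⟩
      have h1 := normalizer_conj (inv_mem hdL) hl
      have h2 := Subgroup.mem_centralizer_singleton_iff.1 (lift_le u L h1)
      calc l * (d * u * d⁻¹) = d * (d⁻¹ * l * d⁻¹⁻¹ * u) * d⁻¹ := by group
        _ = d * (u * (d⁻¹ * l * d⁻¹⁻¹)) * d⁻¹ := by rw [h2]
        _ = _ := by group
    rw [e] at hu
    have ha1 : a = 1 := h.data.A_inf_sPart h.counted ha (by
      have := h.data.sPart.mul_mem (h.data.sPart.inv_mem h.data.self_mem_sPart) hu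
      rwa [inv_mul_cancel_left] at this)
    rw [ha1, mul_one] at e
    exact h.trans.fix d hdT (commute_of_conj_eq e)
  · exact mem_normalizer_of_conj_mem fun l hl =>
      h.data.conj_mem_lift (h.data.comp.base.sylow.le hr) hl

theorem relIndex_T (h : Top T A M q u R L Z τ) : R.relIndex (T : Subgroup G) = q := by
  have h2 : Nat.card R * R.relIndex (T : Subgroup G) = Nat.card (T : Subgroup G) := by
    rw [← Nat.card_congr (Subgroup.subgroupOfEquivOfLe h.trans.le).toEquiv, Subgroup.relIndex,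
      Subgroup.card_mul_index]
  rw [h.trans.card, mul_comm] at h2
  exact Nat.eq_of_mul_eq_mul_right Nat.card_pos h2

theorem sylow_lift (h : Top T A M q u R L Z τ) (hW : wcl A = ⊥) :
    CosetGraph.SylowIn.IsSylowIn 2 (R ⊓ lift u L) (lift u L) := by
  haveI : Fact (Nat.Prime 2) := ⟨Nat.prime_two⟩
  refine ⟨inf_le_right, ?_⟩
  obtain ⟨m, hm, hq⟩ := h.counted.q_eq
  have hq2 : 2 ∣ q := hq ▸ dvd_pow_self 2 (by omega)
  have hq1 : 1 ≤ q := by linarith [h.counted.eight_le]
  have ho1 : ¬ 2 ∣ q ^ 2 + 1 := fun hd => by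
    have := (Nat.dvd_add_right (dvd_pow hq2 two_ne_zero)).1 hd
    omega
  have ho2 : ¬ 2 ∣ q - 1 := by omega
  rw [h.data.card_R_inf_lift h.counted hW, h.data.card_lift h.counted hW,
    Nat.factorization_mul (by positivity) (by omega), Nat.factorization_mul (by positivity) (by positivity)]
  simp only [Finsupp.add_apply, Nat.factorization_eq_zero_of_not_dvd ho1,
    Nat.factorization_eq_zero_of_not_dvd ho2, add_zero]
  rw [hq, ← pow_mul, Nat.Prime.factorization_pow Nat.prime_two, Finsupp.single_eq_same]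

/-- The normaliser of the component is the component times the part normalising `A`. -/
theorem exists_normalizer_mul (h : Top T A M q u R L Z τ) (hW : wcl A = ⊥) {g : G}
    (hg : g ∈ Subgroup.normalizer (lift u L : Set G)) :
    ∃ l ∈ lift u L, ∃ i ∈ Subgroup.normalizer (A : Set G) ⊓ Subgroup.normalizer (lift u L : Set G),
      g = l * i := by
  haveI : Fact (Nat.Prime 2) := ⟨Nat.prime_two⟩
  have hA : cj g A ≤ lift u L := by
    rintro _ ⟨a, ha, rfl⟩
    exact normalizer_conj hg (h.data.A_le_lift h.counted ha)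
  obtain ⟨U, hU, hAU⟩ := CosetGraph.SylowIn.IsSylowIn.exists_le (h.counted.closed.isPGroup.map _) hA
  obtain ⟨l, hl, he⟩ := hU.exists_conj (h.sylow_lift hW)
  refine ⟨l⁻¹, inv_mem hl, l * g, ⟨mem_normalizer_of_cj_le ?_, mul_mem (Subgroup.le_normalizer hl) hg⟩,
    by group⟩
  rintro _ ⟨a, ha, rfl⟩
  have h1 : l * g * a * (l * g)⁻¹ = l * (g * a * g⁻¹) * l⁻¹ := by group
  show l * g * a * (l * g)⁻¹ ∈ A
  refine h.data.mem_A_of_sq (he ▸ (h1 ▸ conj_mem_cj (hAU (conj_mem_cj ha)) :
    l * g * a * (l * g)⁻¹ ∈ cj l U)) ?_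
  calc l * g * a * (l * g)⁻¹ * (l * g * a * (l * g)⁻¹) = l * g * (a * a) * (l * g)⁻¹ := by group
    _ = 1 := by rw [h.counted.closed.sq ha]; group

theorem relIndex_lift (h : Top T A M q u R L Z τ) (hW : wcl A = ⊥) :
    (Subgroup.normalizer (A : Set G) ⊓ Subgroup.normalizer (lift u L : Set G)).relIndex (lift u L) =
      q ^ 2 + 1 := by
  have e : (Subgroup.normalizer (A : Set G) ⊓ Subgroup.normalizer (lift u L : Set G)).subgroupOf
      (lift u L) = (Subgroup.normalizer (A : Set G)).subgroupOf (lift u L) := by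
    ext g
    simp only [Subgroup.mem_subgroupOf, Subgroup.mem_inf]
    exact ⟨fun x => x.1, fun x => ⟨x, Subgroup.le_normalizer g.2⟩⟩
  rw [Subgroup.relIndex, e, ← h.M_eq hW, show M.subgroupOf (lift u L) =
    (Subgroup.normalizer (pbar (qimg u R) L : Set (↥L ⧸ Subgroup.center ↥L))).comap (lmap u L) by
      ext g; exact h.data.mem_M_iff g,
    Subgroup.index_comap_of_surjective _ (lmap_surjective u L), h.data.comp.loc.borel_index]

end Top

end Cfsg.Agent.Lib.Thompson3Prime33
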