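import Cfsg.Agent.Lib.Thompson3Prime33.FinalBigAux

/-!
# The centraliser of a Sylow subgroup of the component for a primitive prime

`S` is a Sylow `2`-subgroup of that centraliser, whose components would have non-abelian Sylow
`2`-subgroups; so it is the product of its odd core and the normaliser of `S`, and lies in the normaliser
of the component.

Owner: helper61.
-/

set_option autoImplicit false
set_option linter.style.haveILetI false
set_option linter.unusedSectionVars false
set_option linter.unusedVariables false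

namespace Cfsg.Agent.Lib.Thompson3Prime33

universe u

variable {G : Type u} [Group G] [Finite G]

/-- An abelian Sylow `2`-subgroup of a small group with trivial odd core is normal. -/
theorem Sec.normal_of_elementary {X : Type u} [Group X] [Finite X] (h : Sec G X) (R : Sylow 2 X)
    (he : Cfsg.IsElementaryAbelian 2 (R : Subgroup X)) : (R : Subgroup X).Normal := by
  have hSC : SC R (R : Subgroup X) := ⟨he, le_rfl, fun a _ g hg => hg⟩
  have hlay : Cfsg.layer X = ⊥ := by
    refine le_bot_iff.1 (sSup_le fun L hL => absurd hL fun hL => ?_)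
    obtain ⟨q, Z, τ, hloc⟩ := h.exists_local hL R
    obtain ⟨z, hz, hz1⟩ : ∃ z ∈ Z, z ≠ 1 := by
      refine Z.nontrivial_iff_exists_ne_one.1 (Finite.one_lt_card_iff_nontrivial.1 ?_)
      rw [hloc.card_Z]
      have := hloc.eight_le
      omega
    obtain ⟨w, ⟨b, hb, rfl⟩, hww⟩ := hloc.sq_surj z hz
    refine hz1 ?_
    rw [← hww, ← map_mul, show b * b = 1 from Subtype.ext (hSC.sq hb), map_one]
  rw [← Subgroup.normalizer_eq_top_iff, eq_top_iff]
  intro x _
  obtain ⟨e, he', n, hn, rfl⟩ := h.exists_layer_mul hSC x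
  rw [hlay, Subgroup.mem_bot] at he'
  rw [he', one_mul]
  exact hn

variable {T : Sylow 2 G} {A M : Subgroup G} {q : ℕ} {u : G} {R : Subgroup G} {L : Subgroup (CQ u)}
  {Z : Subgroup (↥L ⧸ Subgroup.center ↥L)} {τ : ↥L ⧸ Subgroup.center ↥L}

namespace Top

/-- A `2`-subgroup of the normaliser of the component centralising an element of odd order greater
than one of it is at most as large as `S`. -/
theorem card_le_sPart (h : Top T A M q u R L Z τ) (hW : wcl A = ⊥)
    (hRN : CosetGraph.SylowIn.IsSylowIn 2 R (Subgroup.normalizer (lift u L : Set G))) {U : Subgroup G}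
    (hU : IsPGroup 2 U) (hUN : U ≤ Subgroup.normalizer (lift u L : Set G)) {x : G}
    (hx : x ∈ lift u L) (hx1 : x ≠ 1) (hxo : Odd (orderOf x))
    (hUx : ∀ y ∈ U, y * x = x * y) : Nat.card U ≤ Nat.card h.data.sPart := by
  haveI : Fact (Nat.Prime 2) := ⟨Nat.prime_two⟩
  have b := h.data
  obtain ⟨U', hU', hUU'⟩ := CosetGraph.SylowIn.IsSylowIn.exists_le hU hUN
  obtain ⟨g, hg, he⟩ := hU'.exists_conj hRN
  refine le_of_eq_of_le (card_cj g U).symm (Subgroup.card_le_of_le ?_)
  rintro _ ⟨y, hy, rfl⟩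
  have hyR : g * y * g⁻¹ ∈ R := he ▸ conj_mem_cj (hUU' hy)
  obtain ⟨p, hp, s, hs, hps, -⟩ := b.exists_split hyR
  set x' := g * x * g⁻¹ with hx'
  have hx'L : x' ∈ lift u L := normalizer_conj hg hx
  have hsx := b.commute_lift h.counted hW hx'L hs.2
  have hpx : p * x' = x' * p := by
    have h1 : g * y * g⁻¹ * x' = x' * (g * y * g⁻¹) := by
      rw [hx']
      calc g * y * g⁻¹ * (g * x * g⁻¹) = g * (y * x) * g⁻¹ := by group
        _ = g * (x * y) * g⁻¹ := by rw [hUx y hy]
        _ = _ := by group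
    rw [hps] at h1
    calc p * x' = p * (x' * s) * s⁻¹ := by group
      _ = p * (s * x') * s⁻¹ := by rw [hsx]
      _ = (x' * (p * s)) * s⁻¹ := by rw [← h1]; group
      _ = _ := by group
  have hp1 : p = 1 := by
    by_contra hp1
    obtain ⟨z, hzR, hz1, hzz, hzx⟩ : ∃ z, z ∈ R ⊓ lift u L ∧ z ≠ 1 ∧ z * z = 1 ∧ z * x' = x' * z := by
      by_cases h2 : p * p = 1
      · exact ⟨p, hp, hp1, h2, hpx⟩
      · exact ⟨p * p, Subgroup.mul_mem _ hp hp, h2, h.counted.closed.sq (b.sq_mem_A hp),
          ((show Commute p x' from hpx).mul_left hpx).eq⟩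
    have hinj := b.lmap_injective h.counted hW
    have hzA := b.mem_A_of_sq hzR hzz
    have hzZ := b.comp.lmap_mem_Z (g := ⟨z, hzR.2⟩) ((h.counted.inf_cent b.bad b.mem).ge hzA)
    have hzne : lmap u L ⟨z, hzR.2⟩ ≠ 1 := fun e =>
      hz1 (congrArg Subtype.val (hinj (e.trans (map_one _).symm)))
    have hxP : lmap u L ⟨x', hx'L⟩ ∈ pbar (qimg u R) L := by
      rw [← b.comp.loc.centralizer_eq _ hzZ hzne, Subgroup.mem_centralizer_singleton_iff, ← map_mul,
        ← map_mul]
      exact congrArg _ (Subtype.ext hzx.symm)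
    obtain ⟨i, hi⟩ := b.comp.loc.isPGroup_P ⟨_, hxP⟩
    have h3 : (⟨x', hx'L⟩ : ↥(lift u L)) ^ 2 ^ i = 1 :=
      hinj (by rw [map_pow, map_one]; exact congrArg Subtype.val hi)
    have h4 : x' ^ 2 ^ i = 1 := congrArg Subtype.val h3
    rw [hx', conj_pow, conj_eq_one_iff] at h4
    exact hx1 (orderOf_eq_one_iff.1 (Nat.eq_one_of_dvd_coprimes
      ((Nat.coprime_two_left.2 hxo).pow_left i) (orderOf_dvd_of_pow_eq_one h4) dvd_rfl))
  rw [hp1, one_mul] at hps
  show g * y * g⁻¹ ∈ b.sPart
  rw [hps]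
  exact hs

/-- The normaliser of a subgroup of odd order of the component lies in that of the component, if it is
centralised only by `2`-subgroups no larger than `S`. -/
theorem normalizer_le (h : Top T A M q u R L Z τ) (hW : wcl A = ⊥) (hr : 2 < Nat.card h.data.sPart)
    (hRN : CosetGraph.SylowIn.IsSylowIn 2 R (Subgroup.normalizer (lift u L : Set G))) {Q : Subgroup G}
    (hQ : Q ≤ lift u L) (hQ1 : Q ≠ ⊥) (hQo : Odd (Nat.card Q)) :
    Subgroup.normalizer (Q : Set G) ≤ Subgroup.normalizer (lift u L : Set G) := by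
  haveI : Fact (Nat.Prime 2) := ⟨Nat.prime_two⟩
  have b := h.data
  set S := b.sPart
  set C := Subgroup.centralizer (Q : Set G)
  set N := Subgroup.normalizer (lift u L : Set G)
  obtain ⟨x, hxQ, hx1⟩ := Q.bot_or_exists_ne_one.resolve_left hQ1
  have hxo : Odd (orderOf x) := hQo.of_dvd_nat (Subgroup.orderOf_dvd_natCard _ hxQ)
  have hSC : S ≤ C := fun s hs => Subgroup.mem_centralizer_iff.2 fun l hl =>
    b.commute_lift h.counted hW (hQ hl) hs.2
  have hSp : IsPGroup 2 S := b.comp.base.sylow.isPGroup.to_le inf_le_left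
  have hnorm : ∀ n ∈ Subgroup.normalizer (Q : Set G), (∀ s ∈ S, n * s * n⁻¹ ∈ S) → n ∈ N :=
    fun n hn hnS => h.normalizes_lift hW hnS (hQ hxQ) hx1 (hQ (normalizer_conj hn hxQ))
  have hCn : C ≤ Subgroup.normalizer (Q : Set G) := Subgroup.centralizer_le_normalizer _
  -- `S` is a Sylow subgroup of `C`
  obtain ⟨U, hU, hSU⟩ := CosetGraph.SylowIn.IsSylowIn.exists_le hSp hSC
  have hUS : U = S := by
    refine le_antisymm ?_ hSU
    by_contra hne
    haveI := hU.isPGroup.isNilpotent
    have hlt : S.subgroupOf U < ⊤ := lt_top_iff_ne_top.2 fun e => hne (Subgroup.subgroupOf_eq_top.1 e)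
    have hlt' := Group.normalizerCondition_of_isNilpotent (G := U) _ hlt
    set U₀ := (Subgroup.normalizer ((S.subgroupOf U : Subgroup U) : Set U)).map U.subtype
    have hU₀ : U₀ ≤ U := Subgroup.map_subtype_le _
    have hcard : Nat.card S < Nat.card U₀ := by
      rw [Subgroup.card_map_of_injective U.subtype_injective,
        ← Nat.card_congr (Subgroup.subgroupOfEquivOfLe hSU).toEquiv]
      exact Nat.lt_of_le_of_ne (Subgroup.card_le_of_le hlt'.le)
        fun e => hlt'.ne (Subgroup.eq_of_le_of_card_ge hlt'.le e.ge)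
    have hU₀N : U₀ ≤ N := by
      rintro _ ⟨y, hy, rfl⟩
      exact hnorm _ (hCn (hU.le y.2)) fun s hs =>
        (Subgroup.mem_normalizer_iff.1 hy ⟨s, hSU hs⟩).1 hs
    exact absurd (h.card_le_sPart hW hRN (hU.isPGroup.to_le hU₀) hU₀N (hQ hxQ) hx1 hxo fun y hy =>
      (Subgroup.mem_centralizer_iff.1 (hU.le (hU₀ hy)) x hxQ).symm) (not_le.2 hcard)
  have hS : CosetGraph.SylowIn.IsSylowIn 2 S C := hUS ▸ hU
  -- `C` lies in `N`
  have hCN : C ≤ N := by
    have hne : C ≠ ⊤ := fun e => h.counted.closed.hyp.centralizer_ne_top hx1 (eq_top_iff.2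
      (e ▸ Subgroup.centralizer_le (Set.singleton_subset_iff.2 hxQ)))
    obtain ⟨P, hP⟩ := hS.exists_sylow
    set O := Cfsg.pPrimeCore 2 C
    set π := QuotientGroup.mk' O
    have hsec : Sec G (↥C ⧸ O) := ⟨h.counted.closed.hyp,
      (small_subgroup hne).surj π (QuotientGroup.mk'_surjective _), Cores.pPrimeCore_quotient_pPrimeCore 2⟩
    have hPe : Cfsg.IsElementaryAbelian 2 (P : Subgroup C) := by
      have hmem : ∀ a ∈ (P : Subgroup C), (a : G) ∈ S := fun a ha => hP.symm ▸ ⟨a, ha, rfl⟩
      exact PGroups.elemAb_mk (fun a ha c hc => Subtype.ext (b.sPart_comm h.counted (hmem a ha) (hmem c hc)))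
        fun a ha => Subtype.ext (by rw [pow_two]; exact b.sPart_sq h.counted (hmem a ha))
    haveI hPn : ((P.mapSurjective (QuotientGroup.mk'_surjective O) : Sylow 2 _) : Subgroup (↥C ⧸ O)).Normal := by
      refine hsec.normal_of_elementary _ ?_
      rw [Sylow.coe_mapSurjective]
      exact PGroups.elemAb_mk (fun _ ⟨a, ha, e1⟩ _ ⟨c, hc, e2⟩ => by
          rw [← e1, ← e2, ← map_mul, ← map_mul, PGroups.elemAb_comm hPe ha hc])
        fun _ ⟨a, ha, e1⟩ => by rw [← e1, ← map_pow, hPe.2 a ha, map_one]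
    rw [Sylow.coe_mapSurjective] at hPn
    set K := ((P : Subgroup C).map π).comap π
    haveI : K.Normal := hPn.comap π
    have hPK : (P : Subgroup C) ≤ K := Subgroup.le_comap_map _ _
    have htop := Sylow.normalizer_sup_eq_top (P.subtype hPK)
    rw [Sylow.coe_subtype, Subgroup.subgroupOf_map_subtype, inf_eq_left.2 hPK] at htop
    have hgoal : Subgroup.normalizer ((P : Subgroup C) : Set C) ⊔ K ≤ N.subgroupOf C := by
      refine sup_le (fun y hy => ?_) fun y hy => ?_
      · refine hnorm _ (hCn y.2) fun s hs => ?_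
        rw [hP] at hs ⊢
        obtain ⟨s, hs, rfl⟩ := hs
        exact ⟨y * s * y⁻¹, normalizer_conj hy hs, rfl⟩
      · have hO : O ≤ N.subgroupOf C := by
          intro o ho
          have hncyc : ¬ IsCyclic (P : Subgroup C) := fun hc => by
            haveI := hPe.1
            have h2 := Nat.le_of_dvd two_pos (PGroups.elemAb_card_dvd_of_isCyclic hPe)
            rw [← Subgroup.card_map_of_injective C.subtype_injective, ← hP] at h2
            omega
          haveI := hPe.1
          have hgen := Coprime.iSup_centralizer_eq (A := (P : Subgroup C)) (K := O) hncyc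
            Subgroup.le_normalizer_of_normal (by
              obtain ⟨j, hj⟩ := IsPGroup.iff_card.1 P.2
              rw [hj]
              exact Nat.Coprime.pow_left j (Cores.pPrimeCore_coprime 2).symm)
          refine (hgen.ge.trans (iSup₂_le fun a ha => ?_)) ho
          intro z hz
          have hsS : (a : G) ∈ S := hP.symm ▸ ⟨a, ha.1, rfl⟩
          exact h.conj_lift_mem hW hsS (fun e => ha.2 (Subtype.ext e))
            (Subgroup.mem_centralizer_singleton_iff.2 (congrArg Subtype.val
              (Subgroup.mem_centralizer_singleton_iff.1 (Subgroup.mem_inf.1 hz).2)))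
        obtain ⟨s, hs, hsy⟩ := hy
        rw [QuotientGroup.mk'_eq_mk'] at hsy
        obtain ⟨o, ho, rfl⟩ := hsy
        refine Subgroup.mul_mem _ ?_ (hO ho)
        exact h.conj_lift_mem hW b.self_mem_sPart b.ne_one
          (b.comp.base.sylow.le (show (s : G) ∈ R from (hP.symm ▸ ⟨s, hs, rfl⟩ : (s : G) ∈ S).1))
    intro y hy
    exact (htop.ge.trans hgoal) (Subgroup.mem_top (⟨y, hy⟩ : C))
  -- conclusion
  intro g hg
  have hgS : CosetGraph.SylowIn.IsSylowIn 2 (cj g S) C := by
    refine ⟨?_, by rw [card_cj]; exact hS.card_eq⟩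
    rintro _ ⟨s, hs, rfl⟩
    refine Subgroup.mem_centralizer_iff.2 fun l hl => ?_
    have h1 := Subgroup.mem_centralizer_iff.1 (hSC hs) _ (normalizer_conj (inv_mem hg) hl)
    show l * (g * s * g⁻¹) = g * s * g⁻¹ * l
    calc l * (g * s * g⁻¹) = g * (g⁻¹ * l * g⁻¹⁻¹ * s) * g⁻¹ := by group
      _ = g * (s * (g⁻¹ * l * g⁻¹⁻¹)) * g⁻¹ := by rw [h1]
      _ = _ := by group
  obtain ⟨c, hc, he⟩ := hgS.exists_conj hS
  have hcg : c * g ∈ N := hnorm _ (mul_mem (hCn hc) hg) fun s hs => by
    rw [← he]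
    exact ⟨g * s * g⁻¹, conj_mem_cj hs, by simp [mul_assoc]⟩
  simpa using mul_mem (inv_mem (hCN hc)) hcg

end Top

end Cfsg.Agent.Lib.Thompson3Prime33
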