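import Cfsg.Agent.Lib.Thompson3Prime33.BadBasic

/-!
# The intermediate statements of the proof of Thompson's theorem

`Final`: the configuration left after monomial and component cases: `M = W N(A)`.
`SwapFacts`: every involution is bad or conjugate into `A`.
`Counted`: the result of the involution count.

Owner: helper33.
-/

set_option autoImplicit false
set_option linter.style.haveILetI false
set_option linter.unusedSectionVars false

namespace Cfsg.Agent.Lib.Thompson3Prime33

universe u

variable {G : Type u} [Group G] [Finite G]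

/-- `s` is conjugate to a non-trivial element of `A`. -/
def InD (A : Subgroup G) (s : G) : Prop := ∃ a ∈ A, a ≠ 1 ∧ ∃ g : G, g * a * g⁻¹ = s

theorem InD.conj {A : Subgroup G} {s : G} (h : InD A s) (k : G) : InD A (k * s * k⁻¹) := by
  obtain ⟨a, ha, ha1, g, rfl⟩ := h
  exact ⟨a, ha, ha1, k * g, by group⟩

theorem InD.not_bad {T : Sylow 2 G} {A M : Subgroup G} (h : Anchor T A M) {s : G} (hs : InD A s) :
    ¬ Bad M s := by
  obtain ⟨a, ha, ha1, g, rfl⟩ := hs
  rintro ⟨-, g₁, g₂, hne, h1, h2⟩
  have k1 := h.point ha ha1 (g := g₁⁻¹ * g) (by simpa [mul_assoc] using h1)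
  have k2 := h.point ha ha1 (g := g₂⁻¹ * g) (by simpa [mul_assoc] using h2)
  exact hne (by have := mul_mem k1 (inv_mem k2); simpa [mul_assoc] using this)

theorem InD.invol {T : Sylow 2 G} {A : Subgroup G} (h : Closed G T A) {s : G} (hs : InD A s) :
    orderOf s = 2 := by
  obtain ⟨a, ha, ha1, g, rfl⟩ := hs
  exact (orderOf_injective (MulAut.conj g).toMonoidHom (MulAut.conj g).injective a).trans
    (h.order_two ha ha1)

/-- Every involution is bad or conjugate into `A`, and a product of commuting such is bad. -/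
structure SwapFacts (T : Sylow 2 G) (A M : Subgroup G) : Prop where
  bad_mul : ∀ w : G, Bad M w → ∀ s : G, InD A s → w * s = s * w → Bad M (w * s)
  bad_or_inD : ∀ u : G, orderOf u = 2 → InD A u ∨ Bad M u
  mem_A : ∀ a : G, InD A a → a ∈ (T : Subgroup G) → a ∈ A

/-- The configuration `M = W N(A)`. -/
structure Final (T : Sylow 2 G) (A M : Subgroup G) : Prop where
  anchor : Anchor T A M
  plain : PlainCent A
  wcl_le : wcl A ≤ M
  split : ∀ g ∈ M, ∃ w ∈ wcl A, ∃ n ∈ Subgroup.normalizer (A : Set G), g = w * n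
  le_norm : M ≤ Subgroup.normalizer (wcl A : Set G)
  norm_eq : wcl A ≠ ⊥ → M = Subgroup.normalizer (wcl A : Set G)
  exists_bad : ∃ u : G, Bad M u

/-- The result of counting the involutions. -/
structure Counted (T : Sylow 2 G) (A M : Subgroup G) (q : ℕ) : Prop where
  final : Final T A M
  swap : SwapFacts T A M
  q_eq : ∃ m : ℕ, 1 ≤ m ∧ q = 2 ^ (2 * m + 1)
  card_A : Nat.card A = q
  index : M.index + (q ^ 2 + 1) * q ^ 2 = (q ^ 2 + 1) * (q ^ 3 + 1)
  le_cent : ∀ u : G, Bad M u → u ∈ Subgroup.normalizer (A : Set G) →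
    A ≤ Subgroup.centralizer ({u} : Set G)
  core_eq : ∀ u : G, Bad M u → u ∈ Subgroup.normalizer (A : Set G) →
    Cfsg.centralizerPPrimeCore 2 u = wcl A ⊓ Subgroup.centralizer ({u} : Set G)

end Cfsg.Agent.Lib.Thompson3Prime33
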