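import Cfsg.Agent.Lib.Thompson3Prime33.Comp
import Mathlib.GroupTheory.NoncommCoprod

/-!
# Small groups are not transitive of degree `2 ^ (2m+1)` with odd maximal point stabiliser

Owner: helper33.
-/

set_option autoImplicit false
set_option linter.style.haveILetI false
set_option linter.unusedSectionVars false

namespace Cfsg.Agent.Lib.Thompson3Prime33

universe u

variable {G : Type u} [Group G] [Finite G]

theorem factorization_two_odd {n : ℕ} (h : Odd n) : n.factorization 2 = 0 :=
  Nat.factorization_eq_zero_of_not_dvd fun hd => Nat.not_even_iff_odd.2 h (even_iff_two_dvd.2 hd)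

/-- The order of a component has an even `2`-part. -/
theorem Hyp.even_exponent (h : Hyp G) {X : Type u} [Group X] [Finite X] (hs : Sec G X)
    (hO2 : Cfsg.pCore 2 X = ⊥) {L : Subgroup X} (hL : Cfsg.IsComponent L) :
    Subgroup.center L = ⊥ ∧ Even ((Nat.card L).factorization 2) := by
  haveI : Fact (Nat.Prime 2) := ⟨Nat.prime_two⟩
  have hc : Subgroup.center L = ⊥ := by
    have h1 : ((Subgroup.center L).map L.subtype).IsSubnormal :=
      Subgroup.IsSubnormal.trans' (Subgroup.Normal.isSubnormal inferInstance) hL.1
    have h2 := Cores.IsSubnormal.le_pCore h1 ((hs.center_two hL).map L.subtype)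
    rwa [hO2, le_bot_iff, Subgroup.map_eq_bot_iff_of_injective _ L.subtype_injective] at h2
  refine ⟨hc, ?_⟩
  obtain ⟨P⟩ := (inferInstance : Nonempty (Sylow 2 (L ⧸ Subgroup.center L)))
  obtain ⟨q, Z, τ, hloc⟩ := h.deps.facts (L ⧸ Subgroup.center L) (hs.suzuki hL) P
  have h1 : Nat.card L = Nat.card (L ⧸ Subgroup.center L) := by
    rw [Subgroup.card_eq_card_quotient_mul_card_subgroup (Subgroup.center L), hc, Subgroup.card_bot,
      mul_one]
  have h2 := P.card_eq_multiplicity
  rw [hloc.card_P, ← h1] at h2
  obtain ⟨m, -, rfl⟩ := hloc.q_eq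
  rw [← pow_mul] at h2
  rw [← Nat.pow_right_injective le_rfl h2]
  exact ⟨2 * m + 1, by ring⟩

/-- No small group has an odd maximal point stabiliser of index `2 ^ (2m+1)`. -/
theorem Hyp.no_affine (h : Hyp G) {X : Type u} [Group X] [Finite X] (hX : Small G X)
    (hO : Cfsg.pPrimeCore 2 X = ⊥) (hO2 : Cfsg.pCore 2 X = ⊥) (H : Subgroup X)
    (hH : Odd (Nat.card H)) {m : ℕ} (hidx : H.index = 2 ^ (2 * m + 1))
    (hmax : ∀ g, g ∉ H → ∀ K : Subgroup X, H ≤ K → g ∈ K → K = ⊤) : False := by
  haveI : Fact (Nat.Prime 2) := ⟨Nat.prime_two⟩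
  have hs : Sec G X := ⟨h, hX, hO⟩
  have hfit : Cfsg.fittingSubgroup X = ⊥ := by
    refine le_bot_iff.1 ((Cores.fittingSubgroup_eq_iSup_pCore (G := X)).le.trans (iSup_le fun p => ?_))
    haveI : Fact (p : ℕ).Prime := ⟨p.2⟩
    by_cases hp : (p : ℕ) = 2
    · exact hp.symm ▸ hO2.le
    · refine le_trans (Cores.le_pPrimeCore (p := 2) ?_) hO.le
      obtain ⟨k, hk⟩ := IsPGroup.iff_card.1 (Cores.pCore_isPGroup (G := X) (p : ℕ))
      rw [hk]
      exact ((Nat.coprime_primes p.2 Nat.prime_two).2 hp).pow_left k
  haveI : Nontrivial X := by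
    by_contra hn
    rw [not_nontrivial_iff_subsingleton] at hn
    have : H.index = 1 := by rw [Subsingleton.elim H ⊤, Subgroup.index_top]
    rw [this] at hidx
    exact (Nat.one_lt_two_pow (by omega)).ne hidx
  -- the `2`-part of the layer is a square
  have key : ∀ S : Finset (Subgroup X), (∀ L ∈ S, Cfsg.IsComponent L) →
      Even ((Nat.card (S.sup id : Subgroup X)).factorization 2) := by
    classical
    intro S
    induction S using Finset.induction_on with
    | empty => intro _; simp
    | @insert L S hLS ih =>
      intro hS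
      have hL := hS L (Finset.mem_insert_self _ _)
      obtain ⟨hc, hev⟩ := h.even_exponent hs hO2 hL
      have hK : (S.sup id : Subgroup X) ≤ Subgroup.centralizer (L : Set X) :=
        Finset.sup_le fun L' hL' => Subgroup.le_centralizer_iff.1
          (Components.Component.le_centralizer_of_ne hL (hS L' (Finset.mem_insert_of_mem hL'))
            (by rintro rfl; exact hLS hL'))
      have hd : Disjoint L (S.sup id : Subgroup X) := by
        rw [Subgroup.disjoint_def]
        intro x hxL hxK
        have : (⟨x, hxL⟩ : L) ∈ Subgroup.center L := Subgroup.mem_center_iff.2 fun l =>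
          Subtype.ext (Subgroup.mem_centralizer_iff.1 (hK hxK) l l.2)
        rw [hc, Subgroup.mem_bot] at this
        exact congrArg Subtype.val this
      have hcard : Nat.card (L ⊔ S.sup id : Subgroup X) =
          Nat.card L * Nat.card (S.sup id : Subgroup X) := by
        have hcom : ∀ (l : L) (k : (S.sup id : Subgroup X)),
            Commute (L.subtype l) ((S.sup id : Subgroup X).subtype k) :=
          fun l k => Subgroup.mem_centralizer_iff.1 (hK k.2) l l.2
        set φ := MonoidHom.noncommCoprod L.subtype (S.sup id : Subgroup X).subtype hcom with hφ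
        have hinj : Function.Injective φ := by
          rw [hφ, MonoidHom.noncommCoprod_injective, Subgroup.range_subtype, Subgroup.range_subtype]
          exact ⟨L.subtype_injective, Subgroup.subtype_injective _, hd⟩
        rw [show L ⊔ S.sup id = φ.range by
          rw [hφ, MonoidHom.noncommCoprod_range, Subgroup.range_subtype, Subgroup.range_subtype],
          ← Nat.card_congr (MonoidHom.ofInjective hinj).toEquiv, Nat.card_prod]
      rw [Finset.sup_insert, id, hcard, Nat.factorization_mul Nat.card_pos.ne' Nat.card_pos.ne',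
        Finsupp.add_apply]
      exact hev.add (ih fun L' hL' => hS L' (Finset.mem_insert_of_mem hL'))
  set E := Cfsg.layer X with hE
  have hev : Even ((Nat.card E).factorization 2) := by
    have hfin : {L : Subgroup X | Cfsg.IsComponent L}.Finite := Set.toFinite _
    have := key hfin.toFinset fun L hL => hfin.mem_toFinset.1 hL
    rwa [Finset.sup_id_eq_sSup, hfin.coe_toFinset] at this
  haveI : E.Normal := inferInstance
  have hEH : ¬ E ≤ H := fun hle => by
    have h1 : E ≤ Cfsg.pPrimeCore 2 X := Cores.le_pPrimeCore
      (Nat.coprime_two_right.2 (hH.of_dvd_nat (Subgroup.card_dvd_of_le hle)))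
    rw [hO, le_bot_iff] at h1
    refine Components.GenFitting.ne_bot (G := X) ?_
    rw [Cfsg.generalizedFittingSubgroup, hfit, sup_bot_eq]
    exact h1
  obtain ⟨g, hgE, hgH⟩ := SetLike.not_le_iff_exists.1 hEH
  have htop : H ⊔ E = ⊤ := hmax g hgH _ le_sup_left (le_sup_right (a := H) hgE)
  have hodd : Odd E.index := by
    rw [← Subgroup.relIndex_top_right, ← htop, Subgroup.relIndex_sup_right]
    exact hH.of_dvd_nat (Subgroup.relIndex_dvd_card E H)
  have h1 : (Nat.card X).factorization 2 = (Nat.card E).factorization 2 := by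
    rw [← E.card_mul_index, Nat.factorization_mul Nat.card_pos.ne' Subgroup.index_ne_zero_of_finite,
      Finsupp.add_apply, factorization_two_odd hodd, add_zero]
  have h2 : (Nat.card X).factorization 2 = 2 * m + 1 := by
    rw [← H.card_mul_index, hidx, Nat.factorization_mul Nat.card_pos.ne' (by positivity),
      Finsupp.add_apply, factorization_two_odd hH, zero_add, Nat.prime_two.factorization_pow,
      Finsupp.single_eq_same]
  rw [← h1, h2] at hev
  obtain ⟨k, hk⟩ := hev
  omega

end Cfsg.Agent.Lib.Thompson3Prime33
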