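import Cfsg.Agent.Lib.Thompson3Prime33.Common
import Cfsg.Agent.Lib.Thompson3Prime33.NoAffine

/-!
# Two components with a common `A` in the centraliser of an element

If the completion is trivial and a Sylow subgroup of `C(n)` lies in a Suzuki subgroup `L₁ ≤ C(n)`
through `A`, every such subgroup is `L₁`.

Owner: helper33.
-/

set_option autoImplicit false
set_option linter.style.haveILetI false
set_option linter.unusedSectionVars false
set_option linter.unusedVariables false

namespace Cfsg.Agent.Lib.Thompson3Prime33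

universe u

variable {G : Type u} [Group G] [Finite G] {T : Sylow 2 G} {A M : Subgroup G} {q : ℕ}

theorem Counted.M_le (hc : Counted T A M q) (hW : wcl A = ⊥) :
    M ≤ Subgroup.normalizer (A : Set G) := by
  intro g hg
  obtain ⟨w, hw, n, hn, rfl⟩ := hc.final.split g hg
  rw [hW, Subgroup.mem_bot] at hw
  rwa [hw, one_mul]

theorem Counted.factorization_card_sz (hc : Counted T A M q) :
    2 ^ (q ^ 2 * (q ^ 2 + 1) * (q - 1)).factorization 2 = q ^ 2 := by
  have h8 := hc.eight_le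
  obtain ⟨m, -, rfl⟩ := hc.q_eq
  have h2 : Even (2 ^ (2 * m + 1)) := ⟨2 ^ (2 * m), by rw [pow_succ]; ring⟩
  rw [Nat.factorization_mul (by positivity) (by omega),
    Nat.factorization_mul (by positivity) (by positivity), Finsupp.add_apply, Finsupp.add_apply,
    factorization_two_odd (Even.add_odd (Nat.even_pow.2 ⟨h2, two_ne_zero⟩) odd_one),
    factorization_two_odd (Nat.Even.sub_odd (by omega) h2 odd_one), add_zero, add_zero, ← pow_mul,
    Nat.prime_two.factorization_pow, Finsupp.single_eq_same]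

theorem Counted.le_of_common (hc : Counted T A M q) (hW : wcl A = ⊥) {n : G} (hn1 : n ≠ 1)
    {L₁ L₂ : Subgroup G} [IsSimpleGroup ↥L₁] [IsSimpleGroup ↥L₂]
    (h1 : L₁ ≤ Subgroup.centralizer ({n} : Set G)) (h2 : L₂ ≤ Subgroup.centralizer ({n} : Set G))
    (hA1 : A ≤ L₁) (hA2 : A ≤ L₂) {P : Subgroup G} (hP : P ≤ L₁)
    (hPS : CosetGraph.SylowIn.IsSylowIn 2 P (Subgroup.centralizer ({n} : Set G)))
    (hPA : ∀ x ∈ P, x * x = 1 → x ∈ A)
    (hc1 : Nat.card L₁ = q ^ 2 * (q ^ 2 + 1) * (q - 1))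
    (hc2 : Nat.card L₂ = q ^ 2 * (q ^ 2 + 1) * (q - 1)) : L₂ ≤ L₁ := by
  haveI : Fact (Nat.Prime 2) := ⟨Nat.prime_two⟩
  set C := Subgroup.centralizer ({n} : Set G) with hC
  have hAC : A ≤ C := hA1.trans h1
  set O := Cfsg.centralizerPPrimeCore 2 n with hOdef
  have hOC : O ≤ C := Balance.centralizerPPrimeCore_le n
  have hOn : C ≤ Subgroup.normalizer (O : Set G) :=
    Balance.centralizer_le_normalizer_centralizerPPrimeCore n
  have hodd := odd_core n
  have hOA : ∀ {x : G}, x ∈ O → ∀ {a : G}, a ∈ A → x * a = a * x := by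
    have hle : O ≤ Subgroup.centralizer (A : Set G) := by
      refine hc.closed.le_iSup_fixed le_rfl (le_trans (by norm_num) hc.closed.eight) hodd
        (hAC.trans hOn) fun a ha ha1 w hw => ?_
      refine Subgroup.mem_centralizer_iff.2 fun b hb => ?_
      have hwA : w ∈ Subgroup.normalizer (A : Set G) :=
        hc.M_le hW (hc.final.anchor.cent a ha ha1 hw.2)
      have h3 : w * b * w⁻¹ * b⁻¹ ∈ O := by
        rw [show w * b * w⁻¹ * b⁻¹ = w * (b * w⁻¹ * b⁻¹) by group]
        exact O.mul_mem hw.1 (normalizer_conj (hOn (hAC hb)) (O.inv_mem hw.1))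
      exact (commute_of_conj_eq (mul_inv_eq_one.1 (eq_one_of_two_of_odd hc.closed.isPGroup
        (A.mul_mem (normalizer_conj hwA hb) (A.inv_mem hb)) hodd h3))).symm
    exact fun {x} hx {a} ha => (Subgroup.mem_centralizer_iff.1 (hle hx) _ ha).symm
  obtain ⟨a₀, ha₀, ha₀1⟩ := A.bot_or_exists_ne_one.resolve_left hc.closed.ne_bot
  -- `L₁` centralises the core
  have hcom : L₁ ≤ Subgroup.centralizer (O : Set G) := by
    set N := (Subgroup.centralizer (O : Set G)).subgroupOf L₁
    haveI hN : N.Normal := ⟨fun x hx g => Subgroup.mem_centralizer_iff.2 fun o ho => by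
      have hgo := normalizer_conj (inv_mem (hOn (h1 g.2))) ho
      have : (g : G)⁻¹ * o * (g : G)⁻¹⁻¹ * (x : G) = (x : G) * ((g : G)⁻¹ * o * (g : G)⁻¹⁻¹) :=
        Subgroup.mem_centralizer_iff.1 hx _ hgo
      show o * ((g : G) * (x : G) * (g : G)⁻¹) = (g : G) * (x : G) * (g : G)⁻¹ * o
      calc o * ((g : G) * (x : G) * (g : G)⁻¹) = g * ((g : G)⁻¹ * o * (g : G)⁻¹⁻¹ * x) * (g : G)⁻¹ := by
            group
        _ = g * (x * ((g : G)⁻¹ * o * (g : G)⁻¹⁻¹)) * (g : G)⁻¹ := by rw [this]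
        _ = _ := by group⟩
    rcases hN.eq_bot_or_eq_top with e | e
    · have : (⟨a₀, hA1 ha₀⟩ : L₁) ∈ N := Subgroup.mem_centralizer_iff.2 fun o ho => hOA ho ha₀
      rw [e, Subgroup.mem_bot] at this
      exact absurd (congrArg Subtype.val this) ha₀1
    · exact Subgroup.subgroupOf_eq_top.1 e
  suffices hL2 : L₂ ≤ Subgroup.normalizer (L₁ : Set G) by
    set N := L₁.subgroupOf L₂
    haveI hN : N.Normal := ⟨fun x hx g => normalizer_conj (hL2 g.2) hx⟩
    rcases hN.eq_bot_or_eq_top with e | e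
    · have : (⟨a₀, hA2 ha₀⟩ : L₂) ∈ N := hA1 ha₀
      rw [e, Subgroup.mem_bot] at this
      exact absurd (congrArg Subtype.val this) ha₀1
    · exact Subgroup.subgroupOf_eq_top.1 e
  -- pass to the quotient by the core
  set X := CQ n
  have hsec := hc.closed.hyp.sec_centralizer hn1
  have hcard : ∀ {L : Subgroup G} [IsSimpleGroup ↥L], L ≤ C → A ≤ L →
      Nat.card (qimg n L) = Nat.card L ∧ IsSimpleGroup ↥(qimg n L) := by
    intro L _ hL hAL
    set f : ↥L →* X := (cmap n).comp (Subgroup.inclusion hL)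
    have hinj : Function.Injective f := by
      rcases (inferInstance : f.ker.Normal).eq_bot_or_eq_top with e | e
      · exact (MonoidHom.ker_eq_bot_iff f).1 e
      · refine absurd ?_ ha₀1
        have h3 : (⟨a₀, hAL ha₀⟩ : L) ∈ f.ker := e ▸ Subgroup.mem_top _
        exact eq_one_of_two_of_odd hc.closed.isPGroup ha₀ hodd
          ((cmap_eq_one (g := ⟨a₀, hAC ha₀⟩)).1 h3)
    have hr : f.range = qimg n L := by
      ext y
      constructor
      · rintro ⟨l, rfl⟩; exact ⟨⟨l, hL l.2⟩, l.2, rfl⟩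
      · rintro ⟨l, hl, rfl⟩; exact ⟨⟨l, hl⟩, rfl⟩
    rw [← hr]
    exact ⟨(Nat.card_congr (MonoidHom.ofInjective hinj).toEquiv).symm,
      (MonoidHom.ofInjective hinj).isSimpleGroup_congr.1 inferInstance⟩
  obtain ⟨hk1, hs1⟩ := hcard h1 hA1
  obtain ⟨hk2, hs2⟩ := hcard h2 hA2
  haveI := hs1
  haveI := hs2
  obtain ⟨S, hS⟩ := hPS.exists_sylow
  set S₁ : Sylow 2 X := S.mapSurjective (cmap_surjective n)
  have hS' : (S : Subgroup C) = P.subgroupOf C := by
    apply Subgroup.map_injective C.subtype_injective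
    rw [← hS, Subgroup.map_subgroupOf_eq_of_le hPS.le]
  have hS₁ : (S₁ : Subgroup X) = qimg n P := by rw [Sylow.coe_mapSurjective, hS']
  have hfac := hc.factorization_card_sz
  have hcardP : Nat.card P = q ^ 2 := by
    refine le_antisymm ?_ ?_
    · obtain ⟨k, hk⟩ := IsPGroup.iff_card.1 hPS.isPGroup
      rw [← hfac, ← hc1, hk]
      exact Nat.pow_le_pow_right two_pos
        ((Nat.Prime.pow_dvd_iff_le_factorization Nat.prime_two Nat.card_pos.ne').1
          (hk ▸ Subgroup.card_dvd_of_le hP))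
    · rw [hPS.card_eq, ← hfac, ← hc1]
      exact Nat.le_of_dvd (by positivity)
        (Nat.ordProj_dvd_ordProj_of_dvd Nat.card_pos.ne' (Subgroup.card_dvd_of_le h1) 2)
  have hcardS : Nat.card (S₁ : Subgroup X) = q ^ 2 := by
    rw [hS₁, ← hcardP]
    refine Eq.trans (Nat.card_congr (Equiv.ofBijective
      ((cmap n).subgroupMap (P.subgroupOf C)) ⟨?_, MonoidHom.subgroupMap_surjective _ _⟩)).symm
      (Nat.card_congr (Subgroup.subgroupOfEquivOfLe hPS.le).toEquiv)
    intro x y e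
    have h3 : cmap n (x.1⁻¹ * y.1) = 1 := by
      rw [map_mul, map_inv, show cmap n x.1 = cmap n y.1 from congrArg Subtype.val e, inv_mul_cancel]
    have h4 := eq_one_of_two_of_odd hPS.isPGroup (P.mul_mem (P.inv_mem x.2) y.2) hodd
      (cmap_eq_one.1 h3)
    exact Subtype.ext (inv_mul_eq_one.1 (Subtype.ext h4))
  have hAimg : ∀ {L : Subgroup G}, A ≤ L → ∀ z ∈ qimg n P, z * z = 1 → z ∈ qimg n L := by
    rintro L hAL _ ⟨x, hx, rfl⟩ hz
    have hxx : (x : G) * x = 1 := eq_one_of_two_of_odd hPS.isPGroup (P.mul_mem hx hx) hodd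
      ((cmap_eq_one (g := x * x)).1 (by rw [map_mul, hz]))
    exact ⟨x, hAL (hPA _ hx hxx), rfl⟩
  have hP1 : (S₁ : Subgroup X) ≤ qimg n L₁ := by
    rw [hS₁]
    exact Subgroup.map_mono fun x hx => hP hx
  have hlt : 1 < q ^ 2 := Nat.one_lt_pow two_ne_zero (by linarith [hc.eight_le])
  -- no normal `2`-subgroup
  have hO2 : Cfsg.pCore 2 X = ⊥ := by
    have hle : Cfsg.pCore 2 X ≤ qimg n L₁ := (Cores.pCore_le_sylow S₁).trans hP1
    haveI hN : ((Cfsg.pCore 2 X).subgroupOf (qimg n L₁)).Normal := inferInstance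
    rcases hN.eq_bot_or_eq_top with e | e
    · rwa [Subgroup.subgroupOf_eq_bot, disjoint_iff, inf_eq_left.2 hle] at e
    · exfalso
      have h3 := Subgroup.card_le_of_le ((Subgroup.subgroupOf_eq_top.1 e).trans (Cores.pCore_le_sylow S₁))
      rw [hk1, hc1, hcardS] at h3
      have h5 : 2 ≤ (q ^ 2 + 1) * (q - 1) := by
        have := hc.eight_le
        exact le_trans (by omega) (Nat.le_mul_of_pos_left _ (by positivity))
      rw [mul_assoc] at h3
      have h6 := Nat.le_of_mul_le_mul_left (h3.trans_eq (mul_one _).symm) (by positivity)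
      omega
  have hfit : Cfsg.fittingSubgroup X = ⊥ := by
    refine le_bot_iff.1 ((Cores.fittingSubgroup_eq_iSup_pCore (G := X)).le.trans (iSup_le fun p => ?_))
    haveI : Fact (p : ℕ).Prime := ⟨p.2⟩
    by_cases hp : (p : ℕ) = 2
    · exact hp.symm ▸ hO2.le
    · refine le_trans (Cores.le_pPrimeCore (p := 2) ?_) hsec.core.le
      obtain ⟨k, hk⟩ := IsPGroup.iff_card.1 (Cores.pCore_isPGroup (G := X) (p : ℕ))
      rw [hk]
      exact ((Nat.coprime_primes p.2 Nat.prime_two).2 hp).pow_left k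
  haveI : Nontrivial X := Finite.one_lt_card_iff_nontrivial.1
    (lt_of_lt_of_le (hcardS ▸ hlt) (Subgroup.card_le_card_group _))
  set E := Cfsg.layer X
  have hE : E ≠ ⊥ := fun e => Components.GenFitting.ne_bot (G := X) (by
    rw [Cfsg.generalizedFittingSubgroup, hfit, sup_bot_eq]; exact e)
  obtain ⟨K, hK⟩ := Components.Layer.layer_ne_bot_iff.1 hE
  obtain ⟨hcK, -⟩ := hc.closed.hyp.even_exponent hsec hO2 hK
  obtain ⟨q', Z', τ', hloc⟩ := hsec.exists_local hK S₁
  have hKS := LAEven54.SylowJoin.isSylowIn_inf S₁ hK.1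
  have hsigK : Function.Bijective (sig K) := by
    refine ⟨?_, sig_surjective K⟩
    rw [← MonoidHom.ker_eq_bot_iff, QuotientGroup.ker_mk', hcK]
  have hcardK : Nat.card K = q' ^ 2 * (q' ^ 2 + 1) * (q' - 1) := by
    rw [← hloc.card]; exact Nat.card_congr (Equiv.ofBijective _ hsigK)
  obtain ⟨z, hz, hz1⟩ : ∃ z ∈ Z', z ≠ 1 := by
    refine Z'.nontrivial_iff_exists_ne_one.1 (Finite.one_lt_card_iff_nontrivial.1 ?_)
    rw [hloc.card_Z]; linarith [hloc.eight_le]
  obtain ⟨w, rfl⟩ := hsigK.2 z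
  have hwS : (w : X) ∈ qimg n P := hS₁ ▸ hsec.mem_of_sig_mem hK S₁ (hloc.Z_le hz)
  have hww : (w : X) * w = 1 := by
    rw [← Subgroup.coe_mul, hsigK.1 ((map_mul _ _ _).trans (((hloc.sq_iff _ (hloc.Z_le hz)).2 hz).trans
      (map_one _).symm)), Subgroup.coe_one]
  have hw1 : (w : X) ≠ 1 := fun e => hz1 (by rw [show w = 1 from Subtype.ext e, map_one])
  -- such a subgroup normalises `K` and lies in it
  have hin : ∀ {L : Subgroup G} [IsSimpleGroup ↥(qimg n L)], A ≤ L →
      Nat.card (qimg n L) = q ^ 2 * (q ^ 2 + 1) * (q - 1) → qimg n L ≤ K := by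
    intro L _ hAL hLc
    have hLE : qimg n L ≤ E := by
      haveI : E.Normal := inferInstance
      haveI hN : (E.subgroupOf (qimg n L)).Normal := inferInstance
      rcases hN.eq_bot_or_eq_top with e | e
      · exfalso
        have h3 : (⟨w, hAimg hAL _ hwS hww⟩ : ↥(qimg n L)) ∈ E.subgroupOf (qimg n L) :=
          Components.Layer.component_le_layer hK w.2
        rw [e, Subgroup.mem_bot] at h3
        exact hw1 (congrArg Subtype.val h3)
      · exact Subgroup.subgroupOf_eq_top.1 e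
    haveI hN : (K.subgroupOf (qimg n L)).Normal := ⟨fun x hx g =>
      normalizer_conj (Components.Layer.layer_le_normalizer hK (hLE g.2)) hx⟩
    rcases hN.eq_bot_or_eq_top with e | e
    · exfalso
      have h3 : (⟨w, hAimg hAL _ hwS hww⟩ : ↥(qimg n L)) ∈ K.subgroupOf (qimg n L) := w.2
      rw [e, Subgroup.mem_bot] at h3
      exact hw1 (congrArg Subtype.val h3)
    · exact Subgroup.subgroupOf_eq_top.1 e
  have hK1 : qimg n L₁ ≤ K := hin hA1 (hk1.trans hc1)
  have hK2 : qimg n L₂ ≤ K := hin hA2 (hk2.trans hc2)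
  have hqq : q' = q := by
    have h4 : q' ^ 2 = q ^ 2 := by
      rw [← hloc.card_P]
      refine Eq.trans ?_ hcardS
      have h5 : (S₁ : Subgroup X) ⊓ K = (S₁ : Subgroup X) := inf_eq_left.2 (hP1.trans hK1)
      refine Eq.trans ?_ (Nat.card_congr (Subgroup.subgroupOfEquivOfLe (hP1.trans hK1)).toEquiv)
      refine (Nat.card_congr (Equiv.ofBijective ((sig K).subgroupMap ((S₁ : Subgroup X).subgroupOf K))
        ⟨?_, MonoidHom.subgroupMap_surjective _ _⟩)).symm
      intro x y e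
      exact Subtype.ext (hsigK.1 (congrArg Subtype.val e))
    exact Nat.pow_left_injective two_ne_zero h4
  have hKe : qimg n L₁ = K := Subgroup.eq_of_le_of_card_ge hK1 (by rw [hcardK, hqq, hk1, hc1])
  intro g hg
  obtain ⟨l, hl, hle⟩ : cmap n ⟨g, h2 hg⟩ ∈ qimg n L₁ := hKe ▸ hK2 ⟨⟨g, h2 hg⟩, hg, rfl⟩
  have ho : g * (l : G)⁻¹ ∈ O := (cmap_eq_one (g := ⟨g, h2 hg⟩ * l⁻¹)).1
    (by rw [map_mul, map_inv, hle, mul_inv_cancel])
  have hg' : g = g * (l : G)⁻¹ * l := by group
  rw [hg']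
  refine mul_mem ?_ (Subgroup.le_normalizer hl)
  exact Subgroup.centralizer_le_normalizer _
    (Subgroup.le_centralizer_iff.1 hcom ho)

end Cfsg.Agent.Lib.Thompson3Prime33
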