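import Cfsg.Agent.Lib.Thompson3Prime33.SemiAux
import Cfsg.Agent.Lib.Thompson3Prime33.UniqueSimple
import Cfsg.Agent.Lib.Coprime.Glauberman

/-!
# No element stabilising `S` centralises `A` when `S` is not cyclic

Owner: helper33.
-/

set_option autoImplicit false
set_option linter.style.haveILetI false
set_option linter.unusedSectionVars false
set_option linter.unusedVariables false

namespace Cfsg.Agent.Lib.Thompson3Prime33

universe u

variable {G : Type u} [Group G] [Finite G] {T : Sylow 2 G} {A M : Subgroup G} {q : ℕ}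
variable {u : G} {R : Subgroup G} {L : Subgroup (CQ u)}
  {Z : Subgroup (↥L ⧸ Subgroup.center ↥L)} {τ : ↥L ⧸ Subgroup.center ↥L}

namespace Tower

theorem tcore_eq (h : Tower T A M q u R L Z τ) : tcore T A = (T : Subgroup G) :=
  le_antisymm tcore_le fun g hg => (mem_tcore (g := ⟨g, h.T_le hg⟩) hg).2
    (h.normal ▸ mem_nimg h.T_le hg)

theorem shift (h : Tower T A M q u R L Z τ) {v : G} (hv : v ∈ h.top.data.sPart) {g : G}
    (hg : g ∈ (T : Subgroup G)) : ∃ a ∈ A, g * v * g⁻¹ = v * a :=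
  h.top.tcore_shift hv (h.tcore_eq.symm ▸ hg)

/-- An element centralising `A` and moving some element of `T` outside `R` within its coset modulo
`R` centralises `S`. -/
theorem cent_S_of_shift (h : Tower T A M q u R L Z τ) {n g : G}
    (hnS : n ∈ Subgroup.normalizer (h.top.data.sPart : Set G))
    (hnA : n ∈ Subgroup.centralizer (A : Set G)) (hg : g ∈ (T : Subgroup G)) (hgR : g ∉ R)
    (hng : g⁻¹ * (n * g * n⁻¹) ∈ R) {v : G} (hv : v ∈ h.top.data.sPart) : n * v = v * n := by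
  have b := h.top.data
  have hc := h.top.counted
  obtain ⟨a, ha, he⟩ := h.shift hv hg
  set v' := n * v * n⁻¹ with hv'
  have hv'S : v' ∈ b.sPart := normalizer_conj hnS hv
  set r := g⁻¹ * (n * g * n⁻¹)
  have hrv : r * v' * r⁻¹ = v' := conj_eq_of_commute
    (Subgroup.mem_centralizer_singleton_iff.1 (b.sPart_le_cent hc hv'S hng))
  have hna : n * a * n⁻¹ = a := conj_eq_of_commute (Subgroup.mem_centralizer_iff.1 hnA a ha).symm
  have h1 : g * v' * g⁻¹ = v' * a := by
    calc g * v' * g⁻¹ = g * (r * v' * r⁻¹) * g⁻¹ := by rw [hrv]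
      _ = n * (g * v * g⁻¹) * n⁻¹ := by simp only [r, v']; group
      _ = (n * v * n⁻¹) * (n * a * n⁻¹) := by rw [he]; group
      _ = v' * a := by rw [hna]
  set w := v⁻¹ * v'
  have hwS : w ∈ b.sPart := b.sPart.mul_mem (b.sPart.inv_mem hv) hv'S
  have hgA := h.top.trans.cent hg
  have hva : v' * a = a * v' :=
    (Subgroup.mem_centralizer_iff.1 (b.R_cent hc hv'S.1) a ha).symm
  have hw : g * w = w * g := by
    refine commute_of_conj_eq ?_
    calc g * (v⁻¹ * v') * g⁻¹ = (g * v * g⁻¹)⁻¹ * (g * v' * g⁻¹) := by group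
      _ = a⁻¹ * v⁻¹ * (v' * a) := by rw [he, h1, mul_inv_rev]
      _ = a⁻¹ * (v⁻¹ * (a * v')) := by rw [hva]; group
      _ = a⁻¹ * (v⁻¹ * a * v) * (v⁻¹ * v') := by group
      _ = w := by
          rw [show v⁻¹ * a * v = a by
            have hva' := Subgroup.mem_centralizer_iff.1 (b.R_cent hc hv.1) a ha
            rw [mul_assoc, hva', inv_mul_cancel_left], inv_mul_cancel, one_mul]
  have hw1 : w = 1 := by
    by_contra hne
    exact hgR (h.top.fix_sPart hwS hne hg hw)
  exact commute_of_conj_eq (inv_mul_eq_one.1 hw1).symm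

/-- An element centralising `A` and a non-trivial element of `S` centralises `S`. -/
theorem cent_S_of_fix (h : Tower T A M q u R L Z τ) {n : G}
    (hnS : n ∈ Subgroup.normalizer (h.top.data.sPart : Set G))
    (hnT : n ∈ Subgroup.normalizer ((T : Subgroup G) : Set G))
    (hnA : n ∈ Subgroup.centralizer (A : Set G)) {s : G} (hs : s ∈ h.top.data.sPart) (hs1 : s ≠ 1)
    (hns : n * s = s * n) {v : G} (hv : v ∈ h.top.data.sPart) : n * v = v * n := by
  have b := h.top.data
  obtain ⟨a, ha, ha1⟩ := A.bot_or_exists_ne_one.resolve_left h.top.counted.closed.ne_bot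
  obtain ⟨g, hg, he⟩ := h.top.trans.surj a ha
  have hgR : g ∉ R := fun hgR => ha1 (by
    rw [conj_eq_of_commute (Subgroup.mem_centralizer_singleton_iff.1 (b.comp.base.sylow.le hgR))] at he
    rwa [left_eq_mul] at he)
  refine h.cent_S_of_shift hnS hnA hg hgR ?_ hv
  obtain ⟨c, hc', hec⟩ := h.shift hs hg
  refine h.top.fix_sPart hs hs1 ((T : Subgroup G).mul_mem ((T : Subgroup G).inv_mem hg)
    (normalizer_conj hnT hg)) (commute_of_conj_eq ?_)
  have hns' : n⁻¹ * s * n = s := by rw [mul_assoc, ← hns, inv_mul_cancel_left]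
  calc g⁻¹ * (n * g * n⁻¹) * s * (g⁻¹ * (n * g * n⁻¹))⁻¹
      = g⁻¹ * (n * (g * (n⁻¹ * s * n) * g⁻¹) * n⁻¹) * g := by group
    _ = g⁻¹ * ((n * s * n⁻¹) * (n * c * n⁻¹)) * g := by rw [hns', hec]; group
    _ = g⁻¹ * (g * s * g⁻¹) * g := by
        rw [conj_eq_of_commute hns, conj_eq_of_commute (Subgroup.mem_centralizer_iff.1 hnA c hc').symm,
          hec]
    _ = s := by group

end Tower

namespace Endgame

variable {H : Subgroup (NX A)} {σ : NX A}

/-- The component at a bad involution of `T` centralised by `η` is centralised by the elements of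
`T` centralised by `η` and commuting with it. -/
theorem cent_comp (e : Endgame T A M q u R L Z τ H σ) (hW : wcl A = ⊥) {η v w : G}
    (hηA : η ∈ Subgroup.normalizer (A : Set G)) (hfpf : ∀ a ∈ A, η * a * η⁻¹ = a → a = 1)
    (hηv : η * v = v * η) (hηw : η * w = w * η) (hwv : w * v = v * w)
    (hw : w ∈ (T : Subgroup G)) (hw2 : w * w = 1) {R' : Subgroup G} {L' : Subgroup (CQ v)}
    {Z' : Subgroup (↥L' ⧸ Subgroup.center ↥L')} {τ' : ↥L' ⧸ Subgroup.center ↥L'}
    (b' : BadData T A M v R' L' q Z' τ') : ∀ l ∈ lift v L', l * w = w * l := by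
  have hc := e.top.counted
  have hwC : w ∈ Subgroup.centralizer ({v} : Set G) := Subgroup.mem_centralizer_singleton_iff.2 hwv
  set wc : ↥(Subgroup.centralizer ({v} : Set G)) := ⟨w, hwC⟩
  have hwc : wc * wc = 1 := Subtype.ext hw2
  set x : ↥(Subgroup.normalizer (L' : Set (CQ v))) := ⟨cmap v wc, b'.normalizes _⟩
  have hx : x * x = 1 := Subtype.ext (show cmap v wc * cmap v wc = 1 by rw [← map_mul, hwc, map_one])
  obtain ⟨π, hπ⟩ := b'.comp.loc.aut_two (autOn L' x)
    ⟨1, by rw [pow_one, pow_two, ← map_mul, hx, map_one]⟩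
  have hππ : π * π = 1 := b'.comp.loc.conj_injective (by rw [map_mul, map_one, ← hπ, ← map_mul, hx, map_one])
  obtain ⟨a, ha, ha1⟩ := A.bot_or_exists_ne_one.resolve_left hc.closed.ne_bot
  have haL := b'.A_le_lift hc
  have hconjA : ∀ (g : G) (hgC : g ∈ Subgroup.centralizer ({v} : Set G)) (a : G) (ha : a ∈ A)
      (hga : g * a * g⁻¹ ∈ A),
      autOn L' ⟨cmap v ⟨g, hgC⟩, b'.normalizes _⟩ (lmap v L' ⟨a, haL ha⟩) =
        lmap v L' ⟨g * a * g⁻¹, haL hga⟩ := by
    intro g hgC a ha hga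
    rw [lmap_apply ⟨a, haL ha⟩, autOn_apply]
    refine (lmap_eq_sig _ _ ?_).symm
    rw [show (⟨g * a * g⁻¹, _⟩ : ↥(Subgroup.centralizer ({v} : Set G))) =
      ⟨g, hgC⟩ * ⟨a, lift_le v L' (haL ha)⟩ * ⟨g, hgC⟩⁻¹ from rfl, map_mul, map_mul, map_inv]
    rfl
  have hwa : w * a * w⁻¹ = a :=
    conj_eq_of_commute (Subgroup.mem_centralizer_iff.1 (e.top.trans.cent hw) a ha).symm
  have hza := b'.comp.lmap_mem_Z (g := ⟨a, haL ha⟩) ((hc.inf_cent b'.bad b'.mem).ge ha)
  have hza1 : lmap v L' ⟨a, haL ha⟩ ≠ 1 := fun he => ha1 (congrArg Subtype.val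
    (b'.comp.lmap_injOn b'.simple (g := ⟨a, haL ha⟩) (g' := 1)
      (b'.A_le_R hc ha) R'.one_mem (he.trans (map_one _).symm)))
  have hπP : π ∈ pbar (qimg v R') L' := by
    rw [← b'.comp.loc.centralizer_eq _ hza hza1, Subgroup.mem_centralizer_singleton_iff]
    refine commute_of_conj_eq ?_
    have h1 := hconjA w hwC a ha (hwa.symm ▸ ha)
    rw [hπ] at h1
    exact h1.trans (congrArg _ (Subtype.ext hwa))
  obtain ⟨f, hf, hfe⟩ := b'.comp.exists_F ((b'.comp.loc.sq_iff π hπP).1 hππ)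
  have hηC : η ∈ Subgroup.centralizer ({v} : Set G) := Subgroup.mem_centralizer_singleton_iff.2 hηv
  set ηc : ↥(Subgroup.centralizer ({v} : Set G)) := ⟨η, hηC⟩
  set y : ↥(Subgroup.normalizer (L' : Set (CQ v))) := ⟨cmap v ηc, b'.normalizes _⟩
  have hyx : y * x * y⁻¹ = x := conj_eq_of_commute (Subtype.ext
    (show cmap v ηc * cmap v wc = cmap v wc * cmap v ηc by
      rw [← map_mul, ← map_mul]; exact congrArg _ (Subtype.ext hηw)))
  have hπfix : autOn L' y π = π := by
    refine b'.comp.loc.conj_injective ?_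
    calc MulAut.conj (autOn L' y π) = autOn L' y * MulAut.conj π * (autOn L' y)⁻¹ := by
          refine MulEquiv.ext fun z => ?_
          simp only [MulAut.mul_apply, MulAut.conj_apply, map_mul, map_inv, MulAut.apply_inv_self]
      _ = MulAut.conj π := by rw [← hπ, ← map_inv, ← map_mul, ← map_mul, hyx]
  have hfA : (f : G) ∈ A := hf.1
  have hf1 : (f : G) = 1 := by
    refine hfpf _ hfA ?_
    have h1 := hconjA η hηC f hfA (normalizer_conj hηA hfA)
    rw [show (⟨(f : G), haL hfA⟩ : ↥(lift v L')) = f from rfl, hfe] at h1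
    exact congrArg (fun z : ↥(lift v L') => (z : G)) (b'.comp.lmap_injOn b'.simple
      (g := ⟨η * f * η⁻¹, haL (normalizer_conj hηA hfA)⟩) (g' := f)
      (b'.A_le_R hc (normalizer_conj hηA hfA)) (b'.A_le_R hc hfA) ((h1.symm.trans hπfix).trans hfe.symm))
  have hπ1 : π = 1 := by rw [← hfe, show f = 1 from Subtype.ext hf1, map_one]
  intro l hl
  refine b'.commute_lift hc hW hl (mem_lift.2 ⟨hwC, centralizes_of_autOn b'.comp.comp.2.1
    (b'.normalizes _) ?_⟩)
  rw [hπ, hπ1, map_one]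

/-- The kernel is trivial when `S` is not cyclic. -/
theorem kernel_big (e : Endgame T A M q u R L Z τ H σ) (hr : 2 < Nat.card e.top.data.sPart)
    {k : NX A} (hk : k ∈ H) (hkS : k ∈ Subgroup.normalizer (nimg A e.top.data.sPart : Set (NX A)))
    (hkA : k ∈ Subgroup.centralizer (nimg A A : Set (NX A))) : k = 1 := by
  haveI : Fact (Nat.Prime 2) := ⟨Nat.prime_two⟩
  have hW := e.top.wcl_eq_bot hr
  have b := e.top.data
  have hc := e.top.counted
  have hinj := e.tower.nx_injective hW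
  set S := b.sPart with hSdef
  obtain ⟨⟨n, hnN⟩, hn⟩ := e.exists_slift hkS
  have hnA : n ∈ Subgroup.centralizer (A : Set G) := cent_of_nx hc.closed (hn.eq.symm ▸ hkA)
  by_contra hk1
  have hS : ∀ {s : G}, s ∈ S → s ∈ Subgroup.normalizer (A : Set G) := fun hs =>
    b.R_le_normalizer hs.1
  -- `n` fixes no non-trivial element of `S`
  have hnotS : ¬ ∀ v ∈ S, n * v = v * n := fun hall => hk1 (e.eq_one_of_cent hk hkA (by
    rintro _ ⟨s, hs, rfl⟩
    rw [← hn.eq, ← map_mul, ← map_mul]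
    exact congrArg _ (Subtype.ext (hall _ hs))))
  have hsemi : ∀ s ∈ S, n * s = s * n → s = 1 := fun s hs hns => by
    by_contra hs1
    exact hnotS fun v hv => e.tower.cent_S_of_fix hn.normS hn.normT hnA hs hs1 hns hv
  -- `n` centralises the component
  have hnL : ∀ l ∈ lift u L, n * l = l * n := by
    intro l hl
    obtain ⟨h', he⟩ := e.aut_eq_one hk hkA hn ⟨l, hl⟩
    refine commute_of_conj_eq ?_
    have h1 := b.mem_core_of_lmap (g := ⟨_, h'⟩ * (⟨l, hl⟩ : ↥(lift u L))⁻¹)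
      (by rw [map_mul, map_inv, he, mul_inv_cancel])
    rw [b.core_eq_bot hc hW, Subgroup.mem_bot] at h1
    exact mul_inv_eq_one.1 h1
  -- the torus in `G`
  obtain ⟨t, ht, htN, hσ⟩ := e.torus
  have htpow : (t : G) ^ (q - 1) = 1 := by
    have h1 : (⟨t, htN⟩ : ↥(Subgroup.normalizer (A : Set G))) ^ (q - 1) = 1 :=
      hinj (by rw [map_pow, hσ, e.pow, map_one])
    exact congrArg Subtype.val h1
  have htu : (t : G) * u = u * t := Subgroup.mem_centralizer_singleton_iff.1 (lift_le u L t.2)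
  have htT : (t : G) ∈ Subgroup.normalizer ((T : Subgroup G) : Set G) := by
    refine mem_normalizer_of_conj_mem fun d hd => ?_
    obtain ⟨d', hd', ed⟩ := e.tower.exists_conj_mem_T (nx A ⟨t, htN⟩) hd
    rw [← map_inv, ← map_mul, ← map_mul] at ed
    have h1 := congrArg Subtype.val (hinj ed)
    show (t : G) * d * (t : G)⁻¹ ∈ (T : Subgroup G)
    rw [show (t : G) * d * (t : G)⁻¹ = d' from h1]
    exact hd'
  have htR : (t : G) ∈ Subgroup.normalizer (R : Set G) := mem_normalizer_of_conj_mem fun r hr =>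
    e.top.trans.fix _ (normalizer_conj htT (e.top.trans.le hr)) (by
      have h1 : (Commute (t : G) u) := htu
      have h2 : Commute r u := Subgroup.mem_centralizer_singleton_iff.1 (b.comp.base.sylow.le hr)
      exact (h1.mul_left h2).mul_left h1.inv_left)
  have htS : ∀ s ∈ S, (t : G) * s = s * t := fun s hs => (b.commute_lift hc hW t.2 hs.2)
  have hnt : n * (t : G) = t * n := hnL _ t.2
  have hfix : ∀ {i : ℕ}, ¬ (q - 1) ∣ i → ∀ d ∈ (T : Subgroup G),
      (t : G) ^ i * d * ((t : G) ^ i)⁻¹ = d → d ∈ S := by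
    intro i hi d hd he
    obtain ⟨s, hs, hse⟩ := e.fix hi (mem_nimg e.tower.T_le hd) (by
      have h1 : nx A ⟨(t : G), htN⟩ ^ i * nx A ⟨d, e.tower.T_le hd⟩ * (nx A ⟨(t : G), htN⟩ ^ i)⁻¹ =
          nx A ⟨d, e.tower.T_le hd⟩ := by
        rw [← map_pow, ← map_inv, ← map_mul, ← map_mul]
        exact congrArg _ (Subtype.ext (by simpa using he))
      simpa [hσ] using h1)
    have hsd : (s : G) = d := congrArg Subtype.val (hinj hse)
    rw [← hsd]
    exact hs
  -- how `n` acts on `T / R`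
  obtain ⟨a₀, ha₀, ha₀1⟩ := A.bot_or_exists_ne_one.resolve_left hc.closed.ne_bot
  have hnotR : ∀ {g a : G}, a ≠ 1 → g * u * g⁻¹ = u * a → g ∉ R := fun {g a} ha he hgR => ha (by
    rw [conj_eq_of_commute (Subgroup.mem_centralizer_singleton_iff.1 (b.comp.base.sylow.le hgR))] at he
    rwa [left_eq_mul] at he)
  obtain ⟨g₀, hg₀, he₀⟩ := e.top.trans.surj a₀ ha₀
  obtain ⟨a₁, ha₁, he₁⟩ := e.top.trans.maps _ (normalizer_conj hn.normT hg₀)
  have ha₁1 : a₁ ≠ 1 := by
    intro h1
    rw [h1, mul_one] at he₁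
    have h2 := normalizer_conj (inv_mem hn.normR)
      (e.top.trans.fix _ (normalizer_conj hn.normT hg₀) (commute_of_conj_eq he₁))
    refine hnotR ha₀1 he₀ ?_
    simpa [mul_assoc] using h2
  obtain ⟨j, hj⟩ := e.trans_A ha₀ ha₀1 ha₁ ha₁1
  have hja : (t : G) ^ j * a₀ * ((t : G) ^ j)⁻¹ = a₁ := by
    rw [← hσ, ← map_pow, ← map_inv, ← map_mul, ← map_mul] at hj
    simpa using congrArg Subtype.val (hinj hj)
  set p := (t : G) ^ j with hp
  set η := p⁻¹ * n with hη
  have hpN : p ∈ Subgroup.normalizer (A : Set G) := pow_mem htN j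
  have hηA : η ∈ Subgroup.normalizer (A : Set G) := mul_mem (inv_mem hpN) hnN
  have hηT : η ∈ Subgroup.normalizer ((T : Subgroup G) : Set G) := mul_mem (inv_mem (pow_mem htT j)) hn.normT
  have hηR : η ∈ Subgroup.normalizer (R : Set G) := mul_mem (inv_mem (pow_mem htR j)) hn.normR
  have hpu : p * u = u * p := (Commute.pow_left htu j)
  have hpu' : p⁻¹ * u * p = u := by rw [mul_assoc, ← hpu, inv_mul_cancel_left]
  have hpn : Commute p n := Commute.pow_left (show Commute (t : G) n from hnt.symm) j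
  have hηt : Commute η (t : G) :=
    ((Commute.refl (t : G)).pow_left j).inv_left.mul_left hnt
  have hηn : Commute η n := hpn.inv_left.mul_left (Commute.refl n)
  have hg₀η : g₀⁻¹ * (η * g₀ * η⁻¹) ∈ R := by
    refine e.top.trans.fix _ ((T : Subgroup G).mul_mem ((T : Subgroup G).inv_mem hg₀)
      (normalizer_conj hηT hg₀)) (commute_of_conj_eq ?_)
    have h1 : p⁻¹ * a₁ * p = a₀ := by rw [← hja]; group
    calc g₀⁻¹ * (η * g₀ * η⁻¹) * u * (g₀⁻¹ * (η * g₀ * η⁻¹))⁻¹
        = g₀⁻¹ * (p⁻¹ * ((n * g₀ * n⁻¹) * (p * u * p⁻¹) * (n * g₀ * n⁻¹)⁻¹) * p) * g₀ := by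
          simp only [hη]; group
      _ = g₀⁻¹ * ((p⁻¹ * u * p) * (p⁻¹ * a₁ * p)) * g₀ := by
          rw [conj_eq_of_commute hpu, he₁]; group
      _ = u := by rw [hpu', h1, ← he₀]; group
  have hdvd : ¬ (q - 1) ∣ j := by
    rintro ⟨i, rfl⟩
    have hp1 : p = 1 := by rw [hp, pow_mul, htpow, one_pow]
    rw [hη, hp1, inv_one, one_mul] at hg₀η
    exact hnotS fun v hv =>
      e.tower.cent_S_of_shift hn.normS hnA hg₀ (hnotR ha₀1 he₀) hg₀η hv
  have hfpf : ∀ a ∈ A, η * a * η⁻¹ = a → a = 1 := by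
    intro a ha he
    have hna : n * a * n⁻¹ = a := conj_eq_of_commute (Subgroup.mem_centralizer_iff.1 hnA a ha).symm
    have h1 : p⁻¹ * a * p = a := by
      calc p⁻¹ * a * p = p⁻¹ * (n * a * n⁻¹) * p := by rw [hna]
        _ = η * a * η⁻¹ := by simp only [hη]; group
        _ = a := he
    exact b.A_inf_sPart hc ha (hfix hdvd a (hc.closed.le ha) (by
      calc p * a * p⁻¹ = p * (p⁻¹ * a * p) * p⁻¹ := by rw [h1]
        _ = a := by group))
  -- `η` fixes no non-trivial element of `R`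
  have hRfix : ∀ r ∈ R, η * r = r * η → r = 1 := by
    intro r hr her
    obtain ⟨x, hx, s, hs, rfl, -⟩ := b.exists_split hr
    have hs' : n * s * n⁻¹ ∈ S := normalizer_conj hn.normS hs
    have hpL : p ∈ lift u L := Subgroup.pow_mem _ t.2 j
    have hx' : p⁻¹ * x * p⁻¹⁻¹ ∈ R ⊓ lift u L :=
      ⟨normalizer_conj (inv_mem (pow_mem htR j)) hx.1,
        Subgroup.mul_mem _ (Subgroup.mul_mem _ (Subgroup.inv_mem _ hpL) hx.2)
          (Subgroup.inv_mem _ (Subgroup.inv_mem _ hpL))⟩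
    have heq : p⁻¹ * x * p⁻¹⁻¹ * (n * s * n⁻¹) = x * s := by
      have h1 : Commute (n * s * n⁻¹) p := ((Commute.pow_left (htS _ hs') j)).symm
      calc p⁻¹ * x * p⁻¹⁻¹ * (n * s * n⁻¹) = p⁻¹ * x * (p * (n * s * n⁻¹)) := by group
        _ = p⁻¹ * (x * (n * s * n⁻¹)) * p := by rw [h1.eq.symm]; group
        _ = p⁻¹ * (n * x * n⁻¹ * (n * s * n⁻¹)) * p := by rw [conj_eq_of_commute (hnL x hx.2)]
        _ = η * (x * s) * η⁻¹ := by simp only [hη]; group
        _ = x * s := conj_eq_of_commute her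
    have hw : x⁻¹ * (p⁻¹ * x * p⁻¹⁻¹) = s * (n * s * n⁻¹)⁻¹ := by
      calc x⁻¹ * (p⁻¹ * x * p⁻¹⁻¹)
          = x⁻¹ * (p⁻¹ * x * p⁻¹⁻¹ * (n * s * n⁻¹)) * (n * s * n⁻¹)⁻¹ := by group
        _ = _ := by rw [heq]; group
    have hw1 : x⁻¹ * (p⁻¹ * x * p⁻¹⁻¹) = 1 := b.inf_sPart
      (mul_mem (inv_mem hx) hx') (hw ▸ S.mul_mem hs (S.inv_mem hs'))
    have hxx := (inv_mul_eq_one.1 hw1).symm
    rw [hw1] at hw
    have hx1 : x = 1 := b.inf_sPart hx (hfix hdvd x (e.top.trans.le hx.1) (by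
      calc p * x * p⁻¹ = p * (p⁻¹ * x * p⁻¹⁻¹) * p⁻¹ := by rw [hxx]
        _ = x := by group))
    have hs1 : s = 1 := hsemi s hs (commute_of_conj_eq (mul_inv_eq_one.1 hw.symm).symm)
    rw [hx1, hs1, mul_one]
  -- the fixed points of `η` in `T`
  have hodd : Odd (orderOf η) := by
    have hn' : Odd (orderOf n) := by
      rw [show n = ((⟨n, hnN⟩ : ↥(Subgroup.normalizer (A : Set G))) : G) from rfl, Subgroup.orderOf_coe,
        ← orderOf_injective (nx A) hinj ⟨n, hnN⟩, hn.eq]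
      exact e.odd.of_dvd_nat (Subgroup.orderOf_dvd_natCard _ hk)
    have hp' : Odd (orderOf p⁻¹) := by
      rw [orderOf_inv]
      refine e.tower.odd_q_sub_one.of_dvd_nat (orderOf_dvd_of_pow_eq_one ?_)
      rw [hp, ← pow_mul, mul_comm, pow_mul, htpow, one_pow]
    exact (hp'.mul hn').of_dvd_nat hpn.inv_left.orderOf_mul_dvd_mul_orderOf
  have hexists : ∀ a ∈ A, ∃ g ∈ (T : Subgroup G), η * g = g * η ∧ g * u * g⁻¹ = u * a := by
    intro a ha
    rcases eq_or_ne a 1 with rfl | ha1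
    · exact ⟨1, one_mem _, by simp, by group⟩
    obtain ⟨i, hi⟩ := e.trans_A ha₀ ha₀1 ha ha1
    have hia : (t : G) ^ i * a₀ * ((t : G) ^ i)⁻¹ = a := by
      rw [← hσ, ← map_pow, ← map_inv, ← map_mul, ← map_mul] at hi
      simpa using congrArg Subtype.val (hinj hi)
    set z := (t : G) ^ i
    set g := z * g₀ * z⁻¹ with hg
    have hgT : g ∈ (T : Subgroup G) := normalizer_conj (pow_mem htT i) hg₀
    have hgu : g * u * g⁻¹ = u * a := by
      have hzu : Commute z u := Commute.pow_left htu i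
      calc g * u * g⁻¹ = z * (g₀ * (z⁻¹ * u * z) * g₀⁻¹) * z⁻¹ := by simp only [hg]; group
        _ = z * (g₀ * u * g₀⁻¹) * z⁻¹ := by
            rw [show z⁻¹ * u * z = u by rw [mul_assoc, ← hzu.eq, inv_mul_cancel_left]]
        _ = (z * u * z⁻¹) * (z * a₀ * z⁻¹) := by rw [he₀]; group
        _ = u * a := by rw [conj_eq_of_commute hzu.eq, hia]
    have hgη : g⁻¹ * (η * g * η⁻¹) ∈ R := by
      have hzη : Commute η z := hηt.pow_right i
      have h1 : g⁻¹ * (η * g * η⁻¹) = z * (g₀⁻¹ * (η * g₀ * η⁻¹)) * z⁻¹ := by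
        have h2 : η * z = z * η := hzη.eq
        have h3 : z⁻¹ * η⁻¹ = η⁻¹ * z⁻¹ := by rw [← mul_inv_rev, h2, mul_inv_rev]
        calc g⁻¹ * (η * g * η⁻¹) = z * g₀⁻¹ * z⁻¹ * ((η * z) * g₀ * (z⁻¹ * η⁻¹)) := by
              simp only [hg]; group
          _ = _ := by rw [h2, h3]; group
      rw [h1]
      exact normalizer_conj (pow_mem htR i) hg₀η
    have hpow : ∀ i : ℕ, g⁻¹ * (η ^ i * g * (η ^ i)⁻¹) ∈ R := by
      intro i
      induction i with
      | zero => simp
      | succ i ih =>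
        rw [show g⁻¹ * (η ^ (i + 1) * g * (η ^ (i + 1))⁻¹) = g⁻¹ * (η ^ i * g * (η ^ i)⁻¹) *
          (η ^ i * (g⁻¹ * (η * g * η⁻¹)) * (η ^ i)⁻¹) by rw [pow_succ]; group]
        exact R.mul_mem ih (normalizer_conj (pow_mem hηR i) hgη)
    obtain ⟨k', hk'⟩ := IsPGroup.iff_card.1 b.comp.base.sylow.isPGroup
    obtain ⟨o, ho, hgo⟩ := Coprime.exists_mul_fixed (A := Subgroup.zpowers η) (N := R)
      (Subgroup.zpowers_le.2 hηR)
      (by rw [hk', Nat.card_zpowers]; exact ((Nat.coprime_two_left.2 hodd).pow_left k').symm)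
      (Or.inl (Coprime.isSolvable_zpowers η)) (k := g) (fun d hd => by
        rw [← mem_powers_iff_mem_zpowers, Submonoid.mem_powers_iff] at hd
        obtain ⟨i, rfl⟩ := hd
        exact hpow i)
    refine ⟨g * o, (T : Subgroup G).mul_mem hgT (e.top.trans.le ho),
      Subgroup.mem_centralizer_iff.1 hgo η (Subgroup.mem_zpowers η), ?_⟩
    calc g * o * u * (g * o)⁻¹ = g * (o * u * o⁻¹) * g⁻¹ := by group
      _ = u * a := by
          rw [conj_eq_of_commute
            (Subgroup.mem_centralizer_singleton_iff.1 (b.comp.base.sylow.le ho)), hgu]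
  -- these fixed points form an elementary abelian group
  have hsq : ∀ g ∈ (T : Subgroup G), η * g = g * η → g * g = 1 := by
    intro g hg hge
    refine hRfix _ (e.top.trans.fix _ ((T : Subgroup G).mul_mem hg hg) (commute_of_conj_eq ?_))
      ((show Commute η g from hge).mul_right hge).eq
    obtain ⟨a, ha, he⟩ := e.top.trans.maps g hg
    have hga := conj_eq_of_commute
      (Subgroup.mem_centralizer_iff.1 (e.top.trans.cent hg) a ha).symm
    calc g * g * u * (g * g)⁻¹ = g * (g * u * g⁻¹) * g⁻¹ := by group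
      _ = (g * u * g⁻¹) * (g * a * g⁻¹) := by conv_lhs => rw [he]
                                              group
      _ = u := by rw [he, hga, mul_assoc, hc.closed.sq ha, mul_one]
  obtain ⟨v, hvT, hηv, hev⟩ := hexists a₀ ha₀
  have hvR : v ∉ R := hnotR ha₀1 hev
  have hvA : v ∉ A := fun h => hvR (b.A_le_R hc h)
  have hvN := e.tower.T_le hvT
  have hvo : orderOf v = 2 :=
    orderOf_eq_prime (by rw [pow_two]; exact hsq v hvT hηv) fun h => hvR (h ▸ R.one_mem)
  have hvb : Bad M v := hc.bad_of_not_mem hvo hvN hvA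
  obtain ⟨R', L', Z', τ', b'⟩ := hc.exists_data hvb hvN
  haveI := b.isSimple_lift hc hW
  haveI := b'.isSimple_lift hc hW
  -- the component at `v` is normalised by `n`
  set w := n * v * n⁻¹ with hw
  have hwT : w ∈ (T : Subgroup G) := normalizer_conj hn.normT hvT
  have hηw : η * w = w * η := by
    have h2 : Commute η v := hηv
    exact ((hηn.mul_right h2).mul_right hηn.inv_right).eq
  have hwv : w * v = v * w := by
    have h1 := hsq _ ((T : Subgroup G).mul_mem hwT hvT) ((show Commute η w from hηw).mul_right hηv).eq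
    rw [← inv_eq_of_mul_eq_one_right h1, mul_inv_rev, inv_eq_of_mul_eq_one_right (hsq v hvT hηv),
      inv_eq_of_mul_eq_one_right (hsq w hwT hηw)]
  set K := lift v L' with hKdef
  have hKw : ∀ l ∈ K, l * w = w * l :=
    e.cent_comp hW hηA hfpf hηv hηw hwv hwT (hsq w hwT hηw) b'
  have hwb : Bad M w := hvb.conj n
  obtain ⟨R'', L'', Z'', τ'', b''⟩ := hc.exists_data hwb (e.tower.T_le hwT)
  haveI : IsSimpleGroup ↥(cj n K) :=
    (K.equivMapOfInjective _ (MulAut.conj n).injective).isSimpleGroup_congr.1 inferInstance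
  have h1 : K ≤ lift w L'' := b''.simple_le_lift hc
    (fun l hl => Subgroup.mem_centralizer_singleton_iff.2 (hKw l hl)) (b'.A_le_lift hc)
  have h2 : cj n K ≤ lift w L'' := by
    refine b''.simple_le_lift hc ?_ fun a ha => ⟨n⁻¹ * a * n, ?_, by simp [mul_assoc]⟩
    · rintro _ ⟨l, hl, rfl⟩
      refine Subgroup.mem_centralizer_singleton_iff.2 ?_
      show n * l * n⁻¹ * (n * v * n⁻¹) = n * v * n⁻¹ * (n * l * n⁻¹)
      have hlv : l * v = v * l := Subgroup.mem_centralizer_singleton_iff.1 (lift_le v L' hl)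
      calc n * l * n⁻¹ * (n * v * n⁻¹) = n * (l * v) * n⁻¹ := by group
        _ = _ := by rw [hlv]; group
    · have := b'.A_le_lift hc (normalizer_conj (inv_mem hnN) ha)
      simpa using this
  have hKn : cj n K = K := by
    have e1 : K = lift w L'' :=
      Subgroup.eq_of_le_of_card_ge h1 (by rw [b'.card_lift hc hW, b''.card_lift hc hW])
    exact Subgroup.eq_of_le_of_card_ge (h2.trans e1.ge) (by rw [card_cj])
  -- hence centralised
  have hnK : ∀ l ∈ K, n * l = l * n := by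
    have hbij : Function.Bijective (lmap v L') := by
      refine ⟨(injective_iff_map_eq_one _).2 fun g hg => Subtype.ext ?_, lmap_surjective v L'⟩
      exact congrArg (fun x : ↥(Subgroup.centralizer ({v} : Set G)) => (x : G))
        ((injective_iff_map_eq_one _).1 (b'.cmap_injective hc hW) _ (b'.cmap_eq_one_of_lmap hg))
    set e₀ := MulEquiv.ofBijective (lmap v L') hbij
    set nn : ↥(Subgroup.normalizer (K : Set G)) := ⟨n, mem_normalizer_of_cj_le hKn.le⟩
    set c : MulAut ↥K := K.normalizerMonoidHom nn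
    set φ := MulAut.congr e₀ c with hφdef
    have hφ : ∀ g : ↥K, φ (e₀ g) = e₀ (c g) := fun g => by
      rw [hφdef]
      show e₀ (c (e₀.symm (e₀ g))) = e₀ (c g)
      rw [MulEquiv.symm_apply_apply]
    have hfixZ : ∀ z ∈ Z', φ z = z := by
      intro z hz
      obtain ⟨f, hf, rfl⟩ := b'.comp.exists_F hz
      rw [show lmap v L' f = e₀ f from rfl, hφ]
      exact congrArg e₀ (Subtype.ext (conj_eq_of_commute
        (Subgroup.mem_centralizer_iff.1 hnA _ hf.1).symm))
    obtain ⟨x, hx, hφx⟩ := b'.comp.loc.aut_fix φ hfixZ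
    have hn' : Odd (orderOf n) := by
      rw [show n = ((⟨n, hnN⟩ : ↥(Subgroup.normalizer (A : Set G))) : G) from rfl, Subgroup.orderOf_coe,
        ← orderOf_injective (nx A) hinj ⟨n, hnN⟩, hn.eq]
      exact e.odd.of_dvd_nat (Subgroup.orderOf_dvd_natCard _ hk)
    obtain ⟨i, hi⟩ := b'.comp.loc.isPGroup_P ⟨x, hx⟩
    have hφ1 : φ = 1 := by
      refine orderOf_eq_one_iff.1 (Nat.eq_one_of_dvd_coprimes
        ((Nat.coprime_two_left.2 hn').pow_left i) (orderOf_dvd_of_pow_eq_one ?_) ?_)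
      · rw [hφx, ← map_pow, show x ^ 2 ^ i = 1 from congrArg Subtype.val hi, map_one]
      · refine (orderOf_map_dvd (MulAut.congr e₀).toMonoidHom c).trans ?_
        refine (orderOf_map_dvd K.normalizerMonoidHom nn).trans ?_
        rw [← Subgroup.orderOf_coe]
    intro l hl
    refine commute_of_conj_eq ?_
    have := e₀.injective ((hφ ⟨l, hl⟩).symm.trans (by rw [hφ1]; rfl))
    exact congrArg (fun x : ↥K => (x : G)) this
  -- `R ∩ L` is a Sylow subgroup of the centraliser of `n`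
  set P₀ := R ⊓ lift u L with hP₀
  have hn1 : n ≠ 1 := fun h => hnotS fun s _ => by rw [h, one_mul, mul_one]
  have hP₀C : P₀ ≤ Subgroup.centralizer ({n} : Set G) := fun x hx =>
    Subgroup.mem_centralizer_singleton_iff.2 (hnL x hx.2).symm
  have hP₀A : ∀ x ∈ P₀, x * x = 1 → x ∈ A := by
    intro x hx hxx
    refine b.mem_A_of_proj ⟨x, hx.1⟩ hx.2 ((b.comp.loc.sq_iff _ (b.proj_mem _)).1 ?_)
    rw [← map_mul, show (⟨x, hx.1⟩ : R) * ⟨x, hx.1⟩ = 1 from Subtype.ext hxx, map_one]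
  have hTn : ∀ g ∈ (T : Subgroup G), g * n = n * g → g ∈ P₀ := by
    intro g hg hgn
    obtain ⟨a, ha, he⟩ := e.top.trans.maps g hg
    have hs := normalizer_conj hn.normS b.self_mem_sPart
    have hna : n * a * n⁻¹ = a :=
      conj_eq_of_commute (Subgroup.mem_centralizer_iff.1 hnA a ha).symm
    have hau : a * u = u * a :=
      Subgroup.mem_centralizer_singleton_iff.1 (hc.le_cent u b.bad b.mem ha)
    have hgR : g ∈ R := by
      refine e.top.fix_sPart (b.sPart.mul_mem (b.sPart.inv_mem b.self_mem_sPart) hs) (fun h => ?_) hg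
        (commute_of_conj_eq ?_)
      · exact b.ne_one (hsemi u b.self_mem_sPart (commute_of_conj_eq (inv_mul_eq_one.1 h).symm))
      · have h3 : g * (n * u * n⁻¹) * g⁻¹ = n * u * n⁻¹ * a := by
          calc g * (n * u * n⁻¹) * g⁻¹ = (g * n) * u * (g * n)⁻¹ := by group
            _ = n * (g * u * g⁻¹) * n⁻¹ := by rw [hgn]; group
            _ = n * u * n⁻¹ * (n * a * n⁻¹) := by rw [he]; group
            _ = _ := by rw [hna]
        have hsa : a * (n * u * n⁻¹) = n * u * n⁻¹ * a :=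
          Subgroup.mem_centralizer_iff.1 (b.R_cent hc hs.1) a ha
        calc g * (u⁻¹ * (n * u * n⁻¹)) * g⁻¹ = (g * u * g⁻¹)⁻¹ * (g * (n * u * n⁻¹) * g⁻¹) := by group
          _ = a⁻¹ * u⁻¹ * (n * u * n⁻¹ * a) := by rw [he, h3, mul_inv_rev]
          _ = (u * a)⁻¹ * (a * (n * u * n⁻¹)) := by rw [hsa, mul_inv_rev]
          _ = (a * u)⁻¹ * (a * (n * u * n⁻¹)) := by rw [hau]
          _ = u⁻¹ * (n * u * n⁻¹) := by group
    obtain ⟨x, hx, s, hs', rfl, -⟩ := b.exists_split hgR
    have hns : n * s = s * n := by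
      have h4 : x * (n * s) = x * (s * n) := by
        calc x * (n * s) = (n * x) * s := by rw [hnL x hx.2, mul_assoc]
          _ = x * s * n := by rw [mul_assoc, hgn]
          _ = _ := mul_assoc _ _ _
      exact mul_left_cancel h4
    rwa [hsemi s hs' hns, mul_one]
  have hTN : ∀ g ∈ Subgroup.normalizer (A : Set G), ∀ {i : ℕ}, g ^ 2 ^ i = 1 →
      g ∈ (T : Subgroup G) := by
    intro g hgN i hi
    obtain ⟨m, hm, hmT⟩ := hc.closed.exists_conj_mem hgN hi
    obtain ⟨d, hd, ed⟩ := e.tower.exists_conj_mem_T (nx A ⟨m⁻¹, inv_mem hm⟩) hmT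
    rw [← map_inv, ← map_mul, ← map_mul] at ed
    have h3 : m⁻¹ * (m * g * m⁻¹) * m⁻¹⁻¹ = d := congrArg Subtype.val (hinj ed)
    rw [show g = m⁻¹ * (m * g * m⁻¹) * m⁻¹⁻¹ by group, h3]
    exact hd
  have hP₀2 : IsPGroup 2 P₀ := b.comp.base.sylow.isPGroup.to_le inf_le_left
  obtain ⟨S', hS', hPS'⟩ := CosetGraph.SylowIn.IsSylowIn.exists_le hP₀2 hP₀C
  have hPS : CosetGraph.SylowIn.IsSylowIn 2 P₀ (Subgroup.centralizer ({n} : Set G)) := by
    suffices h : S' ≤ P₀ by rwa [le_antisymm hPS' h]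
    by_contra hne
    haveI := hS'.isPGroup.isNilpotent
    obtain ⟨x, hx, hxP⟩ := SetLike.exists_of_lt (Group.normalizerCondition_of_isNilpotent
      (P₀.subgroupOf S') (lt_top_iff_ne_top.2 fun h => hne (Subgroup.subgroupOf_eq_top.1 h)))
    rw [← Subgroup.subgroupOf_normalizer_eq hPS'] at hx
    have hxA : (x : G) ∈ Subgroup.normalizer (A : Set G) := mem_normalizer_of_conj_mem fun a ha => by
      refine hP₀A _ (normalizer_conj hx ⟨b.A_le_R hc ha, b.A_le_lift hc ha⟩) ?_
      calc (x : G) * a * (x : G)⁻¹ * ((x : G) * a * (x : G)⁻¹) = x * (a * a) * (x : G)⁻¹ := by group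
        _ = 1 := by rw [hc.closed.sq ha]; group
    obtain ⟨i, hi⟩ := hS'.isPGroup x
    exact hxP (hTn x (hTN _ hxA (congrArg Subtype.val hi))
      (Subgroup.mem_centralizer_singleton_iff.1 (hS'.le x.2)))
  have hKu : lift u L = K := by
    refine (Subgroup.eq_of_le_of_card_ge (hc.le_of_common hW hn1
      (L₁ := lift u L) (L₂ := K) (fun l hl => Subgroup.mem_centralizer_singleton_iff.2 (hnL l hl).symm)
      (fun l hl => Subgroup.mem_centralizer_singleton_iff.2 (hnK l hl).symm)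
      (b.A_le_lift hc) (b'.A_le_lift hc) inf_le_right hPS hP₀A (b.card_lift hc hW) (b'.card_lift hc hW))
      (by rw [b.card_lift hc hW, b'.card_lift hc hW])).symm
  refine ha₀1 (b.A_inf_sPart hc ha₀ ?_)
  have hua : u * a₀ ∈ S := by
    refine (b.mem_sPart_iff hc hW).2 ⟨R.mul_mem b.self_mem_R (b.A_le_R hc ha₀), fun l hl => ?_⟩
    have hlu : Commute l u := Subgroup.mem_centralizer_singleton_iff.1 (lift_le u L hl)
    have hlv : Commute l v := Subgroup.mem_centralizer_singleton_iff.1 (lift_le v L' (show l ∈ K from hKu ▸ hl))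
    rw [← hev]
    exact ((hlv.mul_right hlu).mul_right hlv.inv_right).eq
  have := S.mul_mem (S.inv_mem b.self_mem_sPart) hua
  rwa [inv_mul_cancel_left] at this

end Endgame

end Cfsg.Agent.Lib.Thompson3Prime33
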