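import Cfsg.Agent.Lib.Thompson3Prime33.XLemma

/-!
# A strongly closed subgroup of a Sylow subgroup of an involution centraliser

`Loc x R F`: `R` is a Sylow `2`-subgroup of `C(x)` and `F` an elementary abelian subgroup of `R`
strongly closed in `R` with respect to `C(x)`.  The images in `C(x) / O(C(x))` satisfy the
hypotheses of the lemma on small groups with trivial odd core.

Owner: helper33.
-/

set_option autoImplicit false
set_option linter.style.haveILetI false
set_option linter.unusedSectionVars false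

namespace Cfsg.Agent.Lib.Thompson3Prime33

universe u

/-- Strong closure passes to quotients. -/
theorem SC.map {Y X : Type u} [Group Y] [Finite Y] [Group X] [Finite X] {R : Sylow 2 Y}
    {F : Subgroup Y} (hF : SC R F) (φ : Y →* X) (hφ : Function.Surjective φ) : SC (R.mapSurjective hφ) (F.map φ) := by
  haveI : Fact (Nat.Prime 2) := ⟨Nat.prime_two⟩
  refine ⟨PGroups.elemAb_mk ?_ ?_, ?_, ?_⟩
  · rintro _ ⟨a, ha, rfl⟩ _ ⟨b, hb, rfl⟩
    rw [← map_mul, ← map_mul, hF.comm ha hb]
  · rintro _ ⟨a, ha, rfl⟩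
    rw [← map_pow, hF.elem.2 a ha, map_one]
  · rw [Sylow.coe_mapSurjective]; exact Subgroup.map_mono hF.le
  rintro _ ⟨a, ha, rfl⟩ g hg
  obtain ⟨g, rfl⟩ := hφ g
  rw [Sylow.coe_mapSurjective] at hg
  obtain ⟨r, hr, hrg⟩ := hg
  set c := g * a * g⁻¹ with hc
  have hcr : c * r⁻¹ ∈ φ.ker := by
    rw [MonoidHom.mem_ker, map_mul, map_inv, hc, map_mul, map_mul, map_inv, hrg, mul_inv_cancel]
  set H := φ.ker ⊔ (R : Subgroup Y)
  have hcH : c ∈ H := by
    have := mul_mem ((le_sup_left : φ.ker ≤ H) hcr) ((le_sup_right : _ ≤ H) hr)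
    rwa [inv_mul_cancel_right] at this
  have hc2 : IsPGroup 2 (Subgroup.zpowers c) :=
    IsPGroup.of_card (p := 2) (n := (orderOf a).log 2) (by
      rw [Nat.card_zpowers, hc]
      have h1 : orderOf (g * a * g⁻¹) = orderOf a :=
        orderOf_injective (MulAut.conj g).toMonoidHom (MulAut.conj g).injective a
      rw [h1]
      rcases eq_or_ne a 1 with rfl | ha1
      · simp
      · rw [PGroups.elemAb_orderOf hF.elem ha ha1]; norm_num [Nat.log])
  obtain ⟨S, hS⟩ := (hc2.comap_subtype (K := H)).exists_le_sylow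
  obtain ⟨k, hk⟩ := MulAction.exists_smul_eq H S (R.subtype le_sup_right)
  have hk' : (k : Y) * c * (k : Y)⁻¹ ∈ (R : Subgroup Y) := by
    have h1 : MulAut.conj k (⟨c, hcH⟩ : H) ∈ ((k • S : Sylow 2 H) : Subgroup H) :=
      ⟨⟨c, hcH⟩, hS (Subgroup.mem_zpowers c), rfl⟩
    rw [hk, Sylow.coe_subtype, Subgroup.mem_subgroupOf] at h1
    exact h1
  obtain ⟨o, ho, r', hr', hor⟩ := Subgroup.mem_sup_of_normal_left.1 k.2
  have hoR : r'⁻¹ * o * r' * c * (r'⁻¹ * o * r')⁻¹ ∈ (R : Subgroup Y) := by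
    have h2 := mul_mem (mul_mem (inv_mem hr') hk') hr'
    rw [← hor] at h2
    simpa [mul_assoc] using h2
  set o' := r'⁻¹ * o * r'
  have ho' : φ o' = 1 := by simp [o', MonoidHom.mem_ker.1 ho]
  have h3 : o' * g * a * (o' * g)⁻¹ ∈ (R : Subgroup Y) := by simpa [hc, mul_assoc] using hoR
  refine ⟨_, hF.closed.2 a ha (o' * g) h3, ?_⟩
  simp [map_mul, map_inv, ho', mul_assoc]

variable {G : Type u} [Group G] [Finite G]

/-- The centraliser modulo its odd core. -/
abbrev CQ (x : G) : Type u :=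
  ↥(Subgroup.centralizer ({x} : Set G)) ⧸ Cfsg.pPrimeCore 2 ↥(Subgroup.centralizer ({x} : Set G))

/-- The quotient map. -/
abbrev cmap (x : G) : ↥(Subgroup.centralizer ({x} : Set G)) →* CQ x :=
  QuotientGroup.mk' (Cfsg.pPrimeCore 2 ↥(Subgroup.centralizer ({x} : Set G)))

/-- The image of a subgroup. -/
abbrev qimg (x : G) (H : Subgroup G) : Subgroup (CQ x) :=
  (H.subgroupOf (Subgroup.centralizer ({x} : Set G))).map (cmap x)

theorem cmap_surjective (x : G) : Function.Surjective (cmap x) := QuotientGroup.mk'_surjective _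

theorem cmap_eq_one {x : G} {g : ↥(Subgroup.centralizer ({x} : Set G))} :
    cmap x g = 1 ↔ (g : G) ∈ Cfsg.centralizerPPrimeCore 2 x := by
  rw [QuotientGroup.mk'_apply, QuotientGroup.eq_one_iff]
  exact ⟨fun h => ⟨g, h, rfl⟩, fun ⟨g', hg', e⟩ => Subtype.ext e ▸ hg'⟩

theorem odd_core (x : G) : Odd (Nat.card (Cfsg.centralizerPPrimeCore 2 x)) := by
  haveI : Fact (Nat.Prime 2) := ⟨Nat.prime_two⟩
  exact Nat.coprime_two_right.1 (by
    rw [Cfsg.centralizerPPrimeCore,
      Subgroup.card_map_of_injective (Subgroup.subtype_injective _)]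
    exact Cores.pPrimeCore_coprime 2)

theorem odd_ker_cmap (x : G) : Odd (Nat.card (cmap x).ker) := by
  haveI : Fact (Nat.Prime 2) := ⟨Nat.prime_two⟩
  rw [QuotientGroup.ker_mk']
  exact Nat.coprime_two_right.1 (Cores.pPrimeCore_coprime 2)

theorem eq_one_of_two_of_odd {U : Subgroup G} (hU : IsPGroup 2 U) {y : G} (hy : y ∈ U)
    {W : Subgroup G} (hW : Odd (Nat.card W)) (hyW : y ∈ W) : y = 1 := by
  obtain ⟨i, hi⟩ := hU ⟨y, hy⟩
  exact orderOf_eq_one_iff.1 (Nat.eq_one_of_dvd_coprimes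
    ((Nat.coprime_two_left.2 hW).pow_left i)
    (orderOf_dvd_of_pow_eq_one (congrArg Subtype.val hi)) (Subgroup.orderOf_dvd_natCard _ hyW))

/-- A strongly closed elementary abelian subgroup of a Sylow subgroup of `C(x)`. -/
structure Loc (x : G) (R F : Subgroup G) : Prop where
  inv : orderOf x = 2
  sylow : CosetGraph.SylowIn.IsSylowIn 2 R (Subgroup.centralizer ({x} : Set G))
  le : F ≤ R
  elem : Cfsg.IsElementaryAbelian 2 F
  closed : ∀ f ∈ F, ∀ g ∈ Subgroup.centralizer ({x} : Set G), g * f * g⁻¹ ∈ R → g * f * g⁻¹ ∈ F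

namespace Loc

variable {x : G} {R F : Subgroup G}

theorem ne_one (h : Loc x R F) : x ≠ 1 := fun e => by
  have := h.inv
  rw [e, orderOf_one] at this
  omega

theorem le_cent (h : Loc x R F) : F ≤ Subgroup.centralizer ({x} : Set G) := h.le.trans h.sylow.le

theorem commute (h : Loc x R F) {f : G} (hf : f ∈ F) : f * x = x * f :=
  Subgroup.mem_centralizer_singleton_iff.1 (h.le_cent hf)

theorem eq_of_cmap (h : Loc x R F) {a b : ↥(Subgroup.centralizer ({x} : Set G))} (ha : (a : G) ∈ R)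
    (hb : (b : G) ∈ R) (e : cmap x a = cmap x b) : a = b := by
  have h1 : cmap x (a⁻¹ * b) = 1 := by rw [map_mul, map_inv, e, inv_mul_cancel]
  have h2 := eq_one_of_two_of_odd h.sylow.isPGroup (mul_mem (inv_mem ha) hb) (odd_core x)
    (cmap_eq_one.1 h1)
  exact Subtype.ext (inv_mul_eq_one.1 h2)

theorem eq_one_of_cmap (h : Loc x R F) {a : ↥(Subgroup.centralizer ({x} : Set G))} (ha : (a : G) ∈ R)
    (e : cmap x a = 1) : a = 1 :=
  h.eq_of_cmap ha (b := 1) (one_mem R) (by rw [e, map_one])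

theorem sec (h : Loc x R F) (hh : Hyp G) : Sec G (CQ x) := hh.sec_centralizer h.ne_one

theorem exists_sc (h : Loc x R F) :
    ∃ Rb : Sylow 2 (CQ x), (Rb : Subgroup (CQ x)) = qimg x R ∧ SC Rb (qimg x F) := by
  haveI : Fact (Nat.Prime 2) := ⟨Nat.prime_two⟩
  obtain ⟨S, hS⟩ := h.sylow.exists_sylow
  have hS' : (S : Subgroup _) = R.subgroupOf (Subgroup.centralizer ({x} : Set G)) := by
    apply Subgroup.map_injective (Subgroup.subtype_injective _)
    rw [← hS, Subgroup.map_subgroupOf_eq_of_le h.sylow.le]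
  have hSC : SC S (F.subgroupOf (Subgroup.centralizer ({x} : Set G))) := by
    refine ⟨PGroups.elemAb_mk (fun a ha b hb => Subtype.ext ?_) fun a ha => Subtype.ext ?_, ?_, ?_⟩
    · exact PGroups.elemAb_comm h.elem ha hb
    · exact h.elem.2 a ha
    · rw [hS']; exact fun a ha => h.le ha
    · intro a ha g hg
      rw [hS'] at hg
      exact h.closed a ha g g.2 hg
  refine ⟨S.mapSurjective (cmap_surjective x), ?_, hSC.map _ (cmap_surjective x)⟩
  rw [Sylow.coe_mapSurjective, hS']

theorem card_qimg (h : Loc x R F) {H : Subgroup G} (hH : H ≤ R) :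
    Nat.card (qimg x H) = Nat.card H := by
  refine Eq.trans (Nat.card_congr (Equiv.ofBijective
    ((cmap x).subgroupMap (H.subgroupOf (Subgroup.centralizer ({x} : Set G))))
    ⟨?_, MonoidHom.subgroupMap_surjective _ _⟩)).symm
    (Nat.card_congr (Subgroup.subgroupOfEquivOfLe (hH.trans h.sylow.le)).toEquiv)
  intro a b e
  exact Subtype.ext (h.eq_of_cmap (hH a.2) (hH b.2) (congrArg Subtype.val e))

theorem mem_of_cmap_mem (h : Loc x R F) {H : Subgroup G} (hH : H ≤ R)
    {r : ↥(Subgroup.centralizer ({x} : Set G))} (hr : (r : G) ∈ R) (hm : cmap x r ∈ qimg x H) :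
    (r : G) ∈ H := by
  obtain ⟨a, ha, e⟩ := hm
  exact h.eq_of_cmap hr (hH ha) e.symm ▸ ha

/-- An element of `C(x)` normalising the image of `F` is corrected by the core to normalise `F`. -/
theorem exists_lift_normalizer (h : Loc x R F) {g : ↥(Subgroup.centralizer ({x} : Set G))}
    (hg : cmap x g ∈ Subgroup.normalizer (qimg x F : Set (CQ x))) :
    ∃ o : ↥(Subgroup.centralizer ({x} : Set G)), cmap x o = 1 ∧
      (o : G) * g ∈ Subgroup.normalizer (F : Set G) := by
  haveI : Fact (Nat.Prime 2) := ⟨Nat.prime_two⟩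
  set K := (qimg x F).comap (cmap x) with hK
  set F' := F.subgroupOf (Subgroup.centralizer ({x} : Set G)) with hF'
  have hFK : F' ≤ K := Subgroup.le_comap_map _ _
  have hS : CosetGraph.SylowIn.IsSylowIn 2 F' K := by
    refine ⟨hFK, ?_⟩
    have hdvd : Nat.card K = Nat.card (cmap x).ker * Nat.card F' := by
      rw [← Subgroup.card_mul_index ((cmap x).ker.subgroupOf K)]
      congr 1
      · exact Nat.card_congr (Subgroup.subgroupOfEquivOfLe (fun k hk => by
          rw [hK, Subgroup.mem_comap, MonoidHom.mem_ker.1 hk]; exact one_mem _)).toEquiv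
      · show (cmap x).ker.relIndex K = _
        rw [hK, ← MonoidHom.comap_bot, Subgroup.relIndex_comap,
          Subgroup.map_comap_eq_self_of_surjective (cmap_surjective x), Subgroup.relIndex_bot_left,
          h.card_qimg h.le, Nat.card_congr (Subgroup.subgroupOfEquivOfLe h.le_cent).toEquiv]
    obtain ⟨k, hk⟩ := IsPGroup.iff_card.1 ((PGroups.elemAb_isPGroup h.elem).of_equiv
      (Subgroup.subgroupOfEquivOfLe h.le_cent).symm)
    have h0 : (Nat.card (cmap x).ker).factorization 2 = 0 :=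
      Nat.factorization_eq_zero_of_not_dvd (Nat.odd_iff.1 (odd_ker_cmap x) |> fun e hd => by omega)
    rw [hdvd, hk, Nat.factorization_mul Nat.card_pos.ne' (pow_ne_zero _ two_ne_zero),
      Finsupp.add_apply, h0, zero_add, Nat.prime_two.factorization_pow, Finsupp.single_eq_same]
  have hgK : cj g K = K := by
    refine Subgroup.mem_normalizer_iff_map_conj_eq.1 (mem_normalizer_of_conj_mem fun k hk => ?_)
    rw [hK, Subgroup.mem_comap, map_mul, map_mul, map_inv]
    exact normalizer_conj hg hk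
  have hc := hS.conj g
  rw [show K.map (MulAut.conj g).toMonoidHom = K from hgK] at hc
  obtain ⟨k, hk, hke⟩ := hc.exists_conj hS
  obtain ⟨f, hf, hfk⟩ := hk
  refine ⟨f⁻¹ * k, by rw [map_mul, map_inv, hfk, inv_mul_cancel], ?_⟩
  refine mem_normalizer_of_conj_mem fun a ha => ?_
  have h1 : k * (g * ⟨a, h.le_cent ha⟩ * g⁻¹) * k⁻¹ ∈ F' :=
    hke ▸ ⟨_, ⟨⟨a, h.le_cent ha⟩, ha, rfl⟩, rfl⟩
  have h2 := mul_mem (mul_mem (inv_mem hf) h1) hf
  rw [Subgroup.mem_subgroupOf] at h2
  simpa [mul_assoc] using h2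

/-- `C(x)` is the product of the preimage of the layer and the normaliser of `F`. -/
theorem decomp (h : Loc x R F) (hh : Hyp G) (g : ↥(Subgroup.centralizer ({x} : Set G))) :
    ∃ e n : ↥(Subgroup.centralizer ({x} : Set G)), cmap x e ∈ Cfsg.layer (CQ x) ∧
      (n : G) ∈ Subgroup.normalizer (F : Set G) ∧ g = e * n := by
  obtain ⟨Rb, -, hsc⟩ := h.exists_sc
  obtain ⟨e, he, m, hm, hem⟩ := (h.sec hh).exists_layer_mul hsc (cmap x g)
  obtain ⟨e', rfl⟩ := cmap_surjective x e
  obtain ⟨m', rfl⟩ := cmap_surjective x m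
  obtain ⟨o, ho, hon⟩ := h.exists_lift_normalizer hm
  refine ⟨g * (o * m')⁻¹, o * m', ?_, hon, by group⟩
  rw [map_mul, map_inv, map_mul, ho, one_mul, hem, mul_inv_cancel_right]
  exact he

end Loc

end Cfsg.Agent.Lib.Thompson3Prime33
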