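import Cfsg.Agent.Lib.Thompson3Prime33.MonoFix

/-!
# An anchor when an effective component exists and the completion is trivial

`Mem X Z Q`: the properties of the preimage of an effective component used below; they are invariant
under conjugation.  The preimages of the components with non-central action of `A` are the conjugates
under `N(A)` of one of them, and pairwise they are equal or commute.

Owner: helper73 (piece P1 of the plan of helper33).
-/

set_option autoImplicit false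
set_option linter.style.haveILetI false
set_option linter.unusedSectionVars false
set_option linter.unusedVariables false

namespace Cfsg.Agent.Lib.Thompson3Prime33

universe u

variable {G : Type u} [Group G] [Finite G] {T : Sylow 2 G} {A : Subgroup G}

theorem cj_inv_cj (n : G) (E : Subgroup G) : cj n⁻¹ (cj n E) = E := by
  rw [cj_cj, inv_mul_cancel, cj, map_one]
  exact Subgroup.map_id E

/-- The properties of the preimage of an effective component. -/
structure Mem (X Z Q : Subgroup G) : Prop where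
  cent : X ≤ Subgroup.centralizer (Q : Set G)
  gen : X ≤ Subgroup.closure {w | ∃ g ∈ X, ∃ z ∈ Z, g * z * g⁻¹ = w}
  moves : ∃ g ∈ X, ∃ z ∈ Z, conjComm z g ≠ 1

theorem Mem.conj {X Z Q : Subgroup G} (mm : Mem X Z Q) (n : G) : Mem (cj n X) (cj n Z) (cj n Q) := by
  refine ⟨?_, ?_, ?_⟩
  · rintro _ ⟨x, hx, rfl⟩
    refine Subgroup.mem_centralizer_iff.2 ?_
    rintro _ ⟨c, hc, rfl⟩
    rw [← map_mul, ← map_mul, Subgroup.mem_centralizer_iff.1 (mm.cent hx) c hc]
  · rw [cj, Subgroup.map_le_iff_le_comap]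
    refine mm.gen.trans ((Subgroup.closure_le _).2 ?_)
    rintro _ ⟨g, hg, z, hz, rfl⟩
    refine Subgroup.subset_closure ⟨_, conj_mem_cj hg, _, conj_mem_cj hz, ?_⟩
    simp [mul_assoc]
  · obtain ⟨g, hg, z, hz, hne⟩ := mm.moves
    refine ⟨_, conj_mem_cj hg, _, conj_mem_cj hz, fun e => hne ?_⟩
    rw [← conj_eq_one_iff (a := n), ← e]
    simp only [conjComm]
    group

theorem Closed.core_eq_bot (h : Closed G T A) (hW : wcl A = ⊥) {a : G} (ha : a ∈ A) (ha1 : a ≠ 1) :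
    Cfsg.centralizerPPrimeCore 2 a = ⊥ :=
  le_bot_iff.1 (hW ▸ h.core_le_wcl ha ha1)

theorem Closed.cmap_inj (h : Closed G T A) (hW : wcl A = ⊥) {a : G} (ha : a ∈ A) (ha1 : a ≠ 1)
    {g k : ↥(Subgroup.centralizer ({a} : Set G))} (e : cmap a g = cmap a k) : g = k := by
  refine inv_mul_eq_one.1 (Subtype.ext (Subgroup.mem_bot.1 ?_))
  rw [← h.core_eq_bot hW ha ha1]
  exact cmap_eq_one.1 (by rw [map_mul, map_inv, e, inv_mul_cancel])

namespace CompData

variable {x : G} {R : Subgroup G} {L : Subgroup (CQ x)} {q : ℕ}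
  {Z : Subgroup (↥L ⧸ Subgroup.center ↥L)} {τ : ↥L ⧸ Subgroup.center ↥L}

theorem mem_of_trivial (d : CompData x R A L q Z τ) (h : Closed G T A) (hW : wcl A = ⊥) (hx : x ∈ A)
    (hx1 : x ≠ 1) : Mem (lift x L) (A ⊓ lift x L)
      (A ⊓ lift x (Subgroup.centralizer (L : Set (CQ x)))) := by
  refine ⟨?_, ?_, ?_⟩
  · intro g hg
    refine Subgroup.mem_centralizer_iff.2 fun c hc => ?_
    obtain ⟨hgC, hgL⟩ := mem_lift.1 hg
    obtain ⟨hcC, hcL⟩ := mem_lift.1 hc.2
    exact congrArg Subtype.val (h.cmap_inj hW hx hx1 (g := ⟨c, hcC⟩ * ⟨g, hgC⟩)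
      (k := ⟨g, hgC⟩ * ⟨c, hcC⟩) (by
        rw [map_mul, map_mul]; exact (Subgroup.mem_centralizer_iff.1 hcL _ hgL).symm))
  · set S := {w | ∃ g ∈ lift x L, ∃ z ∈ A ⊓ lift x L, g * z * g⁻¹ = w}
    set H := Subgroup.closure S with hH
    have hHX : H ≤ lift x L := (Subgroup.closure_le _).2 (by
      rintro _ ⟨g, hg, z, hz, rfl⟩
      exact mul_mem (mul_mem hg hz.2) (inv_mem hg))
    haveI : (H.subgroupOf (lift x L)).Normal := (Subgroup.normal_subgroupOf_iff_le_normalizer hHX).2 (by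
      rw [hH, Subgroup.le_normalizer_closure_iff]
      rintro k hk _ ⟨g, hg, z, hz, rfl⟩
      exact Subgroup.subset_closure ⟨k * g, mul_mem hk hg, z, hz, by group⟩)
    set K := (H.subgroupOf (lift x L)).map (lmap x L) with hK
    haveI : K.Normal := Subgroup.Normal.map inferInstance _ (lmap_surjective x L)
    haveI := d.loc.simple
    have hKtop : K = ⊤ := by
      refine (inferInstance : K.Normal).eq_bot_or_eq_top.resolve_left fun e => ?_
      obtain ⟨zb, hzb, hzb1⟩ : ∃ zb ∈ Z, zb ≠ 1 := by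
        refine Z.nontrivial_iff_exists_ne_one.1 (Finite.one_lt_card_iff_nontrivial.1 ?_)
        rw [d.loc.card_Z]
        have := d.loc.eight_le
        omega
      obtain ⟨f, hf, rfl⟩ := d.exists_F hzb
      refine hzb1 (Subgroup.mem_bot.1 (e ▸ ⟨f, ?_, rfl⟩))
      exact Subgroup.subset_closure ⟨1, one_mem _, f, ⟨hf, f.2⟩, by simp⟩
    intro g hg
    obtain ⟨k, hk, hke⟩ : lmap x L ⟨g, hg⟩ ∈ K := hKtop ▸ Subgroup.mem_top _
    have h1 := d.cmap_eq_one_of_lmap_one (d.center_bot h) (g := k⁻¹ * ⟨g, hg⟩)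
      (by rw [map_mul, map_inv, hke, inv_mul_cancel])
    have h2 := congrArg Subtype.val (h.cmap_inj hW hx hx1 (h1.trans (map_one _).symm))
    have h3 : ((k : G))⁻¹ * g = 1 := by simpa using h2
    rw [← inv_mul_eq_one.1 h3]
    exact hk
  · obtain ⟨z, hz, hz1⟩ :=
      (A ⊓ lift x L).bot_or_exists_ne_one.resolve_left fun e => by
        obtain ⟨zb, hzb, hzb1⟩ : ∃ zb ∈ Z, zb ≠ 1 := by
          refine Z.nontrivial_iff_exists_ne_one.1 (Finite.one_lt_card_iff_nontrivial.1 ?_)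
          rw [d.loc.card_Z]
          have := d.loc.eight_le
          omega
        obtain ⟨f, hf, rfl⟩ := d.exists_F hzb
        have hf1 : f = 1 := Subtype.ext (Subgroup.mem_bot.1 (e ▸ ⟨hf, f.2⟩))
        exact hzb1 (by rw [hf1, map_one])
    obtain ⟨g, hg, -, hne⟩ := d.exists_conjComm h hz hz1
    refine ⟨g, hg, z, hz, fun e => hne ?_⟩
    rw [e]
    exact one_mem _

/-- A group with the properties of the preimage of a component with the same `Z` lies in it. -/
theorem mem_le_lift (d : CompData x R A L q Z τ) (h : Closed G T A) (hx : x ∈ A) (hx1 : x ≠ 1)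
    (hTR : (T : Subgroup G) ⊓ Subgroup.centralizer ({x} : Set G) ≤ R) {X Z₀ Q₀ : Subgroup G}
    (mm : Mem X Z₀ Q₀) (m : Mon A (Closed.ra T A) Z₀ Q₀) (hZ : A ⊓ lift x L = Z₀) :
    X ≤ lift x L := by
  subst hZ
  have hQ := m.Q_eq_of_Z_eq (d.mon h hx hx1 hTR) h
  have hxQ : x ∈ Q₀ := hQ ▸ ⟨hx, d.mem_lift_cent_self⟩
  have hXC : X ≤ Subgroup.centralizer ({x} : Set G) := fun g hg =>
    Subgroup.mem_centralizer_singleton_iff.2 (Subgroup.mem_centralizer_iff.1 (mm.cent hg) x hxQ).symm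
  have hlay : X ≤ lift x (Cfsg.layer (CQ x)) := mm.gen.trans ((Subgroup.closure_le _).2 (by
    rintro _ ⟨g, hg, z, hz, rfl⟩
    obtain ⟨hzC, hzL⟩ := mem_lift.1 hz.2
    refine mem_lift.2 ⟨mul_mem (mul_mem (hXC hg) hzC) (inv_mem (hXC hg)), ?_⟩
    have := (Components.Layer.layer_normal (G := CQ x)).conj_mem _
      (Components.Layer.component_le_layer d.comp hzL) (cmap x ⟨g, hXC hg⟩)
    rwa [← map_inv, ← map_mul, ← map_mul] at this))
  refine mm.gen.trans ((Subgroup.closure_le _).2 ?_)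
  rintro _ ⟨g, hg, z, hz, rfl⟩
  obtain ⟨hzC, hzL⟩ := mem_lift.1 hz.2
  obtain ⟨hgC, hgl⟩ := mem_lift.1 (hlay hg)
  refine mem_lift.2 ⟨mul_mem (mul_mem hgC hzC) (inv_mem hgC), ?_⟩
  have := normalizer_conj (Components.Layer.layer_le_normalizer d.comp hgl) hzL
  rwa [← map_inv, ← map_mul, ← map_mul] at this

end CompData

/-- With trivial completion, `N` of the join of the component preimages is an anchor. -/
theorem Effective.anchor (he : Effective T A) (h : Closed G T A) (hW : wcl A = ⊥) :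
    ∃ M, Anchor T A M := by
  obtain ⟨a, ha, ha1, R₀, hTR₀, L₀, q₀, Zb₀, τ₀, d₀⟩ := he
  set X₀ := lift a L₀ with hX₀
  set Z₀ := A ⊓ lift a L₀ with hZ₀
  set Q₀ := A ⊓ lift a (Subgroup.centralizer (L₀ : Set (CQ a))) with hQ₀
  have m₀ : Mon A (Closed.ra T A) Z₀ Q₀ := d₀.mon h ha ha1 hTR₀
  have mm₀ : Mem X₀ Z₀ Q₀ := d₀.mem_of_trivial h hW ha ha1
  -- every component preimage is a conjugate of `X₀`
  have heq : ∀ {b : G} {R : Subgroup G} {L : Subgroup (CQ b)} {q : ℕ}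
      {Zb : Subgroup (↥L ⧸ Subgroup.center ↥L)} {τ : ↥L ⧸ Subgroup.center ↥L},
      CompData b R A L q Zb τ → b ∈ A → b ≠ 1 →
      (T : Subgroup G) ⊓ Subgroup.centralizer ({b} : Set G) ≤ R →
      ∀ n ∈ Subgroup.normalizer (A : Set G), A ⊓ lift b L = cj n Z₀ → lift b L = cj n X₀ := by
    intro b R L q Zb τ d hb hb1 hTR n hn hZ
    refine le_antisymm ?_ (d.mem_le_lift h hb hb1 hTR (mm₀.conj n) (m₀.conj h hn) hZ)
    have h1 := d₀.mem_le_lift h ha ha1 hTR₀ ((d.mem_of_trivial h hW hb hb1).conj n⁻¹)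
      ((d.mon h hb hb1 hTR).conj h (inv_mem hn)) (by rw [hZ, cj_inv_cj])
    intro x hx
    refine mem_cj.2 ?_
    have h2 := h1 (conj_mem_cj (g := n⁻¹) hx)
    rwa [inv_inv] at h2
  set E := sSup {Y : Subgroup G | ∃ n ∈ Subgroup.normalizer (A : Set G), Y = cj n X₀} with hE
  have hX₀E : X₀ ≤ E := le_sSup ⟨1, one_mem _, by rw [cj, map_one]; exact (Subgroup.map_id _).symm⟩
  have hNA : Subgroup.normalizer (A : Set G) ≤ Subgroup.normalizer (E : Set G) := by
    intro k hk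
    refine mem_normalizer_of_cj_le ?_
    rw [cj, Subgroup.map_le_iff_le_comap]
    refine sSup_le ?_
    rintro _ ⟨n, hn, rfl⟩
    rw [← Subgroup.map_le_iff_le_comap]
    exact le_sSup ⟨k * n, mul_mem hk hn, cj_cj k n X₀⟩
  have hC : ∀ b ∈ A, b ≠ 1 → Subgroup.centralizer ({b} : Set G) ≤ Subgroup.normalizer (E : Set G) := by
    intro b hb hb1 g hg
    obtain ⟨R, hR, hTR⟩ := h.exists_loc hb hb1
    set N' := (Subgroup.normalizer (E : Set G)).subgroupOf (Subgroup.centralizer ({b} : Set G))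
    have hlay : Cfsg.layer (CQ b) ≤ N'.map (cmap b) := by
      refine sSup_le fun L hL l hl => ?_
      obtain ⟨k, rfl⟩ := cmap_surjective b l
      refine ⟨k, ?_, rfl⟩
      rw [SetLike.mem_coe, Subgroup.mem_subgroupOf]
      by_cases hne : qimg b A ≤ Subgroup.centralizer (L : Set (CQ b))
      · refine hNA (Subgroup.centralizer_le_normalizer _ (Subgroup.mem_centralizer_iff.2 fun c hc => ?_))
        have hcC := h.le_centralizer_elem hb hc
        exact congrArg Subtype.val (h.cmap_inj hW hb hb1 (g := ⟨c, hcC⟩ * k) (k := k * ⟨c, hcC⟩) (by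
          rw [map_mul, map_mul]
          exact (Subgroup.mem_centralizer_iff.1 (hne ⟨⟨c, hcC⟩, hc, rfl⟩) _ hl).symm))
      · obtain ⟨q, Zb, τ, d⟩ := hR.exists_compData h.hyp hL hne
        obtain ⟨n, hn, hZ⟩ := m₀.exists_conj (d.mon h hb hb1 hTR) h
        have h1 : (k : G) ∈ E :=
          (le_sSup ⟨n, hn, heq d hb hb1 hTR n hn hZ⟩ : lift b L ≤ E) (mem_lift_coe.2 hl)
        exact Subgroup.le_normalizer h1
    obtain ⟨e, n, he, hn, hgn⟩ := hR.decomp h.hyp ⟨g, hg⟩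
    obtain ⟨e', he', hee⟩ := hlay he
    rw [h.cmap_inj hW hb hb1 hee] at he'
    rw [show g = (e : G) * n from congrArg Subtype.val hgn]
    exact mul_mem he' (hNA hn)
  -- `E` normalises `X₀`
  have hEN : E ≤ Subgroup.normalizer (X₀ : Set G) := by
    refine sSup_le ?_
    rintro _ ⟨n, hn, rfl⟩
    by_cases hZ : cj n Z₀ = Z₀
    · exact (d₀.mem_le_lift h ha ha1 hTR₀ (mm₀.conj n) (m₀.conj h hn) hZ.symm).trans
        Subgroup.le_normalizer
    have mY := m₀.conj h hn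
    obtain ⟨Z₃, Q₃, m₃, h30, h3Y⟩ := m₀.exists_third mY h
    obtain ⟨b, hb, hb1⟩ := Z₃.bot_or_exists_ne_one.resolve_left m₃.Z_ne_bot
    have hbA := m₃.Z_le hb
    have hbQ : b ∈ Q₀ := m₃.le_of_ne m₀ h h30 hb
    have hbQY : b ∈ cj n Q₀ := m₃.le_of_ne mY h h3Y hb
    have key : ∀ {X Z Q : Subgroup G}, Mem X Z Q → Mon A (Closed.ra T A) Z Q → b ∈ Q →
        ∃ L : Subgroup (CQ b), Cfsg.IsComponent L ∧ A ⊓ lift b L = Z ∧ X ≤ lift b L := by
      intro X Z Q mm m hbQ
      obtain ⟨g, hg, z, hz, hne⟩ := mm.moves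
      have hgC : g ∈ Subgroup.centralizer ({b} : Set G) :=
        Subgroup.mem_centralizer_singleton_iff.2
          (Subgroup.mem_centralizer_iff.1 (mm.cent hg) b hbQ).symm
      obtain ⟨R, L, q, Zb, τ, hTR, d, hZL⟩ := exists_comp_at h m hbA hb1 hz hgC (by
        rw [h.core_eq_bot hW hbA hb1, Subgroup.mem_bot]; exact hne)
      exact ⟨L, d.comp, hZL, d.mem_le_lift h hbA hb1 hTR mm m hZL⟩
    obtain ⟨L₁, hL₁, hZ₁, hX₁⟩ := key mm₀ m₀ hbQ
    obtain ⟨L₂, hL₂, hZ₂, hX₂⟩ := key (mm₀.conj n) mY hbQY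
    have hne : L₂ ≠ L₁ := fun e => hZ (by rw [← hZ₂, ← hZ₁, e])
    intro y hy
    refine Subgroup.centralizer_le_normalizer _ (Subgroup.mem_centralizer_iff.2 fun w hw => ?_)
    obtain ⟨hyC, hyL⟩ := mem_lift.1 (hX₂ hy)
    obtain ⟨hwC, hwL⟩ := mem_lift.1 (hX₁ hw)
    exact congrArg Subtype.val (h.cmap_inj hW hbA hb1 (g := ⟨w, hwC⟩ * ⟨y, hyC⟩)
      (k := ⟨y, hyC⟩ * ⟨w, hwC⟩) (by
        rw [map_mul, map_mul]
        exact Subgroup.mem_centralizer_iff.1
          (Components.Component.le_centralizer_of_ne hL₂ hL₁ hne hyL) _ hwL))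
  have hX₀bot : X₀ ≠ ⊥ := by
    intro e
    obtain ⟨g, hg, z, hz, hne⟩ := mm₀.moves
    refine hne ?_
    have hg' : g ∈ (⊥ : Subgroup G) := e ▸ hg
    rw [Subgroup.mem_bot.1 hg']
    simp [conjComm]
  have hX₀top : X₀ ≠ ⊤ := fun e =>
    h.hyp.centralizer_ne_top ha1 (top_le_iff.1 (e ▸ lift_le a L₀))
  refine ⟨Subgroup.normalizer (E : Set G), h, ?_, hNA, hC⟩
  refine h.hyp.normalizer_ne_top (fun e => hX₀bot (le_bot_iff.1 (e ▸ hX₀E))) fun e => ?_
  exact h.hyp.normalizer_ne_top hX₀bot hX₀top (top_le_iff.1 (e ▸ hEN))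

end Cfsg.Agent.Lib.Thompson3Prime33
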