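import Cfsg.Agent.Lib.Thompson3Prime33.Anchor

/-!
# A `2`-element of `N(A)` fixing the part of `A` in a component centralises it

Owner: helper73 (piece P1 of the plan of helper33).
-/

set_option autoImplicit false
set_option linter.style.haveILetI false
set_option linter.unusedSectionVars false
set_option linter.unusedVariables false

namespace Cfsg.Agent.Lib.Thompson3Prime33

universe u

variable {G : Type u} [Group G] [Finite G] {T : Sylow 2 G} {A : Subgroup G}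

/-- The commutator of `z` and `g z g⁻¹`. -/
abbrev conjComm (z g : G) : G := z * (g * z * g⁻¹) * z⁻¹ * (g * z * g⁻¹)⁻¹

/-- At an element of `A` whose centraliser moves `z ∈ Z` to an element not commuting with it modulo
the core there is a component with the same `Z`. -/
theorem exists_comp_at (h : Closed G T A) {Z Q : Subgroup G} (m : Mon A (Closed.ra T A) Z Q)
    {b : G} (hb : b ∈ A) (hb1 : b ≠ 1) {z g : G} (hz : z ∈ Z)
    (hg : g ∈ Subgroup.centralizer ({b} : Set G))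
    (hne : conjComm z g ∉ Cfsg.centralizerPPrimeCore 2 b) :
    ∃ (R : Subgroup G) (L : Subgroup (CQ b)) (q : ℕ) (Zb : Subgroup (↥L ⧸ Subgroup.center ↥L))
      (τ : ↥L ⧸ Subgroup.center ↥L),
      (T : Subgroup G) ⊓ Subgroup.centralizer ({b} : Set G) ≤ R ∧ CompData b R A L q Zb τ ∧
        A ⊓ lift b L = Z := by
  obtain ⟨R, hR, hTR⟩ := h.exists_loc hb hb1
  by_contra hc
  have hzA := m.Z_le hz
  have hzC := h.le_centralizer_elem hb hzA
  set zC : ↥(Subgroup.centralizer ({b} : Set G)) := ⟨z, hzC⟩ with hzC'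
  have hcent : Cfsg.layer (CQ b) ≤ Subgroup.centralizer ({cmap b zC} : Set (CQ b)) := by
    refine sSup_le fun L hL => ?_
    have h1 : cmap b zC ∈ Subgroup.centralizer (L : Set (CQ b)) := by
      by_cases hne' : qimg b A ≤ Subgroup.centralizer (L : Set (CQ b))
      · exact hne' ⟨zC, hzA, rfl⟩
      obtain ⟨q, Zb, τ, d⟩ := hR.exists_compData h.hyp hL hne'
      by_cases hZ : Z = A ⊓ lift b L
      · exact absurd ⟨R, L, q, Zb, τ, hTR, d, hZ.symm⟩ hc
      · exact (mem_lift_coe (g := zC)).1 (m.le_of_ne (d.mon h hb hb1 hTR) h hZ hz).2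
    intro l hl
    exact Subgroup.mem_centralizer_singleton_iff.2 (Subgroup.mem_centralizer_iff.1 h1 l hl)
  obtain ⟨e, n, he, hn, hgn⟩ := hR.decomp h.hyp ⟨g, hg⟩
  apply hne
  set gC : ↥(Subgroup.centralizer ({b} : Set G)) := ⟨g, hg⟩
  set y := (cmap b n)⁻¹ * cmap b e * cmap b n with hy
  have hy' : y ∈ Cfsg.layer (CQ b) := by
    have := (Components.Layer.layer_normal (G := CQ b)).conj_mem _ he (cmap b n)⁻¹
    rwa [inv_inv] at this
  have hyz := Subgroup.mem_centralizer_singleton_iff.1 (hcent hy')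
  have hcj : cmap b (gC * zC * gC⁻¹) = cmap b (n * zC * n⁻¹) := by
    rw [hgn]
    simp only [map_mul, map_inv]
    calc cmap b e * cmap b n * cmap b zC * (cmap b e * cmap b n)⁻¹
        = cmap b n * (y * cmap b zC) * y⁻¹ * (cmap b n)⁻¹ := by rw [hy]; group
      _ = cmap b n * (cmap b zC * y) * y⁻¹ * (cmap b n)⁻¹ := by rw [hyz]
      _ = _ := by group
  have hcomm : zC * (n * zC * n⁻¹) = n * zC * n⁻¹ * zC :=
    Subtype.ext (h.comm hzA (normalizer_conj hn hzA))
  have h1 : cmap b (zC * (gC * zC * gC⁻¹) * zC⁻¹ * (gC * zC * gC⁻¹)⁻¹) = 1 := by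
    rw [map_mul, map_mul, map_mul, map_inv, map_inv, hcj, ← map_mul, hcomm, map_mul]
    group
  exact cmap_eq_one.1 h1

namespace CompData

variable {x : G} {R : Subgroup G} {L : Subgroup (CQ x)} {q : ℕ}
  {Z : Subgroup (↥L ⧸ Subgroup.center ↥L)} {τ : ↥L ⧸ Subgroup.center ↥L}

theorem lmap_ne_one (d : CompData x R A L q Z τ) (h : Closed G T A) {z : G} (hz : z ∈ A)
    (hzL : z ∈ lift x L) (hz1 : z ≠ 1) : lmap x L ⟨z, hzL⟩ ≠ 1 := fun e =>
  hz1 (congrArg Subtype.val (d.lmap_injOn (d.center_bot h) (g := ⟨z, hzL⟩) (g' := 1) (d.base.le hz)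
    R.one_mem (e.trans (map_one _).symm)))

/-- An element of the component centralising `Q` moves `z` to an element not commuting with it. -/
theorem exists_conjComm (d : CompData x R A L q Z τ) (h : Closed G T A) {z : G}
    (hz : z ∈ A ⊓ lift x L) (hz1 : z ≠ 1) :
    ∃ g ∈ lift x L, g ∈ Subgroup.centralizer
        ((A ⊓ lift x (Subgroup.centralizer (L : Set (CQ x))) : Subgroup G) : Set G) ∧
      conjComm z g ∉ Cfsg.centralizerPPrimeCore 2 x := by
  set z' : ↥(lift x L) := ⟨z, hz.2⟩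
  set zb := lmap x L z' with hzb
  have hzb1 : zb ≠ 1 := d.lmap_ne_one h hz.1 hz.2 hz1
  have hzbZ : zb ∈ Z := d.lmap_mem_Z (g := z') hz.1
  obtain ⟨p, hp⟩ : ∃ p, zb * (p * zb * p⁻¹) ≠ p * zb * p⁻¹ * zb := by
    by_contra hc
    push Not at hc
    have hall : Subgroup.normalizer (pbar (qimg x R) L : Set (↥L ⧸ Subgroup.center ↥L)) = ⊤ := by
      refine eq_top_iff.2 fun p _ => d.loc.borel_of_fuse p zb hzbZ hzb1 ?_
      refine d.loc.mem_Z_iff.2 ⟨?_, ?_⟩
      · rw [← d.loc.centralizer_eq zb hzbZ hzb1]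
        exact Subgroup.mem_centralizer_singleton_iff.2 (hc p).symm
      · rw [show p * zb * p⁻¹ * (p * zb * p⁻¹) = p * (zb * zb) * p⁻¹ by group,
          (d.loc.sq_iff zb (d.loc.Z_le hzbZ)).2 hzbZ, mul_one, mul_inv_cancel]
    have h1 := d.loc.borel_index
    rw [hall, Subgroup.index_top] at h1
    have := d.loc.eight_le
    nlinarith
  obtain ⟨k, rfl⟩ := lmap_surjective x L p
  set Q := A ⊓ lift x (Subgroup.centralizer (L : Set (CQ x))) with hQ
  have hQC : Q ≤ Subgroup.centralizer ({x} : Set G) := inf_le_right.trans (lift_le x _)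
  obtain ⟨o, ho, hok⟩ := exists_fix (E := Q) (h.isPGroup.to_le inf_le_left) hQC
    (g := ⟨k, lift_le x L k.2⟩) fun e he => by
      have h1 := (mem_lift_coe (g := ⟨e, hQC he⟩)).1 he.2
      exact Subgroup.mem_centralizer_iff.1 h1 _ (cmap_liftIncl_mem k)
  have hoL : o ∈ lift x L := core_le_lift x L ho
  refine ⟨o * k, mul_mem hoL k.2, hok, fun hcore => hp ?_⟩
  set o' : ↥(lift x L) := ⟨o, hoL⟩
  have ho' : lmap x L o' = 1 := by
    rw [lmap_eq_sig o' 1 (cmap_eq_one.2 ho), map_one]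
  have h1 : lmap x L (z' * (o' * k * z' * (o' * k)⁻¹) * z'⁻¹ * (o' * k * z' * (o' * k)⁻¹)⁻¹) = 1 := by
    refine (lmap_eq_sig _ 1 ?_).trans (map_one _)
    exact cmap_eq_one.2 hcore
  simp only [map_mul, map_inv, ho', one_mul] at h1
  exact mul_inv_eq_iff_eq_mul.1 (mul_inv_eq_one.1 h1)

/-- A `2`-element of `N(A)` fixing `A ∩ L` centralises it. -/
theorem fix_Z (d : CompData x R A L q Z τ) (h : Closed G T A) (hx : x ∈ A) (hx1 : x ≠ 1)
    (hTR : (T : Subgroup G) ⊓ Subgroup.centralizer ({x} : Set G) ≤ R) {u : G}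
    (hu : u ∈ Subgroup.normalizer (A : Set G)) {i : ℕ} (hu2 : u ^ 2 ^ i = 1)
    (hfix : cj u (A ⊓ lift x L) = A ⊓ lift x L) {z : G} (hz : z ∈ A ⊓ lift x L) :
    u * z * u⁻¹ = z := by
  rcases eq_or_ne z 1 with rfl | hz1
  · group
  have m := d.mon h hx hx1 hTR
  set Z₀ := A ⊓ lift x L
  set Q₀ := A ⊓ lift x (Subgroup.centralizer (L : Set (CQ x)))
  have hQu : cj u Q₀ = Q₀ :=
    Mon.Q_eq_of_Z_eq (Z := Z₀) (Q := cj u Q₀) (by simpa [hfix] using m.conj h hu) m h
  obtain ⟨b, hbQ, hb1, hbu⟩ := exists_fixed (A := Q₀) (K := Subgroup.zpowers u)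
    (PGroups.elemAb_mono h.elem inf_le_left) m.Q_ne_bot
    (Subgroup.zpowers_le.2 (mem_normalizer_of_cj_le hQu.le)) fun k hk => by
      obtain ⟨j, rfl⟩ := Subgroup.mem_zpowers_iff.1 hk
      refine ⟨i, fun a _ => ?_⟩
      rw [← zpow_natCast, ← zpow_mul, mul_comm, zpow_mul, zpow_natCast, hu2, one_zpow, one_mul,
        mul_one]
  have hbA : b ∈ A := hbQ.1
  obtain ⟨g, hgL, hgQ, hg⟩ := d.exists_conjComm h hz hz1
  have hgb : g ∈ Subgroup.centralizer ({b} : Set G) :=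
    Subgroup.mem_centralizer_singleton_iff.2 (Subgroup.mem_centralizer_iff.1 hgQ b hbQ).symm
  have hgx := lift_le x L hgL
  have hzx := h.le_centralizer_elem hx hz.1
  have hne : conjComm z g ∉ Cfsg.centralizerPPrimeCore 2 b := by
    intro hc
    refine hg (h.hyp.balance (h.order_two hbA hb1) (h.order_two hx hx1) (h.comm hbA hx)
      ⟨hc, ?_⟩)
    set C := Subgroup.centralizer ({x} : Set G)
    have h1 : g * z * g⁻¹ ∈ C := C.mul_mem (C.mul_mem hgx hzx) (C.inv_mem hgx)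
    exact C.mul_mem (C.mul_mem (C.mul_mem hzx h1) (C.inv_mem hzx)) (C.inv_mem h1)
  obtain ⟨R', L', q', Z', τ', hTR', d', hZ⟩ := exists_comp_at h m hbA hb1 hz hgb hne
  have huC : u ∈ Subgroup.centralizer ({b} : Set G) :=
    Subgroup.mem_centralizer_singleton_iff.2 (commute_of_conj_eq (hbu u (Subgroup.mem_zpowers u)))
  set uC : ↥(Subgroup.centralizer ({b} : Set G)) := ⟨u, huC⟩
  have hmem : ∀ w ∈ Z₀, w ∈ lift b L' := fun w hw => (hZ.ge hw).2
  have hconj : ∀ w ∈ Z₀, u * w * u⁻¹ ∈ Z₀ := fun w hw => hfix.le (conj_mem_cj hw)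
  have hN : cmap b uC ∈ Subgroup.normalizer (L' : Set (CQ b)) := by
    by_contra hn
    have hne' : cj (cmap b uC) L' ≠ L' := fun e => hn (mem_normalizer_of_cj_le e.le)
    set w := u * z * u⁻¹ with hw
    have hwZ := hconj z hz
    apply d'.lmap_ne_one h hwZ.1 (hmem w hwZ) (fun e => hz1 (conj_eq_one_iff.1 e))
    rw [lmap_apply, QuotientGroup.mk'_apply, QuotientGroup.eq_one_iff]
    refine Subgroup.mem_center_iff.2 fun v => Subtype.ext ?_
    have h1 : (toL b L' ⟨w, hmem w hwZ⟩ : CQ b) ∈ cj (cmap b uC) L' := by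
      refine ⟨cmap b ⟨z, lift_le b L' (hmem z hz)⟩, cmap_liftIncl_mem ⟨z, hmem z hz⟩, ?_⟩
      rw [coe_toL, MulEquiv.coe_toMonoidHom, MulAut.conj_apply, ← map_inv, ← map_mul, ← map_mul]
      exact congrArg (cmap b) (Subtype.ext rfl)
    exact (Subgroup.mem_centralizer_iff.1 (Components.Component.le_centralizer_of_ne d'.comp
      (Components.Component.conj d'.comp _) hne'.symm v.2) _ h1).symm
  set φ := autOn L' ⟨cmap b uC, hN⟩ with hφ
  have hφ2 : φ ^ 2 ^ i = 1 := by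
    rw [hφ, ← map_pow, show (⟨cmap b uC, hN⟩ : ↥(Subgroup.normalizer (L' : Set (CQ b)))) ^ 2 ^ i = 1
      from Subtype.ext (by
        show cmap b uC ^ 2 ^ i = 1
        rw [← map_pow, show uC ^ 2 ^ i = 1 from Subtype.ext hu2, map_one]), map_one]
  obtain ⟨p, hp⟩ := d'.loc.aut_two φ ⟨i, hφ2⟩
  set z' : ↥(lift b L') := ⟨z, hmem z hz⟩
  set w' : ↥(lift b L') := ⟨u * z * u⁻¹, hmem _ (hconj z hz)⟩
  have hact : p * lmap b L' z' * p⁻¹ = lmap b L' w' := by
    rw [← MulAut.conj_apply, ← hp, hφ, lmap_apply, lmap_apply, autOn_apply]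
    refine congrArg (sig L') (Subtype.ext ?_)
    show cmap b uC * (toL b L' z' : CQ b) * (cmap b uC)⁻¹ = toL b L' w'
    rw [coe_toL, coe_toL, ← map_inv, ← map_mul, ← map_mul]
    exact congrArg (cmap b) (Subtype.ext rfl)
  have hzZ := d'.lmap_mem_Z (g := z') hz.1
  have hpN := d'.loc.borel_of_fuse p _ hzZ (d'.lmap_ne_one h hz.1 (hmem z hz) hz1)
    (hact ▸ d'.lmap_mem_Z (g := w') (hconj z hz).1)
  have hp2 : p ^ 2 ^ i = 1 := d'.loc.conj_injective (by rw [map_pow, ← hp, hφ2, map_one])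
  have hpP := d'.loc.mem_P_of_pow hpN hp2
  have e1 : lmap b L' w' = lmap b L' z' := by
    rw [← hact, ← d'.loc.central _ hzZ p hpP, mul_inv_cancel_right]
  exact congrArg Subtype.val (d'.lmap_injOn (d'.center_bot h) (g := w') (g' := z')
    (d'.base.le (hconj z hz).1) (d'.base.le hz.1) e1)

end CompData

/-- A `2`-element of `N(A)` fixing some `Z` centralises it. -/
theorem Effective.fix_mon (hs : Effective T A) (h : Closed G T A) {Z Q : Subgroup G}
    (m : Mon A (Closed.ra T A) Z Q) {u : G} (hu : u ∈ Subgroup.normalizer (A : Set G)) {i : ℕ}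
    (hu2 : u ^ 2 ^ i = 1) (hfix : cj u Z = Z) {z : G} (hz : z ∈ Z) : u * z * u⁻¹ = z := by
  obtain ⟨a, ha, ha1, R, hTR, L, q, Zb, τ, d⟩ := hs
  obtain ⟨n, hn, rfl⟩ := (d.mon h ha ha1 hTR).exists_conj m h
  have h1 := d.fix_Z h ha ha1 hTR (u := n⁻¹ * u * n) (mul_mem (mul_mem (inv_mem hn) hu) hn) (i := i)
    (by rw [show n⁻¹ * u * n = n⁻¹ * u * n⁻¹⁻¹ by rw [inv_inv], conj_pow, hu2]; group)
    (by rw [← cj_cj, ← cj_cj, hfix, cj_cj, inv_mul_cancel, cj, map_one]; exact Subgroup.map_id _)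
    (z := n⁻¹ * z * n) (mem_cj.1 hz)
  have h2 := congrArg (fun w => n * w * n⁻¹) h1
  simpa [mul_assoc] using h2

end Cfsg.Agent.Lib.Thompson3Prime33
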