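import Cfsg.Agent.Lib.Thompson3Prime33.TopData

/-!
# The normaliser of `A` modulo its odd core

`T` maps injectively onto a Sylow subgroup of `N(A) / O(N(A))`, which has no components; so its
`2`-core contains its centraliser.

Owner: helper33.
-/

set_option autoImplicit false
set_option linter.style.haveILetI false
set_option linter.unusedSectionVars false
set_option linter.unusedVariables false

namespace Cfsg.Agent.Lib.Thompson3Prime33

universe u

variable {G : Type u} [Group G] [Finite G] {T : Sylow 2 G} {A M : Subgroup G} {q : ℕ}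

/-- `N(A) / O(N(A))`. -/
abbrev NX (A : Subgroup G) : Type u :=
  ↥(Subgroup.normalizer (A : Set G)) ⧸ Cfsg.pPrimeCore 2 ↥(Subgroup.normalizer (A : Set G))

/-- The map of `N(A)` onto `N(A) / O(N(A))`. -/
abbrev nx (A : Subgroup G) : ↥(Subgroup.normalizer (A : Set G)) →* NX A :=
  QuotientGroup.mk' _

/-- The odd core of `N(A)` in `G`. -/
def nO (A : Subgroup G) : Subgroup G :=
  (Cfsg.pPrimeCore 2 ↥(Subgroup.normalizer (A : Set G))).map
    (Subgroup.normalizer (A : Set G)).subtype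

/-- The image in `N(A) / O(N(A))` of a subgroup. -/
abbrev nimg (A : Subgroup G) (H : Subgroup G) : Subgroup (NX A) :=
  (H.subgroupOf (Subgroup.normalizer (A : Set G))).map (nx A)

theorem nO_le (A : Subgroup G) : nO A ≤ Subgroup.normalizer (A : Set G) :=
  Subgroup.map_subtype_le _

theorem nx_eq_one {g : ↥(Subgroup.normalizer (A : Set G))} : nx A g = 1 ↔ (g : G) ∈ nO A := by
  rw [QuotientGroup.mk'_apply, QuotientGroup.eq_one_iff]
  exact ⟨fun h => ⟨g, h, rfl⟩, fun ⟨k, hk, e⟩ => Subtype.ext e ▸ hk⟩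

theorem nx_eq_iff {g k : ↥(Subgroup.normalizer (A : Set G))} :
    nx A g = nx A k ↔ (g : G) * (k : G)⁻¹ ∈ nO A := by
  rw [← mul_inv_eq_one, ← map_inv, ← map_mul, nx_eq_one]
  rfl

theorem nx_surjective (A : Subgroup G) : Function.Surjective (nx A) :=
  QuotientGroup.mk'_surjective _

theorem odd_nO (A : Subgroup G) : Odd (Nat.card (nO A)) := by
  rw [nO, Subgroup.card_map_of_injective (Subgroup.subtype_injective _)]
  exact Nat.coprime_two_right.1 (Cores.pPrimeCore_coprime 2)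

theorem nO_conj {n o : G} (hn : n ∈ Subgroup.normalizer (A : Set G)) (ho : o ∈ nO A) :
    n * o * n⁻¹ ∈ nO A := by
  obtain ⟨k, hk, rfl⟩ := ho
  exact ⟨⟨n, hn⟩ * k * ⟨n, hn⟩⁻¹,
    (inferInstance : (Cfsg.pPrimeCore 2 ↥(Subgroup.normalizer (A : Set G))).Normal).conj_mem k hk _, rfl⟩

theorem mem_nimg {H : Subgroup G} (hH : H ≤ Subgroup.normalizer (A : Set G)) {g : G} (hg : g ∈ H) :
    nx A ⟨g, hH hg⟩ ∈ nimg A H := ⟨⟨g, hH hg⟩, hg, rfl⟩

/-- An element of `N(A)` centralising `A` modulo the odd core centralises it. -/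
theorem cent_of_nx (h : Closed G T A) {g : ↥(Subgroup.normalizer (A : Set G))}
    (hg : nx A g ∈ Subgroup.centralizer (nimg A A : Set (NX A))) :
    (g : G) ∈ Subgroup.centralizer (A : Set G) := by
  refine Subgroup.mem_centralizer_iff.2 fun a ha => ?_
  have h1 := Subgroup.mem_centralizer_iff.1 hg _ (mem_nimg Subgroup.le_normalizer ha)
  have h2 := normalizer_conj g.2 ha
  have h3 : nx A ⟨(g : G) * a * (g : G)⁻¹, Subgroup.le_normalizer h2⟩ =
      nx A ⟨a, Subgroup.le_normalizer ha⟩ := by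
    rw [show (⟨(g : G) * a * (g : G)⁻¹, Subgroup.le_normalizer h2⟩ : ↥(Subgroup.normalizer (A : Set G))) =
      g * ⟨a, Subgroup.le_normalizer ha⟩ * g⁻¹ from rfl, map_mul, map_mul, map_inv, ← h1,
      mul_inv_cancel_right]
  refine (commute_of_conj_eq (mul_inv_eq_one.1 ?_)).symm
  exact eq_one_of_two_of_odd h.isPGroup (A.mul_mem h2 (A.inv_mem ha)) (odd_nO A) (nx_eq_iff.1 h3)

namespace Counted

theorem nO_le_cent (hc : Counted T A M q) : nO A ≤ Subgroup.centralizer (A : Set G) := by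
  intro o ho
  refine Subgroup.mem_centralizer_iff.2 fun a ha => ?_
  have h1 : o * a * o⁻¹ * a⁻¹ ∈ nO A := by
    rw [show o * a * o⁻¹ * a⁻¹ = o * (a * o⁻¹ * a⁻¹) by group]
    exact (nO A).mul_mem ho (nO_conj (Subgroup.le_normalizer ha) ((nO A).inv_mem ho))
  exact (commute_of_conj_eq (mul_inv_eq_one.1 (eq_one_of_two_of_odd hc.closed.isPGroup
    (A.mul_mem (normalizer_conj (nO_le A ho) ha) (A.inv_mem ha)) (odd_nO A) h1))).symm

/-- The odd core of `N(A)` lies in the completion. -/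
theorem nO_le_wcl (hc : Counted T A M q) : nO A ≤ wcl A := by
  haveI : Fact (Nat.Prime 2) := ⟨Nat.prime_two⟩
  obtain ⟨a, ha, ha1⟩ := A.bot_or_exists_ne_one.resolve_left hc.closed.ne_bot
  refine le_trans ?_ (hc.closed.core_le_wcl ha ha1)
  set C := Subgroup.centralizer ({a} : Set G)
  have hOC : nO A ≤ C := fun o ho => Subgroup.mem_centralizer_singleton_iff.2
    (Subgroup.mem_centralizer_iff.1 (hc.nO_le_cent ho) a ha).symm
  set Q := ((nO A).subgroupOf C).map (cmap a) with hQ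
  haveI : Q.Normal := by
    refine ⟨fun x hx g => ?_⟩
    obtain ⟨o, ho, rfl⟩ := hx
    obtain ⟨g, rfl⟩ := cmap_surjective a g
    obtain ⟨w, hw, n, hnC, hn, e⟩ := hc.final.plain a ha ha1 g g.2
    have hge : cmap a g = cmap a ⟨n, hnC⟩ := by
      rw [show g = ⟨w, Balance.centralizerPPrimeCore_le a hw⟩ * ⟨n, hnC⟩ from Subtype.ext e,
        map_mul, cmap_eq_one.2 hw, one_mul]
    refine ⟨⟨n, hnC⟩ * o * ⟨n, hnC⟩⁻¹, nO_conj hn ho, ?_⟩
    rw [map_mul, map_mul, map_inv, hge]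
  have hQ1 : Q = ⊥ := by
    refine le_bot_iff.1 ((Cores.le_pPrimeCore (p := 2) ?_).trans
      ((hc.closed.hyp.sec_centralizer fun e => ha1 e).core).le)
    refine Nat.coprime_two_right.2 (Odd.of_dvd_nat ?_ (Subgroup.card_map_dvd _ _))
    rw [Nat.card_congr (Subgroup.subgroupOfEquivOfLe hOC).toEquiv]
    exact odd_nO A
  intro o ho
  refine (cmap_eq_one (g := ⟨o, hOC ho⟩)).1 (Subgroup.mem_bot.1 ?_)
  rw [← hQ1]
  exact ⟨⟨o, hOC ho⟩, ho, rfl⟩

theorem sec_nx (hc : Counted T A M q) : Sec G (NX A) := by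
  haveI : Fact (Nat.Prime 2) := ⟨Nat.prime_two⟩
  exact ⟨hc.closed.hyp, (small_subgroup hc.closed.ne_top).surj _ (nx_surjective A),
    Cores.pPrimeCore_quotient_pPrimeCore 2⟩

theorem nimg_A_normal (hc : Counted T A M q) : (nimg A A).Normal :=
  Subgroup.Normal.map Subgroup.normal_in_normalizer _ (nx_surjective A)

theorem nimg_A_two (hc : Counted T A M q) : IsPGroup 2 (nimg A A) :=
  (hc.closed.isPGroup.of_equiv
    (Subgroup.subgroupOfEquivOfLe Subgroup.le_normalizer).symm).map _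

end Counted

namespace Top

variable {u : G} {R : Subgroup G} {L : Subgroup (CQ u)}
  {Z : Subgroup (↥L ⧸ Subgroup.center ↥L)} {τ : ↥L ⧸ Subgroup.center ↥L}

theorem eq_of_nx (h : Top T A M q u R L Z τ) {g k : G} (hg : g ∈ (T : Subgroup G))
    (hk : k ∈ (T : Subgroup G))
    (e : nx A ⟨g, h.counted.closed.sylow_le hg⟩ = nx A ⟨k, h.counted.closed.sylow_le hk⟩) : g = k :=
  mul_inv_eq_one.1 (eq_one_of_two_of_odd T.2 ((T : Subgroup G).mul_mem hg ((T : Subgroup G).inv_mem hk))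
    (odd_nO A) (nx_eq_iff.1 e))

theorem card_nimg (h : Top T A M q u R L Z τ) {H : Subgroup G} (hH : H ≤ (T : Subgroup G)) :
    Nat.card (nimg A H) = Nat.card H := by
  refine Eq.trans (Nat.card_congr (Equiv.ofBijective
    ((nx A).subgroupMap (H.subgroupOf (Subgroup.normalizer (A : Set G))))
    ⟨?_, MonoidHom.subgroupMap_surjective _ _⟩)).symm
    (Nat.card_congr (Subgroup.subgroupOfEquivOfLe (hH.trans h.counted.closed.sylow_le)).toEquiv)
  intro a b e
  exact Subtype.ext (Subtype.ext (h.eq_of_nx (hH a.2) (hH b.2) (congrArg Subtype.val e)))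

theorem exists_sylow_nx (h : Top T A M q u R L Z τ) :
    ∃ S : Sylow 2 (NX A), (S : Subgroup (NX A)) = nimg A (T : Subgroup G) := by
  haveI : Fact (Nat.Prime 2) := ⟨Nat.prime_two⟩
  exact ⟨(T.subtype h.counted.closed.sylow_le).mapSurjective (nx_surjective A), by
    rw [Sylow.coe_mapSurjective, Sylow.coe_subtype]⟩

theorem layer_eq_bot (h : Top T A M q u R L Z τ) : Cfsg.layer (NX A) = ⊥ := by
  haveI : Fact (Nat.Prime 2) := ⟨Nat.prime_two⟩
  by_contra hne
  obtain ⟨K, hK⟩ := Components.Layer.layer_ne_bot_iff.1 hne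
  have hsec := h.counted.sec_nx
  obtain ⟨S, hS⟩ := h.exists_sylow_nx
  obtain ⟨q', Z', τ', hloc⟩ := hsec.exists_local hK S
  have hsurj := sig_surjective K
  have hcK : commutator ↥K = ⊤ := hK.2.1.commutator_eq_top
  obtain ⟨z, hz, hz1⟩ : ∃ z ∈ Z', z ≠ 1 := by
    refine Z'.nontrivial_iff_exists_ne_one.1 (Finite.one_lt_card_iff_nontrivial.1 ?_)
    rw [hloc.card_Z]; linarith [hloc.eight_le]
  obtain ⟨P', hP'⟩ := ((hloc.isPGroup_P).to_le hloc.Z_le : IsPGroup 2 Z').exists_le_sylow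
  obtain ⟨x₀, hx₀, hx₀₂⟩ := h.counted.closed.hyp.deps.extInvol _ (hsec.suzuki hK) P' ↥K (sig K)
    hsurj (by rw [QuotientGroup.ker_mk']) (by rw [QuotientGroup.ker_mk']; exact hsec.center_two hK)
    hcK z (hP' hz) ((hloc.sq_iff z (hloc.Z_le hz)).2 hz)
  obtain ⟨x', hx'T, hx'⟩ : (x₀ : NX A) ∈ nimg A (T : Subgroup G) :=
    hS ▸ hsec.mem_of_sig_mem hK S (hx₀ ▸ hloc.Z_le hz)
  set x : G := (x' : G) with hx
  have hxT : x ∈ (T : Subgroup G) := hx'T
  have hxx : x * x = 1 := by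
    refine h.eq_of_nx ((T : Subgroup G).mul_mem hxT hxT) (T : Subgroup G).one_mem ?_
    calc nx A ⟨x * x, _⟩ = nx A x' * nx A x' := rfl
      _ = ((x₀ * x₀ : ↥K) : NX A) := by rw [hx']; rfl
      _ = 1 := by rw [hx₀₂]; rfl
      _ = nx A ⟨1, _⟩ := (map_one (nx A)).symm
  have hcenA : ∀ k : ↥K, (k : NX A) ∈ nimg A A → sig K k = 1 := by
    intro k hk
    rw [QuotientGroup.mk'_apply, QuotientGroup.eq_one_iff, Subgroup.mem_center_iff]
    haveI := h.counted.nimg_A_normal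
    haveI : Group.IsSolvable (nimg A A) := Coprime.isSolvable_of_isPGroup h.counted.nimg_A_two
    intro l
    refine Subtype.ext ?_
    have h1 := Subgroup.commutator_eq_bot_iff_le_centralizer.1
      (Components.Component.commutator_eq_bot_of_isSolvable hK
        (Subgroup.Normal.isSubnormal (inferInstance : (nimg A A).Normal))) hk
    exact Subgroup.mem_centralizer_iff.1 h1 _ l.2
  have hxA : x ∉ A := fun hA => hz1 (hx₀ ▸ hcenA x₀ (hx' ▸ ⟨x', hA, rfl⟩))
  have hxN : x ∈ Subgroup.normalizer (A : Set G) := x'.2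
  have hxb : Bad M x := h.counted.bad_of_not_mem
    (orderOf_eq_prime (by rw [pow_two, hxx]) fun e => hxA (e ▸ A.one_mem)) hxN hxA
  obtain ⟨p, hp, hpz⟩ := hloc.sq_surj z hz
  obtain ⟨c₀, rfl⟩ := hsurj p
  obtain ⟨c', hc'T, hc'⟩ : (c₀ : NX A) ∈ nimg A (T : Subgroup G) :=
    hS ▸ hsec.mem_of_sig_mem hK S hp
  set c : G := (c' : G) with hc
  have hcT : c ∈ (T : Subgroup G) := hc'T
  have hζ : (c₀ * c₀)⁻¹ * x₀ ∈ Subgroup.center ↥K := by
    rw [← QuotientGroup.eq]
    exact (map_mul (sig K) c₀ c₀).trans (hpz.trans hx₀.symm)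
  have hcx : c * x = x * c := by
    refine h.eq_of_nx ((T : Subgroup G).mul_mem hcT hxT) ((T : Subgroup G).mul_mem hxT hcT) ?_
    have h1 : c₀ * x₀ = x₀ * c₀ := by
      have := Subgroup.mem_center_iff.1 hζ c₀
      calc c₀ * x₀ = c₀ * c₀ * (c₀ * ((c₀ * c₀)⁻¹ * x₀)) := by group
        _ = c₀ * c₀ * ((c₀ * c₀)⁻¹ * x₀ * c₀) := by rw [this]
        _ = x₀ * c₀ := by group
    calc nx A ⟨c * x, _⟩ = nx A c' * nx A x' := rfl
      _ = ((c₀ * x₀ : ↥K) : NX A) := by rw [hc', hx']; rfl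
      _ = ((x₀ * c₀ : ↥K) : NX A) := by rw [h1]
      _ = nx A x' * nx A c' := by rw [hc', hx']; rfl
      _ = nx A ⟨x * c, _⟩ := rfl
  obtain ⟨R', L', Z'', τ'', b⟩ := h.counted.exists_data hxb hxN
  set C := Subgroup.centralizer ({x} : Set G) ⊓ Subgroup.normalizer (A : Set G)
  have hRC : CosetGraph.SylowIn.IsSylowIn 2 R' C :=
    b.comp.base.sylow.of_le_le (le_inf b.comp.base.sylow.le b.R_le_normalizer) inf_le_left
  obtain ⟨S', hS', hcS⟩ := CosetGraph.SylowIn.IsSylowIn.exists_le (P := Subgroup.zpowers c) (H := C)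
    (T.2.to_le (Subgroup.zpowers_le.2 hcT))
    (Subgroup.zpowers_le.2 ⟨Subgroup.mem_centralizer_singleton_iff.2 hcx,
      h.counted.closed.sylow_le hcT⟩)
  obtain ⟨y, hy, he⟩ := hS'.exists_conj hRC
  have hcc := normalizer_conj (inv_mem hy.2)
    (b.sq_R h.counted (he.le (conj_mem_cj (hcS (Subgroup.mem_zpowers c)))))
  have hccA : c * c ∈ A := by simpa [mul_assoc] using hcc
  refine hz1 (hpz ▸ ?_)
  rw [← map_mul]
  refine hcenA _ ⟨c' * c', hccA, ?_⟩
  rw [map_mul, hc']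
  rfl

/-- The `2`-core of `N(A) / O(N(A))` contains its centraliser. -/
theorem cent_pCore (h : Top T A M q u R L Z τ) :
    Subgroup.centralizer (Cfsg.pCore 2 (NX A) : Set (NX A)) ≤ Cfsg.pCore 2 (NX A) := by
  haveI : Fact (Nat.Prime 2) := ⟨Nat.prime_two⟩
  have hfit : Cfsg.fittingSubgroup (NX A) = Cfsg.pCore 2 (NX A) := by
    refine le_antisymm ((Cores.fittingSubgroup_eq_iSup_pCore (G := NX A)).le.trans
      (iSup_le fun p => ?_)) (Cores.pCore_le_fittingSubgroup 2)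
    haveI : Fact (p : ℕ).Prime := ⟨p.2⟩
    by_cases hp : (p : ℕ) = 2
    · rw [hp]
    · refine le_trans (Cores.le_pPrimeCore (p := 2) ?_) (h.counted.sec_nx.core.le.trans bot_le)
      obtain ⟨k, hk⟩ := IsPGroup.iff_card.1 (Cores.pCore_isPGroup (G := NX A) (p : ℕ))
      rw [hk]
      exact ((Nat.coprime_primes p.2 Nat.prime_two).2 hp).pow_left k
  have h1 := Components.GenFitting.centralizer_le (G := NX A)
  rw [Cfsg.generalizedFittingSubgroup, h.layer_eq_bot, bot_sup_eq, hfit] at h1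
  exact h1

end Top

end Cfsg.Agent.Lib.Thompson3Prime33
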