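import Cfsg.Agent.Lib.Thompson3Prime33.TCore
import Cfsg.Agent.Lib.Thompson3Prime33.Common
import Cfsg.Agent.Lib.Thompson3Prime33.Bound

/-!
# `T` is normal in `N(A)` modulo the odd core

Owner: helper33.
-/

set_option autoImplicit false
set_option linter.style.haveILetI false
set_option linter.unusedSectionVars false
set_option linter.unusedVariables false

open scoped commutatorElement Pointwise

namespace Cfsg.Agent.Lib.Thompson3Prime33

universe u

variable {G : Type u} [Group G] [Finite G] {T : Sylow 2 G} {A M : Subgroup G} {q : ℕ}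

set_option maxHeartbeats 1000000 in
/-- The quadratic bound on a section `O₂ / B` centralised modulo nothing but itself. -/
theorem Hyp.chain_bound (h : Hyp G) {X : Type u} [Group X] [Finite X] (hX : Small G X)
    (hc : Subgroup.centralizer (Cfsg.pCore 2 X : Set X) ≤ Cfsg.pCore 2 X) (B : Subgroup X) [B.Normal]
    (hB : ∀ b ∈ B, b * b = 1) (hOB : Cfsg.pCore 2 X ≤ Subgroup.centralizer (B : Set X))
    (hsq : ∀ x ∈ Cfsg.pCore 2 X, x * x ∈ B) (Q : Subgroup X)
    (hQ : Q ≤ Subgroup.centralizer (B : Set X))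
    (hQc : ∀ a ∈ Q, ∀ b ∈ Q, a * b * a⁻¹ * b⁻¹ ∈ Cfsg.pCore 2 X)
    (hQs : ∀ a ∈ Q, a * a ∈ Cfsg.pCore 2 X) (W : Subgroup X) (hWO : W ≤ Cfsg.pCore 2 X)
    (hWQ : ∀ w ∈ W, ∀ x ∈ Q, x * w * x⁻¹ * w⁻¹ ∈ B) :
    (Cfsg.pCore 2 X).relIndex Q ^ 2 * B.relIndex W ≤ B.relIndex (Cfsg.pCore 2 X) := by
  haveI : Fact (Nat.Prime 2) := ⟨Nat.prime_two⟩
  set O := Cfsg.pCore 2 X with hO
  set C := Subgroup.centralizer (B : Set X) with hC
  haveI : C.Normal := Subgroup.normal_centralizer
  haveI : (B.subgroupOf C).Normal := inferInstance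
  set φ := QuotientGroup.mk' (B.subgroupOf C) with hφ
  set V := (O.subgroupOf C).map φ with hV
  haveI : V.Normal := Subgroup.Normal.map inferInstance φ (QuotientGroup.mk'_surjective _)
  have hker : φ.ker = B.subgroupOf C := QuotientGroup.ker_mk' _
  have hone : ∀ c : C, φ c = 1 ↔ (c : X) ∈ B := fun c => QuotientGroup.eq_one_iff c
  have hVsq : ∀ v ∈ V, v * v = 1 := by
    rintro _ ⟨x, hx, rfl⟩
    rw [← map_mul, hone]
    exact hsq x hx
  have hVc : ∀ a ∈ V, ∀ b ∈ V, a * b = b * a := fun a ha b hb => by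
    have h1 := hVsq _ (V.mul_mem ha hb)
    calc a * b = a * (a * b * (a * b)) * b := by rw [h1, mul_one]
      _ = (a * a) * (b * a) * (b * b) := by group
      _ = b * a := by rw [hVsq a ha, hVsq b hb, one_mul, mul_one]
  have hBO : B.subgroupOf C ≤ O.subgroupOf C := fun b hb => by
    haveI : Fact (Nat.Prime 2) := ⟨Nat.prime_two⟩
    refine Cores.le_pCore (N := B) (fun x => ⟨1, Subtype.ext ?_⟩) hb
    show (x : X) ^ 2 ^ 1 = 1
    rw [pow_one, pow_two, hB x x.2]
  have hcomap : V.comap φ = O.subgroupOf C := by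
    rw [hV, Subgroup.comap_map_eq_self]
    rw [hker]
    exact hBO
  have hCV : Subgroup.centralizer (V : Set (↥C ⧸ B.subgroupOf C)) = V := by
    refine le_antisymm (fun y hy => ?_) fun v hv =>
      Subgroup.mem_centralizer_iff.2 fun w hw => hVc w hw v hv
    obtain ⟨c, rfl⟩ := QuotientGroup.mk'_surjective _ y
    refine ⟨c, mem_pCore_of_chain hc B hB c.2 fun x hx => ?_, rfl⟩
    have h1 : φ ⟨x, hOB hx⟩ * φ c = φ c * φ ⟨x, hOB hx⟩ :=
      Subgroup.mem_centralizer_iff.1 hy _ ⟨⟨x, hOB hx⟩, hx, rfl⟩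
    have h2 : φ (c * ⟨x, hOB hx⟩ * c⁻¹ * (⟨x, hOB hx⟩ : C)⁻¹) = 1 := by
      simp only [map_mul, map_inv]
      rw [← h1]; group
    exact (hone _).1 h2
  have hred : Cfsg.pCore 2 ((↥C ⧸ B.subgroupOf C) ⧸ Subgroup.centralizer (V : Set _)) = ⊥ := by
    set ψ := (QuotientGroup.mk' (Subgroup.centralizer (V : Set (↥C ⧸ B.subgroupOf C)))).comp φ with hψ
    set P := (Cfsg.pCore 2 ((↥C ⧸ B.subgroupOf C) ⧸ Subgroup.centralizer (V : Set _))).comap ψ
    have hkψ : ψ.ker = O.subgroupOf C := by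
      rw [hψ, ← MonoidHom.comap_ker, QuotientGroup.ker_mk', hCV, hcomap]
    have hP : IsPGroup 2 P := by
      intro p
      obtain ⟨i, hi⟩ := Cores.pCore_isPGroup 2 ⟨ψ p, p.2⟩
      have hmem : (((p : C) ^ 2 ^ i : C) : X) ∈ O := by
        have h3 : (p : C) ^ 2 ^ i ∈ ψ.ker := by
          rw [MonoidHom.mem_ker, map_pow]
          exact congrArg Subtype.val hi
        rw [hkψ] at h3
        exact h3
      obtain ⟨j, hj⟩ := Cores.pCore_isPGroup (G := X) 2 ⟨_, hmem⟩
      refine ⟨i + j, Subtype.ext (Subtype.ext ?_)⟩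
      show ((p : C) : X) ^ 2 ^ (i + j) = 1
      rw [pow_add, pow_mul]
      exact congrArg Subtype.val hj
    haveI : P.Normal := Subgroup.Normal.comap inferInstance ψ
    haveI := Cores.normal_map_subtype C (Cfsg.pCore 2 C)
    have hPO : ∀ p ∈ P, ((p : C) : X) ∈ O := fun p hp =>
      Cores.le_pCore ((Cores.pCore_isPGroup (G := C) 2).map C.subtype)
        ⟨p, Cores.le_pCore hP hp, rfl⟩
    refine le_bot_iff.1 fun y hy => ?_
    obtain ⟨p, rfl⟩ := ((QuotientGroup.mk'_surjective _).comp (QuotientGroup.mk'_surjective _) :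
      Function.Surjective ψ) y
    show ψ p ∈ (⊥ : Subgroup _)
    rw [Subgroup.mem_bot, ← MonoidHom.mem_ker, hkψ]
    exact hPO p hy
  have hVe : Cfsg.IsElementaryAbelian 2 V :=
    PGroups.elemAb_mk hVc fun a ha => by rw [pow_two]; exact hVsq a ha
  set Q' := (Q.subgroupOf C).map φ
  obtain ⟨hb, -⟩ := h.reduced_bound ((hX.subgroup C).surj φ (QuotientGroup.mk'_surjective _)) V hVe
    hred Q' (by
      rintro _ ⟨a, ha, rfl⟩ _ ⟨b, hb, rfl⟩
      rw [hCV, commutatorElement_def, ← map_inv, ← map_inv, ← map_mul, ← map_mul, ← map_mul]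
      exact ⟨_, hQc a ha b hb, rfl⟩) (by
      rintro _ ⟨a, ha, rfl⟩
      rw [hCV, ← map_mul]
      exact ⟨_, hQs a ha, rfl⟩)
  have e1 : (Subgroup.centralizer (V : Set (↥C ⧸ B.subgroupOf C))).relIndex Q' = O.relIndex Q := by
    rw [hCV, ← Subgroup.relIndex_comap, hcomap, Subgroup.relIndex_subgroupOf hQ]
  have e2 : ∀ W₀ : Subgroup X, W₀ ≤ C → Nat.card ((W₀.subgroupOf C).map φ) = B.relIndex W₀ := by
    intro W₀ hW₀
    rw [← Subgroup.relIndex_subgroupOf (H := B) hW₀]
    refine Eq.trans ?_ (congrArg (fun H => H.relIndex (W₀.subgroupOf C)) hker)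
    rw [Subgroup.relIndex_ker]
  rw [e1, hV, e2 O hOB] at hb
  refine le_trans (Nat.mul_le_mul_left _ ?_) hb
  rw [← e2 W (hWO.trans hOB)]
  refine Subgroup.card_le_of_le ?_
  rintro _ ⟨w, hw, rfl⟩
  refine ⟨⟨w, hWO hw, rfl⟩, Subgroup.mem_centralizer_iff.2 ?_⟩
  rintro _ ⟨x, hx, rfl⟩
  have h1 : φ (x * w * x⁻¹ * w⁻¹) = 1 := (hone _).2 (hWQ w hw x hx)
  simp only [map_mul, map_inv] at h1
  exact commute_of_conj_eq (mul_inv_eq_one.1 h1)

/-- The situation reached: `T` is normal in `N(A)` modulo the odd core. -/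
structure Tower (T : Sylow 2 G) (A M : Subgroup G) (q : ℕ) (u : G) (R : Subgroup G)
    (L : Subgroup (CQ u)) (Z : Subgroup (↥L ⧸ Subgroup.center ↥L))
    (τ : ↥L ⧸ Subgroup.center ↥L) : Prop where
  top : Top T A M q u R L Z τ
  normal : Cfsg.pCore 2 (NX A) = nimg A (T : Subgroup G)

namespace Top

variable {u : G} {R : Subgroup G} {L : Subgroup (CQ u)}
  {Z : Subgroup (↥L ⧸ Subgroup.center ↥L)} {τ : ↥L ⧸ Subgroup.center ↥L}

theorem le_norm_T (h : Top T A M q u R L Z τ) {H : Subgroup G} (hH : H ≤ (T : Subgroup G)) :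
    H ≤ Subgroup.normalizer (A : Set G) := hH.trans h.counted.closed.sylow_le

theorem pCore_eq (h : Top T A M q u R L Z τ) : Cfsg.pCore 2 (NX A) = nimg A (tcore T A) := by
  refine le_antisymm (fun x hx => ?_) ?_
  · obtain ⟨g, hg, rfl⟩ := h.exists_tcore hx
    exact ⟨g, hg, rfl⟩
  · rintro _ ⟨g, hg, rfl⟩
    exact (mem_tcore (g := g) (tcore_le hg)).1 hg

theorem relIndex_nimg (h : Top T A M q u R L Z τ) {H K : Subgroup G} (hH : H ≤ (T : Subgroup G))
    (hK : K ≤ (T : Subgroup G)) : (nimg A H).relIndex (nimg A K) = H.relIndex K := by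
  have hd : (nimg A H ⊓ nimg A K) = nimg A (H ⊓ K) := by
    refine le_antisymm ?_ (le_inf (Subgroup.map_mono fun x hx => hx.1)
      (Subgroup.map_mono fun x hx => hx.2))
    rintro _ ⟨⟨a, ha, rfl⟩, b, hb, e⟩
    have hab : (b : G) = a := h.eq_of_nx (hK hb) (hH ha) e
    exact ⟨a, ⟨ha, (show (a : G) ∈ K from hab ▸ (show (b : G) ∈ K from hb))⟩, rfl⟩
  have h1 := (nimg A H ⊓ nimg A K).card_mul_index
  have e1 : Nat.card (nimg A K) = Nat.card (H ⊓ K : Subgroup G) * H.relIndex K := by
    rw [h.card_nimg hK, ← Subgroup.inf_relIndex_right H K, Subgroup.relIndex,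
      ← Nat.card_congr (Subgroup.subgroupOfEquivOfLe (inf_le_right : H ⊓ K ≤ K)).toEquiv,
      Subgroup.card_mul_index]
  have e2 : Nat.card (nimg A K) =
      Nat.card (H ⊓ K : Subgroup G) * (nimg A H).relIndex (nimg A K) := by
    rw [← Subgroup.inf_relIndex_right (nimg A H) (nimg A K), Subgroup.relIndex,
      ← h.card_nimg (inf_le_right.trans hK), ← hd,
      ← Nat.card_congr (Subgroup.subgroupOfEquivOfLe
        (inf_le_right : nimg A H ⊓ nimg A K ≤ nimg A K)).toEquiv,
      Subgroup.card_mul_index]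
  exact Nat.eq_of_mul_eq_mul_left Nat.card_pos (e2.symm.trans e1)

theorem bound_tcore (h : Top T A M q u R L Z τ) (hsq : ∀ d ∈ tcore T A, d * d ∈ A)
    {Q W : Subgroup G} (hQ : Q ≤ (T : Subgroup G))
    (hQc : ∀ a ∈ Q, ∀ b ∈ Q, a * b * a⁻¹ * b⁻¹ ∈ tcore T A) (hQs : ∀ a ∈ Q, a * a ∈ tcore T A)
    (hW : W ≤ tcore T A) (hWQ : ∀ w ∈ W, ∀ x ∈ Q, x * w * x⁻¹ * w⁻¹ ∈ A) :
    (tcore T A).relIndex Q ^ 2 * A.relIndex W ≤ A.relIndex (tcore T A) := by
  have hN := h.counted.closed.sylow_le
  haveI := h.counted.nimg_A_normal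
  have hcent : ∀ {H : Subgroup G}, H ≤ (T : Subgroup G) →
      nimg A H ≤ Subgroup.centralizer (nimg A A : Set (NX A)) := by
    rintro H hH _ ⟨g, hg, rfl⟩
    exact h.nx_cent_A (h.trans.cent (hH hg))
  have key := h.counted.closed.hyp.chain_bound h.counted.sec_nx.small h.cent_pCore (nimg A A)
    h.nimg_A_sq (h.pCore_eq ▸ hcent tcore_le) (by
      rw [h.pCore_eq]
      rintro _ ⟨d, hd, rfl⟩
      exact ⟨d * d, hsq d hd, map_mul _ _ _⟩) (nimg A Q) (hcent hQ) (by
      rw [h.pCore_eq]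
      rintro _ ⟨a, ha, rfl⟩ _ ⟨b, hb, rfl⟩
      exact ⟨a * b * a⁻¹ * b⁻¹, hQc a ha b hb, by simp⟩) (by
      rw [h.pCore_eq]
      rintro _ ⟨a, ha, rfl⟩
      exact ⟨a * a, hQs a ha, map_mul _ _ _⟩) (nimg A W)
      (h.pCore_eq ▸ Subgroup.map_mono fun x hx => hW hx) (by
      rintro _ ⟨w, hw, rfl⟩ _ ⟨x, hx, rfl⟩
      exact ⟨x * w * x⁻¹ * w⁻¹, hWQ w hw x hx, by simp⟩)
  rwa [h.pCore_eq, h.relIndex_nimg tcore_le hQ, h.relIndex_nimg h.counted.closed.le
    (hW.trans tcore_le), h.relIndex_nimg h.counted.closed.le tcore_le] at key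

theorem exists_tower (h : Top T A M q u R L Z τ) : Tower T A M q u R L Z τ := by
  refine ⟨h, ?_⟩
  rw [h.pCore_eq]
  suffices hT : (T : Subgroup G) ≤ tcore T A by rw [le_antisymm tcore_le hT]
  have b := h.data
  have hc := h.counted
  have hN := hc.closed.sylow_le
  have hq0 : 0 < q := by linarith [hc.eight_le]
  have hA := h.le_tcore_A
  have hS := h.sPart_le_tcore
  set D := tcore T A
  have hcardA : Nat.card A = q := hc.card_A
  have hRT : R ≤ (T : Subgroup G) := h.trans.le
  have hrel : ∀ {H K : Subgroup G}, H ≤ K → Nat.card H * H.relIndex K = Nat.card K := fun {H K} hle => by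
    rw [← Nat.card_congr (Subgroup.subgroupOfEquivOfLe hle).toEquiv, Subgroup.relIndex,
      Subgroup.card_mul_index]
  by_cases hne : ∃ d ∈ D, d ∉ R
  · have hsurj := fun a ha => h.tcore_surj hne (a := a) ha
    rcases h.tcore_inf_R with hR | hAS
    · -- the core is everything
      intro g hg
      obtain ⟨a, ha, e⟩ := h.trans.maps g hg
      obtain ⟨d, hd, e'⟩ := hsurj a ha
      have h1 : d⁻¹ * g ∈ R := by
        refine h.trans.fix _ ((T : Subgroup G).mul_mem ((T : Subgroup G).inv_mem (tcore_le hd)) hg)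
          (commute_of_conj_eq ?_)
        calc d⁻¹ * g * u * (d⁻¹ * g)⁻¹ = d⁻¹ * (g * u * g⁻¹) * d := by group
          _ = u := by rw [e, ← e']; group
      simpa using D.mul_mem hd (hR h1)
    · -- `D ∩ R = A S` is impossible
      exfalso
      have hsq : ∀ d ∈ D, d * d ∈ A := by
        intro d hd
        refine h.tcore_sq hd (hAS _ (D.mul_mem hd hd) ?_)
        obtain ⟨a, ha, e⟩ := h.trans.maps d (tcore_le hd)
        refine h.trans.fix _ ((T : Subgroup G).mul_mem (tcore_le hd) (tcore_le hd))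
          (commute_of_conj_eq ?_)
        have hda := conj_eq_of_commute
          (Subgroup.mem_centralizer_iff.1 (h.trans.cent (tcore_le hd)) a ha).symm
        calc d * d * u * (d * d)⁻¹ = d * (d * u * d⁻¹) * d⁻¹ := by group
          _ = (d * u * d⁻¹) * (d * a * d⁻¹) := by conv_lhs => rw [e]
                                                  group
          _ = u := by rw [e, hda, mul_assoc, hc.closed.sq ha, mul_one]
      have hbound := h.bound_tcore hsq (Q := R) (W := D ⊓ R) hRT
        (fun x hx y hy => hA (b.comm_R hc hx hy)) (fun x hx => hA (b.sq_R hc hx)) inf_le_left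
        (fun w hw x hx => b.comm_R hc hx hw.2)
      -- the index of `D ∩ R` in `R`
      have hDR : Nat.card (D ⊓ R : Subgroup G) ≤ q * Nat.card b.sPart := by
        refine le_of_le_of_eq ?_ ((Nat.card_prod A b.sPart).trans (by rw [hc.card_A]))
        refine Nat.card_le_card_of_surjective
          (fun x : A × b.sPart => (⟨x.1 * x.2, ⟨D.mul_mem (hA x.1.2) (hS x.2.2),
            R.mul_mem (b.A_le_R hc x.1.2) x.2.2.1⟩⟩ : (D ⊓ R : Subgroup G))) ?_
        rintro ⟨d, hd, hdR⟩
        obtain ⟨a, ha, s, hs, rfl⟩ := hAS d hd hdR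
        exact ⟨(⟨a, ha⟩, ⟨s, hs⟩), rfl⟩
      have hRq : q ≤ D.relIndex R := by
        have h1 := hrel (inf_le_right : D ⊓ R ≤ R)
        rw [Subgroup.inf_relIndex_right, b.card_R] at h1
        refine Nat.le_of_mul_le_mul_left (le_of_le_of_eq ?_ rfl : q * Nat.card b.sPart * q ≤
          q * Nat.card b.sPart * D.relIndex R) (Nat.mul_pos hq0 Nat.card_pos)
        calc q * Nat.card b.sPart * q = q ^ 2 * Nat.card b.sPart := by ring
          _ = Nat.card (D ⊓ R : Subgroup G) * D.relIndex R := h1.symm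
          _ ≤ _ := Nat.mul_le_mul_right _ hDR
      -- the index of `D ∩ R` in `D`
      have hD : (D ⊓ R).relIndex D ≤ q := by
        rw [Subgroup.inf_relIndex_left]
        have h2 := hrel hRT
        rw [h.trans.card, mul_comm] at h2
        have h3 : R.relIndex (T : Subgroup G) = q := Nat.eq_of_mul_eq_mul_right Nat.card_pos h2
        have h1 : R.relIndex D ≤ R.relIndex (T : Subgroup G) :=
          Subgroup.relIndex_le_of_le_right tcore_le (by rw [h3]; exact hq0.ne')
        exact h3 ▸ h1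
      rw [← Subgroup.relIndex_mul_relIndex A (D ⊓ R) D (le_inf hA (b.A_le_R hc)) inf_le_left] at hbound
      have h5 : D.relIndex R ^ 2 * A.relIndex (D ⊓ R) ≤ q * A.relIndex (D ⊓ R) :=
        le_trans hbound (by rw [mul_comm]; exact Nat.mul_le_mul_right _ hD)
      have h6 := Nat.le_of_mul_le_mul_right h5
        (Nat.pos_of_ne_zero fun e0 => by
          have h8 := hrel (le_inf hA (b.A_le_R hc) : A ≤ D ⊓ R)
          rw [e0, mul_zero] at h8
          exact Nat.card_pos.ne h8)
      have h7 : q * q ≤ q * 1 := by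
        rw [mul_one]
        exact le_trans (by rw [pow_two]; exact Nat.mul_le_mul hRq hRq) h6
      have := Nat.le_of_mul_le_mul_left h7 hq0
      linarith [hc.eight_le]
  · exfalso
    push Not at hne
    rcases h.tcore_inf_R with hR | hAS
    · -- `D = R`
      have hDR : D = R := le_antisymm (fun d hd => hne d hd) hR
      have hTq : R.relIndex (T : Subgroup G) = q := by
        have h2 := hrel hRT
        rw [h.trans.card, mul_comm] at h2
        exact Nat.eq_of_mul_eq_mul_right Nat.card_pos h2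
      have hfix : ∀ g ∈ (T : Subgroup G), g * u * g⁻¹ = u → g ∈ R := fun g hg e =>
        h.trans.fix g hg (commute_of_conj_eq e)
      have hu : u ∈ b.sPart := b.self_mem_sPart
      have hW : A.relIndex (A ⊔ Subgroup.zpowers u) ≥ 2 := by
        by_contra hlt
        have h1 : A.relIndex (A ⊔ Subgroup.zpowers u) = 1 := by
          have h8 := hrel (le_sup_left : A ≤ A ⊔ Subgroup.zpowers u)
          rcases Nat.eq_zero_or_pos (A.relIndex (A ⊔ Subgroup.zpowers u)) with h0 | h0
          · rw [h0, mul_zero] at h8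
            exact absurd h8 Nat.card_pos.ne
          · omega
        exact hc.not_mem_A b.bad (Subgroup.relIndex_eq_one.1 h1 (le_sup_right (a := A) (Subgroup.mem_zpowers u)))
      have hbound := h.bound_tcore (fun d hd => b.sq_R hc (hne d hd)) (Q := (T : Subgroup G))
        (W := A ⊔ Subgroup.zpowers u) le_rfl ?_ ?_ ?_ ?_
      · have hr := h.card_sPart_le_q
        rw [show tcore T A = R from hDR, hTq] at hbound
        have h1 := hrel (b.A_le_R hc)
        rw [b.card_R, hcardA, pow_two, mul_assoc] at h1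
        rw [Nat.eq_of_mul_eq_mul_left hq0 h1] at hbound
        have h2 : q ^ 2 * 2 ≤ q * q := le_trans (le_trans (Nat.mul_le_mul_left _ hW) hbound)
          (Nat.mul_le_mul_left _ hr)
        rw [pow_two] at h2
        have h3 : 0 < q * q := by positivity
        omega
      · intro x hx y hy
        rw [show tcore T A = R from hDR]
        refine hfix _ (Subgroup.mul_mem _ (Subgroup.mul_mem _ (Subgroup.mul_mem _ hx hy)
          (Subgroup.inv_mem _ hx)) (Subgroup.inv_mem _ hy)) ?_
        set ψ := shiftHom A u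
        have hsh : ∀ g ∈ (T : Subgroup G), g ∈ shift A u ⊓ Subgroup.centralizer (A : Set G) := by
          intro g hg
          obtain ⟨a, ha, e⟩ := h.trans.maps g hg
          exact ⟨mem_shift_of_eq (hN hg) ha e, h.trans.cent hg⟩
        set gx : ↥(shift A u ⊓ Subgroup.centralizer (A : Set G)) := ⟨x, hsh x hx⟩
        set gy : ↥(shift A u ⊓ Subgroup.centralizer (A : Set G)) := ⟨y, hsh y hy⟩
        have h1 : ψ (gx * gy * gx⁻¹ * gy⁻¹) = 1 := by
          rw [map_mul, map_mul, map_mul, map_inv, map_inv,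
            show ψ gx * ψ gy = ψ gy * ψ gx from Subtype.ext (hc.closed.comm (ψ gx).2 (ψ gy).2),
            mul_inv_cancel_right, mul_inv_cancel]
        have h2 := shiftHom_apply (gx * gy * gx⁻¹ * gy⁻¹)
        rw [h1, Subgroup.coe_one, mul_one] at h2
        exact h2
      · intro x hx
        rw [show tcore T A = R from hDR]
        obtain ⟨a, ha, e⟩ := h.trans.maps x hx
        refine hfix _ (Subgroup.mul_mem _ hx hx) ?_
        have hda := conj_eq_of_commute
          (Subgroup.mem_centralizer_iff.1 (h.trans.cent hx) a ha).symm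
        calc x * x * u * (x * x)⁻¹ = x * (x * u * x⁻¹) * x⁻¹ := by group
          _ = (x * u * x⁻¹) * (x * a * x⁻¹) := by conv_lhs => rw [e]
                                                  group
          _ = u := by rw [e, hda, mul_assoc, hc.closed.sq ha, mul_one]
      · exact sup_le hA (Subgroup.zpowers_le.2 (hS hu))
      · intro w hw x hx
        have hle : A ⊔ Subgroup.zpowers u ≤ R :=
          sup_le (b.A_le_R hc) (Subgroup.zpowers_le.2 b.self_mem_R)
        -- the elements of `T` centralise `A` and move `u` within `u A`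
        obtain ⟨a, ha, z, hz, rfl⟩ : ∃ a ∈ A, ∃ z ∈ Subgroup.zpowers u, w = a * z := by
          have h1 : ((A ⊔ Subgroup.zpowers u : Subgroup G) : Set G) =
              (A : Set G) * (Subgroup.zpowers u : Set G) := Subgroup.coe_mul_of_right_le_normalizer_left
            A (Subgroup.zpowers u) (Subgroup.zpowers_le.2 b.mem)
          rw [← SetLike.mem_coe, h1] at hw
          obtain ⟨a, ha, z, hz, e⟩ := hw
          exact ⟨a, ha, z, hz, e.symm⟩
        have hxa := conj_eq_of_commute (Subgroup.mem_centralizer_iff.1 (h.trans.cent hx) a ha).symm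
        obtain ⟨i, rfl⟩ := Subgroup.mem_zpowers_iff.1 hz
        obtain ⟨c, hcA, e⟩ := h.trans.maps x hx
        have hcomm : Commute u c := (Subgroup.mem_centralizer_singleton_iff.1
          (hc.le_cent u b.bad b.mem hcA)).symm
        have h2 : x * u ^ i * x⁻¹ = u ^ i * c ^ i := by rw [← conj_zpow, e, hcomm.mul_zpow]
        rw [show x * (a * u ^ i) * x⁻¹ * (a * u ^ i)⁻¹ =
          (x * a * x⁻¹) * (x * u ^ i * x⁻¹) * (u ^ i)⁻¹ * a⁻¹ by group, hxa, h2,
          (hcomm.zpow_zpow i i).eq, show a * (c ^ i * u ^ i) * (u ^ i)⁻¹ * a⁻¹ = a * c ^ i * a⁻¹ by group]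
        exact A.mul_mem (A.mul_mem ha (A.zpow_mem hcA i)) (A.inv_mem ha)
    · -- `D = A S` is centralised by `R ∩ L`
      obtain ⟨x, hx, hxZ⟩ : ∃ x ∈ pbar (qimg u R) L, x ∉ Z := by
        by_contra hall
        push Not at hall
        have h1 := Subgroup.card_le_of_le (show pbar (qimg u R) L ≤ Z from hall)
        rw [b.comp.loc.card_P, b.comp.loc.card_Z, pow_two] at h1
        have := Nat.le_of_mul_le_mul_left (h1.trans_eq (mul_one q).symm) hq0
        linarith [hc.eight_le]
      obtain ⟨p, hp, hpx⟩ := b.comp.exists_R hx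
      have hpT : (p : G) ∈ (T : Subgroup G) := hRT hp
      refine hxZ ?_
      have hmem : nx A ⟨p, hN hpT⟩ ∈ Cfsg.pCore 2 (NX A) := by
        refine h.cent_pCore (Subgroup.mem_centralizer_iff.2 fun y hy => ?_)
        obtain ⟨d, hd, rfl⟩ := h.exists_tcore hy
        obtain ⟨a, ha, s, hs, e⟩ := hAS d hd (hne d hd)
        rw [← map_mul, ← map_mul]
        refine congrArg (nx A) (Subtype.ext ?_)
        show (d : G) * p = p * d
        have c1 : Commute (p : G) a :=
          (Subgroup.mem_centralizer_iff.1 (h.trans.cent hpT) a ha).symm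
        have c2 : Commute (p : G) s := b.comp.commute_lift_cent hp p.2 hs.1 hs.2
        rw [e]
        exact (c1.mul_right c2).eq.symm
      have hpD : (p : G) ∈ D := (mem_tcore (g := ⟨(p : G), hN hpT⟩) hpT).2 hmem
      obtain ⟨a, ha, s, hs, e⟩ := hAS _ hpD hp
      rw [← hpx, ← b.proj_eq_lmap ⟨p, hp⟩ p.2, show (⟨(p : G), hp⟩ : R) = ⟨a, b.A_le_R hc ha⟩ * ⟨s, hs.1⟩
        from Subtype.ext e, map_mul, b.proj_sPart ⟨s, hs.1⟩ hs, mul_one]
      exact b.proj_A hc _ ha

end Top

end Cfsg.Agent.Lib.Thompson3Prime33
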