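import Cfsg.Agent.Lib.Thompson3Prime33.Interface

/-!
# The projection of a Sylow subgroup of the centraliser of a bad involution on the component

With `C_A(u) = A` the Sylow subgroup `R` of `C(u)` centralises `A`, induces inner automorphisms by
elements of `P` on the component and is the product of `R ∩ L` and the centraliser of `L` in `R`.

Owner: helper33.
-/

set_option autoImplicit false
set_option linter.style.haveILetI false
set_option linter.unusedSectionVars false
set_option linter.unusedVariables false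

namespace Cfsg.Agent.Lib.Thompson3Prime33

universe u

variable {G : Type u} [Group G] [Finite G] {T : Sylow 2 G} {A M : Subgroup G}

namespace Counted

variable {q : ℕ}

theorem closed (hc : Counted T A M q) : Closed G T A := hc.final.anchor.closed

theorem eight_le (hc : Counted T A M q) : 8 ≤ q := by
  obtain ⟨m, hm, rfl⟩ := hc.q_eq
  calc 8 = 2 ^ 3 := rfl
    _ ≤ 2 ^ (2 * m + 1) := Nat.pow_le_pow_right (by norm_num) (by omega)

theorem inf_cent (hc : Counted T A M q) {u : G} (hu : Bad M u)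
    (huA : u ∈ Subgroup.normalizer (A : Set G)) :
    A ⊓ Subgroup.centralizer ({u} : Set G) = A :=
  inf_eq_left.2 (hc.le_cent u hu huA)

theorem q_of_data (hc : Counted T A M q) {u : G} {R : Subgroup G} {L : Subgroup (CQ u)} {q' : ℕ}
    {Z : Subgroup (↥L ⧸ Subgroup.center ↥L)} {τ : ↥L ⧸ Subgroup.center ↥L}
    (b : BadData T A M u R L q' Z τ) : q' = q := by
  rw [← b.card_inf, hc.inf_cent b.bad b.mem, hc.card_A]

theorem exists_data (hc : Counted T A M q) {u : G} (hu : Bad M u)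
    (huA : u ∈ Subgroup.normalizer (A : Set G)) :
    ∃ R L Z τ, BadData T A M u R L q Z τ := by
  obtain ⟨R, L, q', Z, τ, b⟩ := hc.final.anchor.exists_badData hu huA
  obtain rfl := hc.q_of_data b
  exact ⟨R, L, Z, τ, b⟩

theorem exists_data_of (hc : Counted T A M q) {u : G} (hu : Bad M u)
    (huA : u ∈ Subgroup.normalizer (A : Set G)) {R : Subgroup G}
    (hRS : CosetGraph.SylowIn.IsSylowIn 2 R (Subgroup.centralizer ({u} : Set G)))
    {n : G} (hnA : n ∈ Subgroup.normalizer (A : Set G)) (hRn : cj n R ≤ (T : Subgroup G)) :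
    ∃ L Z τ, BadData T A M u R L q Z τ := by
  obtain ⟨L, q', Z, τ, b⟩ := hc.final.anchor.exists_badData_of hu huA hRS hnA hRn
  obtain rfl := hc.q_of_data b
  exact ⟨L, Z, τ, b⟩

/-- An involution of `N(A)` outside `A` is bad. -/
theorem bad_of_not_mem (hc : Counted T A M q) {v : G} (hv : orderOf v = 2)
    (hvN : v ∈ Subgroup.normalizer (A : Set G)) (hvA : v ∉ A) : Bad M v := by
  rcases hc.swap.bad_or_inD v hv with hD | hB
  · exfalso
    have hvv : v * v = 1 := by rw [← pow_two, ← hv, pow_orderOf_eq_one]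
    obtain ⟨n, hn, hnT⟩ := hc.closed.exists_conj_mem hvN (i := 1) (by rw [pow_one, pow_two, hvv])
    have h1 := normalizer_conj (inv_mem hn) (hc.swap.mem_A _ (hD.conj n) hnT)
    exact hvA (by simpa [mul_assoc] using h1)
  · exact hB

theorem not_mem_A (hc : Counted T A M q) {v : G} (hv : Bad M v) : v ∉ A := fun hA =>
  InD.not_bad hc.final.anchor (s := v) ⟨v, hA, fun e => by
    have := hv.invol
    rw [e, orderOf_one] at this
    omega, 1, by group⟩ hv

theorem bad_mul_A (hc : Counted T A M q) {v : G} (hv : Bad M v)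
    (hvN : v ∈ Subgroup.normalizer (A : Set G)) {a : G} (ha : a ∈ A) : Bad M (v * a) := by
  rcases eq_or_ne a 1 with rfl | ha1
  · rwa [mul_one]
  · exact hc.swap.bad_mul v hv a ⟨a, ha, ha1, 1, by group⟩
      (Subgroup.mem_centralizer_singleton_iff.1 (hc.le_cent v hv hvN ha)).symm

end Counted

namespace BadData

variable {u : G} {R : Subgroup G} {L : Subgroup (CQ u)} {q : ℕ}
  {Z : Subgroup (↥L ⧸ Subgroup.center ↥L)} {τ : ↥L ⧸ Subgroup.center ↥L}

theorem A_le_lift (b : BadData T A M u R L q Z τ) (hc : Counted T A M q) : A ≤ lift u L :=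
  (hc.inf_cent b.bad b.mem).ge.trans b.le_lift

theorem A_le_R (b : BadData T A M u R L q Z τ) (hc : Counted T A M q) : A ≤ R :=
  (hc.inf_cent b.bad b.mem).ge.trans b.comp.base.le

theorem exists_conj (b : BadData T A M u R L q Z τ) (r : R) :
    ∃ p ∈ pbar (qimg u R) L,
      autOn L ⟨cmap u ⟨r, b.comp.base.sylow.le r.2⟩, b.normalizes _⟩ = MulAut.conj p := by
  set C := Subgroup.centralizer ({u} : Set G)
  set y : ↥C := ⟨r, b.comp.base.sylow.le r.2⟩ with hy
  obtain ⟨i, hi⟩ := b.comp.base.sylow.isPGroup r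
  have hi' : (⟨cmap u y, b.normalizes _⟩ : ↥(Subgroup.normalizer (L : Set (CQ u)))) ^ 2 ^ i = 1 := by
    refine Subtype.ext ?_
    show cmap u y ^ 2 ^ i = 1
    rw [← map_pow, show y ^ 2 ^ i = 1 from Subtype.ext (congrArg (fun v : R => (v : G)) hi), map_one]
  obtain ⟨p, hp⟩ := b.comp.loc.aut_two (autOn L ⟨cmap u y, b.normalizes _⟩) ⟨i, by
    rw [← map_pow, hi', map_one]⟩
  refine ⟨p, b.comp.loc.mem_P_of_pow (i := i) ?_ (b.comp.loc.conj_injective ?_), hp⟩
  · refine mem_normalizer_of_conj_mem ?_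
    intro x hx
    obtain ⟨g, hg, rfl⟩ := b.comp.exists_R hx
    have h1 : MulAut.conj p (lmap u L g) = sig L
        ⟨cmap u y * (toL u L g : CQ u) * (cmap u y)⁻¹,
          normalizer_conj (b.normalizes _) (toL u L g).2⟩ := by
      rw [← hp, lmap_apply, autOn_apply]
    rw [MulAut.conj_apply] at h1
    rw [h1]
    refine ⟨_, ⟨y * ⟨g, lift_le u L g.2⟩ * y⁻¹, R.mul_mem (R.mul_mem r.2 hg) (R.inv_mem r.2), ?_⟩, rfl⟩
    rw [map_mul, map_mul, map_inv, ← coe_toL]
    rfl
  · rw [map_pow, map_one, ← hp, ← map_pow, hi', map_one]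

/-- The element of `P` inducing the action of an element of `R`. -/
noncomputable def proj (b : BadData T A M u R L q Z τ) : ↥R →* ↥L ⧸ Subgroup.center ↥L :=
  MonoidHom.mk' (fun r => (b.exists_conj r).choose) fun r s => by
    refine b.comp.loc.conj_injective ?_
    rw [map_mul, ← (b.exists_conj r).choose_spec.2, ← (b.exists_conj s).choose_spec.2,
      ← (b.exists_conj (r * s)).choose_spec.2, ← map_mul]
    refine congrArg (autOn L) (Subtype.ext ?_)
    exact map_mul (cmap u) ⟨r, b.comp.base.sylow.le r.2⟩ ⟨s, b.comp.base.sylow.le s.2⟩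

theorem proj_mem (b : BadData T A M u R L q Z τ) (r : R) :
    b.proj r ∈ pbar (qimg u R) L := (b.exists_conj r).choose_spec.1

theorem proj_spec (b : BadData T A M u R L q Z τ) (r : R) :
    autOn L ⟨cmap u ⟨r, b.comp.base.sylow.le r.2⟩, b.normalizes _⟩ = MulAut.conj (b.proj r) :=
  (b.exists_conj r).choose_spec.2

theorem proj_eq_lmap (b : BadData T A M u R L q Z τ) (r : R) (hr : (r : G) ∈ lift u L) :
    b.proj r = lmap u L ⟨r, hr⟩ := by
  refine b.comp.loc.conj_injective ?_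
  rw [← b.proj_spec r, lmap_apply, ← autOn_coe]
  exact congrArg (autOn L) (Subtype.ext (coe_toL (⟨r, hr⟩ : ↥(lift u L))).symm)

theorem proj_eq_one_iff (b : BadData T A M u R L q Z τ) (r : R) :
    b.proj r = 1 ↔ (r : G) ∈ lift u (Subgroup.centralizer (L : Set (CQ u))) := by
  constructor
  · intro h
    exact mem_lift.2 ⟨b.comp.base.sylow.le r.2,
      centralizes_of_autOn b.comp.comp.2.1 (b.normalizes _) (by rw [b.proj_spec r, h, map_one])⟩
  · intro h
    obtain ⟨hC, h'⟩ := mem_lift.1 h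
    refine b.comp.loc.conj_injective ?_
    rw [← b.proj_spec r, map_one]
    exact autOn_of_centralizes _ h'

theorem proj_A (b : BadData T A M u R L q Z τ) (hc : Counted T A M q) (r : R) (hr : (r : G) ∈ A) :
    b.proj r ∈ Z := by
  rw [b.proj_eq_lmap r (b.A_le_lift hc hr)]
  exact b.comp.lmap_mem_Z ((hc.inf_cent b.bad b.mem).ge hr)

theorem mem_A_of_proj (b : BadData T A M u R L q Z τ) (r : R) (hr : (r : G) ∈ lift u L)
    (hz : b.proj r ∈ Z) : (r : G) ∈ A := by
  rw [b.proj_eq_lmap r hr] at hz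
  exact (b.mem_F_of_lmap (g := ⟨r, hr⟩) r.2 hz).1

/-- `R` centralises `A`. -/
theorem R_cent (b : BadData T A M u R L q Z τ) (hc : Counted T A M q) :
    R ≤ Subgroup.centralizer (A : Set G) := by
  intro r hr
  refine Subgroup.mem_centralizer_iff.2 fun a ha => (commute_of_conj_eq ?_).symm
  have haR := b.A_le_R hc ha
  have h1 : b.proj (⟨r, hr⟩ * ⟨a, haR⟩ * ⟨r, hr⟩⁻¹) = b.proj ⟨a, haR⟩ := by
    rw [map_mul, map_mul, map_inv,
      ← b.comp.loc.central _ (b.proj_A hc ⟨a, haR⟩ ha) _ (b.proj_mem ⟨r, hr⟩), mul_inv_cancel_right]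
  have haL := b.A_le_lift hc ha
  have hconj : r * a * r⁻¹ ∈ A := normalizer_conj (b.R_le_normalizer hr) ha
  rw [b.proj_eq_lmap _ (b.A_le_lift hc hconj), b.proj_eq_lmap ⟨a, haR⟩ haL] at h1
  exact congrArg (fun v : ↥(lift u L) => (v : G)) (b.comp.lmap_injOn b.simple
    (R.mul_mem (R.mul_mem hr haR) (R.inv_mem hr)) haR h1)

/-- The part of `R` centralising the component. -/
abbrev sPart (b : BadData T A M u R L q Z τ) : Subgroup G :=
  R ⊓ lift u (Subgroup.centralizer (L : Set (CQ u)))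

theorem exists_split (b : BadData T A M u R L q Z τ) {r : G} (hr : r ∈ R) :
    ∃ p ∈ R ⊓ lift u L, ∃ s ∈ b.sPart, r = p * s ∧ p * s = s * p := by
  obtain ⟨g, hg, hgp⟩ := b.comp.exists_R (b.proj_mem ⟨r, hr⟩)
  have h1 : b.proj (⟨(g : G), hg⟩⁻¹ * ⟨r, hr⟩) = 1 := by
    rw [map_mul, map_inv, b.proj_eq_lmap ⟨(g : G), hg⟩ g.2, ← hgp]
    exact inv_mul_cancel _
  have hs := (b.proj_eq_one_iff _).1 h1
  refine ⟨g, ⟨hg, g.2⟩, (g : G)⁻¹ * r, ⟨R.mul_mem (R.inv_mem hg) hr, hs⟩,
    (mul_inv_cancel_left _ _).symm, ?_⟩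
  exact b.comp.commute_lift_cent hg g.2 (R.mul_mem (R.inv_mem hg) hr) hs

theorem proj_sPart (b : BadData T A M u R L q Z τ) (r : R) (hr : (r : G) ∈ b.sPart) : b.proj r = 1 :=
  (b.proj_eq_one_iff r).2 hr.2

theorem inf_sPart (b : BadData T A M u R L q Z τ) {p : G} (hp : p ∈ R ⊓ lift u L)
    (hps : p ∈ b.sPart) : p = 1 := by
  have h1 := b.proj_sPart ⟨p, hp.1⟩ hps
  rw [b.proj_eq_lmap ⟨p, hp.1⟩ hp.2] at h1
  exact congrArg Subtype.val (b.comp.lmap_injOn b.simple (g := ⟨p, hp.2⟩) (g' := 1) hp.1 R.one_mem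
    (h1.trans (map_one _).symm))

theorem self_mem_R (b : BadData T A M u R L q Z τ) : u ∈ R := by
  haveI : Fact (Nat.Prime 2) := ⟨Nat.prime_two⟩
  have hu : IsPGroup 2 (R ⊔ Subgroup.zpowers u : Subgroup G) := by
    refine b.comp.base.sylow.isPGroup.to_sup_of_normal_right' ?_ ?_
    · exact IsPGroup.of_card (n := 1) (by rw [Nat.card_zpowers, b.invol, pow_one])
    · intro r hr
      refine Subgroup.centralizer_le_normalizer _ ?_
      rw [Subgroup.zpowers_eq_closure, Subgroup.centralizer_closure]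
      exact b.comp.base.sylow.le hr
  obtain ⟨j, hj⟩ := IsPGroup.iff_card.1 hu
  have hle : R ⊔ Subgroup.zpowers u ≤ Subgroup.centralizer ({u} : Set G) :=
    sup_le b.comp.base.sylow.le
      (Subgroup.zpowers_le.2 (Subgroup.mem_centralizer_singleton_iff.2 rfl))
  have : R ⊔ Subgroup.zpowers u = R := by
    refine (Subgroup.eq_of_le_of_card_ge le_sup_left ?_).symm
    rw [hj, b.comp.base.sylow.card_eq]
    exact Nat.pow_le_pow_right two_pos
      ((Nat.Prime.pow_dvd_iff_le_factorization Nat.prime_two Nat.card_pos.ne').1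
        (hj ▸ Subgroup.card_dvd_of_le hle))
  exact (le_sup_right.trans this.le) (Subgroup.mem_zpowers u)

theorem self_mem_sPart (b : BadData T A M u R L q Z τ) : u ∈ b.sPart :=
  ⟨b.self_mem_R, CompData.mem_lift_cent_self b.comp⟩

theorem A_inf_sPart (b : BadData T A M u R L q Z τ) (hc : Counted T A M q) {a : G} (ha : a ∈ A)
    (hs : a ∈ b.sPart) : a = 1 :=
  b.inf_sPart ⟨b.A_le_R hc ha, b.A_le_lift hc ha⟩ hs

/-- The squares of the part in `L` lie in `A`. -/
theorem sq_mem_A (b : BadData T A M u R L q Z τ) {p : G} (hp : p ∈ R ⊓ lift u L) : p * p ∈ A := by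
  refine b.mem_A_of_proj ⟨p * p, R.mul_mem hp.1 hp.1⟩ ((lift u L).mul_mem hp.2 hp.2) ?_
  rw [show (⟨p * p, R.mul_mem hp.1 hp.1⟩ : R) = ⟨p, hp.1⟩ * ⟨p, hp.1⟩ from rfl, map_mul]
  exact b.comp.loc.sq_mem _ (b.proj_mem _)

/-- The order of `R`. -/
theorem card_R (b : BadData T A M u R L q Z τ) : Nat.card R = q ^ 2 * Nat.card b.sPart := by
  rw [← b.comp.loc.card_P]
  have hr : b.proj.range = pbar (qimg u R) L := by
    refine le_antisymm ?_ fun p hp => ?_
    · rintro _ ⟨r, rfl⟩; exact b.proj_mem r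
    · obtain ⟨g, hg, e⟩ := b.comp.exists_R hp
      exact ⟨⟨g, hg⟩, (b.proj_eq_lmap ⟨g, hg⟩ g.2).trans e⟩
  have hk : Nat.card b.proj.ker = Nat.card b.sPart := by
    refine Nat.card_congr ⟨fun r => ⟨r.1, r.1.2, (b.proj_eq_one_iff r.1).1 r.2⟩,
      fun s => ⟨⟨s, s.2.1⟩, b.proj_sPart _ s.2⟩, fun _ => rfl, fun _ => rfl⟩
  rw [← b.proj.ker.card_mul_index, Subgroup.index_ker, hr, hk, mul_comm]

end BadData

end Cfsg.Agent.Lib.Thompson3Prime33
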