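import Cfsg.Agent.Lib.Thompson3Prime33.KernelBig
import Cfsg.Agent.Lib.Thompson3Prime33.EndInterface

/-!
# The stabiliser of `S` acts semilinearly and faithfully on `A`

Owner: helper33.
-/

set_option autoImplicit false
set_option linter.style.haveILetI false
set_option linter.unusedSectionVars false
set_option linter.unusedVariables false

namespace Cfsg.Agent.Lib.Thompson3Prime33

universe u

variable {G : Type u} [Group G] [Finite G] {T : Sylow 2 G} {A M : Subgroup G} {q : ℕ}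
variable {u : G} {R : Subgroup G} {L : Subgroup (CQ u)}
  {Z : Subgroup (↥L ⧸ Subgroup.center ↥L)} {τ : ↥L ⧸ Subgroup.center ↥L}

namespace Endgame

variable {H : Subgroup (NX A)} {σ : NX A}

theorem kernel (e : Endgame T A M q u R L Z τ H σ) {k : NX A} (hk : k ∈ H)
    (hkS : k ∈ Subgroup.normalizer (nimg A e.top.data.sPart : Set (NX A)))
    (hkA : k ∈ Subgroup.centralizer (nimg A A : Set (NX A))) : k = 1 := by
  rcases le_or_gt (Nat.card e.top.data.sPart) 2 with hr | hr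
  · obtain ⟨n, hn⟩ := e.exists_slift hkS
    refine e.eq_one_of_cent hk hkA ?_
    rintro _ ⟨s, hs, rfl⟩
    rw [← hn.eq, ← map_mul, ← map_mul]
    refine congrArg _ (Subtype.ext ?_)
    show (n : G) * s = s * n
    rcases e.top.sPart_two hr (s := (s : G)) hs with h | h
    · rw [h, mul_one, one_mul]
    · rw [h]
      exact commute_of_conj_eq (e.top.conj_fix_of_two hr hn.normS)
  · exact e.kernel_big hr hk hkS hkA

theorem semi (e : Endgame T A M q u R L Z τ H σ) {k : NX A} (hk : k ∈ H)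
    (hkS : k ∈ Subgroup.normalizer (nimg A e.top.data.sPart : Set (NX A))) :
    ∃ i : ℕ, k * σ * k⁻¹ = σ ^ (2 ^ i) := by
  have b := e.top.data
  have hc := e.top.counted
  obtain ⟨n, hn⟩ := e.exists_slift hkS
  obtain ⟨φ, hφ⟩ := e.exists_aut hn.normS
  obtain ⟨i, hi⟩ := b.comp.loc.aut_semi φ (e.aut_P hn.normR hφ)
  refine ⟨i, (inv_mul_eq_one.1 (e.kernel (k := (σ ^ (2 ^ i))⁻¹ * (k * σ * k⁻¹))
    (H.mul_mem (H.inv_mem (H.pow_mem e.mem _)) (H.mul_mem (H.mul_mem hk e.mem) (H.inv_mem hk)))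
    ?_ ?_)).symm⟩
  · have hσN : σ ∈ Subgroup.normalizer (nimg A e.top.data.sPart : Set (NX A)) :=
      mem_normalizer_of_conj_mem fun s hs => by rwa [conj_eq_of_commute (e.comm_sPart hs)]
    exact mul_mem (inv_mem (pow_mem hσN _)) (mul_mem (mul_mem hkS hσN) (inv_mem hkS))
  · obtain ⟨t, ht, htN, hσ⟩ := e.torus
    set tn : ↥(Subgroup.normalizer (A : Set G)) := ⟨t, htN⟩ with htn
    set w : ↥(Subgroup.normalizer (A : Set G)) := (tn ^ (2 ^ i))⁻¹ * (n * tn * n⁻¹) with hw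
    have hwk : nx A w = (σ ^ (2 ^ i))⁻¹ * (k * σ * k⁻¹) := by
      rw [hw, map_mul, map_mul, map_mul, map_inv, map_inv, map_pow, hσ, hn.eq]
    rw [← hwk]
    refine e.top.nx_cent_A (Subgroup.mem_centralizer_iff.2 fun a ha => ?_)
    have haL := b.A_le_lift hc
    -- compare the two conjugates of `a` in the component
    set c := (n : G)⁻¹ * a * (n : G) with hc'
    have hcA : c ∈ A := by simpa [hc'] using normalizer_conj (inv_mem n.2) ha
    set d := (t : G) * c * (t : G)⁻¹ with hd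
    have hdA : d ∈ A := normalizer_conj htN hcA
    obtain ⟨h1, e1⟩ := hφ ⟨d, haL hdA⟩
    obtain ⟨h2, e2⟩ := hφ ⟨c, haL hcA⟩
    have hda : (n : G) * d * (n : G)⁻¹ = (t : G) ^ (2 ^ i) * a * ((t : G) ^ (2 ^ i))⁻¹ := by
      have hLa : ∀ {x : G} (hx : x ∈ A) (h' : x ∈ lift u L), lmap u L ⟨x, h'⟩ ∈ Z := fun {x} hx h' =>
        b.comp.lmap_mem_Z ((hc.inf_cent b.bad b.mem).ge hx)
      have h4 : lmap u L ⟨d, haL hdA⟩ = τ * lmap u L ⟨c, haL hcA⟩ * τ⁻¹ := by
        rw [show (⟨d, haL hdA⟩ : ↥(lift u L)) = t * ⟨c, haL hcA⟩ * t⁻¹ from rfl, map_mul, map_mul,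
          map_inv, ht]
      have h3 := b.comp.lmap_injOn b.simple (g := ⟨(n : G) * d * (n : G)⁻¹, h1⟩)
        (g' := t ^ (2 ^ i) * ⟨a, haL ha⟩ * (t ^ (2 ^ i))⁻¹) (b.A_le_R hc (normalizer_conj n.2 hdA))
        (b.A_le_R hc (normalizer_conj (pow_mem htN (2 ^ i)) ha)) (by
          rw [e1, h4, hi _ (hLa hcA _), ← e2, map_mul, map_mul, map_inv, map_pow, ht]
          congr 3
          refine Subtype.ext ?_
          show (n : G) * ((n : G)⁻¹ * a * (n : G)) * (n : G)⁻¹ = a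
          group)
      simpa using congrArg (fun x : ↥(lift u L) => (x : G)) h3
    refine (commute_of_conj_eq ?_).symm
    have hwc : (w : G) = ((t : G) ^ (2 ^ i))⁻¹ * ((n : G) * t * (n : G)⁻¹) := by simp [hw, htn]
    rw [hwc]
    calc ((t : G) ^ (2 ^ i))⁻¹ * ((n : G) * t * (n : G)⁻¹) * a *
          (((t : G) ^ (2 ^ i))⁻¹ * ((n : G) * t * (n : G)⁻¹))⁻¹
        = ((t : G) ^ (2 ^ i))⁻¹ * ((n : G) * d * (n : G)⁻¹) * (t : G) ^ (2 ^ i) := by
          simp only [hd, hc']; group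
      _ = a := by rw [hda]; group

theorem norm_of_fix (e : Endgame T A M q u R L Z τ H σ) {k : NX A} (hk : k ∈ H) {s : NX A}
    (hs : s ∈ nimg A e.top.data.sPart) (hs1 : s ≠ 1) (hks : k * s = s * k) :
    k ∈ Subgroup.normalizer (nimg A e.top.data.sPart : Set (NX A)) := by
  have b := e.top.data
  have hc := e.top.counted
  obtain ⟨⟨s, hsN⟩, hsS, rfl⟩ := hs
  have hsS : s ∈ e.top.data.sPart := hsS
  have hs1' : s ≠ 1 := by
    rintro rfl
    exact hs1 (map_one (nx A))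
  refine mem_normalizer_of_conj_mem ?_
  rintro _ ⟨⟨x, hxN⟩, hx, rfl⟩
  have hx : x ∈ e.top.data.sPart := hx
  rcases le_or_gt (Nat.card e.top.data.sPart) 2 with hr | hr
  · rcases eq_or_ne x 1 with rfl | hx1
    · rw [show (⟨1, hxN⟩ : ↥(Subgroup.normalizer (A : Set G))) = 1 from rfl, map_one, mul_one,
        mul_inv_cancel]
      exact one_mem _
    · have hxs : x = s := by
        rw [(e.top.sPart_two hr hx).resolve_left hx1, (e.top.sPart_two hr hsS).resolve_left hs1']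
      subst hxs
      rw [conj_eq_of_commute hks]
      exact ⟨⟨x, hxN⟩, hsS, rfl⟩
  · have hW := e.top.wcl_eq_bot hr
    obtain ⟨n, rfl, hnT⟩ := e.tower.exists_lift_T k
    have hns : (n : G) * s * (n : G)⁻¹ = s := by
      refine e.top.eq_of_nx (normalizer_conj hnT (e.top.sPart_le_T hsS)) (e.top.sPart_le_T hsS) ?_
      rw [show (⟨(n : G) * s * (n : G)⁻¹, _⟩ : ↥(Subgroup.normalizer (A : Set G))) =
        n * ⟨s, hsN⟩ * n⁻¹ from rfl, map_mul, map_mul, map_inv]
      exact conj_eq_of_commute hks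
    have hK := e.tower.conj_lift hW n.2 hsS hs1' hsS hns
    refine ⟨n * ⟨x, hxN⟩ * n⁻¹, (b.mem_sPart_iff hc hW).2 ⟨?_, fun l hl => ?_⟩,
      by rw [map_mul, map_mul, map_inv]⟩
    · show (n : G) * x * (n : G)⁻¹ ∈ R
      refine e.top.fix_sPart hsS hs1' (normalizer_conj hnT (e.top.sPart_le_T hx)) ?_
      have hxs : x * s = s * x := b.sPart_comm hc hx hsS
      calc (n : G) * x * (n : G)⁻¹ * s = (n : G) * x * (n : G)⁻¹ * ((n : G) * s * (n : G)⁻¹) := by
            rw [hns]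
        _ = (n : G) * (x * s) * (n : G)⁻¹ := by group
        _ = (n : G) * (s * x) * (n : G)⁻¹ := by rw [hxs]
        _ = ((n : G) * s * (n : G)⁻¹) * ((n : G) * x * (n : G)⁻¹) := by group
        _ = _ := by rw [hns]
    · show l * ((n : G) * x * (n : G)⁻¹) = (n : G) * x * (n : G)⁻¹ * l
      obtain ⟨m, hm, rfl⟩ := hK.ge hl
      have hmx := ((b.mem_sPart_iff hc hW).1 hx).2 m hm
      show (n : G) * m * (n : G)⁻¹ * ((n : G) * x * (n : G)⁻¹) =
        (n : G) * x * (n : G)⁻¹ * ((n : G) * m * (n : G)⁻¹)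
      calc (n : G) * m * (n : G)⁻¹ * ((n : G) * x * (n : G)⁻¹) = (n : G) * (m * x) * (n : G)⁻¹ := by
            group
        _ = _ := by rw [hmx]; group

theorem exists_semi (e : Endgame T A M q u R L Z τ H σ) : Semi T A M q u R L Z τ H σ :=
  ⟨e, fun _ hk hS hA => e.kernel hk hS hA, fun _ hk hS => e.semi hk hS,
    fun _ hk _ hs hs1 hks => e.norm_of_fix hk hs hs1 hks⟩

end Endgame

end Cfsg.Agent.Lib.Thompson3Prime33
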