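import Cfsg.Agent.Lib.Thompson3Prime33.EndBase
import Cfsg.Agent.Lib.Thompson3Prime33.Common

/-!
# Elements of `H` stabilising the image of `S`

Such an element induces an automorphism of the component.

Owner: helper33.
-/

set_option autoImplicit false
set_option linter.style.haveILetI false
set_option linter.unusedSectionVars false
set_option linter.unusedVariables false

namespace Cfsg.Agent.Lib.Thompson3Prime33

universe u

variable {G : Type u} [Group G] [Finite G] {T : Sylow 2 G} {A M : Subgroup G} {q : ℕ}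
variable {u : G} {R : Subgroup G} {L : Subgroup (CQ u)}
  {Z : Subgroup (↥L ⧸ Subgroup.center ↥L)} {τ : ↥L ⧸ Subgroup.center ↥L}

namespace Top

/-- The centraliser in `T` of a non-trivial element of `S` is `R`. -/
theorem fix_sPart (h : Top T A M q u R L Z τ) {s : G} (hs : s ∈ h.data.sPart) (hs1 : s ≠ 1) {g : G}
    (hg : g ∈ (T : Subgroup G)) (hgs : g * s = s * g) : g ∈ R := by
  haveI : Fact (Nat.Prime 2) := ⟨Nat.prime_two⟩
  obtain ⟨L', Z', τ', b⟩ := h.exists_data_sPart hs hs1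
  set V := (T : Subgroup G) ⊓ Subgroup.centralizer ({s} : Set G)
  have hV : R = V := by
    refine Subgroup.eq_of_le_of_card_ge (le_inf h.trans.le b.comp.base.sylow.le) ?_
    obtain ⟨k, hk⟩ := IsPGroup.iff_card.1 (T.2.to_le (inf_le_left : V ≤ (T : Subgroup G)))
    rw [hk, b.comp.base.sylow.card_eq]
    exact Nat.pow_le_pow_right two_pos
      ((Nat.Prime.pow_dvd_iff_le_factorization Nat.prime_two Nat.card_pos.ne').1
        (hk ▸ Subgroup.card_dvd_of_le inf_le_right))
  exact hV ▸ ⟨hg, Subgroup.mem_centralizer_singleton_iff.2 hgs⟩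

theorem sPart_two (h : Top T A M q u R L Z τ) (hr : Nat.card h.data.sPart ≤ 2) {s : G}
    (hs : s ∈ h.data.sPart) : s = 1 ∨ s = u := by
  have he : Subgroup.zpowers u = h.data.sPart := Subgroup.eq_of_le_of_card_ge
    (Subgroup.zpowers_le.2 h.data.self_mem_sPart) (by rw [Nat.card_zpowers, h.data.invol]; exact hr)
  rw [← he, ← mem_powers_iff_mem_zpowers, Submonoid.mem_powers_iff] at hs
  obtain ⟨i, rfl⟩ := hs
  rcases Nat.even_or_odd i with ⟨j, rfl⟩ | ⟨j, rfl⟩
  · left; rw [← two_mul, pow_mul, pow_two, h.data.mul_self, one_pow]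
  · right; rw [pow_succ, pow_mul, pow_two, h.data.mul_self, one_pow, one_mul]

theorem conj_fix_of_two (h : Top T A M q u R L Z τ) (hr : Nat.card h.data.sPart ≤ 2) {n : G}
    (hn : n ∈ Subgroup.normalizer (h.data.sPart : Set G)) : n * u * n⁻¹ = u :=
  (h.sPart_two hr (normalizer_conj hn h.data.self_mem_sPart)).resolve_left fun e => by
    have := h.data.invol
    rw [conj_eq_one_iff.1 e, orderOf_one] at this
    omega

end Top

namespace Tower

/-- With trivial completion a subgroup normalising `S` and `A` normalises the component. -/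
theorem conj_lift (h : Tower T A M q u R L Z τ) (hW : wcl A = ⊥) {n : G}
    (hnA : n ∈ Subgroup.normalizer (A : Set G)) {s : G} (hs : s ∈ h.top.data.sPart) (hs1 : s ≠ 1)
    {s' : G} (hs' : s' ∈ h.top.data.sPart) (he : n * s' * n⁻¹ = s) :
    cj n (lift u L) = lift u L := by
  have b := h.top.data
  have hc := h.top.counted
  haveI := b.isSimple_lift hc hW
  obtain ⟨L₁, Z₁, τ₁, b₁⟩ := h.top.exists_data_sPart hs hs1
  haveI : IsSimpleGroup ↥(cj n (lift u L)) :=
    ((lift u L).equivMapOfInjective _ (MulAut.conj n).injective).isSimpleGroup_congr.1 inferInstance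
  have hK : cj n (lift u L) ≤ lift u L := by
    refine (b₁.simple_le_lift hc (K := cj n (lift u L)) ?_
      fun x hx => ⟨n⁻¹ * x * n, ?_, by simp [mul_assoc]⟩).trans (h.top.lift_eq hW hs b₁).le
    · rintro _ ⟨l, hl, rfl⟩
      refine Subgroup.mem_centralizer_singleton_iff.2 ?_
      show n * l * n⁻¹ * s = s * (n * l * n⁻¹)
      rw [← he]
      calc n * l * n⁻¹ * (n * s' * n⁻¹) = n * (l * s') * n⁻¹ := by group
        _ = n * (s' * l) * n⁻¹ := by rw [b.commute_lift hc hW hl hs'.2]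
        _ = _ := by group
    · have := b.A_le_lift hc (normalizer_conj (inv_mem hnA) hx)
      simpa using this
  exact Subgroup.eq_of_le_of_card_ge hK (by rw [card_cj])

theorem nO_eq_bot (h : Tower T A M q u R L Z τ) (hW : wcl A = ⊥) : nO A = ⊥ :=
  le_bot_iff.1 (hW ▸ h.top.counted.nO_le_wcl)

theorem nx_injective (h : Tower T A M q u R L Z τ) (hW : wcl A = ⊥) :
    Function.Injective (nx A) := by
  refine (injective_iff_map_eq_one _).2 fun g hg => ?_
  have := nx_eq_one.1 hg
  rw [h.nO_eq_bot hW, Subgroup.mem_bot] at this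
  exact Subtype.ext this

end Tower

/-- A lift normalising `A`, `T`, `R` and `S` of an element stabilising the image of `S`. -/
structure SLift (T : Sylow 2 G) (A : Subgroup G) (R S : Subgroup G) (k : NX A)
    (n : ↥(Subgroup.normalizer (A : Set G))) : Prop where
  eq : nx A n = k
  normT : (n : G) ∈ Subgroup.normalizer ((T : Subgroup G) : Set G)
  normR : (n : G) ∈ Subgroup.normalizer (R : Set G)
  normS : (n : G) ∈ Subgroup.normalizer (S : Set G)

namespace Endgame

variable {H : Subgroup (NX A)} {σ : NX A}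

theorem conj_mem_of_nx (e : Endgame T A M q u R L Z τ H σ) {n : ↥(Subgroup.normalizer (A : Set G))}
    (hnT : (n : G) ∈ Subgroup.normalizer ((T : Subgroup G) : Set G)) {K : Subgroup G}
    (hK : K ≤ (T : Subgroup G)) {d : G} (hd : d ∈ (T : Subgroup G))
    (h : nx A n * nx A ⟨d, e.tower.T_le hd⟩ * (nx A n)⁻¹ ∈ nimg A K) :
    (n : G) * d * (n : G)⁻¹ ∈ K := by
  obtain ⟨k, hk, hke⟩ := h
  have h1 : (n : G) * d * (n : G)⁻¹ = k := by
    refine e.top.eq_of_nx (normalizer_conj hnT hd) (hK hk) (hke.trans ?_).symm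
    rw [← map_inv, ← map_mul, ← map_mul]
    rfl
  rw [h1]; exact hk

theorem exists_slift (e : Endgame T A M q u R L Z τ H σ) {k : NX A}
    (hk : k ∈ Subgroup.normalizer (nimg A e.top.data.sPart : Set (NX A))) :
    ∃ n, SLift T A R e.top.data.sPart k n := by
  obtain ⟨n, rfl, hnT⟩ := e.tower.exists_lift_T k
  have hS : (n : G) ∈ Subgroup.normalizer (e.top.data.sPart : Set G) :=
    mem_normalizer_of_conj_mem fun s hs => e.conj_mem_of_nx hnT e.top.sPart_le_T (e.top.sPart_le_T hs)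
      (normalizer_conj hk (mem_nimg (fun x hx => e.tower.T_le (e.top.sPart_le_T hx)) hs))
  refine ⟨n, rfl, hnT, mem_normalizer_of_conj_mem fun r hr => ?_, hS⟩
  have b := e.top.data
  have hs := normalizer_conj hS b.self_mem_sPart
  refine e.top.fix_sPart hs (fun he => ?_) (normalizer_conj hnT (e.top.trans.le hr)) ?_
  · have := b.invol
    rw [conj_eq_one_iff.1 he, orderOf_one] at this
    omega
  · calc (n : G) * r * (n : G)⁻¹ * ((n : G) * u * (n : G)⁻¹) = n * (r * u) * (n : G)⁻¹ := by group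
      _ = n * (u * r) * (n : G)⁻¹ := by
          rw [Subgroup.mem_centralizer_singleton_iff.1 (b.comp.base.sylow.le hr)]
      _ = _ := by group

/-- The automorphism induced on the component. -/
theorem exists_aut (e : Endgame T A M q u R L Z τ H σ) {n : ↥(Subgroup.normalizer (A : Set G))}
    (hnS : (n : G) ∈ Subgroup.normalizer (e.top.data.sPart : Set G)) :
    ∃ φ : MulAut (↥L ⧸ Subgroup.center ↥L), ∀ g : ↥(lift u L),
      ∃ h' : (n : G) * g * (n : G)⁻¹ ∈ lift u L, lmap u L ⟨_, h'⟩ = φ (lmap u L g) := by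
  have b := e.top.data
  have hc := e.top.counted
  rcases le_or_gt (Nat.card e.top.data.sPart) 2 with hr | hr
  · have hnC : (n : G) ∈ Subgroup.centralizer ({u} : Set G) :=
      Subgroup.mem_centralizer_singleton_iff.2 (commute_of_conj_eq (e.top.conj_fix_of_two hr hnS))
    refine ⟨autOn L ⟨cmap u ⟨n, hnC⟩, b.normalizes _⟩, fun g => ⟨b.conj_mem_lift hnC g.2, ?_⟩⟩
    rw [lmap_apply g, autOn_apply]
    refine lmap_eq_sig _ _ ?_
    rw [show (⟨(n : G) * g * (n : G)⁻¹, _⟩ : ↥(Subgroup.centralizer ({u} : Set G))) =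
      ⟨n, hnC⟩ * ⟨g, lift_le u L g.2⟩ * ⟨n, hnC⟩⁻¹ from rfl, map_mul, map_mul, map_inv]
    rfl
  · have hW := e.top.wcl_eq_bot hr
    have hs := normalizer_conj hnS b.self_mem_sPart
    have hK := e.tower.conj_lift hW n.2 hs (fun he => by
      have := b.invol
      rw [conj_eq_one_iff.1 he, orderOf_one] at this
      omega) b.self_mem_sPart rfl
    have hbij : Function.Bijective (lmap u L) := by
      refine ⟨(injective_iff_map_eq_one _).2 fun g hg => Subtype.ext ?_, lmap_surjective u L⟩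
      exact congrArg (fun v : ↥(Subgroup.centralizer ({u} : Set G)) => (v : G))
        ((injective_iff_map_eq_one _).1 (b.cmap_injective hc hW) _ (b.cmap_eq_one_of_lmap hg))
    set e₀ := MulEquiv.ofBijective (lmap u L) hbij with he₀
    set c : MulAut ↥(lift u L) := (lift u L).normalizerMonoidHom ⟨n, mem_normalizer_of_cj_le hK.le⟩
    refine ⟨e₀.symm.trans (c.trans e₀), fun g => ⟨normalizer_conj (mem_normalizer_of_cj_le hK.le) g.2, ?_⟩⟩
    rw [show lmap u L g = e₀ g from rfl, MulEquiv.trans_apply, MulEquiv.symm_apply_apply,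
      MulEquiv.trans_apply]
    rfl

theorem aut_P (e : Endgame T A M q u R L Z τ H σ) {n : ↥(Subgroup.normalizer (A : Set G))}
    (hnR : (n : G) ∈ Subgroup.normalizer (R : Set G)) {φ : MulAut (↥L ⧸ Subgroup.center ↥L)}
    (hφ : ∀ g : ↥(lift u L),
      ∃ h' : (n : G) * g * (n : G)⁻¹ ∈ lift u L, lmap u L ⟨_, h'⟩ = φ (lmap u L g)) :
    (pbar (qimg u R) L).map φ.toMonoidHom = pbar (qimg u R) L := by
  refine Subgroup.eq_of_le_of_card_ge ?_ (Subgroup.card_map_of_injective φ.injective).ge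
  rintro _ ⟨p, hp, rfl⟩
  obtain ⟨g, hg, rfl⟩ := e.top.data.comp.exists_R hp
  obtain ⟨h', he⟩ := hφ g
  show φ (lmap u L g) ∈ _
  rw [← he]
  exact e.top.data.comp.lmap_mem_pbar (normalizer_conj hnR hg)

/-- An element stabilising `S` and centralising `A` fixes the component pointwise. -/
theorem aut_eq_one (e : Endgame T A M q u R L Z τ H σ) {k : NX A} (hk : k ∈ H)
    (hkA : k ∈ Subgroup.centralizer (nimg A A : Set (NX A)))
    {n : ↥(Subgroup.normalizer (A : Set G))} (hn : SLift T A R e.top.data.sPart k n)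
    (g : ↥(lift u L)) :
    ∃ h' : (n : G) * g * (n : G)⁻¹ ∈ lift u L, lmap u L ⟨_, h'⟩ = lmap u L g := by
  have b := e.top.data
  have hc := e.top.counted
  obtain ⟨φ, hφ⟩ := e.exists_aut hn.normS
  have hnA := cent_of_nx hc.closed (hn.eq.symm ▸ hkA)
  suffices h1 : φ = 1 by
    obtain ⟨h', he⟩ := hφ g
    exact ⟨h', by rw [he, h1]; rfl⟩
  have hZ : ∀ z ∈ Z, φ z = z := by
    intro z hz
    obtain ⟨f, hf, rfl⟩ := b.comp.exists_F hz
    obtain ⟨h', he⟩ := hφ f
    rw [← he]
    exact congrArg _ (Subtype.ext (conj_eq_of_commute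
      (Subgroup.mem_centralizer_iff.1 hnA _ hf.1).symm))
  obtain ⟨x, hx, rfl⟩ := b.comp.loc.aut_fix φ hZ
  -- iterate
  have hpow : ∀ j : ℕ, ∀ g : ↥(lift u L), ∃ h' : (n : G) ^ j * g * ((n : G) ^ j)⁻¹ ∈ lift u L,
      lmap u L ⟨_, h'⟩ = (MulAut.conj x ^ j) (lmap u L g) := by
    intro j
    induction j with
    | zero => intro g; exact ⟨by simp, by simp⟩
    | succ j ih =>
      intro g
      obtain ⟨h₁, e₁⟩ := hφ g
      obtain ⟨h₂, e₂⟩ := ih ⟨_, h₁⟩
      have heq : (n : G) ^ (j + 1) * g * ((n : G) ^ (j + 1))⁻¹ =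
          (n : G) ^ j * ((n : G) * g * (n : G)⁻¹) * ((n : G) ^ j)⁻¹ := by rw [pow_succ]; group
      refine ⟨heq ▸ h₂, (congrArg _ (Subtype.ext heq)).trans (e₂.trans ?_)⟩
      rw [e₁, pow_succ, MulAut.mul_apply]
  set m := orderOf k with hm
  have hmodd : Odd m := e.odd.of_dvd_nat (Subgroup.orderOf_dvd_natCard _ hk)
  have hno : ((n ^ m : ↥(Subgroup.normalizer (A : Set G))) : G) ∈ nO A := nx_eq_one.1
    (by rw [map_pow, hn.eq, hm, pow_orderOf_eq_one])
  rw [Subgroup.coe_pow] at hno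
  have hnu : (n : G) ^ m * u = u * (n : G) ^ m := by
    refine commute_of_conj_eq ?_
    have hN : (n : G) ^ m ∈ Subgroup.normalizer (A : Set G) := pow_mem n.2 m
    have huT : u ∈ (T : Subgroup G) := e.top.trans.le b.self_mem_R
    refine e.top.eq_of_nx (normalizer_conj (pow_mem hn.normT m) huT) huT ?_
    rw [show (⟨(n : G) ^ m * u * ((n : G) ^ m)⁻¹, _⟩ : ↥(Subgroup.normalizer (A : Set G))) =
      ⟨(n : G) ^ m, hN⟩ * ⟨u, b.mem⟩ * ⟨(n : G) ^ m, hN⟩⁻¹ from rfl, map_mul, map_mul, map_inv,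
      nx_eq_one.2 hno, one_mul, inv_one, mul_one]
  have hcore : (n : G) ^ m ∈ Cfsg.centralizerPPrimeCore 2 u := by
    rw [hc.core_eq u b.bad b.mem]
    exact ⟨hc.nO_le_wcl hno, Subgroup.mem_centralizer_singleton_iff.2 hnu⟩
  have hconj : MulAut.conj x ^ m = 1 := by
    refine MulEquiv.ext fun y => ?_
    obtain ⟨g, rfl⟩ := lmap_surjective u L y
    obtain ⟨h', he⟩ := hpow m g
    rw [← he, MulAut.one_apply]
    have hgC := lift_le u L g.2
    have hnC : (n : G) ^ m ∈ Subgroup.centralizer ({u} : Set G) :=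
      Balance.centralizerPPrimeCore_le u hcore
    rw [lmap_apply g]
    refine lmap_eq_sig _ _ ?_
    rw [show (⟨(n : G) ^ m * g * ((n : G) ^ m)⁻¹, _⟩ : ↥(Subgroup.centralizer ({u} : Set G))) =
      ⟨(n : G) ^ m, hnC⟩ * ⟨g, hgC⟩ * ⟨(n : G) ^ m, hnC⟩⁻¹ from rfl, map_mul, map_mul, map_inv,
      cmap_eq_one.2 hcore, one_mul, inv_one, mul_one]
    rfl
  rw [← map_pow] at hconj
  obtain ⟨i, hi⟩ := b.comp.loc.isPGroup_P ⟨x, hx⟩
  have hxm : x ^ m = 1 := b.comp.loc.conj_injective (hconj.trans (map_one _).symm)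
  rw [show x = 1 from orderOf_eq_one_iff.1 (Nat.eq_one_of_dvd_coprimes
    ((Nat.coprime_two_left.2 hmodd).pow_left i) (orderOf_dvd_of_pow_eq_one (congrArg Subtype.val hi))
    (orderOf_dvd_of_pow_eq_one hxm)), map_one]

/-- An element stabilising `S` and centralising `A` commutes with the images of the elements of the
component in `N(A)`. -/
theorem comm_lift (e : Endgame T A M q u R L Z τ H σ) {k : NX A} (hk : k ∈ H)
    (hkA : k ∈ Subgroup.centralizer (nimg A A : Set (NX A)))
    (hkS : k ∈ Subgroup.normalizer (nimg A e.top.data.sPart : Set (NX A))) {g : ↥(lift u L)}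
    (hgA : (g : G) ∈ Subgroup.normalizer (A : Set G)) :
    k * nx A ⟨g, hgA⟩ = nx A ⟨g, hgA⟩ * k := by
  obtain ⟨n, hn⟩ := e.exists_slift hkS
  obtain ⟨h', he⟩ := e.aut_eq_one hk hkA hn g
  set w : ↥(Subgroup.normalizer (A : Set G)) := n * ⟨g, hgA⟩ * n⁻¹ * ⟨g, hgA⟩⁻¹
  have hw : (w : G) ∈ Cfsg.centralizerPPrimeCore 2 u := e.top.data.mem_core_of_lmap
    (g := ⟨_, h'⟩ * g⁻¹) (by rw [map_mul, map_inv, he, mul_inv_cancel])
  have h1 := e.tower.nx_core_eq_one hw
  simp only [w, map_mul, map_inv, hn.eq] at h1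
  exact commute_of_conj_eq (mul_inv_eq_one.1 h1)

theorem comm_sigma (e : Endgame T A M q u R L Z τ H σ) {k : NX A} (hk : k ∈ H)
    (hkA : k ∈ Subgroup.centralizer (nimg A A : Set (NX A)))
    (hkS : k ∈ Subgroup.normalizer (nimg A e.top.data.sPart : Set (NX A))) : k * σ = σ * k := by
  obtain ⟨t, -, htN, rfl⟩ := e.torus
  exact e.comm_lift hk hkA hkS htN

/-- An element centralising `A` and the image of `S` is trivial. -/
theorem eq_one_of_cent (e : Endgame T A M q u R L Z τ H σ) {k : NX A} (hk : k ∈ H)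
    (hkA : k ∈ Subgroup.centralizer (nimg A A : Set (NX A)))
    (hkS : ∀ s ∈ nimg A e.top.data.sPart, k * s = s * k) : k = 1 := by
  have b := e.top.data
  have hN : k ∈ Subgroup.normalizer (nimg A e.top.data.sPart : Set (NX A)) :=
    mem_normalizer_of_conj_mem fun s hs => by rwa [conj_eq_of_commute (hkS s hs)]
  refine e.tower.eq_one_of_chain (e.odd.of_dvd_nat (Subgroup.orderOf_dvd_natCard _ hk)) hkA
    fun d hd => ?_
  obtain ⟨p, hp, s, hs, rfl, -⟩ := b.exists_split hd
  rw [show (⟨p * s, b.R_le_normalizer hd⟩ : ↥(Subgroup.normalizer (A : Set G))) =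
    ⟨p, b.R_le_normalizer hp.1⟩ * ⟨s, b.R_le_normalizer hs.1⟩ from rfl, map_mul]
  have h1 : Commute k (nx A ⟨p, b.R_le_normalizer hp.1⟩) :=
    e.comm_lift hk hkA hN (g := ⟨p, hp.2⟩) (b.R_le_normalizer hp.1)
  exact h1.mul_right (hkS _ ⟨⟨s, b.R_le_normalizer hs.1⟩, hs, rfl⟩)

end Endgame

end Cfsg.Agent.Lib.Thompson3Prime33
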