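import Cfsg.Agent.Lib.Thompson3Prime33.EndInterface
import Mathlib.Data.Nat.GCD.Basic

/-!
# A normal elementary abelian subgroup of `H` meeting the stabiliser of the image of `S`

It lies in the cyclic group generated by `σ`, so `H` stabilises the image of `S`.

Owner: helper20.
-/

set_option autoImplicit false
set_option linter.style.haveILetI false
set_option linter.unusedSectionVars false
set_option linter.unusedVariables false

namespace Cfsg.Agent.Lib.Thompson3Prime33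

universe u

/-- `2 ^ n - 1` divides `(2 ^ i - 1) p` only for a multiple `i` of `n` when `n ∣ i p`. -/
theorem mersenne_dvd {n i p : ℕ} (hn : 0 < n) (hp : p.Prime) (h1 : n ∣ i * p)
    (h2 : 2 ^ n - 1 ∣ (2 ^ i - 1) * p) : n ∣ i := by
  by_contra hni
  set d := Nat.gcd n i with hd
  have hdn : d ∣ n := Nat.gcd_dvd_left n i
  have hd0 : 0 < d := Nat.gcd_pos_of_pos_left i hn
  obtain ⟨m, hm⟩ := hdn
  have hnd : n ∣ d * p := by
    rw [hd, ← Nat.gcd_mul_right]
    exact Nat.dvd_gcd (dvd_mul_right n p) h1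
  have hmp : m ∣ p := Nat.dvd_of_mul_dvd_mul_left hd0 (hm ▸ hnd)
  rcases (Nat.dvd_prime hp).1 hmp with rfl | rfl
  · exact hni (by rw [hm, mul_one]; exact Nat.gcd_dvd_right n i)
  have h3 : 2 ^ n - 1 ∣ (2 ^ d - 1) * m := by
    rw [hd, ← Nat.pow_sub_one_gcd_pow_sub_one, ← Nat.gcd_mul_right]
    exact Nat.dvd_gcd (dvd_mul_right _ _) h2
  have hx : 2 ≤ 2 ^ d := le_trans (by norm_num) (Nat.pow_le_pow_right two_pos hd0)
  have h4 := Nat.le_of_dvd (Nat.mul_pos (by omega) hp.pos) h3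
  have h5 : 2 ^ d * m ≤ 2 ^ n := by
    rw [hm, pow_mul, show (2 ^ d) ^ m = (2 ^ d) ^ (1 + (m - 1)) by
      rw [Nat.add_sub_cancel' hp.pos], pow_add, pow_one]
    refine Nat.mul_le_mul_left _ (le_trans ?_ (Nat.pow_le_pow_left hx _))
    have := Nat.lt_two_pow_self (n := m - 1)
    omega
  rw [Nat.sub_mul, one_mul] at h4
  have h6 := Nat.mul_le_mul_right m hx
  have := hp.two_le
  generalize 2 ^ d * m = w at h4 h5 h6
  generalize 2 ^ n = y at h4 h5
  omega

variable {G : Type u} [Group G] [Finite G] {T : Sylow 2 G} {A M : Subgroup G} {q : ℕ}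
variable {u : G} {R : Subgroup G} {L : Subgroup (CQ u)}
  {Z : Subgroup (↥L ⧸ Subgroup.center ↥L)} {τ : ↥L ⧸ Subgroup.center ↥L}
  {H : Subgroup (NX A)} {σ : NX A}

namespace Endgame

theorem pow_eq_one_iff (e : Endgame T A M q u R L Z τ H σ) {n : ℕ} :
    σ ^ n = 1 ↔ (q - 1) ∣ n := by
  rw [← orderOf_dvd_iff_pow_eq_one, e.orderOf_eq]

theorem comm_pow_sPart (e : Endgame T A M q u R L Z τ H σ) (n : ℕ) {s : NX A}
    (hs : s ∈ nimg A e.top.data.sPart) : σ ^ n * s * (σ ^ n)⁻¹ = s :=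
  conj_eq_of_commute (Commute.pow_left (e.comm_sPart hs) n)

theorem nimg_sPart_le (e : Endgame T A M q u R L Z τ H σ) :
    nimg A e.top.data.sPart ≤ nimg A (T : Subgroup G) :=
  Subgroup.map_mono fun x hx => e.top.sPart_le_T hx

theorem nimg_A_le (e : Endgame T A M q u R L Z τ H σ) : nimg A A ≤ nimg A (T : Subgroup G) :=
  Subgroup.map_mono fun x hx => e.top.counted.closed.le hx

theorem inf_A_sPart (e : Endgame T A M q u R L Z τ H σ) {x : NX A} (hx : x ∈ nimg A A)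
    (hs : x ∈ nimg A e.top.data.sPart) : x = 1 := by
  obtain ⟨a, ha, rfl⟩ := hx
  obtain ⟨s, hs, he⟩ := hs
  have h1 : (s : G) = a := e.top.eq_of_nx (e.top.sPart_le_T hs) (e.top.counted.closed.le ha) he
  have h2 : (a : G) = 1 := e.top.data.A_inf_sPart e.top.counted ha
    (h1 ▸ (show (s : G) ∈ e.top.data.sPart from hs))
  rw [show a = 1 from Subtype.ext h2, map_one]

end Endgame

namespace Semi

/-- An element of `H` commuting with a non-trivial power of `σ` stabilises the image of `S`. -/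
theorem norm_of_comm (e : Semi T A M q u R L Z τ H σ) {k : NX A} {n : ℕ}
    (hn : σ ^ n ≠ 1) (hc : k * σ ^ n = σ ^ n * k) :
    k ∈ Subgroup.normalizer (nimg A e.base.top.data.sPart : Set (NX A)) := by
  refine mem_normalizer_of_conj_mem fun s hs => ?_
  haveI := e.base.tower.nimg_T_normal
  refine e.base.fix (fun hd => hn (e.base.pow_eq_one_iff.2 hd))
    (Subgroup.Normal.conj_mem inferInstance s (e.base.nimg_sPart_le hs) k) ?_
  have h2 := e.base.comm_pow_sPart n hs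
  calc σ ^ n * (k * s * k⁻¹) * (σ ^ n)⁻¹ = (σ ^ n * k) * s * (σ ^ n * k)⁻¹ := by group
    _ = k * (σ ^ n * s * (σ ^ n)⁻¹) * k⁻¹ := by rw [← hc]; group
    _ = k * s * k⁻¹ := by rw [h2]

theorem norm_pow (e : Semi T A M q u R L Z τ H σ) (j : ℕ) :
    σ ^ j ∈ Subgroup.normalizer (nimg A e.base.top.data.sPart : Set (NX A)) :=
  mem_normalizer_of_conj_mem fun s hs => by rwa [e.base.comm_pow_sPart j hs]

/-- An element stabilising the image of `S` and commuting with `σ` is a power of `σ`. -/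
theorem exists_pow_of_comm (e : Semi T A M q u R L Z τ H σ) {k : NX A} (hk : k ∈ H)
    (hkS : k ∈ Subgroup.normalizer (nimg A e.base.top.data.sPart : Set (NX A)))
    (hc : k * σ = σ * k) : ∃ j : ℕ, k = σ ^ j := by
  have hcl := e.base.top.counted.closed
  haveI := e.base.top.counted.nimg_A_normal
  obtain ⟨a, ha, ha1⟩ := A.bot_or_exists_ne_one.resolve_left hcl.ne_bot
  set a' := nx A ⟨a, Subgroup.le_normalizer ha⟩ with ha'
  obtain ⟨⟨c, hcN⟩, hcA, hce⟩ := Subgroup.Normal.conj_mem (H := nimg A A) inferInstance a'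
    (mem_nimg Subgroup.le_normalizer ha) k
  have hc1 : c ≠ 1 := by
    rintro rfl
    have h0 : nx A (⟨1, hcN⟩ : ↥(Subgroup.normalizer (A : Set G))) = 1 := map_one (nx A)
    have hk1 : k * a' * k⁻¹ = 1 := hce.symm.trans h0
    have h1 := e.base.top.eq_of_nx (hcl.le ha) (T : Subgroup G).one_mem
      ((conj_eq_one_iff.1 hk1).trans h0.symm)
    exact ha1 h1
  obtain ⟨j, hj⟩ := e.base.trans_A ha ha1 hcA hc1
  refine ⟨j, (inv_mul_eq_one.1 ?_).symm⟩
  set x := (σ ^ j)⁻¹ * k with hx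
  have hxa : x * a' * x⁻¹ = a' := by
    rw [hx]
    calc (σ ^ j)⁻¹ * k * a' * ((σ ^ j)⁻¹ * k)⁻¹ = (σ ^ j)⁻¹ * (k * a' * k⁻¹) * σ ^ j := by group
      _ = (σ ^ j)⁻¹ * (σ ^ j * a' * (σ ^ j)⁻¹) * σ ^ j := by rw [← hce, ha', hj]; rfl
      _ = a' := by group
  have hxσ : Commute x σ :=
    (Commute.inv_left (Commute.pow_self σ j)).mul_left hc
  refine e.kernel x (H.mul_mem (H.inv_mem (H.pow_mem e.base.mem j)) hk)
    (Subgroup.mul_mem _ (Subgroup.inv_mem _ (e.norm_pow j)) hkS) ?_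
  refine Subgroup.mem_centralizer_iff.2 ?_
  rintro _ ⟨⟨b, hbN⟩, hb, rfl⟩
  replace hb : b ∈ A := hb
  rcases eq_or_ne b 1 with rfl | hb1
  · rw [show nx A (⟨1, hbN⟩ : ↥(Subgroup.normalizer (A : Set G))) = 1 from map_one (nx A),
      one_mul, mul_one]
  obtain ⟨l, hl⟩ := e.base.trans_A ha ha1 hb hb1
  rw [show nx A ⟨b, hbN⟩ = σ ^ l * a' * (σ ^ l)⁻¹ from hl.symm]
  exact (((hxσ.pow_right l).mul_right (show Commute x a' from commute_of_conj_eq hxa)).mul_right
    (hxσ.pow_right l).inv_right).eq.symm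

/-- A normal elementary abelian subgroup with a non-trivial element stabilising the image of `S`
gives the stability. -/
theorem stab_of_mem (e : Semi T A M q u R L Z τ H σ) {N : Subgroup (NX A)} {p : ℕ} (hp : p.Prime)
    (hNH : N ≤ H) (hHN : H ≤ Subgroup.normalizer (N : Set (NX A)))
    (hNc : ∀ a ∈ N, ∀ b ∈ N, a * b = b * a) (hNp : ∀ a ∈ N, a ^ p = 1)
    {n : NX A} (hn : n ∈ N) (hn1 : n ≠ 1)
    (hnS : n ∈ Subgroup.normalizer (nimg A e.base.top.data.sPart : Set (NX A))) :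
    H ≤ Subgroup.normalizer (nimg A e.base.top.data.sPart : Set (NX A)) := by
  obtain ⟨m, hm, hqm⟩ := e.base.top.counted.q_eq
  -- the commutator with `σ`
  have hcom : ∀ {y : NX A} {i : ℕ}, y ∈ N → y * σ * y⁻¹ = σ ^ 2 ^ i → σ ^ (2 ^ i - 1) ∈ N := by
    intro y i hy hi
    rw [pow_sub _ Nat.one_le_two_pow, pow_one, ← hi,
      show y * σ * y⁻¹ * σ⁻¹ = y * (σ * y⁻¹ * σ⁻¹) by group]
    exact mul_mem hy (normalizer_conj (hHN e.base.mem) (inv_mem hy))
  -- a power of `σ` in `N`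
  obtain ⟨j, hjN, hj1⟩ : ∃ j : ℕ, σ ^ j ∈ N ∧ σ ^ j ≠ 1 := by
    obtain ⟨i, hi⟩ := e.semi n (hNH hn) hnS
    by_cases hc : σ ^ (2 ^ i - 1) = 1
    · rw [pow_sub _ Nat.one_le_two_pow, pow_one, mul_inv_eq_one] at hc
      obtain ⟨j, rfl⟩ := e.exists_pow_of_comm (hNH hn) hnS (by
        have h1 := hi.trans hc
        exact commute_of_conj_eq h1)
      exact ⟨j, hn, hn1⟩
    · exact ⟨_, hcom hn hi, hc⟩
  have hNS : ∀ y ∈ N, y ∈ Subgroup.normalizer (nimg A e.base.top.data.sPart : Set (NX A)) :=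
    fun y hy => e.norm_of_comm hj1 (hNc y hy _ hjN)
  have hpow : ∀ y ∈ N, ∃ l : ℕ, y = σ ^ l := by
    intro y hy
    obtain ⟨i, hi⟩ := e.semi y (hNH hy) (hNS y hy)
    have hit : ∀ k : ℕ, y ^ k * σ * (y ^ k)⁻¹ = σ ^ 2 ^ (i * k) := by
      intro k
      induction k with
      | zero => simp
      | succ k ih =>
        calc y ^ (k + 1) * σ * (y ^ (k + 1))⁻¹ = y * (y ^ k * σ * (y ^ k)⁻¹) * y⁻¹ := by
              rw [pow_succ']; group
          _ = (y * σ * y⁻¹) ^ 2 ^ (i * k) := by rw [ih, conj_pow]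
          _ = σ ^ 2 ^ (i * (k + 1)) := by rw [hi, ← pow_mul, ← pow_add]; congr 2; ring
    have h1 := hit p
    rw [hNp y hy, one_mul, inv_one, mul_one] at h1
    have h2 : (q - 1) ∣ 2 ^ (i * p) - 1 := e.base.pow_eq_one_iff.1 (by
      rw [pow_sub _ Nat.one_le_two_pow, pow_one, ← h1, mul_inv_cancel])
    have h3 : (q - 1) ∣ (2 ^ i - 1) * p := e.base.pow_eq_one_iff.1 (by
      rw [pow_mul]; exact hNp _ (hcom hy hi))
    rw [hqm] at h2 h3
    have h4 : 2 * m + 1 ∣ i * p := by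
      have h5 := Nat.gcd_eq_left h2
      rw [Nat.pow_sub_one_gcd_pow_sub_one] at h5
      have h6 : Nat.gcd (2 * m + 1) (i * p) = 2 * m + 1 := by
        refine Nat.pow_right_injective le_rfl ?_
        have := Nat.one_le_two_pow (n := Nat.gcd (2 * m + 1) (i * p))
        have := Nat.one_le_two_pow (n := 2 * m + 1)
        show 2 ^ _ = 2 ^ _
        omega
      exact Nat.gcd_eq_left_iff_dvd.1 h6
    obtain ⟨c, hc⟩ := mersenne_dvd (by omega) hp h4 h3
    refine e.exists_pow_of_comm (hNH hy) (hNS y hy) (commute_of_conj_eq (hi.trans ?_))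
    have h7 : (q - 1) ∣ 2 ^ i - 1 := by
      rw [hqm, hc, pow_mul]
      simpa using Nat.sub_one_dvd_pow_sub_one (2 ^ (2 * m + 1)) c
    have h8 := e.base.pow_eq_one_iff.2 h7
    rw [pow_sub _ Nat.one_le_two_pow, pow_one, mul_inv_eq_one] at h8
    exact h8
  intro k hk
  refine mem_normalizer_of_conj_mem fun s hs => ?_
  haveI := e.base.tower.nimg_T_normal
  refine e.base.fix (fun hd => hj1 (e.base.pow_eq_one_iff.2 hd))
    (Subgroup.Normal.conj_mem inferInstance s (e.base.nimg_sPart_le hs) k) ?_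
  obtain ⟨l, hl⟩ := hpow _ (normalizer_conj (hHN (inv_mem hk)) hjN)
  have h1 := e.base.comm_pow_sPart l hs
  rw [← hl] at h1
  calc σ ^ j * (k * s * k⁻¹) * (σ ^ j)⁻¹
      = k * ((k⁻¹ * σ ^ j * k⁻¹⁻¹) * s * (k⁻¹ * σ ^ j * k⁻¹⁻¹)⁻¹) * k⁻¹ := by group
    _ = k * s * k⁻¹ := by rw [h1]

end Semi

end Cfsg.Agent.Lib.Thompson3Prime33
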