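import Cfsg.Agent.Lib.Thompson3Prime33.NQ

/-!
# The part of `T` in the `2`-core of `N(A) / O(N(A))`

It contains `A` and the part of `R` centralising the component, its elements translate by elements
of `A`, and its intersection with `R` is `A S` or `R`.

Owner: helper33.
-/

set_option autoImplicit false
set_option linter.style.haveILetI false
set_option linter.unusedSectionVars false
set_option linter.unusedVariables false

namespace Cfsg.Agent.Lib.Thompson3Prime33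

universe u

variable {G : Type u} [Group G] [Finite G] {T : Sylow 2 G} {A M : Subgroup G} {q : ℕ}

/-- The part of `T` in the preimage of the `2`-core of `N(A) / O(N(A))`. -/
def tcore (T : Sylow 2 G) (A : Subgroup G) : Subgroup G :=
  (T : Subgroup G) ⊓ ((Cfsg.pCore 2 (NX A)).comap (nx A)).map
    (Subgroup.normalizer (A : Set G)).subtype

theorem tcore_le : tcore T A ≤ (T : Subgroup G) := inf_le_left

theorem mem_tcore {g : ↥(Subgroup.normalizer (A : Set G))} (hg : (g : G) ∈ (T : Subgroup G)) :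
    (g : G) ∈ tcore T A ↔ nx A g ∈ Cfsg.pCore 2 (NX A) := by
  constructor
  · rintro ⟨-, k, hk, e⟩
    exact Subtype.ext e ▸ hk
  · exact fun h => ⟨hg, g, h, rfl⟩

/-- In a group whose `2`-core contains its centraliser an element centralising the factors of
`1 ≤ B ≤ O₂` lies in the `2`-core. -/
theorem mem_pCore_of_chain {X : Type u} [Group X] [Finite X]
    (hc : Subgroup.centralizer (Cfsg.pCore 2 X : Set X) ≤ Cfsg.pCore 2 X) (B : Subgroup X)
    [B.Normal] (hB : ∀ b ∈ B, b * b = 1) {y : X} (hy : y ∈ Subgroup.centralizer (B : Set X))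
    (hd : ∀ x ∈ Cfsg.pCore 2 X, y * x * y⁻¹ * x⁻¹ ∈ B) : y ∈ Cfsg.pCore 2 X := by
  haveI : Fact (Nat.Prime 2) := ⟨Nat.prime_two⟩
  set O := Cfsg.pCore 2 X
  set φ := QuotientGroup.mk' B
  haveI : (O.map φ).Normal :=
    Subgroup.Normal.map inferInstance φ (QuotientGroup.mk'_surjective B)
  haveI := Subgroup.normal_centralizer (H := O.map φ)
  haveI := Subgroup.normal_centralizer (H := B)
  haveI : ((Subgroup.centralizer (O.map φ : Set (X ⧸ B))).comap φ).Normal :=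
    Subgroup.Normal.comap inferInstance φ
  set J := Subgroup.centralizer (B : Set X) ⊓
    (Subgroup.centralizer (O.map φ : Set (X ⧸ B))).comap φ with hJ
  haveI : J.Normal := inferInstance
  have hJ2 : IsPGroup 2 J := by
    intro j
    have hmem : (j : X) * j ∈ Subgroup.centralizer (O : Set X) := by
      refine Subgroup.mem_centralizer_iff.2 fun x hx => (commute_of_conj_eq ?_).symm
      have h1 : φ ((j : X) * x * (j : X)⁻¹ * x⁻¹) = 1 := by
        have := Subgroup.mem_centralizer_iff.1 j.2.2 (φ x) ⟨x, hx, rfl⟩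
        rw [map_mul, map_mul, map_mul, map_inv, map_inv, ← this]; group
      have h2 : (j : X) * x * (j : X)⁻¹ * x⁻¹ ∈ B := (QuotientGroup.eq_one_iff _).1 h1
      set b := (j : X) * x * (j : X)⁻¹ * x⁻¹
      have hbx : b * x = (j : X) * x * (j : X)⁻¹ := by simp [b]
      calc (j : X) * j * x * ((j : X) * j)⁻¹ = (j : X) * ((j : X) * x * (j : X)⁻¹) * (j : X)⁻¹ := by
            group
        _ = (j : X) * (b * x) * (j : X)⁻¹ := by rw [← hbx]
        _ = ((j : X) * b * (j : X)⁻¹) * ((j : X) * x * (j : X)⁻¹) := by group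
        _ = b * (b * x) := by
            rw [conj_eq_of_commute (Subgroup.mem_centralizer_iff.1 j.2.1 b h2).symm, hbx]
        _ = x := by rw [← mul_assoc, hB b h2, one_mul]
    obtain ⟨i, hi⟩ := Cores.pCore_isPGroup (G := X) 2 ⟨(j : X) * j, hc hmem⟩
    refine ⟨i + 1, Subtype.ext ?_⟩
    show (j : X) ^ 2 ^ (i + 1) = 1
    rw [pow_succ', pow_mul, pow_two]
    exact congrArg Subtype.val hi
  refine Cores.le_pCore hJ2 ⟨hy, Subgroup.mem_centralizer_iff.2 ?_⟩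
  rintro _ ⟨x, hx, rfl⟩
  have h1 : φ (y * x * y⁻¹ * x⁻¹) = 1 := (QuotientGroup.eq_one_iff _).2 (hd x hx)
  simp only [map_mul, map_inv] at h1
  exact (commute_of_conj_eq (mul_inv_eq_one.1 h1)).symm

namespace Top

variable {u : G} {R : Subgroup G} {L : Subgroup (CQ u)}
  {Z : Subgroup (↥L ⧸ Subgroup.center ↥L)} {τ : ↥L ⧸ Subgroup.center ↥L}

theorem exists_tcore (h : Top T A M q u R L Z τ) {x : NX A} (hx : x ∈ Cfsg.pCore 2 (NX A)) :
    ∃ g : ↥(Subgroup.normalizer (A : Set G)), (g : G) ∈ tcore T A ∧ nx A g = x := by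
  haveI : Fact (Nat.Prime 2) := ⟨Nat.prime_two⟩
  obtain ⟨S, hS⟩ := h.exists_sylow_nx
  obtain ⟨g, hg, rfl⟩ : x ∈ nimg A (T : Subgroup G) := hS ▸ Cores.pCore_le_sylow S hx
  exact ⟨g, (mem_tcore hg).2 hx, rfl⟩

theorem tcore_conj (h : Top T A M q u R L Z τ) {n : ↥(Subgroup.normalizer (A : Set G))} {d : G}
    (hd : d ∈ tcore T A) :
    ∃ d' : ↥(Subgroup.normalizer (A : Set G)), (d' : G) ∈ tcore T A ∧
      nx A n * nx A ⟨d, h.counted.closed.sylow_le (tcore_le hd)⟩ * (nx A n)⁻¹ = nx A d' := by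
  obtain ⟨g, hg, e⟩ := h.exists_tcore ((inferInstance : (Cfsg.pCore 2 (NX A)).Normal).conj_mem _
    ((mem_tcore (g := ⟨d, h.counted.closed.sylow_le (tcore_le hd)⟩) (tcore_le hd)).1 hd) (nx A n))
  exact ⟨g, hg, e.symm⟩

theorem le_tcore_A (h : Top T A M q u R L Z τ) : A ≤ tcore T A := fun a ha => by
  haveI := h.counted.nimg_A_normal
  exact (mem_tcore (g := ⟨a, Subgroup.le_normalizer ha⟩) (h.counted.closed.le ha)).2
    (Cores.le_pCore h.counted.nimg_A_two (mem_nimg Subgroup.le_normalizer ha))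

theorem nx_cent_A (h : Top T A M q u R L Z τ) {g : ↥(Subgroup.normalizer (A : Set G))}
    (hg : (g : G) ∈ Subgroup.centralizer (A : Set G)) :
    nx A g ∈ Subgroup.centralizer (nimg A A : Set (NX A)) := by
  refine Subgroup.mem_centralizer_iff.2 ?_
  rintro _ ⟨a, ha, rfl⟩
  rw [← map_mul, ← map_mul]
  exact congrArg _ (Subtype.ext (Subgroup.mem_centralizer_iff.1 hg _ ha))

theorem nimg_A_sq (h : Top T A M q u R L Z τ) : ∀ b ∈ nimg A A, b * b = 1 := by
  rintro _ ⟨a, ha, rfl⟩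
  rw [← map_mul, show a * a = 1 from Subtype.ext (h.counted.closed.sq ha), map_one]

/-- Elements of the core translate the part centralising the component by elements of `A`. -/
theorem tcore_shift (h : Top T A M q u R L Z τ) {v : G} (hv : v ∈ h.data.sPart) {d : G}
    (hd : d ∈ tcore T A) : ∃ a ∈ A, d * v * d⁻¹ = v * a := by
  haveI : Fact (Nat.Prime 2) := ⟨Nat.prime_two⟩
  rcases eq_or_ne v 1 with rfl | hv1
  · exact ⟨1, A.one_mem, by group⟩
  have hN := h.counted.closed.sylow_le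
  obtain ⟨L', Z', τ', b⟩ := h.exists_data_sPart hv hv1
  obtain ⟨U, hU⟩ := b.exists_transU h.counted
  have hUN : U ≤ Subgroup.normalizer (A : Set G) :=
    hU.cent.trans (Subgroup.centralizer_le_normalizer _)
  set dd : ↥(Subgroup.normalizer (A : Set G)) := ⟨d, hN (tcore_le hd)⟩
  have hdO := (mem_tcore (g := dd) (tcore_le hd)).1 hd
  -- the image of `U` is a Sylow subgroup
  obtain ⟨n, hn, hnU⟩ := h.counted.closed.exists_conj_le hU.two hUN
  have hcard : Nat.card (T : Subgroup G) ≤ Nat.card U := by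
    rw [hU.card, h.trans.card]
  have hUT : cj n U = (T : Subgroup G) := Subgroup.eq_of_le_of_card_ge hnU (by rwa [card_cj])
  obtain ⟨d', hd', e⟩ := h.tcore_conj (n := ⟨n, hn⟩) hd
  obtain ⟨g, hg, hge⟩ := hUT.ge (tcore_le hd')
  have hg' : nx A ⟨g, hUN hg⟩ = nx A dd := by
    have h1 : d' = ⟨n, hn⟩ * ⟨g, hUN hg⟩ * (⟨n, hn⟩ : ↥(Subgroup.normalizer (A : Set G)))⁻¹ :=
      Subtype.ext hge.symm
    rw [h1, map_mul, map_mul, map_inv] at e
    exact (mul_left_cancel (mul_right_cancel e)).symm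
  obtain ⟨a, ha, hga⟩ := hU.maps g hg
  refine ⟨a, ha, ?_⟩
  have hvT : v ∈ (T : Subgroup G) := h.sPart_le_T hv
  have hdT := tcore_le hd
  refine h.eq_of_nx ((T : Subgroup G).mul_mem ((T : Subgroup G).mul_mem hdT hvT)
    ((T : Subgroup G).inv_mem hdT)) ((T : Subgroup G).mul_mem hvT (h.counted.closed.le ha)) ?_
  calc nx A ⟨d * v * d⁻¹, _⟩ = nx A dd * nx A ⟨v, hN hvT⟩ * (nx A dd)⁻¹ := rfl
    _ = nx A ⟨g, hUN hg⟩ * nx A ⟨v, hN hvT⟩ * (nx A ⟨g, hUN hg⟩)⁻¹ := by rw [hg']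
    _ = nx A (⟨g, hUN hg⟩ * ⟨v, hN hvT⟩ * ⟨g, hUN hg⟩⁻¹) := rfl
    _ = _ := congrArg (nx A) (Subtype.ext hga)

theorem sPart_le_tcore (h : Top T A M q u R L Z τ) : h.data.sPart ≤ tcore T A := by
  intro v hv
  have hvN := h.data.R_le_normalizer hv.1
  refine (mem_tcore (g := ⟨v, hvN⟩) (h.sPart_le_T hv)).2 ?_
  haveI := h.counted.nimg_A_normal
  refine mem_pCore_of_chain h.cent_pCore (nimg A A) h.nimg_A_sq
    (h.nx_cent_A (h.data.R_cent h.counted hv.1)) fun x hx => ?_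
  obtain ⟨d, hd, rfl⟩ := h.exists_tcore hx
  obtain ⟨a, ha, e⟩ := h.tcore_shift hv hd
  rw [← map_inv, ← map_inv, ← map_mul, ← map_mul, ← map_mul]
  refine ⟨⟨v, hvN⟩ * d * (⟨v, hvN⟩ : ↥(Subgroup.normalizer (A : Set G)))⁻¹ * d⁻¹, ?_, rfl⟩
  show v * (d : G) * v⁻¹ * (d : G)⁻¹ ∈ A
  have h1 : v * (d : G) * v⁻¹ * (d : G)⁻¹ = v * ((d : G) * v * (d : G)⁻¹)⁻¹ := by group
  rw [h1, e, mul_inv_rev, h.counted.closed.inv_eq ha]
  have h2 := normalizer_conj hvN ha
  rwa [← mul_assoc]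

/-- The torus acts on the core, fixing the coset of `u`. -/
theorem exists_torus_tcore (h : Top T A M q u R L Z τ) :
    ∃ t : ↥(lift u L), lmap u L t = τ ∧ ∃ htN : (t : G) ∈ Subgroup.normalizer (A : Set G),
      ∀ d, ∀ hd : d ∈ tcore T A, ∃ d' : ↥(Subgroup.normalizer (A : Set G)), (d' : G) ∈ tcore T A ∧
        nx A (⟨t, htN⟩ * ⟨d, h.counted.closed.sylow_le (tcore_le hd)⟩ * ⟨t, htN⟩⁻¹) = nx A d' ∧
        (∀ a ∈ A, d * u * d⁻¹ = u * a → (d' : G) * u * (d' : G)⁻¹ = u * (t * a * (t : G)⁻¹)) := by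
  obtain ⟨t, htN, -, ht⟩ := h.data.exists_torus
  rw [h.counted.inf_cent h.data.bad h.data.mem] at htN
  refine ⟨t, ht, htN, fun d hd => ?_⟩
  obtain ⟨d', hd', e⟩ := h.tcore_conj (n := ⟨t, htN⟩) hd
  refine ⟨d', hd', by rw [map_mul, map_mul, map_inv]; exact e, fun a ha hda => ?_⟩
  have hN := h.counted.closed.sylow_le
  have huT : u ∈ (T : Subgroup G) := h.trans.le h.data.self_mem_R
  have hda' : t * a * (t : G)⁻¹ ∈ A := normalizer_conj htN ha
  have htu : (t : G) * u = u * t :=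
    Subgroup.mem_centralizer_singleton_iff.1 (lift_le u L t.2)
  refine h.eq_of_nx ((T : Subgroup G).mul_mem ((T : Subgroup G).mul_mem (tcore_le hd') huT)
    ((T : Subgroup G).inv_mem (tcore_le hd'))) ((T : Subgroup G).mul_mem huT (h.counted.closed.le hda')) ?_
  set tt : ↥(Subgroup.normalizer (A : Set G)) := ⟨t, htN⟩
  set dd : ↥(Subgroup.normalizer (A : Set G)) := ⟨d, hN (tcore_le hd)⟩
  set uu : ↥(Subgroup.normalizer (A : Set G)) := ⟨u, hN huT⟩
  calc nx A ⟨(d' : G) * u * (d' : G)⁻¹, _⟩ = nx A d' * nx A uu * (nx A d')⁻¹ := rfl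
    _ = nx A tt * nx A dd * ((nx A tt)⁻¹ * nx A uu * nx A tt) * (nx A dd)⁻¹ * (nx A tt)⁻¹ := by
        rw [← e]; group
    _ = nx A (tt * dd * (tt⁻¹ * uu * tt) * dd⁻¹ * tt⁻¹) := rfl
    _ = _ := congrArg (nx A) (Subtype.ext (by
        show (t : G) * d * ((t : G)⁻¹ * u * t) * d⁻¹ * (t : G)⁻¹ = u * (t * a * (t : G)⁻¹)
        rw [show (t : G)⁻¹ * u * t = u by rw [mul_assoc, ← htu, inv_mul_cancel_left]]
        calc (t : G) * d * u * d⁻¹ * (t : G)⁻¹ = (t : G) * (d * u * d⁻¹) * (t : G)⁻¹ := by group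
          _ = (t : G) * u * (a * (t : G)⁻¹) := by rw [hda]; group
          _ = _ := by rw [htu]; group))

/-- The intersection of the core with `R` is `A S` or the whole of `R`. -/
theorem tcore_inf_R (h : Top T A M q u R L Z τ) :
    R ≤ tcore T A ∨ ∀ d ∈ tcore T A, d ∈ R → ∃ a ∈ A, ∃ s ∈ h.data.sPart, d = a * s := by
  have b := h.data
  by_cases hex : ∃ d, ∃ hdR : d ∈ R, d ∈ tcore T A ∧ b.proj ⟨d, hdR⟩ ∉ Z
  swap
  · right
    push Not at hex
    intro d hd hdR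
    obtain ⟨p, hp, s, hs, rfl, -⟩ := b.exists_split hdR
    refine ⟨p, b.mem_A_of_proj ⟨p, hp.1⟩ hp.2 ?_, s, hs, rfl⟩
    have h1 := hex _ hdR hd
    rwa [show (⟨p * s, hdR⟩ : R) = ⟨p, hp.1⟩ * ⟨s, hs.1⟩ from rfl, map_mul,
      b.proj_sPart ⟨s, hs.1⟩ hs, mul_one] at h1
  left
  obtain ⟨d₀, hd₀R, hd₀, hd₀Z⟩ := hex
  obtain ⟨t, ht, htN, htD⟩ := h.exists_torus_tcore
  -- one step of the torus
  have step : ∀ d, ∀ hdR : d ∈ R, d ∈ tcore T A → ∃ d', ∃ hd'R : d' ∈ R, d' ∈ tcore T A ∧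
      b.proj ⟨d', hd'R⟩ = τ * b.proj ⟨d, hdR⟩ * τ⁻¹ := by
    intro d hdR hd
    obtain ⟨d', hd', e, hsh⟩ := htD d hd
    have hdu : d * u * d⁻¹ = u * 1 := by
      rw [mul_one]
      exact conj_eq_of_commute (Subgroup.mem_centralizer_singleton_iff.1 (b.comp.base.sylow.le hdR))
    have h1 := hsh 1 A.one_mem hdu
    rw [mul_one, mul_inv_cancel, mul_one] at h1
    have hd'R : (d' : G) ∈ R := h.trans.fix _ (tcore_le hd') (commute_of_conj_eq h1)
    refine ⟨d', hd'R, hd', ?_⟩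
    have ho : (t : G) * d * (t : G)⁻¹ * (d' : G)⁻¹ ∈ Cfsg.centralizerPPrimeCore 2 u := by
      rw [h.counted.core_eq u b.bad b.mem]
      refine ⟨h.counted.nO_le_wcl (nx_eq_iff.1 e), ?_⟩
      have htu := lift_le u L t.2
      exact Subgroup.mul_mem _ (Subgroup.mul_mem _ (Subgroup.mul_mem _ htu (b.comp.base.sylow.le hdR))
        (Subgroup.inv_mem _ htu)) (Subgroup.inv_mem _ (b.comp.base.sylow.le hd'R))
    set tc : ↥(Subgroup.centralizer ({u} : Set G)) := ⟨t, lift_le u L t.2⟩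
    set dc : ↥(Subgroup.centralizer ({u} : Set G)) := ⟨d, b.comp.base.sylow.le hdR⟩
    set dc' : ↥(Subgroup.centralizer ({u} : Set G)) := ⟨d', b.comp.base.sylow.le hd'R⟩
    have hcm : cmap u dc' = cmap u tc * cmap u dc * (cmap u tc)⁻¹ := by
      have h2 := cmap_eq_one.2 (show ((tc * dc * tc⁻¹ * dc'⁻¹ : ↥(Subgroup.centralizer ({u} : Set G))) : G) ∈ _ from ho)
      rw [map_mul, map_mul, map_mul, map_inv, map_inv, mul_inv_eq_one] at h2
      exact h2.symm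
    refine b.comp.loc.conj_injective ?_
    have hτ : MulAut.conj τ = autOn L ⟨cmap u tc, b.normalizes _⟩ :=
      (congrArg MulAut.conj ht.symm).trans (by
        rw [lmap_apply, ← autOn_coe]
        exact congrArg (autOn L) (Subtype.ext (coe_toL t)))
    rw [map_mul, map_mul, map_inv, ← b.proj_spec ⟨d', hd'R⟩, ← b.proj_spec ⟨d, hdR⟩, hτ,
      ← map_inv, ← map_mul, ← map_mul]
    exact congrArg (autOn L) (Subtype.ext hcm)
  have hall : ∀ n : ℕ, ∃ d, ∃ hdR : d ∈ R, d ∈ tcore T A ∧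
      b.proj ⟨d, hdR⟩ = τ ^ n * b.proj ⟨d₀, hd₀R⟩ * (τ ^ n)⁻¹ := by
    intro n
    induction n with
    | zero => exact ⟨d₀, hd₀R, hd₀, by group⟩
    | succ n ih =>
      obtain ⟨d, hdR, hd, e⟩ := ih
      obtain ⟨d', hd'R, hd', e'⟩ := step d hdR hd
      exact ⟨d', hd'R, hd', by rw [e', e, pow_succ']; group⟩
  intro r hr
  have hAS : ∀ x, ∀ hxR : x ∈ R, b.proj ⟨x, hxR⟩ ∈ Z → x ∈ tcore T A := by
    intro x hxR hx
    obtain ⟨p, hp, s, hs, rfl, -⟩ := b.exists_split hxR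
    rw [show (⟨p * s, hxR⟩ : R) = ⟨p, hp.1⟩ * ⟨s, hs.1⟩ from rfl, map_mul,
      b.proj_sPart ⟨s, hs.1⟩ hs, mul_one] at hx
    exact mul_mem (h.le_tcore_A (b.mem_A_of_proj ⟨p, hp.1⟩ hp.2 hx)) (h.sPart_le_tcore hs)
  by_cases hrZ : b.proj ⟨r, hr⟩ ∈ Z
  · exact hAS r hr hrZ
  obtain ⟨n, hn⟩ := b.comp.loc.τ_transP _ (b.proj_mem ⟨d₀, hd₀R⟩) _ (b.proj_mem ⟨r, hr⟩) hd₀Z hrZ
  obtain ⟨d, hdR, hd, e⟩ := hall n
  have h2 := hAS (d⁻¹ * r) (R.mul_mem (R.inv_mem hdR) hr) (by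
    rw [show (⟨d⁻¹ * r, R.mul_mem (R.inv_mem hdR) hr⟩ : R) = ⟨d, hdR⟩⁻¹ * ⟨r, hr⟩ from rfl,
      map_mul, map_inv, e]
    exact hn)
  rw [← mul_inv_cancel_left d r]
  exact mul_mem hd h2

theorem tcore_surj (h : Top T A M q u R L Z τ) (hne : ∃ d ∈ tcore T A, d ∉ R) {a : G} (ha : a ∈ A) :
    ∃ d ∈ tcore T A, d * u * d⁻¹ = u * a := by
  have b := h.data
  obtain ⟨d₀, hd₀, hd₀R⟩ := hne
  obtain ⟨a₀, ha₀, he₀⟩ := h.trans.maps d₀ (tcore_le hd₀)
  have ha₀1 : a₀ ≠ 1 := fun e => hd₀R (h.trans.fix _ (tcore_le hd₀)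
    (commute_of_conj_eq (by rw [he₀, e, mul_one])))
  rcases eq_or_ne a 1 with rfl | ha1
  · exact ⟨1, one_mem _, by group⟩
  obtain ⟨t, ht, htN, htD⟩ := h.exists_torus_tcore
  have hall : ∀ n : ℕ, ∃ d ∈ tcore T A,
      d * u * d⁻¹ = u * ((t : G) ^ n * a₀ * ((t : G) ^ n)⁻¹) := by
    intro n
    induction n with
    | zero => exact ⟨d₀, hd₀, by simpa using he₀⟩
    | succ n ih =>
      obtain ⟨d, hd, e⟩ := ih
      obtain ⟨d', hd', -, hsh⟩ := htD d hd
      refine ⟨d', hd', ?_⟩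
      rw [hsh _ (normalizer_conj (pow_mem htN n) ha₀) e, pow_succ']
      group
  have haL := b.A_le_lift h.counted
  have hinj := fun (x : G) (hx : x ∈ A) (hx1 : x ≠ 1) =>
    (fun e => hx1 (congrArg Subtype.val (b.comp.lmap_injOn b.simple (g := ⟨x, haL hx⟩) (g' := 1)
      (b.A_le_R h.counted hx) R.one_mem (e.trans (map_one _).symm))) :
      lmap u L ⟨x, haL hx⟩ ≠ 1)
  obtain ⟨n, hn⟩ := b.comp.loc.τ_trans _
    (b.comp.lmap_mem_Z (g := ⟨a₀, haL ha₀⟩) ((h.counted.inf_cent b.bad b.mem).ge ha₀)) _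
    (b.comp.lmap_mem_Z (g := ⟨a, haL ha⟩) ((h.counted.inf_cent b.bad b.mem).ge ha))
    (hinj a₀ ha₀ ha₀1) (hinj a ha ha1)
  obtain ⟨d, hd, e⟩ := hall n
  refine ⟨d, hd, ?_⟩
  rw [e]
  congr 1
  have h1 := b.comp.lmap_injOn b.simple (g := t ^ n * ⟨a₀, haL ha₀⟩ * (t ^ n)⁻¹) (g' := ⟨a, haL ha⟩)
    (b.A_le_R h.counted (normalizer_conj (pow_mem htN n) ha₀)) (b.A_le_R h.counted ha)
    (by rw [map_mul, map_mul, map_inv, map_pow, ht]; exact hn)
  exact congrArg (fun v : ↥(lift u L) => (v : G)) h1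

/-- The squares of the core lie in `A` when it meets `R` in `A S`. -/
theorem tcore_sq (h : Top T A M q u R L Z τ) {d : G} (hd : d ∈ tcore T A)
    (hd2 : ∃ a ∈ A, ∃ s ∈ h.data.sPart, d * d = a * s) : d * d ∈ A := by
  haveI : Fact (Nat.Prime 2) := ⟨Nat.prime_two⟩
  obtain ⟨a, ha, s, hs, e⟩ := hd2
  rcases eq_or_ne s 1 with rfl | hs1
  · rw [e, mul_one]; exact ha
  have hdA := h.trans.cent (tcore_le hd)
  have hcomm : d * s = s * d := by
    have h1 : d * (a * s) = a * s * d := by rw [← e]; group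
    have h2 : d * a = a * d := (Subgroup.mem_centralizer_iff.1 hdA a ha).symm
    refine mul_left_cancel (a := a) ?_
    rw [← mul_assoc, ← h2, mul_assoc, h1, mul_assoc]
  obtain ⟨L', Z', τ', b⟩ := h.exists_data_sPart hs hs1
  set C := Subgroup.centralizer ({s} : Set G) ⊓ Subgroup.normalizer (A : Set G)
  have hRC : CosetGraph.SylowIn.IsSylowIn 2 R C :=
    b.comp.base.sylow.of_le_le (le_inf b.comp.base.sylow.le b.R_le_normalizer) inf_le_left
  obtain ⟨S', hS', hdS⟩ := CosetGraph.SylowIn.IsSylowIn.exists_le (P := Subgroup.zpowers d) (H := C)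
    (T.2.to_le (Subgroup.zpowers_le.2 (tcore_le hd)))
    (Subgroup.zpowers_le.2 ⟨Subgroup.mem_centralizer_singleton_iff.2 hcomm,
      h.counted.closed.sylow_le (tcore_le hd)⟩)
  obtain ⟨y, hy, he⟩ := hS'.exists_conj hRC
  have h3 := normalizer_conj (inv_mem hy.2)
    (b.sq_R h.counted (he.le (conj_mem_cj (hdS (Subgroup.mem_zpowers d)))))
  simpa [mul_assoc] using h3

end Top

end Cfsg.Agent.Lib.Thompson3Prime33
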