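import Cfsg.Agent.Lib.Thompson3Prime33.CLemma

/-!
# The order of a Sylow subgroup

The stabiliser in `T` of a second point has index at most `q ^ 3` and embeds into the part of `R`
centralising the component; so `T` centralises `A` and is the translation group of a bad involution.

Owner: helper33.
-/

set_option autoImplicit false
set_option linter.style.haveILetI false
set_option linter.unusedSectionVars false
set_option linter.unusedVariables false

namespace Cfsg.Agent.Lib.Thompson3Prime33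

universe u

variable {G : Type u} [Group G] [Finite G] {T : Sylow 2 G} {A M : Subgroup G} {q : ℕ}

namespace Counted

theorem exists_point (hc : Counted T A M q) :
    ∃ c : G, c ∉ M ∧ ((T : Subgroup G) ⊓ cj c M).relIndex (T : Subgroup G) ≤ q ^ 3 := by
  classical
  haveI : Fact (Nat.Prime 2) := ⟨Nat.prime_two⟩
  by_contra hno
  push Not at hno
  obtain ⟨m, -, hm⟩ := hc.q_eq
  have hstab : ∀ c : G, MulAction.stabilizer (T : Subgroup G) (c : G ⧸ M) =
      ((T : Subgroup G) ⊓ cj c M).subgroupOf (T : Subgroup G) := by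
    intro c
    ext t
    rw [MulAction.mem_stabilizer_iff, Subgroup.mem_subgroupOf]
    show (((t : G) * c : G) : G ⧸ M) = (c : G ⧸ M) ↔ (t : G) ∈ (T : Subgroup G) ⊓ cj c M
    rw [eq_comm, QuotientGroup.eq, Subgroup.mem_inf, mem_cj, mul_assoc]
    exact ⟨fun h => ⟨t.2, h⟩, fun h => h.2⟩
  letI : Fintype (G ⧸ M) := Fintype.ofFinite _
  letI : Fintype (MulAction.orbitRel.Quotient (T : Subgroup G) (G ⧸ M)) := Fintype.ofFinite _
  set ω₀ : MulAction.orbitRel.Quotient (T : Subgroup G) (G ⧸ M) := Quotient.mk'' ((1 : G) : G ⧸ M)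
  have hsum : Nat.card (G ⧸ M) =
      ∑ ω : MulAction.orbitRel.Quotient (T : Subgroup G) (G ⧸ M), Nat.card ω.orbit := by
    rw [Nat.card_congr (MulAction.selfEquivSigmaOrbits' (T : Subgroup G) (G ⧸ M)), Nat.card_sigma]
  have horb : ∀ c : G, Nat.card (MulAction.orbit (T : Subgroup G) (c : G ⧸ M)) =
      ((T : Subgroup G) ⊓ cj c M).relIndex (T : Subgroup G) := fun c => by
    rw [Subgroup.relIndex, ← hstab c, MulAction.index_stabilizer]
    exact Nat.card_coe_set_eq _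
  have hrest : ∀ ω ∈ (Finset.univ : Finset _).erase ω₀, 2 * q ^ 3 ∣ Nat.card (ω : MulAction.orbitRel.Quotient (T : Subgroup G) (G ⧸ M)).orbit := by
    intro ω hω
    induction ω using Quotient.inductionOn' with
    | h x =>
      induction x using QuotientGroup.induction_on with
      | H c =>
        have hne : c ∉ M := by
          intro hcM
          refine Finset.ne_of_mem_erase hω (congrArg Quotient.mk'' (QuotientGroup.eq.2 ?_))
          rw [mul_one]
          exact inv_mem hcM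
        rw [MulAction.orbitRel.Quotient.orbit_mk, horb c]
        obtain ⟨k, hk⟩ := IsPGroup.iff_card.1 T.2
        obtain ⟨j, -, hj⟩ := (Nat.dvd_prime_pow Nat.prime_two).1
          (hk ▸ Subgroup.relIndex_dvd_card ((T : Subgroup G) ⊓ cj c M) (T : Subgroup G))
        have h1 := hno c hne
        rw [hj, hm, ← pow_mul] at h1
        rw [hj, hm, ← pow_mul, ← pow_succ']
        exact Nat.pow_dvd_pow 2 ((Nat.pow_lt_pow_iff_right one_lt_two).1 h1)
  have h0 : Nat.card (ω₀ : MulAction.orbitRel.Quotient (T : Subgroup G) (G ⧸ M)).orbit = 1 := by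
    rw [MulAction.orbitRel.Quotient.orbit_mk, horb 1, Subgroup.relIndex_eq_one]
    refine le_inf le_rfl fun t ht => ?_
    rw [mem_cj, inv_one, one_mul, mul_one]
    exact hc.final.anchor.sylow_le ht
  rw [← Finset.add_sum_erase _ _ (Finset.mem_univ ω₀), h0] at hsum
  obtain ⟨k, hk⟩ := Finset.dvd_sum hrest
  rw [hk, ← Subgroup.index_eq_card] at hsum
  have hidx := hc.index
  rw [hsum] at hidx
  have h8 := hc.eight_le
  have h2 : q ^ 3 * (2 * k) + q ^ 4 = q ^ 5 + q ^ 3 := by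
    have : (1 + 2 * q ^ 3 * k) + (q ^ 2 + 1) * q ^ 2 = (q ^ 2 + 1) * (q ^ 3 + 1) := hidx
    ring_nf at this ⊢
    omega
  have h3 : 2 * k + q = q ^ 2 + 1 := by
    refine Nat.eq_of_mul_eq_mul_left (show 0 < q ^ 3 by positivity) ?_
    ring_nf at h2 ⊢
    omega
  obtain ⟨h, rfl⟩ : 2 ∣ q := ⟨2 ^ (2 * m), by rw [hm, pow_succ']⟩
  have : 2 * k + 2 * h = 2 * (2 * h * h) + 1 := by rw [h3]; ring
  omega

theorem exists_bad_normalizer (hc : Counted T A M q) :
    ∃ u, Bad M u ∧ u ∈ Subgroup.normalizer (A : Set G) := by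
  obtain ⟨u, hu⟩ := hc.final.exists_bad
  obtain ⟨hu1, g, g', hne, h1, h2⟩ := hu
  have hb : Bad M (g⁻¹ * u * g) := by
    have := (show Bad M u from ⟨hu1, g, g', hne, h1, h2⟩).conj g⁻¹
    rwa [inv_inv] at this
  have hsq : (g⁻¹ * u * g) ^ 2 ^ 1 = 1 := by rw [pow_one, ← hb.invol, pow_orderOf_eq_one]
  obtain ⟨m, hm, hmT⟩ := hc.final.anchor.exists_conj_mem h1 hsq
  exact ⟨_, hb.conj m, hc.closed.sylow_le hmT⟩

theorem exists_big (hc : Counted T A M q) :
    ∃ (x : G) (R : Subgroup G) (L : Subgroup (CQ x)) (Z : Subgroup (↥L ⧸ Subgroup.center ↥L))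
      (τ : ↥L ⧸ Subgroup.center ↥L) (b : BadData T A M x R L q Z τ),
      Nat.card (T : Subgroup G) ≤ q ^ 3 * Nat.card b.sPart := by
  haveI : Fact (Nat.Prime 2) := ⟨Nat.prime_two⟩
  obtain ⟨c, hcM, hidx⟩ := hc.exists_point
  set Tc := (T : Subgroup G) ⊓ cj c M with hTc
  have hcard : Nat.card (T : Subgroup G) = Nat.card Tc * Tc.relIndex (T : Subgroup G) := by
    rw [← Nat.card_congr (Subgroup.subgroupOfEquivOfLe (inf_le_left : Tc ≤ (T : Subgroup G))).toEquiv,
      Subgroup.relIndex, Subgroup.card_mul_index]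
  by_cases htriv : Tc = ⊥
  · obtain ⟨u, hu, huN⟩ := hc.exists_bad_normalizer
    obtain ⟨R, L, Z, τ, b⟩ := hc.exists_data hu huN
    refine ⟨u, R, L, Z, τ, b, ?_⟩
    rw [hcard, htriv, Subgroup.card_bot, one_mul]
    rw [htriv] at hidx
    exact hidx.trans (Nat.le_mul_of_pos_right _ Nat.card_pos)
  have hp : IsPGroup 2 Tc := T.2.to_le inf_le_left
  haveI : Nontrivial Tc := (Subgroup.nontrivial_iff_ne_bot Tc).2 htriv
  haveI : Nontrivial (Subgroup.center Tc) := hp.center_nontrivial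
  obtain ⟨z, hz⟩ : ∃ z : Subgroup.center Tc, orderOf z = 2 := by
    refine exists_prime_orderOf_dvd_card' 2 ?_
    exact ((hp.to_subgroup _).card_eq_or_dvd).resolve_left Finite.one_lt_card.ne'
  set x : G := ((z : Tc) : G) with hx
  have hxo : orderOf x = 2 := by rw [hx, Subgroup.orderOf_coe, Subgroup.orderOf_coe, hz]
  have hxT : x ∈ Tc := (z : Tc).2
  have hxc : ∀ t ∈ Tc, t * x = x * t := fun t ht =>
    congrArg Subtype.val (Subgroup.mem_center_iff.1 z.2 ⟨t, ht⟩)
  have hxb : Bad M x := ⟨hxo, 1, c, by simpa using hcM,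
    by simpa using hc.final.anchor.sylow_le hxT.1, mem_cj.1 hxT.2⟩
  obtain ⟨R, L, Z, τ, b⟩ := hc.exists_data hxb (hc.closed.sylow_le hxT.1)
  refine ⟨x, R, L, Z, τ, b, ?_⟩
  set C := Subgroup.centralizer ({x} : Set G) ⊓ Subgroup.normalizer (A : Set G)
  have hRC : CosetGraph.SylowIn.IsSylowIn 2 R C :=
    b.comp.base.sylow.of_le_le (le_inf b.comp.base.sylow.le b.R_le_normalizer) inf_le_left
  obtain ⟨S, hS, hTS⟩ := CosetGraph.SylowIn.IsSylowIn.exists_le hp (H := C)
    (le_inf (fun t ht => Subgroup.mem_centralizer_singleton_iff.2 (hxc t ht))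
      (inf_le_left.trans hc.closed.sylow_le))
  obtain ⟨y, hy, he⟩ := hS.exists_conj hRC
  have hle : cj y Tc ≤ R := (cj_mono hTS).trans he.le
  have hyM : y ∈ M := hc.final.anchor.norm hy.2
  have hc' : y * c ∉ M := fun hm => hcM (by simpa [← mul_assoc] using mul_mem (inv_mem hyM) hm)
  have hfix : (y * c)⁻¹ * x * (y * c) ∈ M := by
    have h1 := mem_cj.1 hxT.2
    rwa [show (y * c)⁻¹ * x * (y * c) = c⁻¹ * (y⁻¹ * x * y) * c by group,
      show y⁻¹ * x * y = x by
        rw [mul_assoc, ← Subgroup.mem_centralizer_singleton_iff.1 hy.1, inv_mul_cancel_left]]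
  obtain ⟨k, hk, hkM⟩ := b.exists_cent_mul hfix
  obtain ⟨l, hl, m, hmC, hm, rfl⟩ := b.decomp hk
  have hlc : l⁻¹ * (y * c) ∈ M := by
    have := mul_mem hm hkM
    simpa [mul_assoc] using this
  have hlM : l ∉ M := fun h => hc' (by simpa using mul_mem h hlc)
  suffices hsub : cj y Tc ≤ b.sPart by
    rw [hcard, mul_comm]
    refine Nat.mul_le_mul hidx ?_
    rw [← card_cj y Tc]
    exact Subgroup.card_le_of_le hsub
  intro r hr
  have hrR := hle hr
  refine ⟨hrR, (b.proj_eq_one_iff ⟨r, hrR⟩).1 ?_⟩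
  have hlrl : l⁻¹ * r * l ∈ M := by
    obtain ⟨t, ht, rfl⟩ := hr
    have h1 : c⁻¹ * t * c ∈ M := mem_cj.1 ht.2
    have h2 : (y * c)⁻¹ * (y * t * y⁻¹) * (y * c) ∈ M := by simpa [mul_assoc] using h1
    have := mul_mem (mul_mem hlc h2) (inv_mem hlc)
    show l⁻¹ * (y * t * y⁻¹) * l ∈ M
    simpa [mul_assoc] using this
  have hrC := b.comp.base.sylow.le hrR
  set rc : ↥(Subgroup.centralizer ({x} : Set G)) := ⟨r, hrC⟩
  have hrlr : r * l * r⁻¹ ∈ lift x L := by
    refine (mem_lift_coe (g := rc * ⟨l, lift_le x L hl⟩ * rc⁻¹)).2 ?_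
    rw [map_mul, map_mul, map_inv]
    exact normalizer_conj (b.normalizes _) (mem_lift_coe.1 hl)
  set π := b.proj ⟨r, hrR⟩ with hπ
  set lb := lmap x L ⟨l, hl⟩ with hlb
  have hconj : lmap x L ⟨r * l * r⁻¹, hrlr⟩ = π * lb * π⁻¹ := by
    rw [show π * lb * π⁻¹ = MulAut.conj π lb from rfl, hπ, ← b.proj_spec, hlb,
      lmap_apply ⟨l, hl⟩, autOn_apply]
    refine lmap_eq_sig _ _ ?_
    rfl
  set B := Subgroup.normalizer (pbar (qimg x R) L : Set (↥L ⧸ Subgroup.center ↥L)) with hB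
  have hπB : π ∈ B := Subgroup.le_normalizer (b.proj_mem _)
  have hlbB : lb ∉ B := fun h => hlM ((b.mem_M_iff ⟨l, hl⟩).2 h)
  have h1 : lb⁻¹ * (π * lb * π⁻¹) ∈ B := by
    rw [← hconj, hlb, ← map_inv, ← map_mul]
    refine (b.mem_M_iff _).1 ?_
    show l⁻¹ * (r * l * r⁻¹) ∈ M
    rw [show l⁻¹ * (r * l * r⁻¹) = l⁻¹ * r * l * r⁻¹ by group]
    exact mul_mem hlrl (inv_mem (b.R_le hrR))
  have h2 : π ∈ B ⊓ B.map (MulAut.conj lb).toMonoidHom := by
    refine ⟨hπB, ⟨lb⁻¹ * π * lb, ?_, by simp [mul_assoc]⟩⟩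
    have h3 := mul_mem h1 hπB
    rwa [show lb⁻¹ * (π * lb * π⁻¹) * π = lb⁻¹ * π * lb by group] at h3
  have hodd := b.comp.loc.borel_inter lb hlbB
  obtain ⟨i, hi⟩ := b.comp.base.sylow.isPGroup ⟨r, hrR⟩
  refine orderOf_eq_one_iff.1 (Nat.eq_one_of_dvd_coprimes ((Nat.coprime_two_left.2 hodd).pow_left i)
    (orderOf_dvd_of_pow_eq_one (by rw [hπ, ← map_pow, hi, map_one])) ?_)
  exact Subgroup.orderOf_dvd_natCard _ h2

end Counted

/-- The final data: `T` centralises `A` and is the translation group of the bad involution `u`. -/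
structure Top (T : Sylow 2 G) (A M : Subgroup G) (q : ℕ) (u : G) (R : Subgroup G)
    (L : Subgroup (CQ u)) (Z : Subgroup (↥L ⧸ Subgroup.center ↥L))
    (τ : ↥L ⧸ Subgroup.center ↥L) : Prop where
  counted : Counted T A M q
  data : BadData T A M u R L q Z τ
  trans : TransU A u R (T : Subgroup G) q

theorem Counted.exists_top (hc : Counted T A M q) :
    ∃ (u : G) (R : Subgroup G) (L : Subgroup (CQ u)) (Z : Subgroup (↥L ⧸ Subgroup.center ↥L))
      (τ : ↥L ⧸ Subgroup.center ↥L), Top T A M q u R L Z τ := by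
  haveI : Fact (Nat.Prime 2) := ⟨Nat.prime_two⟩
  obtain ⟨x, R, L, Z, τ, b, hT⟩ := hc.exists_big
  obtain ⟨U, hU⟩ := b.exists_transU hc
  obtain ⟨n, hn, hnU⟩ := hc.closed.exists_conj_le hU.two
    (hU.cent.trans (Subgroup.centralizer_le_normalizer _))
  have hcard : Nat.card (T : Subgroup G) ≤ Nat.card (cj n U) := by
    rw [card_cj, hU.card, b.card_R, ← mul_assoc, ← pow_succ']
    exact hT
  have hUT : cj n U = (T : Subgroup G) := Subgroup.eq_of_le_of_card_ge hnU hcard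
  have hRS := b.comp.base.sylow.conj n
  rw [show (Subgroup.centralizer ({x} : Set G)).map (MulAut.conj n).toMonoidHom =
    Subgroup.centralizer ({n * x * n⁻¹} : Set G) from cj_inf_centralizer] at hRS
  obtain ⟨L', Z', τ', b'⟩ := hc.exists_data_of (b.bad.conj n) (mul_mem (mul_mem hn b.mem) (inv_mem hn))
    hRS (one_mem _) (by
      rintro _ ⟨g, hg, rfl⟩
      show 1 * g * 1⁻¹ ∈ (T : Subgroup G)
      rw [inv_one, mul_one, one_mul]
      exact hnU (cj_mono hU.le hg))
  refine ⟨n * x * n⁻¹, _, L', Z', τ', hc, b', T.2, (cj_mono hU.le).trans hnU, ?_, ?_, ?_, ?_, ?_⟩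
  · rw [← hUT]
    rintro _ ⟨g, hg, rfl⟩
    refine Subgroup.mem_centralizer_iff.2 fun a ha => ?_
    have h1 := Subgroup.mem_centralizer_iff.1 (hU.cent hg) _ (normalizer_conj (inv_mem hn) ha)
    show a * (n * g * n⁻¹) = n * g * n⁻¹ * a
    calc a * (n * g * n⁻¹) = n * (n⁻¹ * a * n⁻¹⁻¹ * g) * n⁻¹ := by group
      _ = n * (g * (n⁻¹ * a * n⁻¹⁻¹)) * n⁻¹ := by rw [h1]
      _ = _ := by group
  · rw [← hUT]
    rintro _ ⟨g, hg, rfl⟩
    obtain ⟨a, ha, he⟩ := hU.maps g hg
    refine ⟨n * a * n⁻¹, normalizer_conj hn ha, ?_⟩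
    show n * g * n⁻¹ * (n * x * n⁻¹) * (n * g * n⁻¹)⁻¹ = n * x * n⁻¹ * (n * a * n⁻¹)
    calc n * g * n⁻¹ * (n * x * n⁻¹) * (n * g * n⁻¹)⁻¹ = n * (g * x * g⁻¹) * n⁻¹ := by group
      _ = _ := by rw [he]; group
  · intro a ha
    obtain ⟨g, hg, he⟩ := hU.surj _ (normalizer_conj (inv_mem hn) ha)
    refine ⟨n * g * n⁻¹, hUT ▸ conj_mem_cj hg, ?_⟩
    calc n * g * n⁻¹ * (n * x * n⁻¹) * (n * g * n⁻¹)⁻¹ = n * (g * x * g⁻¹) * n⁻¹ := by group
      _ = _ := by rw [he]; group
  · intro g hg hcom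
    obtain ⟨g', hg', rfl⟩ := hUT.ge hg
    refine conj_mem_cj (hU.fix g' hg' ?_)
    have h1 : n * g' * n⁻¹ * (n * x * n⁻¹) = n * x * n⁻¹ * (n * g' * n⁻¹) := hcom
    calc g' * x = n⁻¹ * (n * g' * n⁻¹ * (n * x * n⁻¹)) * n := by group
      _ = _ := by rw [h1]; group
  · show Nat.card (T : Subgroup G) = q * Nat.card (cj n R)
    rw [← hUT, card_cj, card_cj, hU.card]

namespace Top

variable {u : G} {R : Subgroup G} {L : Subgroup (CQ u)}
  {Z : Subgroup (↥L ⧸ Subgroup.center ↥L)} {τ : ↥L ⧸ Subgroup.center ↥L}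

theorem card_T (h : Top T A M q u R L Z τ) :
    Nat.card (T : Subgroup G) = q ^ 3 * Nat.card h.data.sPart := by
  rw [h.trans.card, h.data.card_R, ← mul_assoc, ← pow_succ']

theorem card_sPart_le (h : Top T A M q u R L Z τ) {v : G} {R' : Subgroup G} {L' : Subgroup (CQ v)}
    {Z' : Subgroup (↥L' ⧸ Subgroup.center ↥L')} {τ' : ↥L' ⧸ Subgroup.center ↥L'}
    (b : BadData T A M v R' L' q Z' τ') : Nat.card b.sPart ≤ Nat.card h.data.sPart := by
  haveI : Fact (Nat.Prime 2) := ⟨Nat.prime_two⟩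
  obtain ⟨U, hU⟩ := b.exists_transU h.counted
  obtain ⟨n, hn, hnU⟩ := h.counted.closed.exists_conj_le hU.two
    (hU.cent.trans (Subgroup.centralizer_le_normalizer _))
  have h1 := Subgroup.card_le_of_le hnU
  rw [card_cj, hU.card, b.card_R, ← mul_assoc, ← pow_succ', h.card_T] at h1
  exact Nat.le_of_mul_le_mul_left h1 (pow_pos (by linarith [h.counted.eight_le]) 3)

theorem sPart_le_T (h : Top T A M q u R L Z τ) : h.data.sPart ≤ (T : Subgroup G) :=
  inf_le_left.trans h.trans.le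

theorem bad_sPart (h : Top T A M q u R L Z τ) {v : G} (hv : v ∈ h.data.sPart) (hv1 : v ≠ 1) :
    Bad M v :=
  h.counted.bad_of_not_mem (orderOf_eq_prime (by rw [pow_two, h.data.sPart_sq h.counted hv]) hv1)
    (h.data.R_le_normalizer hv.1) fun hA => hv1 (h.data.A_inf_sPart h.counted hA hv)

/-- `R` is a Sylow subgroup of the centraliser of each non-trivial element of the part
centralising the component. -/
theorem exists_data_sPart (h : Top T A M q u R L Z τ) {v : G} (hv : v ∈ h.data.sPart) (hv1 : v ≠ 1) :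
    ∃ L' Z' τ', BadData T A M v R L' q Z' τ' := by
  haveI : Fact (Nat.Prime 2) := ⟨Nat.prime_two⟩
  have hb := h.bad_sPart hv hv1
  obtain ⟨R', L', Z', τ', b⟩ := h.counted.exists_data hb (h.data.R_le_normalizer hv.1)
  have hRS : CosetGraph.SylowIn.IsSylowIn 2 R (Subgroup.centralizer ({v} : Set G)) := by
    refine ⟨h.data.sPart_le_cent h.counted hv, le_antisymm ?_ ?_⟩
    · obtain ⟨k, hk⟩ := IsPGroup.iff_card.1 h.data.comp.base.sylow.isPGroup
      rw [hk]
      exact Nat.pow_le_pow_right two_pos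
        ((Nat.Prime.pow_dvd_iff_le_factorization Nat.prime_two Nat.card_pos.ne').1
          (hk ▸ Subgroup.card_dvd_of_le (h.data.sPart_le_cent h.counted hv)))
    · rw [← b.comp.base.sylow.card_eq, b.card_R, h.data.card_R]
      exact Nat.mul_le_mul_left _ (h.card_sPart_le b)
  exact h.counted.exists_data_of hb (h.data.R_le_normalizer hv.1) hRS (one_mem _) (by
    rw [show cj (1 : G) R = R from (by rw [cj, map_one]; exact Subgroup.map_id _)]
    exact h.trans.le)

end Top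

end Cfsg.Agent.Lib.Thompson3Prime33
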