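import Cfsg.Agent.Lib.Thompson3Prime33.Proj
import Cfsg.Agent.Lib.Thompson3Prime33.NoAffine

/-!
# Translations of the coset `u A` of a bad involution `u`

The normaliser of `A` and of `u A` is transitive on `u A`, and already a `2`-subgroup centralising
`A` is.

Owner: helper33.
-/

set_option autoImplicit false
set_option linter.style.haveILetI false
set_option linter.unusedSectionVars false
set_option linter.unusedVariables false

namespace Cfsg.Agent.Lib.Thompson3Prime33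

universe u

variable {G : Type u} [Group G] [Finite G] {T : Sylow 2 G} {A M : Subgroup G} {q : ℕ}

/-- The elements of `N(A)` moving `u` within `u A`. -/
def shift (A : Subgroup G) (u : G) : Subgroup G where
  carrier := {g | g ∈ Subgroup.normalizer (A : Set G) ∧ u⁻¹ * (g * u * g⁻¹) ∈ A}
  one_mem' := ⟨one_mem _, by simp⟩
  mul_mem' := by
    rintro g k ⟨hg, hga⟩ ⟨hk, hka⟩
    refine ⟨mul_mem hg hk, ?_⟩
    rw [show u⁻¹ * (g * k * u * (g * k)⁻¹) =
      (u⁻¹ * (g * u * g⁻¹)) * (g * (u⁻¹ * (k * u * k⁻¹)) * g⁻¹) by group]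
    exact mul_mem hga (normalizer_conj hg hka)
  inv_mem' := by
    rintro g ⟨hg, hga⟩
    refine ⟨inv_mem hg, ?_⟩
    rw [show u⁻¹ * (g⁻¹ * u * g⁻¹⁻¹) = g⁻¹ * (u⁻¹ * (g * u * g⁻¹))⁻¹ * g⁻¹⁻¹ by group]
    exact normalizer_conj (inv_mem hg) (inv_mem hga)

theorem mem_shift {u g : G} : g ∈ shift A u ↔
    g ∈ Subgroup.normalizer (A : Set G) ∧ u⁻¹ * (g * u * g⁻¹) ∈ A := Iff.rfl

theorem mem_shift_of_eq {u g a : G} (hg : g ∈ Subgroup.normalizer (A : Set G)) (ha : a ∈ A)
    (he : g * u * g⁻¹ = u * a) : g ∈ shift A u := ⟨hg, by rwa [he, inv_mul_cancel_left]⟩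

theorem mem_shift_of_commute {u g : G} (hg : g ∈ Subgroup.normalizer (A : Set G))
    (hgu : g * u = u * g) : g ∈ shift A u := by
  refine mem_shift_of_eq hg A.one_mem ?_
  rw [conj_eq_of_commute hgu, mul_one]

/-- `g ↦ [u, g]` on the part of the shift group centralising `A`. -/
def shiftHom (A : Subgroup G) (u : G) :
    ↥(shift A u ⊓ Subgroup.centralizer (A : Set G)) →* ↥A :=
  MonoidHom.mk' (fun g => ⟨u⁻¹ * ((g : G) * u * (g : G)⁻¹), g.2.1.2⟩) fun g k => Subtype.ext <| by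
    show u⁻¹ * ((g : G) * k * u * ((g : G) * k)⁻¹) =
      u⁻¹ * (g * u * (g : G)⁻¹) * (u⁻¹ * (k * u * (k : G)⁻¹))
    have h := conj_eq_of_commute (Subgroup.mem_centralizer_iff.1 g.2.2 _ k.2.1.2).symm
    calc u⁻¹ * ((g : G) * k * u * ((g : G) * k)⁻¹)
        = u⁻¹ * ((g : G) * u * (g : G)⁻¹) * ((g : G) * (u⁻¹ * (k * u * (k : G)⁻¹)) * (g : G)⁻¹) := by
          group
      _ = _ := by rw [h]

theorem shiftHom_apply {u : G} (g : ↥(shift A u ⊓ Subgroup.centralizer (A : Set G))) :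
    (g : G) * u * (g : G)⁻¹ = u * (shiftHom A u g : G) :=
  (mul_inv_cancel_left u _).symm

/-- A `2`-subgroup of `C(A)` regular on `u A` modulo `R`. -/
structure TransU (A : Subgroup G) (u : G) (R U : Subgroup G) (q : ℕ) : Prop where
  two : IsPGroup 2 U
  le : R ≤ U
  cent : U ≤ Subgroup.centralizer (A : Set G)
  maps : ∀ g ∈ U, ∃ a ∈ A, g * u * g⁻¹ = u * a
  surj : ∀ a ∈ A, ∃ g ∈ U, g * u * g⁻¹ = u * a
  fix : ∀ g ∈ U, g * u = u * g → g ∈ R
  card : Nat.card U = q * Nat.card R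

namespace BadData

variable {u : G} {R : Subgroup G} {L : Subgroup (CQ u)}
  {Z : Subgroup (↥L ⧸ Subgroup.center ↥L)} {τ : ↥L ⧸ Subgroup.center ↥L}

theorem exists_conj_A (b : BadData T A M u R L q Z τ) (hc : Counted T A M q) {a a' : G}
    (ha : a ∈ A) (ha1 : a ≠ 1) (ha' : a' ∈ A) (ha'1 : a' ≠ 1) :
    ∃ t, t * u = u * t ∧ t ∈ Subgroup.normalizer (A : Set G) ∧ t * a * t⁻¹ = a' := by
  have he := hc.inf_cent b.bad b.mem
  obtain ⟨t, htu, -, htn, e⟩ := b.exists_conj_F (f := a) (f' := a') (he.ge ha) ha1 (he.ge ha') ha'1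
  refine ⟨t, Subgroup.mem_centralizer_singleton_iff.1 htu, ?_, e⟩
  rwa [he] at htn

theorem exists_shift (b : BadData T A M u R L q Z τ) (hc : Counted T A M q) {a : G} (ha : a ∈ A) :
    ∃ g ∈ shift A u, g * u * g⁻¹ = u * a := by
  rcases eq_or_ne a 1 with rfl | ha1
  · exact ⟨1, one_mem _, by group⟩
  obtain ⟨z, hz, hz1, hza⟩ : ∃ z ∈ A, z ≠ 1 ∧ z ≠ a := by
    by_contra hne
    push Not at hne
    have h1 : Nat.card A ≤ 2 := by
      refine (Subgroup.card_le_of_le (K := Subgroup.zpowers a) fun z hz => ?_).trans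
        (by rw [Nat.card_zpowers, hc.closed.order_two ha ha1])
      by_cases hz1 : z = 1
      · exact hz1 ▸ one_mem _
      · exact hne z hz hz1 ▸ Subgroup.mem_zpowers z
    have := hc.eight_le
    rw [hc.card_A] at h1
    omega
  have hzz : z * z = 1 := hc.closed.sq hz
  have hvN : u * z ∈ Subgroup.normalizer (A : Set G) := mul_mem b.mem (Subgroup.le_normalizer hz)
  obtain ⟨R', L', Z', τ', b'⟩ := hc.exists_data (hc.bad_mul_A b.bad b.mem hz) hvN
  have hzane : z * a ≠ 1 := fun e => hza (by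
    rw [eq_inv_of_mul_eq_one_left e, hc.closed.inv_eq ha])
  obtain ⟨t, htv, htn, hte⟩ := b'.exists_conj_A hc hz hz1 (mul_mem hz ha) hzane
  have key : t * u * t⁻¹ = u * a := by
    calc t * u * t⁻¹ = (t * (u * z) * t⁻¹) * (t * z * t⁻¹)⁻¹ := by group
      _ = u * z * (z * a)⁻¹ := by rw [conj_eq_of_commute htv, hte]
      _ = u * z * (a * z) := by rw [mul_inv_rev, hc.closed.inv_eq ha, hc.closed.inv_eq hz]
      _ = u * (z * z) * a := by rw [hc.closed.comm ha hz]; group
      _ = u * a := by rw [hzz, mul_one]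
  exact ⟨t, mem_shift_of_eq htn ha key, key⟩

theorem R_le_shift (b : BadData T A M u R L q Z τ) : R ≤ shift A u := fun r hr =>
  mem_shift_of_commute (b.R_le_normalizer hr)
    (Subgroup.mem_centralizer_singleton_iff.1 (b.comp.base.sylow.le hr))

theorem odd_relIndex (b : BadData T A M u R L q Z τ) {K : Subgroup G} (hK : R ≤ K)
    (hKC : K ≤ Subgroup.centralizer ({u} : Set G)) : Odd (R.relIndex K) := by
  haveI : Fact (Nat.Prime 2) := ⟨Nat.prime_two⟩
  obtain ⟨S, hS⟩ := (b.comp.base.sylow.of_le_le hK hKC).exists_sylow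
  rw [hS, Subgroup.relIndex, Subgroup.subgroupOf, Subgroup.comap_map_eq_self_of_injective
    K.subtype_injective, Nat.odd_iff]
  exact Nat.two_dvd_ne_zero.1 S.not_dvd_index

theorem exists_cent_shift (b : BadData T A M u R L q Z τ) (hc : Counted T A M q) :
    ∃ g ∈ shift A u ⊓ Subgroup.centralizer (A : Set G), g * u ≠ u * g := by
  haveI : Fact (Nat.Prime 2) := ⟨Nat.prime_two⟩
  have h := hc.closed
  by_contra hno
  push Not at hno
  set Y := shift A u with hY
  have hYN : Y ≤ Subgroup.normalizer (A : Set G) := fun g hg => hg.1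
  set K := (Subgroup.centralizer (A : Set G)).subgroupOf Y with hKdef
  haveI hKn : K.Normal := ⟨fun k hk y => by
    rw [hKdef, Subgroup.mem_subgroupOf] at hk ⊢
    refine Subgroup.mem_centralizer_iff.2 fun a ha => ?_
    have ha' := normalizer_conj (inv_mem (hYN y.2)) ha
    have h1 := Subgroup.mem_centralizer_iff.1 hk _ ha'
    calc a * ((y * k * y⁻¹ : ↥Y) : G) = y * ((y : G)⁻¹ * a * (y : G)⁻¹⁻¹ * k) * (y : G)⁻¹ := by
          push_cast; group
      _ = y * (k * ((y : G)⁻¹ * a * (y : G)⁻¹⁻¹)) * (y : G)⁻¹ := by rw [h1]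
      _ = _ := by push_cast; group⟩
  set π := QuotientGroup.mk' K with hπ
  set H₀ := (Subgroup.centralizer ({u} : Set G)).subgroupOf Y with hH₀
  have hmemH : ∀ g : Y, g ∈ H₀ ↔ (g : G) * u = u * g := fun g => by
    rw [hH₀, Subgroup.mem_subgroupOf, Subgroup.mem_centralizer_singleton_iff]
  have hKH : K ≤ H₀ := fun g hg => (hmemH g).2 (hno g ⟨g.2, hg⟩)
  have hidx : (H₀.map π).index = q := by
    rw [H₀.index_map_eq (QuotientGroup.mk'_surjective K) (by rw [QuotientGroup.ker_mk']; exact hKH),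
      ← hc.card_A, Subgroup.index]
    refine Nat.card_congr (Equiv.ofBijective (Quotient.lift
      (fun g : Y => (⟨u⁻¹ * ((g : G) * u * (g : G)⁻¹), g.2.2⟩ : A)) fun g k e => Subtype.ext ?_) ⟨?_, ?_⟩)
    · change (QuotientGroup.leftRel H₀) g k at e
      rw [QuotientGroup.leftRel_apply, hmemH] at e
      have h2 := conj_eq_of_commute e
      simp only [Subgroup.coe_mul, Subgroup.coe_inv] at h2
      show u⁻¹ * ((g : G) * u * (g : G)⁻¹) = u⁻¹ * ((k : G) * u * (k : G)⁻¹)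
      calc u⁻¹ * ((g : G) * u * (g : G)⁻¹)
          = u⁻¹ * ((g : G) * ((g : G)⁻¹ * k * u * ((g : G)⁻¹ * k)⁻¹) * (g : G)⁻¹) := by rw [h2]
        _ = _ := by group
    · intro x y
      induction x using QuotientGroup.induction_on with
      | H g =>
        induction y using QuotientGroup.induction_on with
        | H k =>
          intro e
          refine QuotientGroup.eq.2 ((hmemH _).2 (commute_of_conj_eq ?_))
          have h1 : (g : G) * u * (g : G)⁻¹ = (k : G) * u * (k : G)⁻¹ :=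
            mul_left_cancel (congrArg Subtype.val e)
          push_cast
          calc (g : G)⁻¹ * k * u * ((g : G)⁻¹ * k)⁻¹
              = (g : G)⁻¹ * ((k : G) * u * (k : G)⁻¹) * g := by group
            _ = u := by rw [← h1]; group
    · rintro ⟨a, ha⟩
      obtain ⟨g, hg, e⟩ := b.exists_shift hc ha
      exact ⟨((⟨g, hg⟩ : Y) : Y ⧸ H₀), Subtype.ext (by
        show u⁻¹ * (g * u * g⁻¹) = a
        rw [e, inv_mul_cancel_left])⟩
  have hodd : Odd (Nat.card (H₀.map π)) := by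
    have h1 : Nat.card (H₀.map π) = K.relIndex H₀ := by
      calc Nat.card (H₀.map π) = π.ker.relIndex H₀ := by rw [Subgroup.relIndex_ker]
        _ = K.relIndex H₀ := by rw [hπ, QuotientGroup.ker_mk']
    rw [h1]
    refine Odd.of_dvd_nat ?_ (Subgroup.relIndex_dvd_of_le_left H₀
      (show R.subgroupOf Y ≤ K from fun r hr => b.R_cent hc hr))
    rw [hH₀, ← Subgroup.inf_subgroupOf_right (Subgroup.centralizer _) Y,
      Subgroup.relIndex_subgroupOf inf_le_right]
    exact b.odd_relIndex (le_inf b.comp.base.sylow.le b.R_le_shift) inf_le_left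
  have hmax : ∀ g, g ∉ H₀.map π → ∀ J : Subgroup (Y ⧸ K), H₀.map π ≤ J → g ∈ J → J = ⊤ := by
    intro g hg J hJ hgJ
    obtain ⟨g₀, rfl⟩ := QuotientGroup.mk'_surjective K g
    have hg0 : g₀ ∉ H₀ := fun h' => hg ⟨g₀, h', rfl⟩
    rw [eq_top_iff]
    rintro y -
    obtain ⟨y₀, rfl⟩ := QuotientGroup.mk'_surjective K y
    by_cases hy : y₀ ∈ H₀
    · exact hJ ⟨y₀, hy, rfl⟩
    have key : ∀ g : Y, g ∉ H₀ → u⁻¹ * ((g : G) * u * (g : G)⁻¹) ≠ 1 := fun g hg e =>
      hg ((hmemH g).2 (commute_of_conj_eq (inv_mul_eq_one.1 e).symm))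
    obtain ⟨t, htu, htn, hte⟩ := b.exists_conj_A hc g₀.2.2 (key g₀ hg0) y₀.2.2 (key y₀ hy)
    set t' : Y := ⟨t, mem_shift_of_commute htn htu⟩
    have h1 : (t' * g₀)⁻¹ * y₀ ∈ H₀ := by
      rw [hmemH]
      refine commute_of_conj_eq ?_
      push_cast
      have e1 : t * (g₀ : G) * u * (t * (g₀ : G))⁻¹ = (y₀ : G) * u * (y₀ : G)⁻¹ := by
        calc t * (g₀ : G) * u * (t * (g₀ : G))⁻¹
            = (t * u * t⁻¹) * (t * (u⁻¹ * ((g₀ : G) * u * (g₀ : G)⁻¹)) * t⁻¹) := by group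
          _ = _ := by rw [conj_eq_of_commute htu, hte, mul_inv_cancel_left]
      calc (t * (g₀ : G))⁻¹ * y₀ * u * ((t * (g₀ : G))⁻¹ * y₀)⁻¹
          = (t * (g₀ : G))⁻¹ * ((y₀ : G) * u * (y₀ : G)⁻¹) * (t * g₀) := by group
        _ = u := by rw [← e1]; group
    rw [show y₀ = t' * g₀ * ((t' * g₀)⁻¹ * y₀) by group, map_mul, map_mul]
    exact mul_mem (mul_mem (hJ ⟨t', (hmemH t').2 htu, rfl⟩) hgJ) (hJ ⟨_, h1, rfl⟩)
  have hYtop : Y ≠ ⊤ := fun e => h.ne_top (eq_top_iff.2 (e ▸ hYN))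
  have hO2 : Cfsg.pCore 2 (Y ⧸ K) = ⊥ := by
    set P := (Cfsg.pCore 2 (Y ⧸ K)).comap π with hP
    obtain ⟨a, ha, ha1, hfix⟩ := exists_fixed h.elem h.ne_bot (K := P.map Y.subtype)
      ((Subgroup.map_subtype_le _).trans hYN) (by
        rintro _ ⟨k, hk, rfl⟩
        obtain ⟨i, hi⟩ := Cores.pCore_isPGroup 2 ⟨π k, hk⟩
        refine ⟨i, fun a ha => ?_⟩
        have hi' : (π k) ^ 2 ^ i = 1 := congrArg Subtype.val hi
        rw [← map_pow, hπ, QuotientGroup.mk'_apply, QuotientGroup.eq_one_iff, hKdef,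
          Subgroup.mem_subgroupOf] at hi'
        exact (Subgroup.mem_centralizer_iff.1 hi' a ha).symm)
    refine le_bot_iff.1 fun x hx => ?_
    obtain ⟨p, rfl⟩ := QuotientGroup.mk'_surjective K x
    rw [Subgroup.mem_bot, QuotientGroup.mk'_apply, QuotientGroup.eq_one_iff, hKdef,
      Subgroup.mem_subgroupOf, Subgroup.mem_centralizer_iff]
    intro a' ha'
    rcases eq_or_ne a' 1 with rfl | ha'1
    · rw [one_mul, mul_one]
    obtain ⟨t, htu, htn, hte⟩ := b.exists_conj_A hc ha ha1 ha' ha'1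
    set t' : Y := ⟨t, mem_shift_of_commute htn htu⟩
    have hmem : t'⁻¹ * p * t'⁻¹⁻¹ ∈ P := by
      haveI : P.Normal := Subgroup.Normal.comap inferInstance π
      exact Subgroup.Normal.conj_mem inferInstance p hx _
    have h1 := hfix _ ⟨_, hmem, rfl⟩
    have h2 : (t : G)⁻¹ * p * t * a * ((t : G)⁻¹ * p * t)⁻¹ = a := by simpa [t'] using h1
    refine (commute_of_conj_eq ?_).symm
    calc (p : G) * a' * (p : G)⁻¹ = t * ((t : G)⁻¹ * p * t * a * ((t : G)⁻¹ * p * t)⁻¹) * t⁻¹ := by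
          rw [← hte]; group
      _ = a' := by rw [h2, hte]
  have hO : Cfsg.pPrimeCore 2 (Y ⧸ K) = ⊥ := by
    set O := Cfsg.pPrimeCore 2 (Y ⧸ K) with hOdef
    haveI : O.Normal := inferInstance
    have hOH : O ≤ H₀.map π := by
      by_contra hne
      obtain ⟨g, hg, hgH⟩ := SetLike.not_le_iff_exists.1 hne
      have htop := hmax g hgH (H₀.map π ⊔ O) le_sup_left (le_sup_right (a := H₀.map π) hg)
      have h1 : O.index ∣ Nat.card (H₀.map π) := by
        rw [← Subgroup.relIndex_top_right, ← htop, Subgroup.relIndex_sup_right]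
        exact Subgroup.relIndex_dvd_card _ _
      obtain ⟨m, -, hm⟩ := hc.q_eq
      have h3 : Odd (Nat.card O) := Nat.coprime_two_right.1 (Cores.pPrimeCore_coprime (G := Y ⧸ K) 2)
      have h4 : Odd (Nat.card (Y ⧸ K)) := by
        rw [← O.card_mul_index]; exact h3.mul (hodd.of_dvd_nat h1)
      have h5 : 2 ∣ Nat.card (Y ⧸ K) :=
        (Dvd.intro_left _ (pow_succ 2 (2 * m)).symm).trans
          (hm ▸ hidx ▸ Subgroup.index_dvd_card _)
      exact Nat.not_even_iff_odd.2 h4 (even_iff_two_dvd.2 h5)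
    refine le_bot_iff.1 fun x hx => ?_
    obtain ⟨e, rfl⟩ := QuotientGroup.mk'_surjective K x
    rw [Subgroup.mem_bot, QuotientGroup.mk'_apply, QuotientGroup.eq_one_iff, hKdef,
      Subgroup.mem_subgroupOf, Subgroup.mem_centralizer_iff]
    have hfix : ∀ y : Y, (e : G) * ((y : G) * u * (y : G)⁻¹) * (e : G)⁻¹ = (y : G) * u * (y : G)⁻¹ := by
      intro y
      obtain ⟨k, hk, hke⟩ := hOH ((inferInstance : O.Normal).conj_mem _ hx (π y)⁻¹)
      have h1 : y⁻¹ * e * y ∈ H₀ := by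
        have h2 : k⁻¹ * (y⁻¹ * e * y) ∈ K := by
          rw [← QuotientGroup.eq_one_iff]
          show π (k⁻¹ * (y⁻¹ * e * y)) = 1
          rw [map_mul, map_inv, hke, map_mul, map_mul, map_inv, inv_inv, inv_mul_cancel]
        simpa using mul_mem hk (hKH h2)
      rw [hmemH] at h1
      push_cast at h1
      calc (e : G) * ((y : G) * u * (y : G)⁻¹) * (e : G)⁻¹
          = (y : G) * (((y : G)⁻¹ * e * y) * u * ((y : G)⁻¹ * e * y)⁻¹) * (y : G)⁻¹ := by group
        _ = _ := by rw [conj_eq_of_commute h1]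
    intro a ha
    obtain ⟨y, hy, hye⟩ := b.exists_shift hc ha
    have h1 := hfix 1
    have h2 := hfix ⟨y, hy⟩
    simp only [Subgroup.coe_one, one_mul, inv_one, mul_one] at h1
    simp only [hye] at h2
    refine (commute_of_conj_eq ?_).symm
    calc (e : G) * a * (e : G)⁻¹ = ((e : G) * u * (e : G)⁻¹)⁻¹ * ((e : G) * (u * a) * (e : G)⁻¹) := by
          group
      _ = a := by rw [h1, h2, inv_mul_cancel_left]
  obtain ⟨m, -, hm⟩ := hc.q_eq
  exact h.hyp.no_affine ((small_subgroup hYtop).surj π (QuotientGroup.mk'_surjective K)) hO hO2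
    (H₀.map π) hodd (hidx.trans hm) hmax

theorem exists_transU (b : BadData T A M u R L q Z τ) (hc : Counted T A M q) :
    ∃ U, TransU A u R U q := by
  haveI : Fact (Nat.Prime 2) := ⟨Nat.prime_two⟩
  set Y := shift A u ⊓ Subgroup.centralizer (A : Set G) with hY
  have hRY : R ≤ Y := le_inf b.R_le_shift (b.R_cent hc)
  obtain ⟨U, hU, hRU⟩ := CosetGraph.SylowIn.IsSylowIn.exists_le b.comp.base.sylow.isPGroup hRY
  have hψ : Function.Surjective (shiftHom A u) := by
    rintro ⟨a, ha⟩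
    rcases eq_or_ne a 1 with rfl | ha1
    · exact ⟨1, map_one _⟩
    obtain ⟨g, hg, hgu⟩ := b.exists_cent_shift hc
    have hne : u⁻¹ * (g * u * g⁻¹) ≠ 1 := fun e => hgu (commute_of_conj_eq (inv_mul_eq_one.1 e).symm)
    obtain ⟨t, htu, htn, hte⟩ := b.exists_conj_A hc hg.1.2 hne ha ha1
    have hts := mem_shift_of_commute (A := A) htn htu
    have hcA : t * g * t⁻¹ ∈ Subgroup.centralizer (A : Set G) := Subgroup.mem_centralizer_iff.2
      fun x hx => by
        have h1 := Subgroup.mem_centralizer_iff.1 hg.2 _ (normalizer_conj (inv_mem htn) hx)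
        calc x * (t * g * t⁻¹) = t * (t⁻¹ * x * t⁻¹⁻¹ * g) * t⁻¹ := by group
          _ = t * (g * (t⁻¹ * x * t⁻¹⁻¹)) * t⁻¹ := by rw [h1]
          _ = _ := by group
    refine ⟨⟨t * g * t⁻¹, Subgroup.mul_mem _ (Subgroup.mul_mem _ hts hg.1) (Subgroup.inv_mem _ hts), hcA⟩, Subtype.ext ?_⟩
    show u⁻¹ * (t * g * t⁻¹ * u * (t * g * t⁻¹)⁻¹) = a
    have h3 : t⁻¹ * u * t = u := by rw [mul_assoc, ← htu, inv_mul_cancel_left]
    calc u⁻¹ * (t * g * t⁻¹ * u * (t * g * t⁻¹)⁻¹)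
        = u⁻¹ * (t * g * (t⁻¹ * u * t) * g⁻¹ * t⁻¹) := by group
      _ = u⁻¹ * ((t * u * t⁻¹) * (t * (u⁻¹ * (g * u * g⁻¹)) * t⁻¹)) := by rw [h3]; group
      _ = a := by rw [conj_eq_of_commute htu, hte, inv_mul_cancel_left]
  set U' := U.subgroupOf Y
  have hUtop : U'.map (shiftHom A u) = ⊤ := by
    obtain ⟨S, hS⟩ := hU.exists_sylow
    have h1 : U' = (S : Subgroup Y) := by
      show U.subgroupOf Y = _
      rw [hS, Subgroup.subgroupOf, Subgroup.comap_map_eq_self_of_injective Y.subtype_injective]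
    rw [← Subgroup.index_eq_one]
    obtain ⟨j, -, hj⟩ := (Nat.dvd_prime_pow Nat.prime_two).1
      ((Subgroup.index_dvd_card (U'.map (shiftHom A u))).trans
        (IsPGroup.iff_card.1 hc.closed.isPGroup).choose_spec.dvd)
    have h2 := Subgroup.index_map_dvd U' hψ
    rw [hj] at h2 ⊢
    rcases j with _ | j
    · rfl
    · exact absurd (h1 ▸ (Dvd.intro_left _ (pow_succ 2 j).symm).trans h2) S.not_dvd_index
  have hfix : ∀ g ∈ U, g * u = u * g → g ∈ R := by
    intro g hg hgu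
    set V := U ⊓ Subgroup.centralizer ({u} : Set G)
    have hV : R = V := by
      refine Subgroup.eq_of_le_of_card_ge (le_inf hRU b.comp.base.sylow.le) ?_
      obtain ⟨k, hk⟩ := IsPGroup.iff_card.1 (hU.isPGroup.to_le (inf_le_left : V ≤ U))
      rw [hk, b.comp.base.sylow.card_eq]
      exact Nat.pow_le_pow_right two_pos
        ((Nat.Prime.pow_dvd_iff_le_factorization Nat.prime_two Nat.card_pos.ne').1
          (hk ▸ Subgroup.card_dvd_of_le inf_le_right))
    exact hV ▸ ⟨hg, Subgroup.mem_centralizer_singleton_iff.2 hgu⟩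
  refine ⟨U, hU.isPGroup, hRU, hU.le.trans inf_le_right, fun g hg =>
    ⟨_, (hU.le hg).1.2, (mul_inv_cancel_left u _).symm⟩, ?_, hfix, ?_⟩
  · intro a ha
    obtain ⟨g, hg, e⟩ := hUtop.ge (Subgroup.mem_top (⟨a, ha⟩ : A))
    exact ⟨g, hg, by rw [shiftHom_apply g, e]⟩
  · set φ := (shiftHom A u).comp U'.subtype
    have hker : Nat.card φ.ker = Nat.card R := by
      refine Nat.card_congr ⟨fun g => ⟨((g : U') : Y), hfix _ g.1.2 ?_⟩,
        fun r => ⟨⟨⟨r, hRY r.2⟩, hRU r.2⟩, ?_⟩, fun _ => rfl, fun _ => rfl⟩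
      · have h1 := shiftHom_apply ((g : U') : Y)
        have h2 : shiftHom A u ((g : U') : Y) = 1 := g.2
        rw [h2, Subgroup.coe_one, mul_one] at h1
        exact commute_of_conj_eq h1
      · refine Subtype.ext ?_
        show u⁻¹ * ((r : G) * u * (r : G)⁻¹) = 1
        rw [conj_eq_of_commute (Subgroup.mem_centralizer_singleton_iff.1 (b.comp.base.sylow.le r.2)),
          inv_mul_cancel]
    have hrange : φ.range = ⊤ := by rw [MonoidHom.range_comp, Subgroup.range_subtype]; exact hUtop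
    rw [← Nat.card_congr (Subgroup.subgroupOfEquivOfLe hU.le).toEquiv, ← φ.ker.card_mul_index,
      Subgroup.index_ker, hrange, Subgroup.card_top, hker, hc.card_A, mul_comm]

end BadData

end Cfsg.Agent.Lib.Thompson3Prime33
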