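import Cfsg.Agent.Lib.Thompson3Prime33.Comp
import Cfsg.Agent.Lib.LAEven54.SylowJoin

/-!
# A strongly closed elementary abelian subgroup of a small group with trivial odd core

Owner: helper33.
-/

set_option autoImplicit false
set_option linter.style.haveILetI false
set_option linter.unusedSectionVars false

namespace Cfsg.Agent.Lib.Thompson3Prime33

universe u

section general

variable {X : Type u} [Group X] [Finite X]

/-- The map onto the central quotient. -/
abbrev sig (L : Subgroup X) : ↥L →* ↥L ⧸ Subgroup.center ↥L := QuotientGroup.mk' (Subgroup.center ↥L)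

theorem sig_surjective (L : Subgroup X) : Function.Surjective (sig L) :=
  QuotientGroup.mk'_surjective _

/-- The image of `R ∩ L` in the central quotient of `L`. -/
abbrev pbar (R L : Subgroup X) : Subgroup (↥L ⧸ Subgroup.center ↥L) := (R.subgroupOf L).map (sig L)

/-- The action of the normaliser on the central quotient. -/
abbrev autOn (L : Subgroup X) :
    ↥(Subgroup.normalizer (L : Set X)) →* MulAut (↥L ⧸ Subgroup.center ↥L) :=
  Balance.conjHom L (Subgroup.normalizer (L : Set X)) le_rfl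

theorem autOn_apply {L : Subgroup X} {g : X} (hg : g ∈ Subgroup.normalizer (L : Set X)) (l : L) :
    autOn L ⟨g, hg⟩ (sig L l) = sig L ⟨g * l * g⁻¹, normalizer_conj hg l.2⟩ := rfl

theorem autOn_coe {L : Subgroup X} (l : L) :
    autOn L ⟨(l : X), Subgroup.le_normalizer l.2⟩ = MulAut.conj (sig L l) := by
  ext x
  obtain ⟨y, rfl⟩ := sig_surjective L x
  rw [autOn_apply, MulAut.conj_apply, ← map_inv, ← map_mul, ← map_mul]
  rfl

theorem centralizes_of_autOn {L : Subgroup X} (hp : Group.IsPerfect ↥L) {g : X}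
    (hg : g ∈ Subgroup.normalizer (L : Set X)) (h : autOn L ⟨g, hg⟩ = 1) :
    g ∈ Subgroup.centralizer (L : Set X) := by
  refine GlaubermanTwo54.mem_centralizer_of_trivial_mod_center hp fun l hl => ?_
  have h1 := DFunLike.congr_fun h (sig L ⟨l, hl⟩)
  rw [autOn_apply, MulAut.one_apply, ← mul_inv_eq_one, ← map_inv, ← map_mul,
    QuotientGroup.mk'_apply, QuotientGroup.eq_one_iff] at h1
  exact ⟨((⟨g * l * g⁻¹, normalizer_conj hg hl⟩ : L) * (⟨l, hl⟩ : L)⁻¹).2, fun m hm =>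
    congrArg Subtype.val (Subgroup.mem_center_iff.1 h1 ⟨m, hm⟩)⟩

theorem autOn_of_centralizes {L : Subgroup X} {g : X}
    (hg : g ∈ Subgroup.normalizer (L : Set X)) (h : g ∈ Subgroup.centralizer (L : Set X)) :
    autOn L ⟨g, hg⟩ = 1 := by
  ext x
  obtain ⟨l, rfl⟩ := sig_surjective L x
  rw [autOn_apply, MulAut.one_apply]
  refine congrArg (sig L) (Subtype.ext ?_)
  show g * (l : X) * g⁻¹ = l
  exact conj_eq_of_commute (Subgroup.mem_centralizer_iff.1 h l l.2).symm

end general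

/-- A strongly closed elementary abelian subgroup of a Sylow `2`-subgroup. -/
structure SC {X : Type u} [Group X] (R : Sylow 2 X) (F : Subgroup X) : Prop where
  elem : Cfsg.IsElementaryAbelian 2 F
  closed : Cfsg.IsStronglyClosed F (R : Subgroup X)

namespace SC

variable {X : Type u} [Group X] [Finite X] {R : Sylow 2 X} {F : Subgroup X}

theorem le (h : SC R F) : F ≤ (R : Subgroup X) := h.closed.1

theorem sq (h : SC R F) {a : X} (ha : a ∈ F) : a * a = 1 := by rw [← pow_two]; exact h.elem.2 a ha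

theorem comm (h : SC R F) {a b : X} (ha : a ∈ F) (hb : b ∈ F) : a * b = b * a :=
  PGroups.elemAb_comm h.elem ha hb

theorem conj_mem (h : SC R F) {r a : X} (hr : r ∈ (R : Subgroup X)) (ha : a ∈ F) :
    r * a * r⁻¹ ∈ F :=
  h.closed.2 a ha r (mul_mem (mul_mem hr (h.le ha)) (inv_mem hr))

/-- In a constrained group a strongly closed abelian subgroup is normal. -/
theorem normal_of_constrained (h : SC R F)
    (hc : Subgroup.centralizer (Cfsg.pCore 2 X : Set X) ≤ Cfsg.pCore 2 X) : F.Normal := by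
  haveI : Fact (Nat.Prime 2) := ⟨Nat.prime_two⟩
  set O := Cfsg.pCore 2 X with hO
  have hOR : O ≤ (R : Subgroup X) := Cores.pCore_le_sylow R
  haveI hOn : O.Normal := inferInstance
  set F₀ := F ⊓ O
  haveI hF₀ : F₀.Normal := ⟨fun x hx g =>
    ⟨h.closed.2 x hx.1 g (hOR (hOn.conj_mem x hx.2 g)), hOn.conj_mem x hx.2 g⟩⟩
  set φ := QuotientGroup.mk' F₀
  set K := Subgroup.centralizer (F₀ : Set X) ⊓
    (Subgroup.centralizer ((O.map φ : Subgroup (X ⧸ F₀)) : Set (X ⧸ F₀))).comap φ with hK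
  haveI : K.Normal := by
    haveI : (O.map φ).Normal := hOn.map φ (QuotientGroup.mk'_surjective _)
    haveI := Subgroup.normal_centralizer (H := O.map φ)
    haveI := Subgroup.normal_centralizer (H := F₀)
    infer_instance
  have hKp : IsPGroup 2 K := by
    rintro ⟨y, hy1, hy2⟩
    obtain ⟨i, m, hm, hym⟩ := Nat.exists_eq_pow_mul_and_not_dvd (orderOf_pos y).ne' 2 (by norm_num)
    set z := y ^ 2 ^ i with hz
    have hzo : Odd (orderOf z) := by
      rw [hz, orderOf_pow' _ (pow_ne_zero _ two_ne_zero), hym, Nat.gcd_mul_right_left,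
        Nat.mul_div_cancel_left _ (Nat.two_pow_pos i)]
      exact Nat.odd_iff.2 (Nat.two_dvd_ne_zero.1 hm)
    have hz1 : z ∈ Subgroup.centralizer (F₀ : Set X) := Subgroup.pow_mem _ hy1 _
    have hz2 : φ z ∈ Subgroup.centralizer ((O.map φ : Subgroup (X ⧸ F₀)) : Set (X ⧸ F₀)) := by
      rw [hz, map_pow]; exact Subgroup.pow_mem _ hy2 _
    have hzO : z ∈ Subgroup.centralizer (O : Set X) := by
      refine Subgroup.mem_centralizer_iff.2 fun o ho => ?_
      set f := o⁻¹ * (z * o * z⁻¹) with hf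
      have hfF : f ∈ F₀ := by
        rw [← QuotientGroup.eq_one_iff]
        show φ f = 1
        rw [hf, map_mul, map_inv, map_mul, map_mul, map_inv,
          ← Subgroup.mem_centralizer_iff.1 hz2 (φ o) ⟨o, ho, rfl⟩, mul_inv_cancel_right,
          inv_mul_cancel]
      have hzf : z * f * z⁻¹ = f :=
        conj_eq_of_commute (Subgroup.mem_centralizer_iff.1 hz1 f hfF).symm
      have hiter : ∀ j : ℕ, z ^ j * o * (z ^ j)⁻¹ = o * f ^ j := by
        intro j
        induction j with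
        | zero => simp
        | succ j ih =>
          calc z ^ (j + 1) * o * (z ^ (j + 1))⁻¹ = z * (z ^ j * o * (z ^ j)⁻¹) * z⁻¹ := by
                rw [pow_succ']; group
            _ = z * (o * f ^ j) * z⁻¹ := by rw [ih]
            _ = (z * o * z⁻¹) * (z * f * z⁻¹) ^ j := by rw [conj_pow]; group
            _ = o * f ^ (j + 1) := by
              rw [hzf, pow_succ', show z * o * z⁻¹ = o * f by rw [hf]; group, mul_assoc]
      have h1 := hiter (orderOf z)
      rw [pow_orderOf_eq_one, one_mul, inv_one, mul_one, left_eq_mul] at h1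
      have h2 : orderOf f ∣ 2 := orderOf_dvd_of_pow_eq_one (by rw [pow_two, h.sq hfF.1])
      have h3 : f = 1 := orderOf_eq_one_iff.1
        (Nat.eq_one_of_dvd_coprimes (Nat.coprime_two_right.2 hzo) (orderOf_dvd_of_pow_eq_one h1) h2)
      exact (commute_of_conj_eq (inv_mul_eq_one.1 (hf ▸ h3)).symm).symm
    obtain ⟨j, hj⟩ := Cores.pCore_isPGroup 2 ⟨z, hc hzO⟩
    refine ⟨i + j, Subtype.ext ?_⟩
    show y ^ 2 ^ (i + j) = 1
    rw [pow_add, pow_mul]
    exact congrArg Subtype.val hj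
  have hFK : F ≤ K := fun x (hx : x ∈ F) =>
    ⟨Subgroup.mem_centralizer_iff.2 fun f hf => h.comm hf.1 hx,
      Subgroup.mem_centralizer_iff.2 fun _ ho => by
        obtain ⟨o, ho, rfl⟩ := ho
        replace ho : o ∈ O := ho
        rw [← map_mul, ← map_mul, QuotientGroup.mk'_eq_mk']
        refine ⟨(o * x)⁻¹ * (x * o), ⟨?_, ?_⟩, by group⟩
        · rw [show (o * x)⁻¹ * (x * o) = x⁻¹ * (o⁻¹ * x * o⁻¹⁻¹) by group]
          exact F.mul_mem (F.inv_mem hx) (h.conj_mem ((R : Subgroup X).inv_mem (hOR ho)) hx)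
        · rw [show (o * x)⁻¹ * (x * o) = (x⁻¹ * o⁻¹ * x⁻¹⁻¹) * o by group]
          exact O.mul_mem (hOn.conj_mem _ (O.inv_mem ho) _) ho⟩
  have hFO : F ≤ O := hFK.trans (Cores.le_pCore hKp)
  have : F₀ = F := inf_eq_left.2 hFO
  exact this ▸ hF₀

end SC

variable {G : Type u} [Group G] [Finite G] {X : Type u} [Group X] [Finite X]

namespace Sec

theorem exists_local (h : Sec G X) {L : Subgroup X} (hL : Cfsg.IsComponent L) (R : Sylow 2 X) :
    ∃ (q : ℕ) (Z : Subgroup (↥L ⧸ Subgroup.center ↥L)) (τ : ↥L ⧸ Subgroup.center ↥L),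
      SzLocal (↥L ⧸ Subgroup.center ↥L) q (pbar (R : Subgroup X) L) Z τ := by
  haveI : Fact (Nat.Prime 2) := ⟨Nat.prime_two⟩
  obtain ⟨S, hS⟩ := (LAEven54.SylowJoin.isSylowIn_inf R hL.1).exists_sylow
  have hS' : (S : Subgroup L) = (R : Subgroup X).subgroupOf L := by
    apply Subgroup.map_injective L.subtype_injective
    rw [← hS, Subgroup.subgroupOf_map_subtype]
  obtain ⟨q, Z, τ, hloc⟩ := h.hyp.deps.facts _ (h.suzuki hL) (S.mapSurjective (sig_surjective L))
  rw [Sylow.coe_mapSurjective, hS'] at hloc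
  exact ⟨q, Z, τ, hloc⟩

theorem center_le (h : Sec G X) {L : Subgroup X} (hL : Cfsg.IsComponent L) (R : Sylow 2 X)
    {c : L} (hc : c ∈ Subgroup.center L) : (c : X) ∈ (R : Subgroup X) := by
  haveI : Fact (Nat.Prime 2) := ⟨Nat.prime_two⟩
  obtain ⟨S, hS⟩ := (LAEven54.SylowJoin.isSylowIn_inf R hL.1).exists_sylow
  have := (Cores.le_pCore (h.center_two hL)).trans (Cores.pCore_le_sylow S) hc
  exact (show (c : X) ∈ (R : Subgroup X) ⊓ L from hS ▸ ⟨c, this, rfl⟩).1

theorem mem_of_sig_mem (h : Sec G X) {L : Subgroup X} (hL : Cfsg.IsComponent L) (R : Sylow 2 X)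
    {l : L} (hl : sig L l ∈ pbar (R : Subgroup X) L) : (l : X) ∈ (R : Subgroup X) := by
  obtain ⟨s, hs, hsl⟩ := hl
  rw [QuotientGroup.mk'_apply, QuotientGroup.mk'_apply, QuotientGroup.eq] at hsl
  have h1 := mul_mem (show (s : X) ∈ (R : Subgroup X) from hs) (h.center_le hL R hsl)
  simpa using h1

variable {R : Sylow 2 X} {F : Subgroup X}

/-- `F` normalises every component. -/
theorem le_normalizer (h : Sec G X) (hF : SC R F) {L : Subgroup X} (hL : Cfsg.IsComponent L) :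
    F ≤ Subgroup.normalizer (L : Set X) := by
  intro x hx
  by_contra hxn
  have hne : cj x L ≠ L := fun e => hxn (mem_normalizer_of_cj_le e.le)
  have hcomm : ∀ a ∈ L, ∀ b ∈ cj x L, a * b = b * a := fun a ha b hb =>
    (Subgroup.mem_centralizer_iff.1
      (Components.Component.le_centralizer_of_ne hL (Components.Component.conj hL x) hne.symm ha)
      b hb).symm
  obtain ⟨q, Z, τ, hloc⟩ := h.exists_local hL R
  obtain ⟨z, hz, hz1⟩ : ∃ z ∈ Z, z ≠ 1 := by
    refine Z.nontrivial_iff_exists_ne_one.1 (Finite.one_lt_card_iff_nontrivial.1 ?_)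
    rw [hloc.card_Z]
    have := hloc.eight_le
    omega
  obtain ⟨w, hw, hww⟩ := hloc.sq_surj z hz
  obtain ⟨b, hb, rfl⟩ := hw
  apply hz1
  rw [← hww, ← map_mul, QuotientGroup.mk'_apply, QuotientGroup.eq_one_iff]
  have hbR : (b : X) ∈ (R : Subgroup X) := hb
  have hy : (b : X)⁻¹ * x * b * x⁻¹ ∈ F := by
    refine mul_mem ?_ (inv_mem hx)
    simpa using hF.conj_mem (inv_mem hbR) hx
  set b' := x * (b : X) * x⁻¹ with hb'
  have hb'L : b' ∈ cj x L := conj_mem_cj b.2
  have hsq := hF.sq hy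
  have e : (b : X)⁻¹ * x * b * x⁻¹ = (b : X)⁻¹ * b' := by rw [hb']; group
  rw [e] at hsq
  have h1 := hcomm _ (inv_mem b.2) b' hb'L
  have hsq' : (b : X) * b = b' * b' := by
    have h2 : (b : X)⁻¹ * b' * ((b : X)⁻¹ * b') = ((b : X) * b)⁻¹ * (b' * b') := by
      calc (b : X)⁻¹ * b' * ((b : X)⁻¹ * b') = (b : X)⁻¹ * (b' * (b : X)⁻¹) * b' := by group
        _ = (b : X)⁻¹ * ((b : X)⁻¹ * b') * b' := by rw [h1]
        _ = _ := by group
    exact inv_mul_eq_one.1 (h2 ▸ hsq)
  refine Subgroup.mem_center_iff.2 fun m => Subtype.ext ?_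
  show (m : X) * ((b : X) * b) = (b : X) * b * m
  rw [hsq']
  exact hcomm m m.2 _ (mul_mem hb'L hb'L)

variable {L : Subgroup X} {q : ℕ} {Z : Subgroup (↥L ⧸ Subgroup.center ↥L)}
  {τ : ↥L ⧸ Subgroup.center ↥L}

/-- An element of `F` induces on a component an inner automorphism by an element of `Z`. -/
theorem induced (h : Sec G X) (hF : SC R F) (hL : Cfsg.IsComponent L)
    (hloc : SzLocal _ q (pbar (R : Subgroup X) L) Z τ) {x : X} (hx : x ∈ F) :
    ∃ z ∈ Z, autOn L ⟨x, h.le_normalizer hF hL hx⟩ = MulAut.conj z := by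
  set x' : ↥(Subgroup.normalizer (L : Set X)) := ⟨x, h.le_normalizer hF hL hx⟩ with hx'
  have hxx : x' * x' = 1 := Subtype.ext (hF.sq hx)
  obtain ⟨z, hz⟩ := hloc.aut_two (autOn L x') ⟨1, by
    rw [pow_one, pow_two, ← map_mul, hxx, map_one]⟩
  refine ⟨z, hloc.invol_mem_Z ?_ (hloc.conj_injective ?_), hz⟩
  · refine mem_normalizer_of_conj_mem ?_
    rintro _ ⟨s, hs, rfl⟩
    have h1 := autOn_apply (h.le_normalizer hF hL hx) s
    rw [← hx', hz, MulAut.conj_apply] at h1
    rw [h1]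
    exact ⟨_, (show x * (s : X) * x⁻¹ ∈ (R : Subgroup X) from
      mul_mem (mul_mem (hF.le hx) hs) (inv_mem (hF.le hx))), rfl⟩
  · rw [map_mul, map_one, ← hz, ← map_mul, hxx, map_one]

theorem sig_mem_Z (h : Sec G X) (hF : SC R F) (hL : Cfsg.IsComponent L)
    (hloc : SzLocal _ q (pbar (R : Subgroup X) L) Z τ) {l : L} (hl : (l : X) ∈ F) :
    sig L l ∈ Z := by
  obtain ⟨z, hz, he⟩ := h.induced hF hL hloc hl
  have : MulAut.conj (sig L l) = MulAut.conj z := by rw [← autOn_coe, ← he]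
  exact hloc.conj_injective this ▸ hz

/-- An element acting on `L` as an element of the Borel subgroup. -/
theorem conj_lift (h : Sec G X) (hF : SC R F) (hL : Cfsg.IsComponent L)
    (hloc : SzLocal _ q (pbar (R : Subgroup X) L) Z τ) {g : L}
    (hg : sig L g ∈ Subgroup.normalizer (pbar (R : Subgroup X) L : Set (↥L ⧸ Subgroup.center ↥L)))
    {x : X} (hx : x ∈ F) :
    (g : X) * x * (g : X)⁻¹ ∈ F ∧ ∃ l : L, (l : X) ∈ F ∧ (g : X) * x * (g : X)⁻¹ = x * l ∧
      ∀ z, autOn L ⟨x, h.le_normalizer hF hL hx⟩ = MulAut.conj z →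
        sig L l = z⁻¹ * (sig L g * z * (sig L g)⁻¹) := by
  have hxN := h.le_normalizer hF hL hx
  obtain ⟨z, hz, he⟩ := h.induced hF hL hloc hx
  set l : L := ⟨x⁻¹ * ((g : X) * x * (g : X)⁻¹), by
    have h1 := normalizer_conj (inv_mem hxN) g.2
    have h2 := mul_mem h1 (L.inv_mem g.2)
    simpa [mul_assoc] using h2⟩ with hl
  have hσ : sig L l = z⁻¹ * (sig L g * z * (sig L g)⁻¹) := by
    have h1 : (autOn L ⟨x⁻¹, inv_mem hxN⟩) (sig L g) = z⁻¹ * sig L g * z := by
      rw [show (⟨x⁻¹, inv_mem hxN⟩ : ↥(Subgroup.normalizer (L : Set X))) = ⟨x, hxN⟩⁻¹ from rfl,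
        map_inv, he, ← map_inv, MulAut.conj_apply, inv_inv]
    rw [autOn_apply] at h1
    rw [← mul_assoc, ← mul_assoc, ← h1, ← map_inv, ← map_mul]
    exact congrArg (sig L) (Subtype.ext (by simp [hl, mul_assoc]))
  have hlR : (l : X) ∈ (R : Subgroup X) := h.mem_of_sig_mem hL R (by
    rw [hσ]
    exact mul_mem (inv_mem (hloc.Z_le hz)) (normalizer_conj hg (hloc.Z_le hz)))
  have hgx : (g : X) * x * (g : X)⁻¹ = x * l := by simp [hl]
  have hF' : (g : X) * x * (g : X)⁻¹ ∈ F := hF.closed.2 x hx g (hgx ▸ mul_mem (hF.le hx) hlR)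
  refine ⟨hF', l, ?_, hgx, fun z' hz' => ?_⟩
  · have := mul_mem (inv_mem hx) hF'
    rwa [hgx, inv_mul_cancel_left] at this
  · rwa [show z' = z from hloc.conj_injective (hz'.symm.trans he)]

/-- A component is centralised by `F`, or `F` maps onto `Z`. -/
theorem dichotomy (h : Sec G X) (hF : SC R F) (hL : Cfsg.IsComponent L)
    (hloc : SzLocal _ q (pbar (R : Subgroup X) L) Z τ)
    (hne : ¬ F ≤ Subgroup.centralizer (L : Set X)) :
    (∀ z ∈ Z, ∃ l : L, (l : X) ∈ F ∧ sig L l = z) ∧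
      ∀ f ∈ F, ∃ l : L, (l : X) ∈ F ∧ (l : X)⁻¹ * f ∈ Subgroup.centralizer (L : Set X) := by
  obtain ⟨x, hx, hxL⟩ := SetLike.not_le_iff_exists.1 hne
  obtain ⟨z, hz, he⟩ := h.induced hF hL hloc hx
  have hz1 : z ≠ 1 := fun e => hxL (centralizes_of_autOn hL.2.1 _ (by rw [he, e, map_one]))
  obtain ⟨g, hg⟩ := sig_surjective L τ
  obtain ⟨-, l₁, hl₁, -, hσ⟩ := h.conj_lift hF hL hloc (hg ▸ hloc.τ_P) hx
  have hσ1 := hσ z he
  rw [hg] at hσ1
  have hne1 : sig L l₁ ≠ 1 := by
    rw [hσ1]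
    intro e
    refine hz1 (hloc.τ_fpf 1 (fun hd => ?_) z (hloc.Z_le hz) ?_)
    · have := Nat.le_of_dvd one_pos hd
      have := hloc.one_lt_sub
      omega
    · rw [pow_one]; exact (inv_mul_eq_one.1 e).symm
  have hsurj : ∀ w ∈ Z, ∃ l : L, (l : X) ∈ F ∧ sig L l = w := by
    intro w hw
    rcases eq_or_ne w 1 with rfl | hw1
    · exact ⟨1, one_mem _, map_one _⟩
    · obtain ⟨n, hn⟩ := hloc.τ_trans (sig L l₁) (h.sig_mem_Z hF hL hloc hl₁) w hw hne1 hw1
      refine ⟨g ^ n * l₁ * (g ^ n)⁻¹, ?_, ?_⟩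
      · exact (h.conj_lift hF hL hloc (g := g ^ n)
          (by rw [map_pow, hg]; exact Subgroup.pow_mem _ hloc.τ_P n) hl₁).1
      · rw [map_mul, map_mul, map_inv, map_pow, hg, hn]
  refine ⟨hsurj, fun f hf => ?_⟩
  obtain ⟨w, hw, hwe⟩ := h.induced hF hL hloc hf
  obtain ⟨l, hl, hlw⟩ := hsurj w hw
  refine ⟨l, hl, centralizes_of_autOn hL.2.1
    (mul_mem (inv_mem (Subgroup.le_normalizer l.2)) (h.le_normalizer hF hL hf)) ?_⟩
  rw [show (⟨(l : X)⁻¹ * f, mul_mem (inv_mem (Subgroup.le_normalizer l.2))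
      (h.le_normalizer hF hL hf)⟩ : ↥(Subgroup.normalizer (L : Set X))) =
    ⟨(l : X), Subgroup.le_normalizer l.2⟩⁻¹ * ⟨f, h.le_normalizer hF hL hf⟩ from rfl,
    map_mul, map_inv, autOn_coe, hwe, hlw, inv_mul_cancel]

/-- `X` is the product of the layer and the normaliser of `F`. -/
theorem exists_layer_mul (h : Sec G X) (hF : SC R F) (x : X) :
    ∃ e ∈ Cfsg.layer X, ∃ n ∈ Subgroup.normalizer (F : Set X), x = e * n := by
  haveI : Fact (Nat.Prime 2) := ⟨Nat.prime_two⟩
  set E := Cfsg.layer X with hE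
  haveI : E.Normal := inferInstance
  have hS : CosetGraph.SylowIn.IsSylowIn 2 ((R : Subgroup X) ⊓ E) E :=
    LAEven54.SylowJoin.isSylowIn_inf R (Subgroup.Normal.isSubnormal inferInstance)
  set Y := Subgroup.normalizer (((R : Subgroup X) ⊓ E : Subgroup X) : Set X) with hY
  have hRY : (R : Subgroup X) ≤ Y := fun r (hr : r ∈ (R : Subgroup X)) =>
    mem_normalizer_of_conj_mem fun y (hy : y ∈ (R : Subgroup X) ⊓ E) =>
    ⟨(R : Subgroup X).mul_mem ((R : Subgroup X).mul_mem hr (Subgroup.mem_inf.1 hy).1)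
      ((R : Subgroup X).inv_mem hr),
      (inferInstance : E.Normal).conj_mem y (Subgroup.mem_inf.1 hy).2 r⟩
  set Q := Cfsg.pCore 2 X ⊔ ((R : Subgroup X) ⊓ E)
  have hQR : Q ≤ (R : Subgroup X) := sup_le (Cores.pCore_le_sylow R) inf_le_left
  have hQY : Q ≤ Y := hQR.trans hRY
  have hYQ : Y ≤ Subgroup.normalizer (Q : Set X) := fun y hy => mem_normalizer_of_cj_le (by
    rw [cj, Subgroup.map_sup]
    refine sup_le_sup ?_ ?_
    · rintro _ ⟨z, hz, rfl⟩
      exact (inferInstance : (Cfsg.pCore 2 X).Normal).conj_mem z hz y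
    · rintro _ ⟨z, hz, rfl⟩
      exact normalizer_conj hy hz)
  -- no element of odd order centralises `Q`
  have hodd : ∀ y : X, y ∈ Subgroup.centralizer (Q : Set X) → Odd (orderOf y) → y = 1 := by
    intro y hy hyo
    refine Balance.eq_one_of_centralizes h.core (Nat.coprime_two_right.2 hyo)
      (Subgroup.centralizer_le (SetLike.coe_subset_coe.2 le_sup_left) hy) fun L hL => ?_
    obtain ⟨q, Z, τ, hloc⟩ := h.exists_local hL R
    have hfix : ∀ s : L, (s : X) ∈ (R : Subgroup X) → y * s * y⁻¹ = s := fun s hs =>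
      conj_eq_of_commute (Subgroup.mem_centralizer_iff.1 hy (s : X)
        ((le_sup_right : _ ≤ Q) ⟨hs, Components.Layer.component_le_layer hL s.2⟩)).symm
    obtain ⟨w, hw, hw1⟩ : ∃ w ∈ Z, w ≠ 1 := by
      refine Z.nontrivial_iff_exists_ne_one.1 (Finite.one_lt_card_iff_nontrivial.1 ?_)
      rw [hloc.card_Z]
      have := hloc.eight_le
      omega
    have hyN : y ∈ Subgroup.normalizer (L : Set X) := by
      by_contra hn
      have hne : cj y L ≠ L := fun e => hn (mem_normalizer_of_cj_le e.le)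
      obtain ⟨s, hs, rfl⟩ := hloc.Z_le hw
      refine hw1 ((QuotientGroup.eq_one_iff _).2 (Subgroup.mem_center_iff.2 fun m => Subtype.ext ?_))
      have h1 : (s : X) ∈ cj y L := hfix s hs ▸ conj_mem_cj s.2
      exact (Subgroup.mem_centralizer_iff.1 (Components.Component.le_centralizer_of_ne hL
        (Components.Component.conj hL y) hne.symm m.2) (s : X) h1).symm
    obtain ⟨p, hp, hφ⟩ := hloc.aut_fix (autOn L ⟨y, hyN⟩) (by
      intro z hz
      obtain ⟨s, hs, rfl⟩ := hloc.Z_le hz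
      rw [autOn_apply]
      exact congrArg (sig L) (Subtype.ext (hfix s hs)))
    refine centralizes_of_autOn hL.2.1 hyN ?_
    obtain ⟨i, hi⟩ := hloc.isPGroup_P ⟨p, hp⟩
    have hp' : p ^ 2 ^ i = 1 := congrArg Subtype.val hi
    have hd1 : orderOf (autOn L ⟨y, hyN⟩) ∣ 2 ^ i :=
      orderOf_dvd_of_pow_eq_one (by rw [hφ, ← map_pow, hp', map_one])
    have hd2 : orderOf (autOn L ⟨y, hyN⟩) ∣ orderOf y :=
      orderOf_dvd_of_pow_eq_one (by
        rw [← map_pow, show (⟨y, hyN⟩ : ↥(Subgroup.normalizer (L : Set X))) ^ orderOf y = 1 from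
          Subtype.ext (pow_orderOf_eq_one y), map_one])
    exact orderOf_eq_one_iff.1 (Nat.eq_one_of_dvd_coprimes
      ((Nat.coprime_two_left.2 hyo).pow_left i) hd1 hd2)
  -- `Y` is constrained, so `F` is normal in it
  set R' : Sylow 2 Y := R.subtype hRY
  have hQ2 : Q.subgroupOf Y ≤ Cfsg.pCore 2 Y := by
    haveI : (Q.subgroupOf Y).Normal := Subgroup.normal_subgroupOf_of_le_normalizer hYQ
    exact Cores.le_pCore ((R.2.to_le hQR).of_equiv (Subgroup.subgroupOfEquivOfLe hQY).symm)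
  have hc : Subgroup.centralizer (Cfsg.pCore 2 Y : Set Y) ≤ Cfsg.pCore 2 Y := by
    haveI : (Q.subgroupOf Y).Normal := Subgroup.normal_subgroupOf_of_le_normalizer hYQ
    haveI := Subgroup.normal_centralizer (H := Q.subgroupOf Y)
    refine le_trans (Subgroup.centralizer_le (SetLike.coe_subset_coe.2 hQ2)) (Cores.le_pCore ?_)
    rintro ⟨y, hy⟩
    have hyQ : (y : X) ∈ Subgroup.centralizer (Q : Set X) := Subgroup.mem_centralizer_iff.2
      fun z hz => congrArg Subtype.val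
        (Subgroup.mem_centralizer_iff.1 hy ⟨z, hQY hz⟩ (Subgroup.mem_subgroupOf.2 hz))
    obtain ⟨i, m, hm, hym⟩ :=
      Nat.exists_eq_pow_mul_and_not_dvd (orderOf_pos (y : X)).ne' 2 (by norm_num)
    refine ⟨i, Subtype.ext (Subtype.ext ?_)⟩
    show (y : X) ^ 2 ^ i = 1
    refine hodd _ (Subgroup.pow_mem _ hyQ _) ?_
    rw [orderOf_pow' _ (pow_ne_zero _ two_ne_zero), hym, Nat.gcd_mul_right_left,
      Nat.mul_div_cancel_left _ (Nat.two_pow_pos i)]
    exact Nat.odd_iff.2 (Nat.two_dvd_ne_zero.1 hm)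
  have hFY : F ≤ Y := hF.le.trans hRY
  have hSC : SC R' (F.subgroupOf Y) := by
    refine ⟨?_, fun a ha => hF.le ha, fun a ha g hg => hF.closed.2 a ha g hg⟩
    refine PGroups.elemAb_mk (fun a ha b hb => Subtype.ext (hF.comm ha hb)) fun a ha => Subtype.ext ?_
    exact hF.elem.2 a ha
  have hn := hSC.normal_of_constrained hc
  have hYN : Y ≤ Subgroup.normalizer (F : Set X) :=
    (Subgroup.normal_subgroupOf_iff_le_normalizer hFY).1 hn
  have hmem : x⁻¹ ∈ (⊤ : Subgroup X) := Subgroup.mem_top _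
  obtain ⟨e, he, n, hn', hx⟩ : ∃ e ∈ E, ∃ n ∈ Y, x = e * n := by
    have hconj := hS.conj x
    have hxE : x ∈ Subgroup.normalizer (E : Set X) := by
      rw [Subgroup.normalizer_eq_top_iff.2 (inferInstance : E.Normal)]; exact Subgroup.mem_top x
    rw [CosetGraph.SylowIn.conj_map_eq_self hxE] at hconj
    obtain ⟨e, he, hee⟩ := hS.exists_conj hconj
    refine ⟨e, he, e⁻¹ * x, ?_, by group⟩
    rw [hY, Subgroup.mem_normalizer_iff_map_conj_eq]
    show cj (e⁻¹ * x) _ = _
    rw [← cj_cj]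
    show cj e⁻¹ (Subgroup.map (MulAut.conj x).toMonoidHom _) = _
    rw [← hee, cj, ← cj, cj_cj, inv_mul_cancel, cj, map_one]
    exact Subgroup.map_id _
  exact ⟨e, he, n, hYN hn', hx⟩

end Sec

end Cfsg.Agent.Lib.Thompson3Prime33
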